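import Mathlib

/-!
# Heights in quotients by primes: additivity along chains
-/

universe u

namespace Groth.Agent.H58.Ht

lemma height_add_le {α β : Type*} [PartialOrder α] [PartialOrder β] (φ : α → β)
    (hφ : StrictMono φ) (b : β) (hb : ∀ x, b ≤ φ x) (x : α) :
    Order.height b + Order.height x ≤ Order.height (φ x) := by
  by_cases h1 : Order.height b = ⊤
  · have h := Order.height_mono (hb x)
    rw [h1, top_le_iff] at h
    rw [h]; exact le_top
  by_cases h2 : Order.height x = ⊤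
  · have h := Order.height_le_height_apply_of_strictMono φ hφ x
    rw [h2, top_le_iff] at h
    rw [h]; exact le_top
  obtain ⟨n₁, hn₁⟩ := ENat.ne_top_iff_exists.1 h1
  obtain ⟨n₂, hn₂⟩ := ENat.ne_top_iff_exists.1 h2
  obtain ⟨l₁, hl₁, hlen₁⟩ := Order.exists_series_of_height_eq_coe b hn₁.symm
  obtain ⟨l₂, hl₂, hlen₂⟩ := Order.exists_series_of_height_eq_coe x hn₂.symm
  rw [← hn₁, ← hn₂]
  have hle : l₁.last ≤ (l₂.map φ hφ).head := by
    rw [hl₁, LTSeries.head_map]; exact hb _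
  rcases hle.lt_or_eq with hlt | heq
  · have h := Order.length_le_height_last (p := RelSeries.append l₁ (l₂.map φ hφ) hlt)
    rw [RelSeries.last_append, LTSeries.last_map, hl₂, RelSeries.append_length,
      LTSeries.map_length, hlen₁, hlen₂] at h
    refine le_trans ?_ h
    exact_mod_cast (by omega : n₁ + n₂ ≤ n₁ + n₂ + 1)
  · have h := Order.length_le_height_last (p := RelSeries.smash l₁ (l₂.map φ hφ) heq)
    rw [RelSeries.last_smash, LTSeries.last_map, hl₂, RelSeries.smash_length,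
      LTSeries.map_length, hlen₁, hlen₂] at h
    refine le_trans ?_ h
    exact_mod_cast le_rfl

variable {R : Type*} [CommRing R]

/-- `ht(s/p) + ht(q/s) ≤ ht(q/p)` for primes `p ≤ s ≤ q`. -/
lemma height_map_add_le (p s q : Ideal R) [p.IsPrime] [s.IsPrime] [q.IsPrime] (hps : p ≤ s)
    (hsq : s ≤ q) :
    (s.map (Ideal.Quotient.mk p)).height + (q.map (Ideal.Quotient.mk s)).height ≤
      (q.map (Ideal.Quotient.mk p)).height := by
  have hsP : (s.map (Ideal.Quotient.mk p)).IsPrime :=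
    Ideal.map_isPrime_of_surjective Ideal.Quotient.mk_surjective (by rw [Ideal.mk_ker]; exact hps)
  have hqS : (q.map (Ideal.Quotient.mk s)).IsPrime :=
    Ideal.map_isPrime_of_surjective Ideal.Quotient.mk_surjective (by rw [Ideal.mk_ker]; exact hsq)
  have hqP : (q.map (Ideal.Quotient.mk p)).IsPrime :=
    Ideal.map_isPrime_of_surjective Ideal.Quotient.mk_surjective
      (by rw [Ideal.mk_ker]; exact hps.trans hsq)
  let f : R ⧸ p →+* R ⧸ s := Ideal.Quotient.factor hps
  have hf : Function.Surjective f := Ideal.Quotient.factor_surjective hps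
  have hfmk : ∀ r : R, f (Ideal.Quotient.mk p r) = Ideal.Quotient.mk s r :=
    fun r => Ideal.Quotient.factor_mk hps r
  let φ : PrimeSpectrum (R ⧸ s) → PrimeSpectrum (R ⧸ p) :=
    fun Q => ⟨Q.asIdeal.comap f, inferInstance⟩
  have hφ : StrictMono φ := by
    intro Q Q' h
    have hle : Q.asIdeal ≤ Q'.asIdeal := h.le
    have hne : ¬ Q'.asIdeal ≤ Q.asIdeal := fun h' => h.not_ge h'
    rw [lt_iff_le_not_ge]
    refine ⟨Ideal.comap_mono hle, fun hge => hne ?_⟩
    have hge' : Q'.asIdeal.comap f ≤ Q.asIdeal.comap f := hge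
    intro y hy
    obtain ⟨z, rfl⟩ := hf y
    exact hge' hy
  let bS : PrimeSpectrum (R ⧸ p) := ⟨s.map (Ideal.Quotient.mk p), hsP⟩
  let Qs : PrimeSpectrum (R ⧸ s) := ⟨q.map (Ideal.Quotient.mk s), hqS⟩
  have hb : ∀ Q, bS ≤ φ Q := by
    intro Q
    show s.map (Ideal.Quotient.mk p) ≤ Q.asIdeal.comap f
    rw [Ideal.map_le_iff_le_comap]
    intro r hr
    show f (Ideal.Quotient.mk p r) ∈ Q.asIdeal
    rw [hfmk, Ideal.Quotient.eq_zero_iff_mem.2 hr]
    exact Q.asIdeal.zero_mem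
  have hφQ : φ Qs = ⟨q.map (Ideal.Quotient.mk p), hqP⟩ := by
    apply PrimeSpectrum.ext
    show (q.map (Ideal.Quotient.mk s)).comap f = q.map (Ideal.Quotient.mk p)
    ext y
    obtain ⟨r, rfl⟩ := Ideal.Quotient.mk_surjective y
    rw [Ideal.mem_comap, hfmk, Ideal.mem_quotient_iff_mem hsq,
      Ideal.mem_quotient_iff_mem (hps.trans hsq)]
  have h := height_add_le φ hφ bS hb Qs
  rw [hφQ, ← PrimeSpectrum.height_eq_orderHeight, ← PrimeSpectrum.height_eq_orderHeight,
    ← PrimeSpectrum.height_eq_orderHeight] at h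
  exact h

/-- `ht P + ht(q/P) ≤ ht q` for primes `P ≤ q`. -/
lemma height_add_height_map_le (P q : Ideal R) [P.IsPrime] [q.IsPrime] (hPq : P ≤ q) :
    P.height + (q.map (Ideal.Quotient.mk P)).height ≤ q.height := by
  have hqP : (q.map (Ideal.Quotient.mk P)).IsPrime :=
    Ideal.map_isPrime_of_surjective Ideal.Quotient.mk_surjective (by rw [Ideal.mk_ker]; exact hPq)
  let φ : PrimeSpectrum (R ⧸ P) → PrimeSpectrum R :=
    fun Q => ⟨Q.asIdeal.comap (Ideal.Quotient.mk P), inferInstance⟩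
  have hφ : StrictMono φ := by
    intro Q Q' h
    have hle : Q.asIdeal ≤ Q'.asIdeal := h.le
    have hne : ¬ Q'.asIdeal ≤ Q.asIdeal := fun h' => h.not_ge h'
    rw [lt_iff_le_not_ge]
    refine ⟨Ideal.comap_mono hle, fun hge => hne ?_⟩
    have hge' : Q'.asIdeal.comap (Ideal.Quotient.mk P) ≤
        Q.asIdeal.comap (Ideal.Quotient.mk P) := hge
    intro y hy
    obtain ⟨z, rfl⟩ := Ideal.Quotient.mk_surjective y
    exact hge' hy
  have hb : ∀ Q, (⟨P, inferInstance⟩ : PrimeSpectrum R) ≤ φ Q := by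
    intro Q
    show P ≤ Q.asIdeal.comap (Ideal.Quotient.mk P)
    intro r hr
    show Ideal.Quotient.mk P r ∈ Q.asIdeal
    rw [Ideal.Quotient.eq_zero_iff_mem.2 hr]
    exact Q.asIdeal.zero_mem
  have hφQ : φ ⟨q.map (Ideal.Quotient.mk P), hqP⟩ = ⟨q, inferInstance⟩ := by
    apply PrimeSpectrum.ext
    show (q.map (Ideal.Quotient.mk P)).comap (Ideal.Quotient.mk P) = q
    ext r
    rw [Ideal.mem_comap, Ideal.mem_quotient_iff_mem hPq]
  have h := height_add_le φ hφ ⟨P, inferInstance⟩ hb ⟨q.map (Ideal.Quotient.mk P), hqP⟩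
  rw [hφQ, ← PrimeSpectrum.height_eq_orderHeight, ← PrimeSpectrum.height_eq_orderHeight,
    ← PrimeSpectrum.height_eq_orderHeight] at h
  exact h

lemma one_le_height_map_of_lt (p P : Ideal R) [p.IsPrime] (hlt : p < P) :
    1 ≤ (P.map (Ideal.Quotient.mk p)).height := by
  rw [Order.one_le_iff_ne_zero]
  intro h0
  rw [Ideal.height_eq_zero_iff_eq_bot, Ideal.map_eq_bot_iff_le_ker, Ideal.mk_ker] at h0
  exact hlt.not_ge h0

lemma not_lt_lt_of_height_eq_one (p P q : Ideal R) [p.IsPrime] [P.IsPrime] [q.IsPrime]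
    (h1 : p < P) (h2 : P < q) (hht : (q.map (Ideal.Quotient.mk p)).height = 1) : False := by
  have h := height_map_add_le p P q h1.le h2.le
  have ha := one_le_height_map_of_lt p P h1
  have hb := one_le_height_map_of_lt P q h2
  rw [hht] at h
  have h3 : (1 : ℕ∞) + 1 ≤ 1 := le_trans (add_le_add ha hb) h
  have h4 : ((1 + 1 : ℕ) : ℕ∞) ≤ ((1 : ℕ) : ℕ∞) := by exact_mod_cast h3
  exact absurd (Nat.cast_le.1 h4) (by omega)

lemma le_of_height_map_eq_zero (a p : Ideal R) [p.IsPrime]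
    (h : ((a ⊔ p).map (Ideal.Quotient.mk p)).height = 0) : a ≤ p := by
  rw [Ideal.height_eq_zero_iff_eq_bot, Ideal.map_eq_bot_iff_le_ker, Ideal.mk_ker] at h
  exact le_sup_left.trans h

lemma exists_minimalPrimes_height_map_eq [IsNoetherianRing R] (a p : Ideal R) [p.IsPrime] (h : ℕ)
    (hh : ((a ⊔ p).map (Ideal.Quotient.mk p)).height = h) :
    ∃ q : Ideal R, q ∈ (a ⊔ p).minimalPrimes ∧ (q.map (Ideal.Quotient.mk p)).height = h := by
  obtain ⟨Q, hQ, hJQ, hQh⟩ := Ideal.exists_isPrime_height_eq hh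
  have hmin : Q ∈ ((a ⊔ p).map (Ideal.Quotient.mk p)).minimalPrimes :=
    Ideal.mem_minimalPrimes_of_height_le hJQ (by rw [hQh, hh])
  rw [Ideal.minimalPrimes_map_of_surjective Ideal.Quotient.mk_surjective, Ideal.mk_ker,
    sup_assoc, sup_idem] at hmin
  obtain ⟨q, hq, rfl⟩ := hmin
  exact ⟨q, hq, hQh⟩

end Groth.Agent.H58.Ht
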