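import Mathlib
open CategoryTheory Limits Opposite
universe u

namespace Groth.Agent.H58.LCBridge

section unop
variable {ι : Type*} {V : Type*} [Category V] [Abelian V] {c : ComplexShape ι}

/-- unop of a morphism of complexes in the opposite category -/
def unopMap {K K' : HomologicalComplex Vᵒᵖ c} (ψ : K' ⟶ K) : K.unop ⟶ K'.unop :=
  (HomologicalComplex.unopFunctor V c).map ψ.op

lemma homologyUnop_hom_naturality {K K' : HomologicalComplex Vᵒᵖ c} (ψ : K' ⟶ K) (i : ι) :
    (K.homologyUnop i).hom ≫ (HomologicalComplex.homologyMap ψ i).unop =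
      HomologicalComplex.homologyMap (unopMap ψ) i ≫ (K'.homologyUnop i).hom := by
  have h := HomologicalComplex.homologyOp_hom_naturality (unopMap ψ) i
  exact congrArg Quiver.Hom.unop h

lemma homologyUnop_inv_naturality {K K' : HomologicalComplex Vᵒᵖ c} (ψ : K' ⟶ K) (i : ι) :
    (HomologicalComplex.homologyMap ψ i).unop ≫ (K'.homologyUnop i).inv =
      (K.homologyUnop i).inv ≫ HomologicalComplex.homologyMap (unopMap ψ) i := by
  rw [← cancel_epi (K.homologyUnop i).hom, Iso.hom_inv_id_assoc,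
    ← cancel_mono (K'.homologyUnop i).hom, Category.assoc, Category.assoc, Iso.inv_hom_id,
    Category.comp_id]
  exact homologyUnop_hom_naturality ψ i
end unop

lemma chain1 {D : Type*} [Category D] {A B C E F G : D} {a : A ⟶ B} {b : B ⟶ C} {c : A ⟶ E}
    {d : E ⟶ C} {e : C ⟶ F} {e' : E ⟶ G} {k : G ⟶ F}
    (h2 : a ≫ b = c ≫ d) (h3 : d ≫ e = e' ≫ k) : a ≫ (b ≫ e) = (c ≫ e') ≫ k := by
  rw [← Category.assoc, h2, Category.assoc, h3, Category.assoc]

lemma chain2 {D : Type*} [Category D] {A B C E F G : D} {m : A ⟶ B} {p : A ⟶ C} {q : C ⟶ E}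
    {r : E ⟶ B} {s : B ⟶ E} {t : E ⟶ F} {t' : C ⟶ G} {w : G ⟶ F}
    (h2 : m = p ≫ (q ≫ r)) (e3 : r ≫ s = 𝟙 _) (h3 : q ≫ t = t' ≫ w) :
    m ≫ (s ≫ t) = (p ≫ t') ≫ w := by
  rw [h2, Category.assoc, Category.assoc, reassoc_of% e3, h3, Category.assoc]

variable {R : Type u} [CommRing R]

/-- the functor `Hom(-, Y)` to the opposite category -/
noncomputable abbrev FY (Y : ModuleCat.{u} R) : ModuleCat.{u} R ⥤ (ModuleCat.{u} R)ᵒᵖ :=
  ((linearYoneda R (ModuleCat.{u} R)).obj Y).rightOp

/-- precomposition -/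
noncomputable def yMap {P P' : ChainComplex (ModuleCat.{u} R) ℕ} (φ : P' ⟶ P) (Y : ModuleCat.{u} R) :
    P.linearYonedaObj R Y ⟶ P'.linearYonedaObj R Y :=
  unopMap (((FY Y).mapHomologicalComplex _).map φ)

lemma yMap_f_apply {P P' : ChainComplex (ModuleCat.{u} R) ℕ} (φ : P' ⟶ P) (Y : ModuleCat.{u} R) (k : ℕ)
    (h : P.X k ⟶ Y) : ((yMap φ Y).f k).hom h = φ.f k ≫ h := rfl

/-- postcomposition -/
noncomputable def zMap (P : ChainComplex (ModuleCat.{u} R) ℕ) {Y Y' : ModuleCat.{u} R} (f : Y ⟶ Y') :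
    P.linearYonedaObj R Y ⟶ P.linearYonedaObj R Y' :=
  unopMap ((NatTrans.mapHomologicalComplex
    (((linearYoneda R (ModuleCat.{u} R)).map f).rightOp : FY Y' ⟶ FY Y) _).app P)

lemma zMap_f_apply (P : ChainComplex (ModuleCat.{u} R) ℕ) {Y Y' : ModuleCat.{u} R} (f : Y ⟶ Y') (k : ℕ)
    (h : P.X k ⟶ Y) : ((zMap P f).f k).hom h = h ≫ f := rfl

lemma isoExt_naturality_left {X X' : ModuleCat.{u} R} (g : X' ⟶ X) (P : ProjectiveResolution X)
    (P' : ProjectiveResolution X') (φ : P'.complex ⟶ P.complex)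
    (comm : φ.f 0 ≫ P.π.f 0 = P'.π.f 0 ≫ g) (Y : ModuleCat.{u} R) (n : ℕ) :
    ((Ext R (ModuleCat.{u} R) n).map g.op).app Y ≫ (P'.isoExt n Y).hom =
      (P.isoExt n Y).hom ≫ HomologicalComplex.homologyMap (yMap φ Y) n := by
  have h1 := ProjectiveResolution.isoLeftDerivedObj_inv_naturality g P' P φ comm (FY Y) n
  have h2 : (((FY Y).leftDerived n).map g).unop ≫ (P'.isoLeftDerivedObj (FY Y) n).inv.unop =
      (P.isoLeftDerivedObj (FY Y) n).inv.unop ≫
        (HomologicalComplex.homologyMap (((FY Y).mapHomologicalComplex _).map φ) n).unop :=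
    congrArg Quiver.Hom.unop h1
  have h3 := homologyUnop_inv_naturality (((FY Y).mapHomologicalComplex _).map φ) n
  have e1 : ((Ext R (ModuleCat.{u} R) n).map g.op).app Y ≫ (P'.isoExt n Y).hom
      = (((FY Y).leftDerived n).map g).unop ≫
          ((P'.isoLeftDerivedObj (FY Y) n).inv.unop ≫
            (HomologicalComplex.homologyUnop _ n).inv) := rfl
  have e2 : (P.isoExt n Y).hom = (P.isoLeftDerivedObj (FY Y) n).inv.unop ≫
            (HomologicalComplex.homologyUnop _ n).inv := rfl
  rw [e1, e2]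
  exact chain1 h2 h3

lemma isoExt_naturality_right {X : ModuleCat.{u} R} (P : ProjectiveResolution X)
    {Y Y' : ModuleCat.{u} R} (f : Y ⟶ Y') (n : ℕ) :
    ((Ext R (ModuleCat.{u} R) n).obj (op X)).map f ≫ (P.isoExt n Y').hom =
      (P.isoExt n Y).hom ≫ HomologicalComplex.homologyMap (zMap P.complex f) n := by
  let β : FY Y' ⟶ FY Y := ((linearYoneda R (ModuleCat.{u} R)).map f).rightOp
  have h1 := ProjectiveResolution.leftDerived_app_eq β P n
  have h2 : ((NatTrans.leftDerived β n).app X).unop =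
      (P.isoLeftDerivedObj (FY Y) n).inv.unop ≫
        ((HomologicalComplex.homologyMap ((NatTrans.mapHomologicalComplex β _).app P.complex) n).unop ≫
          (P.isoLeftDerivedObj (FY Y') n).hom.unop) :=
    congrArg Quiver.Hom.unop h1
  have h3 := homologyUnop_inv_naturality ((NatTrans.mapHomologicalComplex β _).app P.complex) n
  have e1 : ((Ext R (ModuleCat.{u} R) n).obj (op X)).map f ≫ (P.isoExt n Y').hom
      = ((NatTrans.leftDerived β n).app X).unop ≫
          ((P.isoLeftDerivedObj (FY Y') n).inv.unop ≫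
            (HomologicalComplex.homologyUnop _ n).inv) := rfl
  have e2 : (P.isoExt n Y).hom = (P.isoLeftDerivedObj (FY Y) n).inv.unop ≫
            (HomologicalComplex.homologyUnop _ n).inv := rfl
  have e3 : (P.isoLeftDerivedObj (FY Y') n).hom.unop ≫ (P.isoLeftDerivedObj (FY Y') n).inv.unop
      = 𝟙 _ := by
    rw [← unop_comp, Iso.inv_hom_id]; rfl
  rw [e1, e2]
  exact chain2 h2 e3 h3


section Psi
open Abelian
variable {X Y : ModuleCat.{u} R} (P : ProjectiveResolution X) (n : ℕ)

/-- the morphism underlying a cycle of `Hom(P, Y)` -/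
noncomputable def cyc (z : (P.complex.linearYonedaObj R Y).cycles n) : P.complex.X n ⟶ Y :=
  ((P.complex.linearYonedaObj R Y).iCycles n).hom z

lemma cyc_d (z : (P.complex.linearYonedaObj R Y).cycles n) :
    P.complex.d (n + 1) n ≫ cyc P n z = 0 := by
  have h := (P.complex.linearYonedaObj R Y).iCycles_d n (n + 1)
  exact congrArg (fun m => m.hom z) h

lemma extMk_congr {f f' : P.complex.X n ⟶ Y} (h : f = f') (m : ℕ) (hm : n + 1 = m)
    (hf : P.complex.d m n ≫ f = 0) :
    P.extMk f m hm hf = P.extMk f' m hm (h ▸ hf) := by subst h; rfl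

/-- cycles to Ext -/
noncomputable def psi0 : (P.complex.linearYonedaObj R Y).cycles n →ₗ[R] Abelian.Ext X Y n where
  toFun z := P.extMk (cyc P n z) (n + 1) rfl (cyc_d P n z)
  map_add' z w := by
    rw [ProjectiveResolution.add_extMk]
    exact extMk_congr P n (map_add ((P.complex.linearYonedaObj R Y).iCycles n).hom z w) _ _ _
  map_smul' r z := by
    rw [RingHom.id_apply, Abelian.Ext.smul_eq_comp_mk₀, ProjectiveResolution.extMk_comp_mk₀]
    refine extMk_congr P n ?_ _ _ _
    rw [Linear.comp_smul, Category.comp_id]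
    exact map_smul ((P.complex.linearYonedaObj R Y).iCycles n).hom r z

lemma psi0_apply (z : (P.complex.linearYonedaObj R Y).cycles n) :
    psi0 P n z = P.extMk (cyc P n z) (n + 1) rfl (cyc_d P n z) := rfl

lemma cyc_toCycles (i : ℕ) (g : P.complex.X i ⟶ Y) :
    cyc P n (((P.complex.linearYonedaObj R Y).toCycles i n).hom g) =
      ((P.complex.linearYonedaObj R Y).d i n).hom g := by
  have := (P.complex.linearYonedaObj R Y).toCycles_i i n
  exact congrArg (fun m => m.hom g) this

lemma psi0_toCycles (i : ℕ) (g : P.complex.X i ⟶ Y) :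
    psi0 P n (((P.complex.linearYonedaObj R Y).toCycles i n).hom g) = 0 := by
  have hc := cyc_toCycles P n i g
  by_cases hin : i + 1 = n
  · subst hin
    rw [psi0_apply, ProjectiveResolution.extMk_eq_zero_iff _ _ _ _ _ i rfl]
    refine ⟨g, ?_⟩
    rw [hc, ChainComplex.linearYonedaObj_d]; rfl
  · have h0 : ((P.complex.linearYonedaObj R Y).d i n) = 0 :=
      (P.complex.linearYonedaObj R Y).shape i n hin
    have hc' : cyc P n (((P.complex.linearYonedaObj R Y).toCycles i n).hom g) = 0 := by
      rw [hc, h0]; rfl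
    rw [psi0_apply, extMk_congr P n hc', ProjectiveResolution.extMk_zero]

/-- homology to Ext -/
noncomputable def psiHom :
    (P.complex.linearYonedaObj R Y).homology n ⟶ ModuleCat.of R (Abelian.Ext X Y n) :=
  ((P.complex.linearYonedaObj R Y).homologyIsCokernel _ n rfl).desc
    (CokernelCofork.ofπ (ModuleCat.ofHom (psi0 P n)) (by
      refine ModuleCat.hom_ext (LinearMap.ext fun g => ?_)
      exact psi0_toCycles P n _ g))

lemma psiHom_π (z : (P.complex.linearYonedaObj R Y).cycles n) :
    (psiHom P n).hom (((P.complex.linearYonedaObj R Y).homologyπ n).hom z) = psi0 P n z := by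
  have := ((P.complex.linearYonedaObj R Y).homologyIsCokernel _ n rfl).fac
    (CokernelCofork.ofπ (ModuleCat.ofHom (psi0 P n)) (by
      refine ModuleCat.hom_ext (LinearMap.ext fun g => ?_)
      exact psi0_toCycles P n _ g)) WalkingParallelPair.one
  exact congrArg (fun m => m.hom z) this

lemma exists_cycle (f : P.complex.X n ⟶ Y) (hf : P.complex.d (n + 1) n ≫ f = 0) :
    ∃ z : (P.complex.linearYonedaObj R Y).cycles n, cyc P n z = f := by
  let K := P.complex.linearYonedaObj R Y
  let f' : K.X n := f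
  let k : ModuleCat.of R R ⟶ K.X n := ModuleCat.ofHom (LinearMap.toSpanSingleton R (K.X n) f')
  have hk : k ≫ K.d n (n + 1) = 0 := by
    refine ModuleCat.hom_ext (LinearMap.ext_ring ?_)
    show (K.d n (n + 1)).hom ((LinearMap.toSpanSingleton R (K.X n) f') 1) = 0
    rw [LinearMap.toSpanSingleton_apply, one_smul, ChainComplex.linearYonedaObj_d]
    exact hf
  refine ⟨(K.liftCycles k (n + 1) (CochainComplex.next ℕ n) hk).hom (1 : R), ?_⟩
  have h1 := K.liftCycles_i k (n + 1) (CochainComplex.next ℕ n) hk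
  have h2 := congrArg (fun m => m.hom (1 : R)) h1
  refine h2.trans ?_
  show (LinearMap.toSpanSingleton R (K.X n) f') 1 = f
  rw [LinearMap.toSpanSingleton_apply, one_smul]

lemma psiHom_surjective : Function.Surjective (psiHom P n (Y := Y)).hom := by
  intro α
  obtain ⟨f, hf, rfl⟩ := P.extMk_surjective α (n + 1) rfl
  obtain ⟨z, rfl⟩ := exists_cycle P n f hf
  exact ⟨_, psiHom_π P n z⟩

lemma extMk_zero_eq_zero (f : P.complex.X 0 ⟶ Y) (hf : P.complex.d 1 0 ≫ f = 0)
    (h : P.extMk f 1 rfl hf = 0) : f = 0 := by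
  rw [← P.extEquivCohomologyClass.apply_eq_iff_eq, ProjectiveResolution.extEquivCohomologyClass_extMk,
    ProjectiveResolution.extEquivCohomologyClass_zero,
    CochainComplex.HomComplex.CohomologyClass.mk_eq_zero_iff,
    CochainComplex.HomComplex.Cocycle.toSingleMk_mem_coboundaries_iff _ _ _ _ _ 1 (by simp)] at h
  obtain ⟨g, hg⟩ := h
  have hz : Limits.IsZero (P.cochainComplex.X 1) :=
    CochainComplex.isZero_of_isStrictlyLE P.cochainComplex 0 1 (by lia)
  have : g = 0 := hz.eq_of_src _ _
  rw [this, comp_zero] at hg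
  exact (cancel_epi (P.cochainComplexXIso (-(0 : ℕ)) 0 rfl).hom).1 (hg.symm.trans comp_zero.symm)

lemma psiHom_injective : Function.Injective (psiHom P n (Y := Y)).hom := by
  rw [← LinearMap.ker_eq_bot, LinearMap.ker_eq_bot']
  intro h hh
  obtain ⟨z, rfl⟩ := (ModuleCat.epi_iff_surjective
    ((P.complex.linearYonedaObj R Y).homologyπ n)).1 inferInstance h
  rw [psiHom_π, psi0_apply] at hh
  have hinj : Function.Injective ((P.complex.linearYonedaObj R Y).iCycles n).hom :=
    (ModuleCat.mono_iff_injective _).1 inferInstance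
  rcases n with _ | p
  · have h0 : cyc P 0 z = 0 := extMk_zero_eq_zero P _ _ hh
    have hz : z = 0 := hinj (h0.trans (map_zero _).symm)
    rw [hz, map_zero]
  · obtain ⟨g, hg⟩ := (P.extMk_eq_zero_iff _ _ rfl _ p rfl).1 hh
    have hz : z = ((P.complex.linearYonedaObj R Y).toCycles p (p + 1)).hom g := hinj (by
      have := cyc_toCycles P (p + 1) p g
      refine Eq.trans ?_ this.symm
      rw [ChainComplex.linearYonedaObj_d]
      exact hg.symm)
    rw [hz]
    have := (P.complex.linearYonedaObj R Y).toCycles_comp_homologyπ p (p + 1)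
    exact congrArg (fun m => m.hom g) this

/-- homology of `Hom(P, Y)` is `Ext` -/
noncomputable def psiEquiv : (P.complex.linearYonedaObj R Y).homology n ≃ₗ[R] Abelian.Ext X Y n :=
  LinearEquiv.ofBijective (psiHom P n).hom ⟨psiHom_injective P n, psiHom_surjective P n⟩

lemma psiEquiv_π (z : (P.complex.linearYonedaObj R Y).cycles n) :
    psiEquiv P n (((P.complex.linearYonedaObj R Y).homologyπ n).hom z) =
      P.extMk (cyc P n z) (n + 1) rfl (cyc_d P n z) := psiHom_π P n z

end Psi


section Bridge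
open Abelian

lemma psiEquiv_yMap {X X' Y : ModuleCat.{u} R} (g : X' ⟶ X) (P : ProjectiveResolution X)
    (P' : ProjectiveResolution X') (φ : P'.Hom P g) (n : ℕ)
    (h : (P.complex.linearYonedaObj R Y).homology n) :
    psiEquiv P' n ((HomologicalComplex.homologyMap (yMap φ.hom Y) n).hom h) =
      (Abelian.Ext.mk₀ g).comp (psiEquiv P n h) (zero_add n) := by
  obtain ⟨z, rfl⟩ := (ModuleCat.epi_iff_surjective
    ((P.complex.linearYonedaObj R Y).homologyπ n)).1 inferInstance h
  have h1 := HomologicalComplex.homologyπ_naturality (yMap φ.hom Y) n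
  have h2 : (HomologicalComplex.homologyMap (yMap φ.hom Y) n).hom
      (((P.complex.linearYonedaObj R Y).homologyπ n).hom z) =
      ((P'.complex.linearYonedaObj R Y).homologyπ n).hom
        ((HomologicalComplex.cyclesMap (yMap φ.hom Y) n).hom z) :=
    congrArg (fun m => m.hom z) h1
  have h3 : cyc P' n ((HomologicalComplex.cyclesMap (yMap φ.hom Y) n).hom z) =
      φ.hom.f n ≫ cyc P n z :=
    congrArg (fun m => m.hom z) (HomologicalComplex.cyclesMap_i (yMap φ.hom Y) n)
  rw [h2, psiEquiv_π, psiEquiv_π, ProjectiveResolution.mk₀_comp_extMk _ _ _ _ φ]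
  exact extMk_congr P' n h3 _ _ _

lemma psiEquiv_zMap {X Y Y' : ModuleCat.{u} R} (f : Y ⟶ Y') (P : ProjectiveResolution X) (n : ℕ)
    (h : (P.complex.linearYonedaObj R Y).homology n) :
    psiEquiv P n ((HomologicalComplex.homologyMap (zMap P.complex f) n).hom h) =
      (psiEquiv P n h).comp (Abelian.Ext.mk₀ f) (add_zero n) := by
  obtain ⟨z, rfl⟩ := (ModuleCat.epi_iff_surjective
    ((P.complex.linearYonedaObj R Y).homologyπ n)).1 inferInstance h
  have h1 := HomologicalComplex.homologyπ_naturality (zMap P.complex f) n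
  have h2 : (HomologicalComplex.homologyMap (zMap P.complex f) n).hom
      (((P.complex.linearYonedaObj R Y).homologyπ n).hom z) =
      ((P.complex.linearYonedaObj R Y').homologyπ n).hom
        ((HomologicalComplex.cyclesMap (zMap P.complex f) n).hom z) :=
    congrArg (fun m => m.hom z) h1
  have h3 : cyc P n ((HomologicalComplex.cyclesMap (zMap P.complex f) n).hom z) =
      cyc P n z ≫ f :=
    congrArg (fun m => m.hom z) (HomologicalComplex.cyclesMap_i (zMap P.complex f) n)
  rw [h2, psiEquiv_π, psiEquiv_π, ProjectiveResolution.extMk_comp_mk₀]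
  exact extMk_congr P n h3 _ _ _

/-- The comparison between Mathlib's projective-resolution `Ext` and `Abelian.Ext`. -/
noncomputable def bridge (X Y : ModuleCat.{u} R) (n : ℕ) :
    ((Ext R (ModuleCat.{u} R) n).obj (op X)).obj Y ≃ₗ[R] Abelian.Ext X Y n :=
  ((projectiveResolution X).isoExt n Y).toLinearEquiv ≪≫ₗ psiEquiv (projectiveResolution X) n

lemma bridge_apply (X Y : ModuleCat.{u} R) (n : ℕ) (x : ((Ext R (ModuleCat.{u} R) n).obj (op X)).obj Y) :
    bridge X Y n x = psiEquiv (projectiveResolution X) n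
      (((projectiveResolution X).isoExt n Y).hom.hom x) := rfl

lemma bridge_map_left {X X' Y : ModuleCat.{u} R} (g : X' ⟶ X) (n : ℕ)
    (x : ((Ext R (ModuleCat.{u} R) n).obj (op X)).obj Y) :
    bridge X' Y n ((((Ext R (ModuleCat.{u} R) n).map g.op).app Y).hom x) =
      (Abelian.Ext.mk₀ g).comp (bridge X Y n x) (zero_add n) := by
  let φ : (projectiveResolution X').Hom (projectiveResolution X) g :=
    { hom := ProjectiveResolution.lift g _ _
      hom_f_zero_comp_π_f_zero := by
        rw [ProjectiveResolution.lift_commutes_zero]; simp }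
  have hN := isoExt_naturality_left g (projectiveResolution X) (projectiveResolution X') φ.hom
    (ProjectiveResolution.lift_commutes_zero g _ _) Y n
  have hN' := congrArg (fun m => m.hom x) hN
  rw [bridge_apply, bridge_apply, ← psiEquiv_yMap g _ _ φ]
  exact congrArg _ hN'

lemma bridge_map_right {X Y Y' : ModuleCat.{u} R} (f : Y ⟶ Y') (n : ℕ)
    (x : ((Ext R (ModuleCat.{u} R) n).obj (op X)).obj Y) :
    bridge X Y' n ((((Ext R (ModuleCat.{u} R) n).obj (op X)).map f).hom x) =
      (bridge X Y n x).comp (Abelian.Ext.mk₀ f) (add_zero n) := by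
  have hN := isoExt_naturality_right (projectiveResolution X) f n
  have hN' := congrArg (fun m => m.hom x) hN
  rw [bridge_apply, bridge_apply, ← psiEquiv_zMap f]
  exact congrArg _ hN'

end Bridge

end Groth.Agent.H58.LCBridge
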