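import Mathlib
import Groth.Agent.H58.LCBridge

/-!
# Local cohomology (Mathlib's `localCohomology`) as a concrete filtered colimit of `Abelian.Ext`

`ι I i M n : Abelian.Ext (R/I^n) M i →ₗ[R] (localCohomology I i).obj M` with
joint surjectivity, zero criterion, compatibility, naturality and a descent principle.
-/

open CategoryTheory Limits Opposite
universe u

namespace Groth.Agent.H58.LC
open Groth.Agent.H58.LCBridge

variable {R : Type u} [CommRing R]

noncomputable instance forgetPres :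
    PreservesColimitsOfShape ((ℕᵒᵖ)ᵒᵖ) (forget (ModuleCat.{u} R)) :=
  haveI : PreservesFilteredColimitsOfSize.{0, 0} (forget (ModuleCat.{u} R)) :=
    preservesFilteredColimitsOfSize_shrink.{0, u, 0, u} _
  PreservesFilteredColimitsOfSize.preserves_filtered_colimits _

variable (I : Ideal R)

/-- `R/I^n` as an object of `ModuleCat R`. -/
noncomputable abbrev Q (n : ℕ) : ModuleCat.{u} R := ModuleCat.of R (R ⧸ I ^ n)

/-- the projection `R/I^m → R/I^n` for `n ≤ m` -/
noncomputable def π {n m : ℕ} (h : n ≤ m) : Q I m ⟶ Q I n :=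
  ModuleCat.ofHom (Submodule.mapQ _ _ LinearMap.id (Ideal.pow_le_pow_right h))

lemma π_apply {n m : ℕ} (h : n ≤ m) (r : R) :
    (π I h).hom (Ideal.Quotient.mk (I ^ m) r) = Ideal.Quotient.mk (I ^ n) r := rfl

variable (i : ℕ)

/-- the diagram defining local cohomology -/
noncomputable abbrev Dg : (ℕᵒᵖ)ᵒᵖ ⥤ ModuleCat.{u} R ⥤ ModuleCat.{u} R :=
  localCohomology.diagram (localCohomology.idealPowersDiagram I) i

/-- index objects -/
abbrev ix (n : ℕ) : (ℕᵒᵖ)ᵒᵖ := op (op n)

/-- index morphisms -/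
def ixHom {n m : ℕ} (h : n ≤ m) : ix n ⟶ ix m := (homOfLE h).op.op

lemma hom_eq_ixHom {j k : (ℕᵒᵖ)ᵒᵖ} (f : j ⟶ k) :
    ∃ h : j.unop.unop ≤ k.unop.unop, f = ixHom h :=
  ⟨leOfHom f.unop.unop, Quiver.Hom.unop_inj (Quiver.Hom.unop_inj (Subsingleton.elim _ _))⟩

lemma Dg_map_app {n m : ℕ} (h : n ≤ m) (M : ModuleCat.{u} R) :
    ((Dg I i).map (ixHom h)).app M = ((Ext R (ModuleCat.{u} R) i).map (π I h).op).app M := rfl

/-- the evaluated diagram -/
noncomputable abbrev DgM (M : ModuleCat.{u} R) : (ℕᵒᵖ)ᵒᵖ ⥤ ModuleCat.{u} R :=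
  Dg I i ⋙ (evaluation _ _).obj M

/-- the evaluated colimit cocone -/
noncomputable def coconeM (M : ModuleCat.{u} R) : Cocone (DgM I i M) :=
  ((evaluation _ _).obj M).mapCocone (colimit.cocone (Dg I i))

/-- it is a colimit -/
noncomputable def isColimitM (M : ModuleCat.{u} R) : IsColimit (coconeM I i M) :=
  isColimitOfPreserves _ (colimit.isColimit _)

/-- the cocone map from `Abelian.Ext` -/
noncomputable def ι (M : ModuleCat.{u} R) (n : ℕ) :
    Abelian.Ext (Q I n) M i →ₗ[R] (localCohomology I i).obj M :=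
  (((colimit.ι (Dg I i) (ix n)).app M).hom : _ →ₗ[R] ((localCohomology I i).obj M)) ∘ₗ
    ((bridge (Q I n) M i).symm.toLinearMap : _ →ₗ[R] ((Dg I i).obj (ix n)).obj M)

lemma ι_bridge (M : ModuleCat.{u} R) (n : ℕ) (y : ((Dg I i).obj (ix n)).obj M) :
    ι I i M n (bridge (Q I n) M i y) = ((colimit.ι (Dg I i) (ix n)).app M).hom y := by
  show ((colimit.ι (Dg I i) (ix n)).app M).hom ((bridge (Q I n) M i).symm (bridge (Q I n) M i y)) = _
  rw [LinearEquiv.symm_apply_apply]

/-- compatibility with the transition maps -/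
theorem ι_comp_π (M : ModuleCat.{u} R) {n m : ℕ} (h : n ≤ m) (x : Abelian.Ext (Q I n) M i) :
    ι I i M m ((Abelian.Ext.mk₀ (π I h)).comp x (zero_add i)) = ι I i M n x := by
  obtain ⟨y, rfl⟩ := (bridge (Q I n) M i).surjective x
  have hb := bridge_map_left (π I h) i y
  rw [← hb, ι_bridge]
  have hy : ((Ext R (ModuleCat.{u} R) i).map (π I h).op).app M = ((Dg I i).map (ixHom h)).app M := rfl
  rw [ι_bridge I i M n y]
  have hw := colimit.w (Dg I i) (ixHom h)
  have hw' := congrArg (fun t => (t.app M).hom y) hw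
  exact hw'

/-- naturality in the module -/
theorem map_ι {M M' : ModuleCat.{u} R} (φ : M ⟶ M') (n : ℕ) (x : Abelian.Ext (Q I n) M i) :
    ((localCohomology I i).map φ).hom (ι I i M n x) =
      ι I i M' n (x.comp (Abelian.Ext.mk₀ φ) (add_zero i)) := by
  obtain ⟨y, rfl⟩ := (bridge (Q I n) M i).surjective x
  have hb := bridge_map_right (X := Q I n) φ i y
  rw [← hb, ι_bridge, ι_bridge]
  have hn := (colimit.ι (Dg I i) (ix n)).naturality φ
  have hn' := congrArg (fun t => t.hom y) hn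
  exact hn'.symm

/-- joint surjectivity -/
theorem exists_rep (M : ModuleCat.{u} R) (y : (localCohomology I i).obj M) :
    ∃ n x, ι I i M n x = y := by
  obtain ⟨j, x, hx⟩ := Concrete.isColimit_exists_rep (DgM I i M) (isColimitM I i M) y
  refine ⟨j.unop.unop, bridge (Q I j.unop.unop) M i x, ?_⟩
  rw [ι_bridge]
  exact hx

/-- zero criterion -/
theorem exists_of_ι_eq_zero (M : ModuleCat.{u} R) (n : ℕ) (x : Abelian.Ext (Q I n) M i)
    (hx : ι I i M n x = 0) :
    ∃ m, ∃ h : n ≤ m, (Abelian.Ext.mk₀ (π I h)).comp x (zero_add i) = 0 := by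
  obtain ⟨y, rfl⟩ := (bridge (Q I n) M i).surjective x
  rw [ι_bridge] at hx
  have h0 : ((coconeM I i M).ι.app (ix n)).hom y = ((coconeM I i M).ι.app (ix n)).hom 0 := by
    rw [map_zero]; exact hx
  obtain ⟨k, f, g, hfg⟩ := (Concrete.isColimit_rep_eq_iff_exists (DgM I i M)
    (isColimitM I i M) (i := ix n) (j := ix n) y 0).1 h0
  obtain ⟨h, rfl⟩ := hom_eq_ixHom f
  refine ⟨k.unop.unop, h, ?_⟩
  rw [← bridge_map_left (π I h) i y]
  have h1 : (((Ext R (ModuleCat.{u} R) i).map (π I h).op).app M).hom y = 0 := by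
    have : ((DgM I i M).map g).hom (0 : ((Dg I i).obj (ix n)).obj M) = 0 := map_zero _
    exact hfg.trans this
  rw [h1, map_zero]

/-- the descent principle -/
theorem desc_exists {T : Type u} [AddCommGroup T] [Module R T] (M : ModuleCat.{u} R)
    (ψ : ∀ n, Abelian.Ext (Q I n) M i →ₗ[R] T)
    (hψ : ∀ n m (h : n ≤ m) (x : Abelian.Ext (Q I n) M i),
      ψ m ((Abelian.Ext.mk₀ (π I h)).comp x (zero_add i)) = ψ n x) :
    ∃ Ψ : (localCohomology I i).obj M →ₗ[R] T, ∀ n x, Ψ (ι I i M n x) = ψ n x := by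
  let c : Cocone (DgM I i M) :=
    { pt := ModuleCat.of R T
      ι :=
        { app := fun j => ModuleCat.ofHom
            ((ψ j.unop.unop) ∘ₗ ((bridge (Q I j.unop.unop) M i).toLinearMap :
              ((Dg I i).obj j).obj M →ₗ[R] _))
          naturality := by
            intro j k f
            obtain ⟨h, rfl⟩ := hom_eq_ixHom f
            refine ModuleCat.hom_ext (LinearMap.ext fun y => ?_)
            show ψ k.unop.unop (bridge (Q I k.unop.unop) M i
              ((((Ext R (ModuleCat.{u} R) i).map (π I h).op).app M).hom y)) =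
                ψ j.unop.unop (bridge (Q I j.unop.unop) M i y)
            rw [bridge_map_left, hψ] } }
  refine ⟨((isColimitM I i M).desc c).hom, fun n x => ?_⟩
  obtain ⟨y, rfl⟩ := (bridge (Q I n) M i).surjective x
  rw [ι_bridge]
  have hf := (isColimitM I i M).fac c (ix n)
  exact congrArg (fun t => t.hom y) hf

/-- extensionality for linear maps out of local cohomology -/
theorem hom_ext' {T : Type*} [AddCommGroup T] [Module R T] (M : ModuleCat.{u} R)
    {Ψ Ψ' : (localCohomology I i).obj M →ₗ[R] T}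
    (h : ∀ n x, Ψ (ι I i M n x) = Ψ' (ι I i M n x)) : Ψ = Ψ' := by
  refine LinearMap.ext fun y => ?_
  obtain ⟨n, x, rfl⟩ := exists_rep I i M y
  exact h n x

end Groth.Agent.H58.LC
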