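import Mathlib
import Groth.Prelude.Def_Wider
import Groth.Prelude.Def_DRing3
import Groth.Agent.H58.LCBasic

/-!
# Basic properties of Mathlib's local cohomology, via the `Abelian.Ext` colimit description

power torsion, vanishing on injectives, linearity of the functor, connecting homomorphisms and the
long exact sequence, `H^0 = Γ_I`.
-/

open CategoryTheory Limits Opposite Abelian
universe u

namespace Groth.Agent.H58.LC

variable {R : Type u} [CommRing R] (I : Ideal R)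

section torsion

lemma smul_id_Q_eq_zero {n : ℕ} {a : R} (ha : a ∈ I ^ n) : a • 𝟙 (Q I n) = 0 := by
  refine ModuleCat.hom_ext (LinearMap.ext fun q => ?_)
  obtain ⟨r, rfl⟩ := Ideal.Quotient.mk_surjective q
  show a • (Submodule.Quotient.mk r : R ⧸ I ^ n) = 0
  rw [← Submodule.Quotient.mk_smul, Submodule.Quotient.mk_eq_zero, smul_eq_mul]
  exact Ideal.mul_mem_right r _ ha

lemma smul_ext_eq {X Y : ModuleCat.{u} R} {n : ℕ} (a : R) (x : Ext X Y n) :
    a • x = (Ext.mk₀ (a • 𝟙 X)).comp x (zero_add n) := by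
  rw [Ext.mk₀_smul, Ext.smul_comp, Ext.mk₀_id_comp]

theorem smul_ι_eq_zero (i : ℕ) (M : ModuleCat.{u} R) (n : ℕ) (x : Ext (Q I n) M i) {a : R}
    (ha : a ∈ I ^ n) : a • ι I i M n x = 0 := by
  rw [← map_smul, smul_ext_eq, smul_id_Q_eq_zero I ha, Ext.mk₀_zero, Ext.zero_comp, map_zero]

/-- local cohomology is `I`-power torsion -/
theorem isPowerTorsion (i : ℕ) (M : ModuleCat.{u} R) (y : (localCohomology I i).obj M) :
    ∃ n : ℕ, ∀ a ∈ I ^ n, a • y = 0 := by
  obtain ⟨n, x, rfl⟩ := exists_rep I i M y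
  exact ⟨n, fun a ha => smul_ι_eq_zero I i M n x ha⟩

/-- vanishing on injective objects in positive degrees -/
theorem subsingleton_of_injective (i : ℕ) (M : ModuleCat.{u} R) [Injective M] :
    Subsingleton ((localCohomology I (i + 1)).obj M) := by
  refine ⟨fun a b => ?_⟩
  obtain ⟨n, x, rfl⟩ := exists_rep I (i + 1) M a
  obtain ⟨m, y, rfl⟩ := exists_rep I (i + 1) M b
  rw [Ext.eq_zero_of_injective x, Ext.eq_zero_of_injective y, map_zero, map_zero]

end torsion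

section linear

variable (i : ℕ) {M M' : ModuleCat.{u} R}

theorem map_zero' : ((localCohomology I i).map (0 : M ⟶ M')).hom = 0 := by
  refine hom_ext' I i M fun n x => ?_
  rw [map_ι, Ext.mk₀_zero, Ext.comp_zero, map_zero]; rfl

theorem map_smul' (a : R) (φ : M ⟶ M') :
    ((localCohomology I i).map (a • φ)).hom = a • ((localCohomology I i).map φ).hom := by
  refine hom_ext' I i M fun n x => ?_
  rw [map_ι, Ext.mk₀_smul, Ext.comp_smul, map_smul, LinearMap.smul_apply, map_ι]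

theorem map_add' (φ ψ : M ⟶ M') :
    ((localCohomology I i).map (φ + ψ)).hom =
      ((localCohomology I i).map φ).hom + ((localCohomology I i).map ψ).hom := by
  refine hom_ext' I i M fun n x => ?_
  rw [map_ι, Ext.mk₀_add, Ext.comp_add, map_add, LinearMap.add_apply, map_ι, map_ι]

end linear

section les

variable {S : ShortComplex (ModuleCat.{u} R)} (hS : S.ShortExact)

/-- the connecting homomorphism -/
theorem exists_δ (i : ℕ) :
    ∃ δ : (localCohomology I i).obj S.X₃ →ₗ[R] (localCohomology I (i + 1)).obj S.X₁,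
      ∀ n (x : Ext (Q I n) S.X₃ i),
        δ (ι I i S.X₃ n x) = ι I (i + 1) S.X₁ n (x.comp hS.extClass rfl) := by
  refine desc_exists I i S.X₃
    (fun n => (ι I (i + 1) S.X₁ n) ∘ₗ (Ext.postcompOfLinear hS.extClass R (Q I n) rfl)) ?_
  intro n m h x
  show ι I (i + 1) S.X₁ m (((Ext.mk₀ (π I h)).comp x (zero_add i)).comp hS.extClass rfl) =
    ι I (i + 1) S.X₁ n (x.comp hS.extClass rfl)
  rw [Ext.comp_assoc _ _ _ (zero_add i) rfl (show 0 + i + 1 = i + 1 by omega), ι_comp_π]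

include hS in
theorem exact₂ (i : ℕ) : Function.Exact ((localCohomology I i).map S.f).hom
    ((localCohomology I i).map S.g).hom := by
  intro y
  constructor
  · intro hy
    obtain ⟨n, x, rfl⟩ := exists_rep I i S.X₂ y
    rw [map_ι] at hy
    obtain ⟨m, h, hm⟩ := exists_of_ι_eq_zero I i S.X₃ n _ hy
    rw [← Ext.comp_assoc (Ext.mk₀ (π I h)) x (Ext.mk₀ S.g) (zero_add i) (add_zero i)
      (show 0 + i + 0 = i by omega)] at hm
    obtain ⟨x₁, hx₁⟩ := Ext.covariant_sequence_exact₂ _ hS _ hm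
    refine ⟨ι I i S.X₁ m x₁, ?_⟩
    rw [map_ι, hx₁, ι_comp_π]
  · rintro ⟨y₁, rfl⟩
    obtain ⟨n, x, rfl⟩ := exists_rep I i S.X₁ y₁
    rw [map_ι, map_ι, Ext.comp_assoc x (Ext.mk₀ S.f) (Ext.mk₀ S.g) (add_zero i) (add_zero 0)
      (show i + 0 + 0 = i by omega), Ext.mk₀_comp_mk₀, S.zero, Ext.mk₀_zero, Ext.comp_zero,
      map_zero]

theorem exact₃ (i : ℕ) (δ : (localCohomology I i).obj S.X₃ →ₗ[R] (localCohomology I (i + 1)).obj S.X₁)
    (hδ : ∀ n (x : Ext (Q I n) S.X₃ i),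
        δ (ι I i S.X₃ n x) = ι I (i + 1) S.X₁ n (x.comp hS.extClass rfl)) :
    Function.Exact ((localCohomology I i).map S.g).hom δ := by
  intro y
  constructor
  · intro hy
    obtain ⟨n, x, rfl⟩ := exists_rep I i S.X₃ y
    rw [hδ] at hy
    obtain ⟨m, h, hm⟩ := exists_of_ι_eq_zero I (i + 1) S.X₁ n _ hy
    rw [← Ext.comp_assoc (Ext.mk₀ (π I h)) x hS.extClass (zero_add i) rfl
      (show 0 + i + 1 = i + 1 by omega)] at hm
    obtain ⟨x₂, hx₂⟩ := Ext.covariant_sequence_exact₃ _ hS _ rfl hm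
    refine ⟨ι I i S.X₂ m x₂, ?_⟩
    rw [map_ι, hx₂, ι_comp_π]
  · rintro ⟨y₂, rfl⟩
    obtain ⟨n, x, rfl⟩ := exists_rep I i S.X₂ y₂
    rw [map_ι, hδ, Ext.comp_assoc x (Ext.mk₀ S.g) hS.extClass (add_zero i) (zero_add 1)
      (show i + 0 + 1 = i + 1 by omega), hS.comp_extClass, Ext.comp_zero, map_zero]

theorem exact₁ (i : ℕ) (δ : (localCohomology I i).obj S.X₃ →ₗ[R] (localCohomology I (i + 1)).obj S.X₁)
    (hδ : ∀ n (x : Ext (Q I n) S.X₃ i),
        δ (ι I i S.X₃ n x) = ι I (i + 1) S.X₁ n (x.comp hS.extClass rfl)) :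
    Function.Exact δ ((localCohomology I (i + 1)).map S.f).hom := by
  intro y
  constructor
  · intro hy
    obtain ⟨n, x, rfl⟩ := exists_rep I (i + 1) S.X₁ y
    rw [map_ι] at hy
    obtain ⟨m, h, hm⟩ := exists_of_ι_eq_zero I (i + 1) S.X₂ n _ hy
    rw [← Ext.comp_assoc (Ext.mk₀ (π I h)) x (Ext.mk₀ S.f) (zero_add (i + 1)) (add_zero (i + 1))
      (show 0 + (i + 1) + 0 = i + 1 by omega)] at hm
    obtain ⟨x₃, hx₃⟩ := Ext.covariant_sequence_exact₁ _ hS _ hm (n₀ := i) rfl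
    refine ⟨ι I i S.X₃ m x₃, ?_⟩
    rw [hδ, hx₃, ι_comp_π]
  · rintro ⟨y₃, rfl⟩
    obtain ⟨n, x, rfl⟩ := exists_rep I i S.X₃ y₃
    rw [hδ, map_ι, Ext.comp_assoc x hS.extClass (Ext.mk₀ S.f) rfl (add_zero 1)
      (show i + 1 + 0 = i + 1 by omega), hS.extClass_comp, Ext.comp_zero, map_zero]

include hS in
/-- the long exact sequence of local cohomology -/
theorem les (i : ℕ) :
    ∃ δ : (localCohomology I i).obj S.X₃ →ₗ[R] (localCohomology I (i + 1)).obj S.X₁,
      Function.Exact ((localCohomology I i).map S.f).hom ((localCohomology I i).map S.g).hom ∧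
      Function.Exact ((localCohomology I i).map S.g).hom δ ∧
      Function.Exact δ ((localCohomology I (i + 1)).map S.f).hom ∧
      Function.Exact ((localCohomology I (i + 1)).map S.f).hom
        ((localCohomology I (i + 1)).map S.g).hom := by
  obtain ⟨δ, hδ⟩ := exists_δ I hS i
  exact ⟨δ, exact₂ I hS i, exact₃ I hS i δ hδ, exact₁ I hS i δ hδ, exact₂ I hS (i + 1)⟩

end les

section H0

variable (M : ModuleCat.{u} R)

/-- evaluation of a degree-zero class at `1 ∈ R/I^n` -/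
noncomputable def ev (n : ℕ) : Ext (Q I n) M 0 →ₗ[R] M where
  toFun x := (Ext.linearEquiv₀ (R := R) x).hom (1 : R ⧸ I ^ n)
  map_add' x y := by rw [map_add]; rfl
  map_smul' a x := by rw [map_smul]; rfl

lemma ev_mk₀ (n : ℕ) (f : Q I n ⟶ M) : ev I M n (Ext.mk₀ f) = f.hom (1 : R ⧸ I ^ n) := by
  show (Ext.linearEquiv₀ (R := R) (Ext.mk₀ f)).hom (1 : R ⧸ I ^ n) = _
  rw [← Ext.linearEquiv₀_symm_apply (R := R), LinearEquiv.apply_symm_apply]

lemma exists_mk₀ {X Y : ModuleCat.{u} R} (x : Ext X Y 0) : ∃ f : X ⟶ Y, Ext.mk₀ f = x :=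
  ⟨Ext.linearEquiv₀ (R := R) x, Ext.mk₀_linearEquiv₀_apply x⟩

lemma ev_comp_π {n m : ℕ} (h : n ≤ m) (x : Ext (Q I n) M 0) :
    ev I M m ((Ext.mk₀ (π I h)).comp x (zero_add 0)) = ev I M n x := by
  obtain ⟨f, rfl⟩ := exists_mk₀ x
  rw [Ext.mk₀_comp_mk₀, ev_mk₀, ev_mk₀]
  rfl

lemma hom_apply_mk {n : ℕ} (f : Q I n ⟶ M) (r : R) :
    f.hom (Ideal.Quotient.mk (I ^ n) r) = r • f.hom (1 : R ⧸ I ^ n) := by
  rw [← map_smul]
  congr 1
  show Ideal.Quotient.mk (I ^ n) r = r • (Submodule.Quotient.mk (1 : R) : R ⧸ I ^ n)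
  rw [← Submodule.Quotient.mk_smul, smul_eq_mul, mul_one]
  rfl

theorem exists_H0 : ∃ Ψ : (localCohomology I 0).obj M →ₗ[R] M,
    (∀ n x, Ψ (ι I 0 M n x) = ev I M n x) ∧ Function.Injective Ψ ∧
      LinearMap.range Ψ = DRing.torsionSub I M := by
  obtain ⟨Ψ, hΨ⟩ := desc_exists I 0 M (fun n => ev I M n) (fun n m h x => ev_comp_π I M h x)
  refine ⟨Ψ, hΨ, ?_, ?_⟩
  · rw [← LinearMap.ker_eq_bot, LinearMap.ker_eq_bot']
    intro y hy
    obtain ⟨n, x, rfl⟩ := exists_rep I 0 M y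
    obtain ⟨f, rfl⟩ := exists_mk₀ x
    rw [hΨ, ev_mk₀] at hy
    have hf : f = 0 := by
      refine ModuleCat.hom_ext (LinearMap.ext fun q => ?_)
      obtain ⟨r, rfl⟩ := Ideal.Quotient.mk_surjective q
      rw [hom_apply_mk, hy, smul_zero]; rfl
    rw [hf, Ext.mk₀_zero, map_zero]
  · apply le_antisymm
    · rintro _ ⟨y, rfl⟩
      obtain ⟨n, x, rfl⟩ := exists_rep I 0 M y
      obtain ⟨f, rfl⟩ := exists_mk₀ x
      rw [hΨ, ev_mk₀]
      refine ⟨n, fun a ha => ?_⟩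
      rw [← hom_apply_mk, (Ideal.Quotient.eq_zero_iff_mem).2 ha, map_zero]
    · rintro m ⟨n, hn⟩
      let f : Q I n ⟶ M := ModuleCat.ofHom (Submodule.liftQ (I ^ n) (LinearMap.toSpanSingleton R M m)
        (fun a ha => by
          rw [LinearMap.mem_ker, LinearMap.toSpanSingleton_apply]
          exact hn a ha))
      refine ⟨ι I 0 M n (Ext.mk₀ f), ?_⟩
      rw [hΨ, ev_mk₀]
      show (LinearMap.toSpanSingleton R M m) 1 = m
      rw [LinearMap.toSpanSingleton_apply, one_smul]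

end H0

end Groth.Agent.H58.LC
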