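import Mathlib
import Groth.Prelude.Def_Wider
import Groth.Prelude.Def_DRing3
import Groth.Agent.H58.LCLes

/-!
# Module-level interface to local cohomology `LocCoh.H I i M`
-/

open CategoryTheory Abelian
universe u

namespace Groth.Agent.H58.LC

variable {R : Type u} [CommRing R] (I : Ideal R)
variable {M N P : Type u} [AddCommGroup M] [Module R M] [AddCommGroup N] [Module R N]
  [AddCommGroup P] [Module R P]

/-- functoriality of local cohomology on linear maps -/
noncomputable def Hmap (i : ℕ) (f : M →ₗ[R] N) : LocCoh.H I i M →ₗ[R] LocCoh.H I i N :=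
  ((localCohomology I i).map (ModuleCat.ofHom f)).hom

lemma Hmap_id (i : ℕ) : Hmap I i (LinearMap.id : M →ₗ[R] M) = LinearMap.id := by
  show ((localCohomology I i).map (ModuleCat.ofHom LinearMap.id)).hom = _
  rw [ModuleCat.ofHom_id, CategoryTheory.Functor.map_id]; rfl

lemma Hmap_comp (i : ℕ) (g : N →ₗ[R] P) (f : M →ₗ[R] N) :
    Hmap I i (g ∘ₗ f) = Hmap I i g ∘ₗ Hmap I i f := by
  show ((localCohomology I i).map (ModuleCat.ofHom (g ∘ₗ f))).hom = _
  rw [ModuleCat.ofHom_comp, Functor.map_comp]; rfl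

lemma Hmap_comp_apply (i : ℕ) (g : N →ₗ[R] P) (f : M →ₗ[R] N) (y : LocCoh.H I i M) :
    Hmap I i (g ∘ₗ f) y = Hmap I i g (Hmap I i f y) := by
  rw [Hmap_comp]; rfl

lemma Hmap_zero (i : ℕ) : Hmap I i (0 : M →ₗ[R] N) = 0 :=
  map_zero' I i (M := ModuleCat.of R M) (M' := ModuleCat.of R N)

lemma Hmap_smul (i : ℕ) (a : R) (f : M →ₗ[R] N) : Hmap I i (a • f) = a • Hmap I i f :=
  map_smul' I i a (ModuleCat.ofHom f)

lemma Hmap_add (i : ℕ) (f g : M →ₗ[R] N) : Hmap I i (f + g) = Hmap I i f + Hmap I i g :=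
  map_add' I i (ModuleCat.ofHom f) (ModuleCat.ofHom g)

/-- a linear equivalence induces a linear equivalence on local cohomology -/
noncomputable def Hcongr (i : ℕ) (e : M ≃ₗ[R] N) : LocCoh.H I i M ≃ₗ[R] LocCoh.H I i N :=
  LinearEquiv.ofLinear (Hmap I i e.toLinearMap) (Hmap I i e.symm.toLinearMap)
    (by rw [← Hmap_comp, LinearEquiv.comp_symm, Hmap_id])
    (by rw [← Hmap_comp, LinearEquiv.symm_comp, Hmap_id])

/-- local cohomology modules are `I`-power torsion -/
theorem isPowerTorsion_H (i : ℕ) : LocCoh.IsPowerTorsion I (LocCoh.H I i M) :=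
  fun y => isPowerTorsion I i (ModuleCat.of R M) y

/-- local cohomology vanishes on injective modules in positive degrees -/
theorem subsingleton_H_of_injective [Module.Injective R M] (i : ℕ) (hi : 0 < i) :
    Subsingleton (LocCoh.H I i M) := by
  obtain ⟨j, rfl⟩ := Nat.exists_eq_succ_of_ne_zero (Nat.pos_iff_ne_zero.1 hi)
  haveI := Module.injective_object_of_injective_module R M
  exact subsingleton_of_injective I j (ModuleCat.of R M)

/-- local cohomology of the zero module vanishes -/
theorem subsingleton_H_of_subsingleton [Subsingleton M] (i : ℕ) : Subsingleton (LocCoh.H I i M) := by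
  have h0 : (LinearMap.id : M →ₗ[R] M) = 0 := LinearMap.ext fun x => Subsingleton.elim _ _
  refine ⟨fun a b => ?_⟩
  have ha : a = 0 := by
    have := congrArg (fun φ => φ a) (Hmap_id I i (M := M))
    simp only [LinearMap.id_apply] at this
    rw [← this, h0, Hmap_zero]; rfl
  have hb : b = 0 := by
    have := congrArg (fun φ => φ b) (Hmap_id I i (M := M))
    simp only [LinearMap.id_apply] at this
    rw [← this, h0, Hmap_zero]; rfl
  rw [ha, hb]

/-- the long exact sequence for a short exact sequence of modules -/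
theorem les_mod (f : M →ₗ[R] N) (g : N →ₗ[R] P) (hf : Function.Injective f)
    (hg : Function.Surjective g) (hfg : Function.Exact f g) (i : ℕ) :
    ∃ δ : LocCoh.H I i P →ₗ[R] LocCoh.H I (i + 1) M,
      Function.Exact (Hmap I i f) (Hmap I i g) ∧ Function.Exact (Hmap I i g) δ ∧
      Function.Exact δ (Hmap I (i + 1) f) ∧ Function.Exact (Hmap I (i + 1) f) (Hmap I (i + 1) g) := by
  let S : ShortComplex (ModuleCat.{u} R) := ShortComplex.mk (ModuleCat.ofHom f) (ModuleCat.ofHom g)
    (ModuleCat.hom_ext (LinearMap.ext fun x => hfg.apply_apply_eq_zero x))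
  have hS : S.ShortExact :=
    { exact := (ShortComplex.ShortExact.moduleCat_exact_iff_function_exact S).2 hfg
      mono_f := (ModuleCat.mono_iff_injective _).2 hf
      epi_g := (ModuleCat.epi_iff_surjective _).2 hg }
  exact les I hS i

section H0

variable (M)

/-- the canonical map `H^0_I(M) → M` -/
noncomputable def H0map : LocCoh.H I 0 M →ₗ[R] M :=
  Classical.choose (exists_H0 I (ModuleCat.of R M))

lemma H0map_ι (n : ℕ) (x : Ext (Q I n) (ModuleCat.of R M) 0) :
    H0map I M (ι I 0 (ModuleCat.of R M) n x) = ev I (ModuleCat.of R M) n x :=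
  (Classical.choose_spec (exists_H0 I (ModuleCat.of R M))).1 n x

lemma H0map_injective : Function.Injective (H0map I M) :=
  (Classical.choose_spec (exists_H0 I (ModuleCat.of R M))).2.1

lemma range_H0map : LinearMap.range (H0map I M) = DRing.torsionSub I M :=
  (Classical.choose_spec (exists_H0 I (ModuleCat.of R M))).2.2

/-- `H^0_I(M) ≃ Γ_I(M)` -/
noncomputable def H0equiv : LocCoh.H I 0 M ≃ₗ[R] DRing.torsionSub I M :=
  LinearEquiv.ofBijective
    ((H0map I M).codRestrict (DRing.torsionSub I M) (fun y => by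
      rw [← range_H0map]; exact ⟨y, rfl⟩))
    ⟨fun a b h => H0map_injective I M (congrArg Subtype.val h), fun ⟨m, hm⟩ => by
      rw [← range_H0map] at hm
      obtain ⟨y, rfl⟩ := hm
      exact ⟨y, rfl⟩⟩

lemma H0equiv_coe (y : LocCoh.H I 0 M) : (H0equiv I M y : M) = H0map I M y := rfl

variable {M}

lemma H0map_natural (f : M →ₗ[R] N) (y : LocCoh.H I 0 M) :
    H0map I N (Hmap I 0 f y) = f (H0map I M y) := by
  obtain ⟨n, x, rfl⟩ := exists_rep I 0 (ModuleCat.of R M) y
  obtain ⟨h, rfl⟩ := exists_mk₀ x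
  show H0map I N (((localCohomology I 0).map (ModuleCat.ofHom f)).hom _) = _
  rw [map_ι, Ext.mk₀_comp_mk₀, H0map_ι, H0map_ι, ev_mk₀, ev_mk₀]
  rfl

lemma H0equiv_natural (f : M →ₗ[R] N) (y : LocCoh.H I 0 M) :
    (H0equiv I N (Hmap I 0 f y) : N) = f (H0equiv I M y : M) :=
  H0map_natural I f y

/-- if `M` is `I`-power torsion then `H^0_I(M) ≃ M` -/
noncomputable def H0equivOfTorsion (hM : LocCoh.IsPowerTorsion I M) : LocCoh.H I 0 M ≃ₗ[R] M :=
  (H0equiv I M).trans
    ((LinearEquiv.ofEq _ _ (show DRing.torsionSub I M = ⊤ from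
      eq_top_iff.2 fun m _ => hM m)).trans Submodule.topEquiv)

lemma H0equivOfTorsion_apply (hM : LocCoh.IsPowerTorsion I M) (y : LocCoh.H I 0 M) :
    H0equivOfTorsion I hM y = H0map I M y := rfl

end H0

end Groth.Agent.H58.LC
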