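import Mathlib
import Groth.Prelude.Def_Wider
import Groth.Agent.H26.DepthExt
import Groth.Agent.H58.LCMod

/-!
# Depth and local cohomology: `depth_I M` is the least non-vanishing degree of `H^i_I(M)`
-/

open CategoryTheory Abelian
universe u

namespace Groth.Agent.H58.LC

variable {R : Type u} [CommRing R] (I : Ideal R)
variable (M : Type u) [AddCommGroup M] [Module R M]

lemma pow_mem_annihilator_Q (k : ℕ) : ∀ a ∈ I, a ^ k ∈ Module.annihilator R (Q I k) := by
  intro a ha
  rw [Module.mem_annihilator]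
  intro q
  obtain ⟨r, rfl⟩ := Ideal.Quotient.mk_surjective q
  show a ^ k • (Submodule.Quotient.mk r : R ⧸ I ^ k) = 0
  rw [← Submodule.Quotient.mk_smul, Submodule.Quotient.mk_eq_zero, smul_eq_mul]
  exact Ideal.mul_mem_right r _ (Ideal.pow_mem_pow ha k)

/-- vanishing below the depth -/
theorem subsingleton_H_of_lt_idealDepth (d : ℕ) (hd : (d : ℕ∞) ≤ LocCoh.idealDepth I M)
    (hIM : I • (⊤ : Submodule R M) ≠ ⊤) (i : ℕ) (hi : i < d) : Subsingleton (LocCoh.H I i M) := by
  obtain ⟨rs, hlen, hreg, hmem⟩ := Groth.Agent.H26.DepthLib.exists_of_le_idealDepth I d hd hIM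
  refine ⟨fun a b => ?_⟩
  have key : ∀ y : LocCoh.H I i M, y = 0 := by
    intro y
    obtain ⟨k, x, rfl⟩ := exists_rep I i (ModuleCat.of R M) y
    haveI := Groth.Agent.S5150.main I k (Q I k) (pow_mem_annihilator_Q I k) (ModuleCat.of R M) rs
      hmem hreg i (hlen ▸ hi)
    rw [Subsingleton.elim x 0, map_zero]
  rw [key a, key b]

/-- the kernel of `R/I^m → R/I^n` -/
noncomputable abbrev Kπ {n m : ℕ} (h : n ≤ m) : Submodule R (R ⧸ I ^ m) := LinearMap.ker (π I h).hom

/-- the short complex `0 → K → R/I^m → R/I^n → 0` -/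
noncomputable abbrev Sπ {n m : ℕ} (h : n ≤ m) : ShortComplex (ModuleCat.{u} R) :=
  ShortComplex.mk (ModuleCat.ofHom (Kπ I h).subtype) (π I h)
    (ModuleCat.hom_ext (LinearMap.ext fun x => x.2))

lemma π_surjective {n m : ℕ} (h : n ≤ m) : Function.Surjective (π I h).hom := by
  intro q
  obtain ⟨r, rfl⟩ := Ideal.Quotient.mk_surjective q
  exact ⟨Ideal.Quotient.mk (I ^ m) r, rfl⟩

lemma Sπ_shortExact {n m : ℕ} (h : n ≤ m) : (Sπ I h).ShortExact :=
  { exact := (ShortComplex.ShortExact.moduleCat_exact_iff_function_exact _).2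
      (LinearMap.exact_subtype_ker_map _)
    mono_f := (ModuleCat.mono_iff_injective _).2 (Submodule.injective_subtype _)
    epi_g := (ModuleCat.epi_iff_surjective _).2 (π_surjective I h) }

lemma pow_mem_annihilator_Kπ {n m : ℕ} (h : n ≤ m) :
    ∀ a ∈ I, a ^ m ∈ Module.annihilator R (ModuleCat.of R (Kπ I h)) := by
  intro a ha
  rw [Module.mem_annihilator]
  intro q
  apply Subtype.ext
  have := Module.mem_annihilator.1 (pow_mem_annihilator_Q I m a ha) q.1
  exact this

/-- injectivity of the transition maps in the critical degree -/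
theorem ι_injective_of_regular (rs : List R) (hreg : RingTheory.Sequence.IsWeaklyRegular M rs)
    (hmem : ∀ r ∈ rs, r ∈ I) (n : ℕ) (hlen : rs.length = n) (k : ℕ)
    (x : Ext (Q I k) (ModuleCat.of R M) n)
    (hx : ι I n (ModuleCat.of R M) k x = 0) : x = 0 := by
  obtain ⟨m, h, hm⟩ := exists_of_ι_eq_zero I _ _ k x hx
  rcases n with _ | p
  · have hinj := Ext.precomp_mk₀_injective_of_epi (ModuleCat.of R M) (Sπ I h).g
      (hg := (Sπ_shortExact I h).epi_g)
    apply hinj
    rw [map_zero]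
    exact hm
  · obtain ⟨x₁, hx₁⟩ := Ext.contravariant_sequence_exact₃ (Sπ_shortExact I h) (ModuleCat.of R M) x hm
      (show 1 + p = p + 1 by omega)
    haveI := Groth.Agent.S5150.main I m (ModuleCat.of R (Kπ I h)) (pow_mem_annihilator_Kπ I h)
      (ModuleCat.of R M) rs hmem hreg p (by omega)
    rw [← hx₁, Subsingleton.elim x₁ 0, Ext.comp_zero]

/-- `R/I^1 ≅ R/I` -/
noncomputable def QoneIso : Q I 1 ≅ ModuleCat.of R (R ⧸ I) :=
  (Submodule.quotEquivOfEq (I ^ 1) I (pow_one I)).toModuleIso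

/-- nonvanishing at the depth -/
theorem nontrivial_H_idealDepth [IsNoetherianRing R] [Module.Finite R M] (n : ℕ)
    (hn : LocCoh.idealDepth I M = n) (hIM : I • (⊤ : Submodule R M) ≠ ⊤) :
    Nontrivial (LocCoh.H I n M) := by
  have h1 : ¬ ((n + 1 : ℕ) : ℕ∞) ≤ LocCoh.idealDepth I M := by
    rw [hn]; exact_mod_cast Nat.not_succ_le_self n
  rw [Groth.Agent.H26.DepthExt.le_idealDepth_iff_ext] at h1
  push Not at h1
  obtain ⟨i, hi, hns⟩ := h1
  have h2 := (Groth.Agent.H26.DepthExt.le_idealDepth_iff_ext I M n).1 (le_of_eq hn.symm)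
  have hin : i = n := by
    by_contra hne
    exact not_subsingleton _ (h2 i (by omega))
  subst hin
  obtain ⟨x, hx⟩ := exists_ne (0 : Ext (ModuleCat.of R (R ⧸ I)) (ModuleCat.of R M) i)
  obtain ⟨rs, hlen, hreg, hmem⟩ := Groth.Agent.H26.DepthLib.exists_of_le_idealDepth I i
    (le_of_eq hn.symm) hIM
  subst hlen
  let x' : Ext (Q I 1) (ModuleCat.of R M) rs.length :=
    (Ext.mk₀ (QoneIso I).hom).comp x (zero_add _)
  have hx' : x' ≠ 0 := by
    intro h0
    apply hx
    have : (Ext.mk₀ (QoneIso I).inv).comp x' (zero_add _) = x := by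
      show (Ext.mk₀ (QoneIso I).inv).comp ((Ext.mk₀ (QoneIso I).hom).comp x (zero_add _)) (zero_add _) = x
      rw [← Ext.comp_assoc (Ext.mk₀ (QoneIso I).inv) (Ext.mk₀ (QoneIso I).hom) x (zero_add 0)
        (zero_add _) (by omega), Ext.mk₀_comp_mk₀, Iso.inv_hom_id, Ext.mk₀_id_comp]
    rw [← this, h0, Ext.comp_zero]
  refine ⟨⟨ι I rs.length (ModuleCat.of R M) 1 x', 0, fun h0 => hx' ?_⟩⟩
  exact ι_injective_of_regular I M rs hreg hmem rs.length rfl 1 x' h0

/-- the depth is the least degree of non-vanishing local cohomology -/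
theorem idealDepth_eq_iff [IsNoetherianRing R] [Module.Finite R M]
    (hIM : I • (⊤ : Submodule R M) ≠ ⊤) (n : ℕ) :
    LocCoh.idealDepth I M = n ↔
      ((∀ i : ℕ, i < n → Subsingleton (LocCoh.H I i M)) ∧ Nontrivial (LocCoh.H I n M)) := by
  constructor
  · intro hn
    exact ⟨fun i hi => subsingleton_H_of_lt_idealDepth I M n (le_of_eq hn.symm) hIM i hi,
      nontrivial_H_idealDepth I M n hn hIM⟩
  · rintro ⟨hv, hnt⟩
    have hle : LocCoh.idealDepth I M ≤ n := by
      by_contra hcon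
      rw [not_le] at hcon
      have h1 : ((n + 1 : ℕ) : ℕ∞) ≤ LocCoh.idealDepth I M := by
        rw [Nat.cast_succ]; exact Order.add_one_le_of_lt hcon
      have := subsingleton_H_of_lt_idealDepth I M (n + 1) h1 hIM n (Nat.lt_succ_self n)
      exact not_subsingleton (LocCoh.H I n M) this
    obtain ⟨d, hd⟩ : ∃ d : ℕ, LocCoh.idealDepth I M = d :=
      ⟨(LocCoh.idealDepth I M).toNat,
        (ENat.natCast_toNat (ne_top_of_le_ne_top (ENat.natCast_ne_top n) hle)).symm⟩
    have hdn : d ≤ n := by rw [hd] at hle; exact_mod_cast hle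
    have hnt' := nontrivial_H_idealDepth I M d hd hIM
    rcases Nat.lt_or_ge d n with hlt | hge
    · exact absurd (hv d hlt) (not_subsingleton _)
    · rw [hd, le_antisymm hdn hge]

end Groth.Agent.H58.LC
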