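import Mathlib
import Groth.Prelude.Def_Wider
import Groth.Agent.H58.LCMod
import Groth.Agent.H58.LCDepth

/-!
# Uniform annihilators of local cohomology via factorizations through free modules
-/

open CategoryTheory
universe u

namespace Groth.Agent.H58.LC

variable {R : Type u} [CommRing R]

section general

variable {M N F : Type u} [AddCommGroup M] [Module R M] [AddCommGroup N] [Module R N]
  [AddCommGroup F] [Module R F]

lemma Hmap_sum {ι : Type*} (s : Finset ι) (φ : ι → (M →ₗ[R] N)) (I : Ideal R) (i : ℕ) :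
    Hmap I i (∑ j ∈ s, φ j) = ∑ j ∈ s, Hmap I i (φ j) := by
  classical
  induction s using Finset.induction_on with
  | empty => rw [Finset.sum_empty, Finset.sum_empty, Hmap_zero]
  | insert a s ha ih => rw [Finset.sum_insert ha, Finset.sum_insert ha, Hmap_add, ih]

/-- if `s • id_M` factors through `F` and `H^i_I(F) = 0` then `s` kills `H^i_I(M)` -/
theorem smul_H_eq_zero_of_factor (I : Ideal R) (i : ℕ) (u : M →ₗ[R] F) (v : F →ₗ[R] M) (s : R)
    (h : v ∘ₗ u = s • LinearMap.id) [Subsingleton (LocCoh.H I i F)] (x : LocCoh.H I i M) :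
    s • x = 0 := by
  have h1 : Hmap I i (v ∘ₗ u) x = s • x := by
    rw [h, Hmap_smul, Hmap_id]
    rfl
  rw [← h1, Hmap_comp_apply, Subsingleton.elim (Hmap I i u x) 0, map_zero]

/-- local cohomology of a finite free module vanishes when that of the ring does -/
theorem subsingleton_H_pi {ι : Type u} [Fintype ι] [DecidableEq ι] (I : Ideal R) (i : ℕ)
    [Subsingleton (LocCoh.H I i R)] : Subsingleton (LocCoh.H I i (ι → R)) := by
  refine ⟨fun x y => ?_⟩
  have hid : (∑ j : ι, (LinearMap.single R (fun _ : ι => R) j) ∘ₗ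
      (LinearMap.proj j : (ι → R) →ₗ[R] R)) = LinearMap.id := by
    refine LinearMap.ext fun x => ?_
    rw [LinearMap.sum_apply]
    simp only [LinearMap.comp_apply, LinearMap.proj_apply, LinearMap.coe_single,
      LinearMap.id_apply]
    exact Finset.univ_sum_single x
  have key : ∀ z : LocCoh.H I i (ι → R), z = 0 := fun z => by
    have hz : Hmap I i (LinearMap.id : (ι → R) →ₗ[R] (ι → R)) z = z := by
      rw [Hmap_id]; rfl
    rw [← hz, ← hid, Hmap_sum, LinearMap.sum_apply]
    refine Finset.sum_eq_zero fun j _ => ?_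
    rw [Hmap_comp_apply, Subsingleton.elim (Hmap I i (LinearMap.proj j) z) 0, map_zero]
  rw [key x, key y]

end general

section free

variable [IsNoetherianRing R] (M : Type u) [AddCommGroup M] [Module R M] [Module.Finite R M]

/-- if `M_p` is free then `s • id_M` factors through a finite free module for some `s ∉ p` -/
theorem exists_factor_of_free_localization (p : Ideal R) [p.IsPrime]
    [Module.Free (Localization.AtPrime p) (LocalizedModule p.primeCompl M)] :
    ∃ (ι : Type u) (_ : Fintype ι) (_ : DecidableEq ι) (u : M →ₗ[R] (ι → R))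
      (v : (ι → R) →ₗ[R] M) (s : R), s ∉ p ∧ v ∘ₗ u = s • LinearMap.id := by
  classical
  let S := p.primeCompl
  let Rp := Localization.AtPrime p
  let Mp := LocalizedModule S M
  haveI : Module.FinitePresentation R M := Module.finitePresentation_of_finite R M
  let ι := Module.Free.ChooseBasisIndex Rp Mp
  let bs : Module.Basis ι Rp Mp := Module.Free.chooseBasis Rp Mp
  let ε : Mp ≃ₗ[R] (ι → Rp) := bs.equivFun.restrictScalars R
  let gM : M →ₗ[R] Mp := LocalizedModule.mkLinearMap S M
  let gF : (ι → R) →ₗ[R] (ι → Rp) :=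
    LinearMap.pi fun j => (Algebra.linearMap R Rp) ∘ₗ (LinearMap.proj j)
  haveI : IsLocalizedModule S gF := IsLocalizedModule.pi S (fun _ : ι => Algebra.linearMap R Rp)
  obtain ⟨u, su, Hu⟩ := Module.FinitePresentation.exists_lift_of_isLocalizedModule S gF
    (ε.toLinearMap ∘ₗ gM)
  obtain ⟨v, sv, Hv⟩ := Module.FinitePresentation.exists_lift_of_isLocalizedModule S gM
    (ε.symm.toLinearMap ∘ₗ gF)
  have H3 : gM ∘ₗ (v ∘ₗ u) = gM ∘ₗ (((sv : R) * (su : R)) • LinearMap.id) := by
    refine LinearMap.ext fun x => ?_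
    show gM (v (u x)) = gM (((sv : R) * (su : R)) • x)
    have h1 : gM (v (u x)) = (sv : R) • ε.symm (gF (u x)) := LinearMap.congr_fun Hv (u x)
    have h2 : gF (u x) = (su : R) • ε (gM x) := LinearMap.congr_fun Hu x
    rw [h1, h2, map_smul, map_smul, LinearEquiv.symm_apply_apply, mul_smul]
  obtain ⟨t, ht⟩ := Module.Finite.exists_smul_of_comp_eq_of_isLocalizedModule S gM _ _ H3
  refine ⟨ι, inferInstance, inferInstance, u, (t : R) • v, (t : R) * ((sv : R) * (su : R)),
    ?_, ?_⟩
  · exact mul_mem t.2 (mul_mem sv.2 su.2)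
  · rw [LinearMap.smul_comp, mul_smul]
    exact ht

end free

end Groth.Agent.H58.LC
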