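import Mathlib
import Groth.Prelude.Def_Wider
import Groth.Agent.S1728

/-!
Injective hulls: elementwise essentiality, hulls inside injective modules, indecomposable
injectives, hull of `R ⧸ p`.
-/

set_option autoImplicit false
universe u v
open InjHull

namespace Groth.Agent.H58.IH

variable {R : Type u} [CommRing R]

section ess

variable {E : Type v} [AddCommGroup E] [Module R E]

/-- elementwise essentiality of a submodule. -/
def Ess (N : Submodule R E) : Prop := ∀ x : E, x ≠ 0 → ∃ r : R, r • x ∈ N ∧ r • x ≠ 0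

theorem ess_iff (N : Submodule R E) : Ess N ↔ ∀ L : Submodule R E, L ≠ ⊥ → L ⊓ N ≠ ⊥ := by
  constructor
  · intro h L hL
    obtain ⟨x, hxL, hx0⟩ := (Submodule.ne_bot_iff L).1 hL
    obtain ⟨r, hrN, hr0⟩ := h x hx0
    exact (Submodule.ne_bot_iff _).2 ⟨r • x, ⟨L.smul_mem r hxL, hrN⟩, hr0⟩
  · intro h x hx
    have hL : Submodule.span R {x} ≠ ⊥ := by
      rw [Ne, Submodule.span_singleton_eq_bot]
      exact hx
    obtain ⟨y, hy, hy0⟩ := (Submodule.ne_bot_iff _).1 (h _ hL)
    obtain ⟨r, rfl⟩ := Submodule.mem_span_singleton.1 hy.1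
    exact ⟨r, hy.2, hy0⟩

theorem Ess.mono {N N' : Submodule R E} (h : N ≤ N') (hN : Ess N) : Ess N' := fun x hx =>
  let ⟨r, hr, hr0⟩ := hN x hx
  ⟨r, h hr, hr0⟩

theorem isEssentialInj_iff {M : Type v} [AddCommGroup M] [Module R M] (f : M →ₗ[R] E) :
    IsEssentialInj f ↔ Function.Injective f ∧ Ess (LinearMap.range f) := by
  rw [ess_iff]
  exact ⟨fun h => ⟨h.injective, h.essential⟩, fun h => ⟨h.1, h.2⟩⟩

theorem isInjectiveHull_iff {M : Type v} [AddCommGroup M] [Module R M] (f : M →ₗ[R] E) :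
    IsInjectiveHull f ↔ Function.Injective f ∧ Ess (LinearMap.range f) ∧ Module.Injective R E := by
  constructor
  · intro h
    exact ⟨h.injective, ((isEssentialInj_iff f).1 h.toIsEssentialInj).2, h.isInjective⟩
  · intro h
    exact ⟨(isEssentialInj_iff f).2 ⟨h.1, h.2.1⟩, h.2.2⟩

end ess

theorem exists_injective_embedding (R : Type u) [CommRing R] (M : Type u) [AddCommGroup M]
    [Module R M] :
    ∃ (I : Type u) (_ : AddCommGroup I) (_ : Module R I), Module.Injective R I ∧
      ∃ i : M →ₗ[R] I, Function.Injective i := by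
  let X : ModuleCat.{u} R := ModuleCat.of R M
  let J : ModuleCat.{u} R := CategoryTheory.Injective.under X
  haveI : CategoryTheory.Injective (ModuleCat.of R J) :=
    inferInstanceAs (CategoryTheory.Injective (CategoryTheory.Injective.under X))
  refine ⟨J, inferInstance, inferInstance, ?_,
    (CategoryTheory.Injective.ι X).hom, ?_⟩
  · exact Module.injective_module_of_injective_object R J
  · exact (ModuleCat.mono_iff_injective _).1 inferInstance

/-- inside an injective module every submodule has an injective essential extension. -/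
theorem exists_injective_essential {I : Type u} [AddCommGroup I] [Module R I]
    [Module.Injective R I] (N : Submodule R I) :
    ∃ E : Submodule R I, N ≤ E ∧ (∀ x ∈ E, x ≠ 0 → ∃ r : R, r • x ∈ N ∧ r • x ≠ 0) ∧
      Module.Injective R E := by
  let s : Set (Submodule R I) :=
    {E | N ≤ E ∧ ∀ x ∈ E, x ≠ 0 → ∃ r : R, r • x ∈ N ∧ r • x ≠ 0}
  have hNs : N ∈ s := ⟨le_rfl, fun x hx hx0 => ⟨1, by rwa [one_smul], by rwa [one_smul]⟩⟩
  obtain ⟨E, hNE, hmax⟩ := zorn_le_nonempty₀ s (fun c hcs hc y hy => by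
    refine ⟨sSup c, ⟨?_, ?_⟩, fun z hz => le_sSup hz⟩
    · exact (hcs hy).1.trans (le_sSup hy)
    · intro x hx hx0
      obtain ⟨E', hE'c, hxE'⟩ := (Submodule.mem_sSup_of_directed ⟨y, hy⟩ hc.directedOn).1 hx
      exact (hcs hE'c).2 x hxE' hx0) N hNs
  refine ⟨E, hmax.prop.1, hmax.prop.2, ?_⟩
  refine (Groth.Agent.S1728.result R I E).2 (fun E' hEE' hess => ?_)
  have hE's : E' ∈ s := by
    refine ⟨hmax.prop.1.trans hEE', fun x hx hx0 => ?_⟩
    have hL : Submodule.span R {x} ≠ ⊥ := by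
      rw [Ne, Submodule.span_singleton_eq_bot]
      exact hx0
    have hLE : Submodule.span R {x} ≤ E' := (Submodule.span_singleton_le_iff_mem x E').2 hx
    obtain ⟨y, hy, hy0⟩ := (Submodule.ne_bot_iff _).1 (hess _ hLE hL)
    obtain ⟨a, rfl⟩ := Submodule.mem_span_singleton.1 hy.1
    obtain ⟨r, hr, hr0⟩ := hmax.prop.2 (a • x) hy.2 hy0
    exact ⟨r * a, by rwa [mul_smul], by rwa [mul_smul]⟩
  exact le_antisymm (hmax.2 hE's hEE') hEE'

theorem exists_isCompl_of_injective {I : Type u} [AddCommGroup I] [Module R I]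
    (E : Submodule R I) [Module.Injective R E] : ∃ E' : Submodule R I, IsCompl E E' := by
  obtain ⟨r, hr⟩ := Module.Injective.extension_property R E E I E.subtype
    Subtype.val_injective LinearMap.id
  exact ⟨LinearMap.ker r, LinearMap.isCompl_of_proj (fun x => LinearMap.congr_fun hr x)⟩

theorem ess_of_indecomposable {E : Type u} [AddCommGroup E] [Module R E]
    (hE : IsIndecomposable R E) [Module.Injective R E] (N : Submodule R E) (hN : N ≠ ⊥) :
    Ess N := by
  obtain ⟨E', hNE', hess, hinj⟩ := exists_injective_essential N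
  haveI := hinj
  obtain ⟨C, hC⟩ := exists_isCompl_of_injective E'
  have hE'top : E' = ⊤ := by
    rcases hE.2 E' C hC with h | h
    · exact absurd (le_bot_iff.1 (h ▸ hNE')) hN
    · rw [← hC.sup_eq_top, h, sup_bot_eq]
  intro x hx
  exact hess x (hE'top ▸ Submodule.mem_top) hx

theorem zeroDivisors_prime {E : Type u} [AddCommGroup E] [Module R E]
    (hE : IsIndecomposable R E) [Module.Injective R E] :
    ∃ p : Ideal R, p.IsPrime ∧ (p : Set R) = {r : R | ∃ x : E, x ≠ 0 ∧ r • x = 0} := by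
  haveI : Nontrivial E := hE.1
  let p : Ideal R :=
    { carrier := {r : R | ∃ x : E, x ≠ 0 ∧ r • x = 0}
      add_mem' := by
        rintro r s ⟨x, hx0, hx⟩ ⟨y, hy0, hy⟩
        have hspan : Submodule.span R {y} ≠ ⊥ := by
          rw [Ne, Submodule.span_singleton_eq_bot]
          exact hy0
        obtain ⟨a, ha, ha0⟩ := ess_of_indecomposable hE _ hspan x hx0
        obtain ⟨b, hb⟩ := Submodule.mem_span_singleton.1 ha
        refine ⟨a • x, ha0, ?_⟩
        rw [add_smul, smul_comm r a x, hx, smul_zero, zero_add, ← hb, smul_comm s b y, hy,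
          smul_zero]
      zero_mem' := by
        obtain ⟨x, hx⟩ := exists_ne (0 : E)
        exact ⟨x, hx, zero_smul R x⟩
      smul_mem' := by
        rintro c r ⟨x, hx0, hx⟩
        exact ⟨x, hx0, by rw [smul_eq_mul, mul_smul, hx, smul_zero]⟩ }
  refine ⟨p, ?_, rfl⟩
  rw [Ideal.isPrime_iff]
  constructor
  · intro h
    have h1 : (1 : R) ∈ p := by rw [h]; trivial
    obtain ⟨x, hx0, hx⟩ := h1
    rw [one_smul] at hx
    exact hx0 hx
  · rintro r s ⟨x, hx0, hx⟩
    by_cases hs : s • x = 0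
    · exact Or.inr ⟨x, hx0, hs⟩
    · exact Or.inl ⟨s • x, hs, by rw [← mul_smul, hx]⟩

section prime

variable (p : Ideal R) [p.IsPrime] {E : Type u} [AddCommGroup E] [Module R E]

theorem smul_quotient (a : R) (b : R ⧸ p) : a • b = Ideal.Quotient.mk p a * b := by
  rw [Algebra.smul_def]
  rfl

theorem indecomposable_of_hull (f : (R ⧸ p) →ₗ[R] E) (hf : IsInjectiveHull f) :
    IsIndecomposable R E := by
  obtain ⟨hinj, hess, -⟩ := (isInjectiveHull_iff f).1 hf
  refine ⟨hinj.nontrivial, fun N N' hC => ?_⟩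
  by_contra hcon
  push Not at hcon
  obtain ⟨hN, hN'⟩ := hcon
  have key : ∀ L : Submodule R E, L ≠ ⊥ → ∃ a : R ⧸ p, a ≠ 0 ∧ f a ∈ L := by
    intro L hL
    obtain ⟨x, hxL, hx0⟩ := (Submodule.ne_bot_iff L).1 hL
    obtain ⟨r, ⟨a, ha⟩, hr0⟩ := hess x hx0
    refine ⟨a, ?_, ?_⟩
    · rintro rfl
      rw [map_zero] at ha
      exact hr0 ha.symm
    · rw [ha]
      exact L.smul_mem r hxL
  obtain ⟨a, ha0, haN⟩ := key N hN
  obtain ⟨b, hb0, hbN'⟩ := key N' hN'
  obtain ⟨a₀, rfl⟩ := Ideal.Quotient.mk_surjective a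
  obtain ⟨b₀, rfl⟩ := Ideal.Quotient.mk_surjective b
  have h1 : f (Ideal.Quotient.mk p a₀ * Ideal.Quotient.mk p b₀) ∈ N' := by
    rw [← smul_quotient, map_smul]
    exact N'.smul_mem _ hbN'
  have h2 : f (Ideal.Quotient.mk p a₀ * Ideal.Quotient.mk p b₀) ∈ N := by
    rw [mul_comm, ← smul_quotient, map_smul]
    exact N.smul_mem _ haN
  have h3 : f (Ideal.Quotient.mk p a₀ * Ideal.Quotient.mk p b₀) ∈ N ⊓ N' := ⟨h2, h1⟩
  rw [hC.inf_eq_bot, Submodule.mem_bot] at h3
  have h4 := hinj (h3.trans (map_zero f).symm)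
  rcases mul_eq_zero.1 h4 with h | h
  · exact ha0 h
  · exact hb0 h

theorem exists_hull_residueField (f : (R ⧸ p) →ₗ[R] E) (hf : IsInjectiveHull f) :
    ∃ g : p.ResidueField →ₗ[R] E, IsInjectiveHull g := by
  obtain ⟨hinj, hess, hI⟩ := (isInjectiveHull_iff f).1 hf
  haveI := hI
  let ι : (R ⧸ p) →ₗ[R] p.ResidueField :=
    (Algebra.linearMap (R ⧸ p) p.ResidueField).restrictScalars R
  have hι : Function.Injective ι := p.injective_algebraMap_quotient_residueField
  obtain ⟨g, hg⟩ := Module.Injective.extension_property R E (R ⧸ p) p.ResidueField ι hι f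
  have hgι : ∀ a, g (ι a) = f a := fun a => LinearMap.congr_fun hg a
  refine ⟨g, (isInjectiveHull_iff g).2 ⟨?_, ?_, hI⟩⟩
  · rw [← LinearMap.ker_eq_bot, LinearMap.ker_eq_bot']
    intro x hx
    obtain ⟨a, b, hb, hab⟩ := IsFractionRing.div_surjective (A := R ⧸ p) x
    have hb0 : algebraMap (R ⧸ p) p.ResidueField b ≠ 0 := by
      intro h
      have := (map_eq_zero_iff _ p.injective_algebraMap_quotient_residueField).1 h
      exact nonZeroDivisors.ne_zero hb this
    obtain ⟨b₀, rfl⟩ := Ideal.Quotient.mk_surjective b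
    have h1 : b₀ • x = ι a := by
      rw [← hab, Algebra.smul_def, IsScalarTower.algebraMap_apply R (R ⧸ p) p.ResidueField]
      show algebraMap (R ⧸ p) p.ResidueField (Ideal.Quotient.mk p b₀) * _ = _
      rw [mul_div_cancel₀ _ hb0]
      rfl
    have h2 : f a = 0 := by rw [← hgι, ← h1, map_smul, hx, smul_zero]
    have h3 : a = 0 := hinj (h2.trans (map_zero f).symm)
    rw [← hab, h3, map_zero, zero_div]
  · refine hess.mono ?_
    rintro _ ⟨a, rfl⟩
    exact ⟨ι a, hgι a⟩

end prime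

end Groth.Agent.H58.IH
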