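import Mathlib
import Groth.Prelude.Def_Wider
import Groth.Prelude.Def_DRing3
import Groth.Agent.H58.LCMod

/-!
# Local cohomology via injective resolutions: `H^i_I(M) ≃ H^i(Γ_I(J•))`
-/

open CategoryTheory Limits Abelian
universe u

namespace Groth.Agent.H58.LC

variable {R : Type u} [CommRing R] (I : Ideal R)

section cx

/-- existence of cycles in a cochain complex of modules -/
lemma exists_cycle' (K : CochainComplex (ModuleCat.{u} R) ℕ) (i : ℕ) (c : K.X i)
    (hc : (K.d i (i + 1)).hom c = 0) : ∃ z : K.cycles i, (K.iCycles i).hom z = c := by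
  let k : ModuleCat.of R R ⟶ K.X i := ModuleCat.ofHom (LinearMap.toSpanSingleton R (K.X i) c)
  have hk : k ≫ K.d i (i + 1) = 0 := by
    refine ModuleCat.hom_ext (LinearMap.ext_ring ?_)
    show (K.d i (i + 1)).hom ((LinearMap.toSpanSingleton R (K.X i) c) 1) = 0
    rw [LinearMap.toSpanSingleton_apply, one_smul]; exact hc
  refine ⟨(K.liftCycles k (i + 1) (CochainComplex.next ℕ i) hk).hom (1 : R), ?_⟩
  have h1 := K.liftCycles_i k (i + 1) (CochainComplex.next ℕ i) hk
  have h2 := congrArg (fun m => m.hom (1 : R)) h1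
  refine h2.trans ?_
  show (LinearMap.toSpanSingleton R (K.X i) c) 1 = c
  rw [LinearMap.toSpanSingleton_apply, one_smul]

lemma iCycles_injective (K : CochainComplex (ModuleCat.{u} R) ℕ) (i : ℕ) :
    Function.Injective (K.iCycles i).hom :=
  (ModuleCat.mono_iff_injective _).1 inferInstance

lemma homologyπ_surjective (K : CochainComplex (ModuleCat.{u} R) ℕ) (i : ℕ) :
    Function.Surjective (K.homologyπ i).hom :=
  (ModuleCat.epi_iff_surjective _).1 inferInstance

lemma d_iCycles (K : CochainComplex (ModuleCat.{u} R) ℕ) (i : ℕ) (z : K.cycles i) :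
    (K.d i (i + 1)).hom ((K.iCycles i).hom z) = 0 :=
  congrArg (fun m => m.hom z) (K.iCycles_d i (i + 1))

lemma iCycles_toCycles (K : CochainComplex (ModuleCat.{u} R) ℕ) (k i : ℕ) (w : K.X k) :
    (K.iCycles i).hom ((K.toCycles k i).hom w) = (K.d k i).hom w :=
  congrArg (fun m => m.hom w) (K.toCycles_i k i)

lemma homologyπ_toCycles (K : CochainComplex (ModuleCat.{u} R) ℕ) (k i : ℕ) (w : K.X k) :
    (K.homologyπ i).hom ((K.toCycles k i).hom w) = 0 :=
  congrArg (fun m => m.hom w) (K.toCycles_comp_homologyπ k i)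

end cx

section fOf

variable {N N' : ModuleCat.{u} R}

/-- the map `R/I^n → N`, `1 ↦ v`, for `v` killed by `I^n` -/
noncomputable def fOf (v : N) (n : ℕ) (hv : ∀ a ∈ I ^ n, a • v = 0) : Q I n ⟶ N :=
  ModuleCat.ofHom (Submodule.liftQ (I ^ n) (LinearMap.toSpanSingleton R N v) (fun a ha => by
    rw [LinearMap.mem_ker, LinearMap.toSpanSingleton_apply]; exact hv a ha))

lemma fOf_one (v : N) (n : ℕ) (hv : ∀ a ∈ I ^ n, a • v = 0) :
    (fOf I v n hv).hom (1 : R ⧸ I ^ n) = v := by
  show (Submodule.liftQ _ _ _) (Submodule.Quotient.mk (1 : R)) = _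
  rw [Submodule.liftQ_apply, LinearMap.toSpanSingleton_apply, one_smul]

lemma hom_ext_Q {n : ℕ} {f g : Q I n ⟶ N} (h : f.hom (1 : R ⧸ I ^ n) = g.hom 1) : f = g := by
  refine ModuleCat.hom_ext (LinearMap.ext fun q => ?_)
  obtain ⟨r, rfl⟩ := Ideal.Quotient.mk_surjective q
  rw [hom_apply_mk I N f r, hom_apply_mk I N g r, h]

lemma smul_hom_one_eq_zero {n : ℕ} (f : Q I n ⟶ N) (a : R) (ha : a ∈ I ^ n) :
    a • f.hom (1 : R ⧸ I ^ n) = 0 := by
  rw [← hom_apply_mk I N f a, (Ideal.Quotient.eq_zero_iff_mem).2 ha, map_zero]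

lemma fOf_hom_one {n : ℕ} (f : Q I n ⟶ N) :
    fOf I (f.hom (1 : R ⧸ I ^ n)) n (fun a ha => smul_hom_one_eq_zero I f a ha) = f :=
  hom_ext_Q I (fOf_one I _ n _)

lemma fOf_congr {v v' : N} (h : v = v') (n : ℕ) (hv : ∀ a ∈ I ^ n, a • v = 0) :
    fOf I v n hv = fOf I v' n (h ▸ hv) := by subst h; rfl

lemma fOf_comp (v : N) (n : ℕ) (hv : ∀ a ∈ I ^ n, a • v = 0) (g : N ⟶ N') :
    fOf I v n hv ≫ g = fOf I (g.hom v) n (fun a ha => by rw [← map_smul, hv a ha, map_zero]) :=
  hom_ext_Q I (by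
    rw [fOf_one]
    show g.hom ((fOf I v n hv).hom 1) = _
    rw [fOf_one])

lemma π_fOf (v : N) {n m : ℕ} (h : n ≤ m) (hv : ∀ a ∈ I ^ n, a • v = 0) :
    π I h ≫ fOf I v n hv = fOf I v m (fun a ha => hv a (Ideal.pow_le_pow_right h ha)) :=
  hom_ext_Q I (by
    rw [fOf_one]
    show (fOf I v n hv).hom ((π I h).hom 1) = _
    have : (π I h).hom (1 : R ⧸ I ^ m) = 1 := rfl
    rw [this, fOf_one])

lemma fOf_zero (n : ℕ) : fOf I (0 : N) n (fun a _ => smul_zero a) = 0 :=
  hom_ext_Q I (by rw [fOf_one]; rfl)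

lemma fOf_add (v w : N) (n : ℕ) (hv : ∀ a ∈ I ^ n, a • v = 0) (hw : ∀ a ∈ I ^ n, a • w = 0) :
    fOf I (v + w) n (fun a ha => by rw [smul_add, hv a ha, hw a ha, add_zero]) =
      fOf I v n hv + fOf I w n hw :=
  hom_ext_Q I (by
    rw [fOf_one]
    show _ = (fOf I v n hv).hom 1 + (fOf I w n hw).hom 1
    rw [fOf_one, fOf_one])

lemma smul_id_comp_fOf (r : R) (v : N) (n : ℕ) (hv : ∀ a ∈ I ^ n, a • v = 0) :
    (r • 𝟙 (Q I n)) ≫ fOf I v n hv =
      fOf I (r • v) n (fun a ha => by rw [smul_comm, hv a ha, smul_zero]) :=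
  hom_ext_Q I (by
    rw [fOf_one]
    show (fOf I v n hv).hom (r • (1 : R ⧸ I ^ n)) = _
    rw [map_smul, fOf_one])

end fOf

section thmA

variable {M : ModuleCat.{u} R} (J : InjectiveResolution M) (i : ℕ)

/-- the complex `Γ_I(J•)` -/
noncomputable abbrev gammaCx : CochainComplex (ModuleCat.{u} R) ℕ :=
  ((DRing.gammaI I).mapHomologicalComplex (ComplexShape.up ℕ)).obj J.cocomplex

lemma extMk_congrI {X : ModuleCat.{u} R} {n : ℕ} {f f' : X ⟶ J.cocomplex.X n} (h : f = f') (m : ℕ)
    (hm : n + 1 = m) (hf : f ≫ J.cocomplex.d n m = 0) :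
    J.extMk f m hm hf = J.extMk f' m hm (h ▸ hf) := by subst h; rfl

lemma fOf_cocycle (v : J.cocomplex.X i) (n : ℕ) (hv : ∀ a ∈ I ^ n, a • v = 0)
    (hd : (J.cocomplex.d i (i + 1)).hom v = 0) :
    fOf I v n hv ≫ J.cocomplex.d i (i + 1) = 0 :=
  hom_ext_Q I (by
    show (J.cocomplex.d i (i + 1)).hom ((fOf I v n hv).hom 1) = _
    rw [fOf_one, hd]; rfl)

/-- the class of a torsion cocycle -/
noncomputable def cls (v : J.cocomplex.X i) (n : ℕ) (hv : ∀ a ∈ I ^ n, a • v = 0)
    (hd : (J.cocomplex.d i (i + 1)).hom v = 0) : Ext (Q I n) M i :=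
  J.extMk (fOf I v n hv) (i + 1) rfl (fOf_cocycle I J i v n hv hd)

lemma cls_π (v : J.cocomplex.X i) {n m : ℕ} (h : n ≤ m) (hv : ∀ a ∈ I ^ n, a • v = 0)
    (hd : (J.cocomplex.d i (i + 1)).hom v = 0) :
    (Ext.mk₀ (π I h)).comp (cls I J i v n hv hd) (zero_add i) =
      cls I J i v m (fun a ha => hv a (Ideal.pow_le_pow_right h ha)) hd := by
  unfold cls
  rw [InjectiveResolution.mk₀_comp_extMk]
  exact extMk_congrI J (π_fOf I v h hv) _ _ _

lemma ι_cls_indep (v : J.cocomplex.X i) (n n' : ℕ) (hv : ∀ a ∈ I ^ n, a • v = 0)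
    (hv' : ∀ a ∈ I ^ n', a • v = 0) (hd : (J.cocomplex.d i (i + 1)).hom v = 0) :
    ι I i M n (cls I J i v n hv hd) = ι I i M n' (cls I J i v n' hv' hd) := by
  rw [← ι_comp_π I i M (le_max_left n n'), ← ι_comp_π I i M (le_max_right n n'), cls_π, cls_π]

/-- the class in local cohomology of a torsion cocycle -/
noncomputable def θv (v : J.cocomplex.X i) (hv : v ∈ DRing.torsionSub I (J.cocomplex.X i))
    (hd : (J.cocomplex.d i (i + 1)).hom v = 0) : (localCohomology I i).obj M :=
  ι I i M (Classical.choose hv) (cls I J i v _ (Classical.choose_spec hv) hd)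

lemma θv_eq (v : J.cocomplex.X i) (hv : v ∈ DRing.torsionSub I (J.cocomplex.X i))
    (hd : (J.cocomplex.d i (i + 1)).hom v = 0) (n : ℕ) (hn : ∀ a ∈ I ^ n, a • v = 0) :
    θv I J i v hv hd = ι I i M n (cls I J i v n hn hd) :=
  ι_cls_indep I J i v _ n _ hn hd

lemma θv_congr {v v' : J.cocomplex.X i} (h : v = v')
    (hv : v ∈ DRing.torsionSub I (J.cocomplex.X i))
    (hd : (J.cocomplex.d i (i + 1)).hom v = 0) :
    θv I J i v hv hd = θv I J i v' (h ▸ hv) (h ▸ hd) := by subst h; rfl

lemma θv_add (v w : J.cocomplex.X i) (hv : v ∈ DRing.torsionSub I (J.cocomplex.X i))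
    (hw : w ∈ DRing.torsionSub I (J.cocomplex.X i))
    (hdv : (J.cocomplex.d i (i + 1)).hom v = 0) (hdw : (J.cocomplex.d i (i + 1)).hom w = 0) :
    θv I J i (v + w) ((DRing.torsionSub I _).add_mem hv hw)
      (by rw [map_add, hdv, hdw, add_zero]) = θv I J i v hv hdv + θv I J i w hw hdw := by
  obtain ⟨n, hn⟩ := hv
  obtain ⟨m, hm⟩ := hw
  have hn' : ∀ a ∈ I ^ (max n m), a • v = 0 := fun a ha =>
    hn a (Ideal.pow_le_pow_right (le_max_left n m) ha)
  have hm' : ∀ a ∈ I ^ (max n m), a • w = 0 := fun a ha =>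
    hm a (Ideal.pow_le_pow_right (le_max_right n m) ha)
  rw [θv_eq I J i v _ hdv _ hn', θv_eq I J i w _ hdw _ hm',
    θv_eq I J i (v + w) _ _ (max n m) (fun a ha => by rw [smul_add, hn' a ha, hm' a ha, add_zero])]
  refine (congrArg (ι I i M (max n m)) ?_).trans (map_add _ _ _)
  unfold cls
  rw [InjectiveResolution.add_extMk]
  exact extMk_congrI J (fOf_add I v w _ hn' hm') _ _ _

lemma θv_smul (r : R) (v : J.cocomplex.X i) (hv : v ∈ DRing.torsionSub I (J.cocomplex.X i))
    (hdv : (J.cocomplex.d i (i + 1)).hom v = 0) :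
    θv I J i (r • v) ((DRing.torsionSub I _).smul_mem r hv)
      (by rw [map_smul, hdv, smul_zero]) = r • θv I J i v hv hdv := by
  obtain ⟨n, hn⟩ := hv
  rw [θv_eq I J i v _ hdv _ hn,
    θv_eq I J i (r • v) _ _ n (fun a ha => by rw [smul_comm, hn a ha, smul_zero])]
  refine (congrArg (ι I i M n) ?_).trans (map_smul _ _ _)
  unfold cls
  rw [smul_ext_eq, InjectiveResolution.mk₀_comp_extMk]
  exact (extMk_congrI J (smul_id_comp_fOf I r v n hn) _ _ _).symm

/-- the underlying element of a cycle -/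
noncomputable def cval (z : (gammaCx I J).cycles i) : J.cocomplex.X i :=
  (((gammaCx I J).iCycles i).hom z : DRing.torsionSub I (J.cocomplex.X i)).1

lemma cval_mem (z : (gammaCx I J).cycles i) : cval I J i z ∈ DRing.torsionSub I (J.cocomplex.X i) :=
  (((gammaCx I J).iCycles i).hom z : DRing.torsionSub I (J.cocomplex.X i)).2

lemma cval_d (z : (gammaCx I J).cycles i) : (J.cocomplex.d i (i + 1)).hom (cval I J i z) = 0 := by
  have := d_iCycles (gammaCx I J) i z
  exact congrArg Subtype.val this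

/-- cycles to local cohomology -/
noncomputable def θ₀ : (gammaCx I J).cycles i →ₗ[R] (localCohomology I i).obj M where
  toFun z := θv I J i (cval I J i z) (cval_mem I J i z) (cval_d I J i z)
  map_add' z w := by
    rw [← θv_add]
    exact θv_congr I J i (congrArg Subtype.val (map_add ((gammaCx I J).iCycles i).hom z w)) _ _
  map_smul' r z := by
    rw [RingHom.id_apply, ← θv_smul]
    exact θv_congr I J i (congrArg Subtype.val (map_smul ((gammaCx I J).iCycles i).hom r z)) _ _

lemma θ₀_apply (z : (gammaCx I J).cycles i) :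
    θ₀ I J i z = θv I J i (cval I J i z) (cval_mem I J i z) (cval_d I J i z) := rfl

lemma θ₀_toCycles (k : ℕ) (w : (gammaCx I J).X k) :
    θ₀ I J i (((gammaCx I J).toCycles k i).hom w) = 0 := by
  have hc : cval I J i (((gammaCx I J).toCycles k i).hom w) =
      (J.cocomplex.d k i).hom (w : DRing.torsionSub I (J.cocomplex.X k)).1 :=
    congrArg Subtype.val (iCycles_toCycles (gammaCx I J) k i w)
  obtain ⟨n, hn⟩ := (w : DRing.torsionSub I (J.cocomplex.X k)).2
  have hn' : ∀ a ∈ I ^ n, a • cval I J i (((gammaCx I J).toCycles k i).hom w) = 0 := by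
    intro a ha
    rw [hc, ← map_smul, hn a ha, map_zero]
  rw [θ₀_apply, θv_eq I J i _ _ _ n hn']
  by_cases hki : k + 1 = i
  · subst hki
    have : cls I J (k + 1) _ n hn' (cval_d I J (k + 1) _) = 0 := by
      unfold cls
      rw [InjectiveResolution.extMk_eq_zero_iff _ _ _ _ _ k rfl]
      refine ⟨fOf I (w : DRing.torsionSub I (J.cocomplex.X k)).1 n hn, ?_⟩
      rw [fOf_comp]
      exact (fOf_congr I hc n hn').symm
    rw [this, map_zero]
  · have h0 : J.cocomplex.d k i = 0 := J.cocomplex.shape k i hki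
    have hc0 : cval I J i (((gammaCx I J).toCycles k i).hom w) = 0 := by
      rw [hc, h0]; rfl
    have : cls I J i _ n hn' (cval_d I J i _) = 0 := by
      unfold cls
      rw [extMk_congrI J ((fOf_congr I hc0 n hn').trans (fOf_zero I n)),
        InjectiveResolution.extMk_zero]
    rw [this, map_zero]

/-- homology to local cohomology -/
noncomputable def θHom : (gammaCx I J).homology i ⟶ (localCohomology I i).obj M :=
  ((gammaCx I J).homologyIsCokernel _ i rfl).desc
    (CokernelCofork.ofπ (ModuleCat.ofHom (θ₀ I J i)) (by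
      refine ModuleCat.hom_ext (LinearMap.ext fun w => ?_)
      exact θ₀_toCycles I J i _ w))

lemma θHom_π (z : (gammaCx I J).cycles i) :
    (θHom I J i).hom (((gammaCx I J).homologyπ i).hom z) = θ₀ I J i z := by
  have := ((gammaCx I J).homologyIsCokernel _ i rfl).fac
    (CokernelCofork.ofπ (ModuleCat.ofHom (θ₀ I J i)) (by
      refine ModuleCat.hom_ext (LinearMap.ext fun w => ?_)
      exact θ₀_toCycles I J i _ w)) WalkingParallelPair.one
  exact congrArg (fun m => m.hom z) this

lemma θHom_surjective : Function.Surjective (θHom I J i).hom := by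
  intro y
  obtain ⟨n, x, rfl⟩ := exists_rep I i M y
  obtain ⟨f, hf, rfl⟩ := J.extMk_surjective x (i + 1) rfl
  let v : J.cocomplex.X i := f.hom (1 : R ⧸ I ^ n)
  have hv : ∀ a ∈ I ^ n, a • v = 0 := fun a ha => smul_hom_one_eq_zero I f a ha
  have hdv : (J.cocomplex.d i (i + 1)).hom v = 0 := congrArg (fun m => m.hom (1 : R ⧸ I ^ n)) hf
  let c : (gammaCx I J).X i := (⟨v, ⟨n, hv⟩⟩ : DRing.torsionSub I (J.cocomplex.X i))
  have hc : ((gammaCx I J).d i (i + 1)).hom c = 0 := Subtype.ext hdv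
  obtain ⟨z, hz⟩ := exists_cycle' (gammaCx I J) i c hc
  refine ⟨((gammaCx I J).homologyπ i).hom z, ?_⟩
  have hcv : cval I J i z = v := congrArg Subtype.val hz
  have hn' : ∀ a ∈ I ^ n, a • cval I J i z = 0 := by rw [hcv]; exact hv
  rw [θHom_π, θ₀_apply, θv_eq I J i _ _ _ n hn']
  congr 1
  unfold cls
  exact extMk_congrI J ((fOf_congr I hcv n hn').trans (fOf_hom_one I f)) _ _ _

lemma extMk_zero_eq_zeroI {X : ModuleCat.{u} R} (f : X ⟶ J.cocomplex.X 0)
    (hf : f ≫ J.cocomplex.d 0 1 = 0) (h : J.extMk f 1 rfl hf = 0) : f = 0 := by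
  rw [← J.extEquivCohomologyClass.apply_eq_iff_eq,
    InjectiveResolution.extEquivCohomologyClass_extMk,
    InjectiveResolution.extEquivCohomologyClass_zero,
    CochainComplex.HomComplex.CohomologyClass.mk_eq_zero_iff,
    CochainComplex.HomComplex.Cocycle.fromSingleMk_mem_coboundaries_iff _ _ _ _ _ (-1)
      (by simp)] at h
  obtain ⟨g, hg⟩ := h
  have hz : Limits.IsZero (J.cochainComplex.X (-1)) :=
    CochainComplex.isZero_of_isStrictlyGE J.cochainComplex 0 (-1) (by lia)
  have : g = 0 := hz.eq_of_tgt _ _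
  rw [this, zero_comp] at hg
  exact (cancel_mono (J.cochainComplexXIso 0 0 rfl).inv).1 (hg.symm.trans zero_comp.symm)

lemma θHom_injective : Function.Injective (θHom I J i).hom := by
  rw [← LinearMap.ker_eq_bot, LinearMap.ker_eq_bot']
  intro h hh
  obtain ⟨z, rfl⟩ := homologyπ_surjective (gammaCx I J) i h
  obtain ⟨n, hn⟩ := cval_mem I J i z
  rw [θHom_π, θ₀_apply, θv_eq I J i _ _ _ n hn] at hh
  obtain ⟨m, hnm, hm⟩ := exists_of_ι_eq_zero I i M n _ hh
  rw [cls_π] at hm
  unfold cls at hm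
  rcases i with _ | p
  · have h0 := extMk_zero_eq_zeroI J _ _ hm
    have hc0 : cval I J 0 z = 0 := by
      have := congrArg (fun t => t.hom (1 : R ⧸ I ^ m)) h0
      exact (fOf_one I _ m _).symm.trans this
    have hz : z = 0 := iCycles_injective (gammaCx I J) 0 (by
      rw [map_zero]; exact Subtype.ext hc0)
    rw [hz, map_zero]
  · obtain ⟨g, hg⟩ := (J.extMk_eq_zero_iff _ _ rfl _ p rfl).1 hm
    let w : (gammaCx I J).X p :=
      (⟨g.hom (1 : R ⧸ I ^ m), ⟨m, fun a ha => smul_hom_one_eq_zero I g a ha⟩⟩ :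
        DRing.torsionSub I (J.cocomplex.X p))
    have hz : z = ((gammaCx I J).toCycles p (p + 1)).hom w :=
      iCycles_injective (gammaCx I J) (p + 1) (by
        rw [iCycles_toCycles]
        refine Subtype.ext ?_
        have := congrArg (fun t => t.hom (1 : R ⧸ I ^ m)) hg
        exact (fOf_one I _ m _).symm.trans this.symm)
    rw [hz, homologyπ_toCycles]

/-- **Local cohomology via an injective resolution.** -/
noncomputable def thetaEquiv : (gammaCx I J).homology i ≃ₗ[R] (localCohomology I i).obj M :=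
  LinearEquiv.ofBijective (θHom I J i).hom ⟨θHom_injective I J i, θHom_surjective I J i⟩

lemma thetaEquiv_π (z : (gammaCx I J).cycles i) (n : ℕ) (hn : ∀ a ∈ I ^ n, a • cval I J i z = 0) :
    thetaEquiv I J i (((gammaCx I J).homologyπ i).hom z) =
      ι I i M n (cls I J i (cval I J i z) n hn (cval_d I J i z)) := by
  show (θHom I J i).hom _ = _
  rw [θHom_π, θ₀_apply, θv_eq I J i _ _ _ n hn]

end thmA


section natural

variable {M M' : ModuleCat.{u} R}

/-- the map `Γ_I(J•) → Γ_I(J'•)` induced by a chain map -/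
noncomputable abbrev gammaCxMap {J : InjectiveResolution M} {J' : InjectiveResolution M'}
    (φ : J.cocomplex ⟶ J'.cocomplex) : gammaCx I J ⟶ gammaCx I J' :=
  ((DRing.gammaI I).mapHomologicalComplex (ComplexShape.up ℕ)).map φ

lemma cval_cyclesMap {J : InjectiveResolution M} {J' : InjectiveResolution M'}
    (φ : J.cocomplex ⟶ J'.cocomplex) (i : ℕ) (z : (gammaCx I J).cycles i) :
    cval I J' i ((HomologicalComplex.cyclesMap (gammaCxMap I φ) i).hom z) =
      (φ.f i).hom (cval I J i z) := by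
  have := congrArg (fun m => m.hom z) (HomologicalComplex.cyclesMap_i (gammaCxMap I φ) i)
  exact congrArg Subtype.val this

/-- naturality of `thetaEquiv` -/
theorem thetaEquiv_natural (f : M ⟶ M') (J : InjectiveResolution M) (J' : InjectiveResolution M')
    (φ : J.Hom J' f) (i : ℕ) (h : (gammaCx I J).homology i) :
    thetaEquiv I J' i ((HomologicalComplex.homologyMap (gammaCxMap I φ.hom) i).hom h) =
      ((localCohomology I i).map f).hom (thetaEquiv I J i h) := by
  obtain ⟨z, rfl⟩ := homologyπ_surjective (gammaCx I J) i h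
  obtain ⟨n, hn⟩ := cval_mem I J i z
  have h1 : (HomologicalComplex.homologyMap (gammaCxMap I φ.hom) i).hom
      (((gammaCx I J).homologyπ i).hom z) =
      ((gammaCx I J').homologyπ i).hom
        ((HomologicalComplex.cyclesMap (gammaCxMap I φ.hom) i).hom z) :=
    congrArg (fun m => m.hom z) (HomologicalComplex.homologyπ_naturality (gammaCxMap I φ.hom) i)
  have hc := cval_cyclesMap I φ.hom i z
  have hn' : ∀ a ∈ I ^ n, a • cval I J' i
      ((HomologicalComplex.cyclesMap (gammaCxMap I φ.hom) i).hom z) = 0 := by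
    intro a ha
    rw [hc, ← map_smul, hn a ha, map_zero]
  rw [h1, thetaEquiv_π I J' i _ n hn', thetaEquiv_π I J i z n hn, map_ι]
  congr 1
  unfold cls
  rw [InjectiveResolution.extMk_comp_mk₀ _ _ _ _ φ]
  refine extMk_congrI J' ?_ _ _ _
  rw [fOf_comp]
  exact fOf_congr I hc n hn'

end natural

/-- **The right derived functors of `Γ_I` are local cohomology.** -/
noncomputable def rightDerivedIso (i : ℕ) :
    (DRing.gammaI I).rightDerived i ≅ localCohomology I i :=
  NatIso.ofComponents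
    (fun M => ((injectiveResolution M).isoRightDerivedObj (DRing.gammaI I) i) ≪≫
      (thetaEquiv I (injectiveResolution M) i).toModuleIso)
    (by
      intro M M' f
      let φ : (injectiveResolution M).Hom (injectiveResolution M') f :=
        { hom := InjectiveResolution.desc f _ _
          ι_f_zero_comp_hom_f_zero := by
            rw [InjectiveResolution.desc_commutes_zero]; simp }
      have h1 := InjectiveResolution.isoRightDerivedObj_hom_naturality f
        (injectiveResolution M) (injectiveResolution M') φ.hom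
        (InjectiveResolution.desc_commutes_zero f _ _) (DRing.gammaI I) i
      rw [Iso.trans_hom, Iso.trans_hom, ← Category.assoc, h1, Category.assoc, Category.assoc]
      congr 1
      refine ModuleCat.hom_ext (LinearMap.ext fun h => ?_)
      exact thetaEquiv_natural I f _ _ φ i h)

end Groth.Agent.H58.LC
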