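import Mathlib
import Groth.Prelude.Def_Wider
import Groth.Prelude.Def_DRing3
import Groth.Agent.H58.IH
import Groth.Agent.H58.LCMod

/-!
# Local cohomology of `I`-power torsion modules over a Noetherian ring
-/

open CategoryTheory Abelian
universe u

namespace Groth.Agent.H58.LC

variable {R : Type u} [CommRing R] (I : Ideal R)

section essential

variable [IsNoetherianRing R] {E : Type u} [AddCommGroup E] [Module R E]

/-- an essential extension of an `s`-power torsion module is `s`-power torsion -/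
theorem exists_pow_smul_eq_zero_of_essential (N : Submodule R E)
    (hess : ∀ x : E, x ≠ 0 → ∃ r : R, r • x ∈ N ∧ r • x ≠ 0) (s : R)
    (hN : ∀ y ∈ N, ∃ k : ℕ, s ^ k • y = 0) (x : E) : ∃ n : ℕ, s ^ n • x = 0 := by
  let a : ℕ →o Submodule R R :=
    ⟨fun n => LinearMap.ker (LinearMap.toSpanSingleton R E (s ^ n • x)), by
      intro n m hnm r hr
      obtain ⟨k, rfl⟩ := Nat.exists_eq_add_of_le hnm
      rw [LinearMap.mem_ker, LinearMap.toSpanSingleton_apply] at hr ⊢
      rw [pow_add, mul_comm, mul_smul, smul_comm r, hr, smul_zero]⟩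
  obtain ⟨n, hn⟩ := monotone_stabilizes_iff_noetherian.2 inferInstance a
  refine ⟨n, ?_⟩
  by_contra hne
  obtain ⟨r, hrN, hr0⟩ := hess _ hne
  obtain ⟨k, hk⟩ := hN _ hrN
  have hmem : r ∈ a (n + k) := by
    show r ∈ LinearMap.ker (LinearMap.toSpanSingleton R E (s ^ (n + k) • x))
    rw [LinearMap.mem_ker, LinearMap.toSpanSingleton_apply, pow_add, mul_comm, mul_smul,
      smul_comm r]
    exact hk
  rw [← hn (n + k) (Nat.le_add_right n k)] at hmem
  have : r • s ^ n • x = 0 := by
    have h' : r ∈ LinearMap.ker (LinearMap.toSpanSingleton R E (s ^ n • x)) := hmem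
    rwa [LinearMap.mem_ker, LinearMap.toSpanSingleton_apply] at h'
  exact hr0 this

/-- an essential extension of an `I`-power torsion module is `I`-power torsion -/
theorem isPowerTorsion_of_essential (N : Submodule R E)
    (hess : ∀ x : E, x ≠ 0 → ∃ r : R, r • x ∈ N ∧ r • x ≠ 0)
    (hN : ∀ y ∈ N, ∃ n : ℕ, ∀ a ∈ I ^ n, a • y = 0) : LocCoh.IsPowerTorsion I E := by
  intro x
  let A : Ideal R := LinearMap.ker (LinearMap.toSpanSingleton R E x)
  have hA : ∀ r, r ∈ A ↔ r • x = 0 := fun r => by
    show r ∈ LinearMap.ker (LinearMap.toSpanSingleton R E x) ↔ _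
    rw [LinearMap.mem_ker, LinearMap.toSpanSingleton_apply]
  have hIA : I ≤ A.radical := by
    intro s hs
    obtain ⟨n, hn⟩ := exists_pow_smul_eq_zero_of_essential N hess s (fun y hy => by
      obtain ⟨k, hk⟩ := hN y hy
      exact ⟨k, hk _ (Ideal.pow_mem_pow hs k)⟩) x
    exact ⟨n, (hA _).2 hn⟩
  obtain ⟨k, hk⟩ := Ideal.exists_pow_le_of_le_radical_of_fg hIA (IsNoetherian.noetherian I)
  exact ⟨k, fun a ha => (hA a).1 (hk ha)⟩

/-- a torsion module over a Noetherian ring embeds in a torsion injective module -/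
theorem exists_torsion_injective_embedding (N : Type u) [AddCommGroup N] [Module R N]
    (hN : LocCoh.IsPowerTorsion I N) :
    ∃ (E : Type u) (_ : AddCommGroup E) (_ : Module R E), Module.Injective R E ∧
      LocCoh.IsPowerTorsion I E ∧ ∃ j : N →ₗ[R] E, Function.Injective j := by
  obtain ⟨I₀, _, _, hI₀, i, hi⟩ := Groth.Agent.H58.IH.exists_injective_embedding R N
  obtain ⟨E, hle, hess, hEinj⟩ := Groth.Agent.H58.IH.exists_injective_essential (LinearMap.range i)
  refine ⟨E, inferInstance, inferInstance, hEinj, ?_, ?_⟩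
  · refine isPowerTorsion_of_essential I (Submodule.comap E.subtype (LinearMap.range i)) ?_ ?_
    · intro x hx
      have hx' : (x : I₀) ≠ 0 := fun h => hx (Subtype.ext h)
      obtain ⟨r, hr, hr0⟩ := hess x.1 x.2 hx'
      refine ⟨r, hr, fun h => hr0 ?_⟩
      have := congrArg Subtype.val h
      exact this
    · rintro y ⟨z, hz⟩
      obtain ⟨n, hn⟩ := hN z
      refine ⟨n, fun a ha => Subtype.ext ?_⟩
      show a • (y : I₀) = 0
      have hz' : i z = (y : I₀) := hz
      rw [← hz', ← map_smul, hn a ha, map_zero]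
  · exact ⟨LinearMap.codRestrict E i (fun z => hle ⟨z, rfl⟩), fun a b h =>
      hi (congrArg Subtype.val h)⟩

end essential

section vanishing

variable [IsNoetherianRing R]

/-- higher local cohomology of a torsion module vanishes (Noetherian ring) -/
theorem subsingleton_H_of_isPowerTorsion : ∀ (p : ℕ) (N : Type u) [AddCommGroup N] [Module R N],
    LocCoh.IsPowerTorsion I N → Subsingleton (LocCoh.H I (p + 1) N) := by
  intro p
  induction p with
  | zero =>
    intro N _ _ hN
    obtain ⟨E, _, _, hEinj, hEt, j, hj⟩ := exists_torsion_injective_embedding I N hN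
    let g := (LinearMap.range j).mkQ
    have hC : LocCoh.IsPowerTorsion I (E ⧸ LinearMap.range j) := by
      intro c
      obtain ⟨e, rfl⟩ := Submodule.Quotient.mk_surjective _ c
      obtain ⟨n, hn⟩ := hEt e
      exact ⟨n, fun a ha => by rw [← Submodule.Quotient.mk_smul, hn a ha, Submodule.Quotient.mk_zero]⟩
    obtain ⟨δ, -, h2, h3, -⟩ := les_mod I j g hj (Submodule.mkQ_surjective _)
      (LinearMap.exact_map_mkQ_range j) 0
    haveI : Subsingleton (LocCoh.H I (0 + 1) E) := subsingleton_H_of_injective I 1 Nat.one_pos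
    refine ⟨fun a b => ?_⟩
    have key : ∀ y : LocCoh.H I (0 + 1) N, y = 0 := by
      intro y
      obtain ⟨c, rfl⟩ := (h3 y).1 (Subsingleton.elim _ _)
      -- c ∈ H^0(C) comes from H^0(E)
      obtain ⟨e, he⟩ := Submodule.mkQ_surjective (LinearMap.range j) (H0map I _ c)
      obtain ⟨ε, hε⟩ := (H0equivOfTorsion I hEt).surjective e
      have hε' : H0map I E ε = e := hε
      have hc : Hmap I 0 g ε = c := by
        apply H0map_injective I
        rw [H0map_natural, hε']
        exact he
      exact (h2 c).2 ⟨ε, hc⟩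
    rw [key a, key b]
  | succ q ih =>
    intro N _ _ hN
    obtain ⟨E, _, _, hEinj, hEt, j, hj⟩ := exists_torsion_injective_embedding I N hN
    let g := (LinearMap.range j).mkQ
    have hC : LocCoh.IsPowerTorsion I (E ⧸ LinearMap.range j) := by
      intro c
      obtain ⟨e, rfl⟩ := Submodule.Quotient.mk_surjective _ c
      obtain ⟨n, hn⟩ := hEt e
      exact ⟨n, fun a ha => by rw [← Submodule.Quotient.mk_smul, hn a ha, Submodule.Quotient.mk_zero]⟩
    obtain ⟨δ, -, h2, h3, -⟩ := les_mod I j g hj (Submodule.mkQ_surjective _)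
      (LinearMap.exact_map_mkQ_range j) (q + 1)
    haveI : Subsingleton (LocCoh.H I (q + 1 + 1) E) :=
      subsingleton_H_of_injective I (q + 1 + 1) (Nat.succ_pos _)
    haveI : Subsingleton (LocCoh.H I (q + 1) (E ⧸ LinearMap.range j)) := ih _ hC
    refine ⟨fun a b => ?_⟩
    have key : ∀ y : LocCoh.H I (q + 1 + 1) N, y = 0 := by
      intro y
      obtain ⟨c, rfl⟩ := (h3 y).1 (Subsingleton.elim _ _)
      rw [Subsingleton.elim c 0, map_zero]
    rw [key a, key b]

theorem subsingleton_H_of_isPowerTorsion' (N : Type u) [AddCommGroup N] [Module R N]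
    (hN : LocCoh.IsPowerTorsion I N) (p : ℕ) (hp : 0 < p) : Subsingleton (LocCoh.H I p N) := by
  obtain ⟨j, rfl⟩ := Nat.exists_eq_succ_of_ne_zero (Nat.pos_iff_ne_zero.1 hp)
  exact subsingleton_H_of_isPowerTorsion I j N hN

lemma isPowerTorsion_torsionSub (N : Type u) [AddCommGroup N] [Module R N] :
    LocCoh.IsPowerTorsion I (DRing.torsionSub I N) := by
  rintro ⟨m, n, hn⟩
  exact ⟨n, fun a ha => Subtype.ext (hn a ha)⟩

/-- `H^i(N) → H^i(N/Γ_I N)` is bijective for `i > 0` -/
theorem Hmap_mkQ_torsionSub_bijective (N : Type u) [AddCommGroup N] [Module R N] (i : ℕ)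
    (hi : 0 < i) : Function.Bijective (Hmap I i (DRing.torsionSub I N).mkQ) := by
  obtain ⟨δ, h1, h2, -, -⟩ := les_mod I (DRing.torsionSub I N).subtype (DRing.torsionSub I N).mkQ
    (Submodule.injective_subtype _) (Submodule.mkQ_surjective _)
    (LinearMap.exact_subtype_mkQ _) i
  haveI : Subsingleton (LocCoh.H I i (DRing.torsionSub I N)) :=
    subsingleton_H_of_isPowerTorsion' I _ (isPowerTorsion_torsionSub I N) i hi
  haveI : Subsingleton (LocCoh.H I (i + 1) (DRing.torsionSub I N)) :=
    subsingleton_H_of_isPowerTorsion' I _ (isPowerTorsion_torsionSub I N) (i + 1) (Nat.succ_pos _)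
  constructor
  · rw [← LinearMap.ker_eq_bot, LinearMap.ker_eq_bot']
    intro y hy
    obtain ⟨z, rfl⟩ := (h1 y).1 hy
    rw [Subsingleton.elim z 0, map_zero]
  · intro y
    exact (h2 y).1 (Subsingleton.elim _ _)

end vanishing

end Groth.Agent.H58.LC
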