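import Groth.Agent.H58.DT6

/-!
Change of rings for the ideal transform: surjectivity of the comparison map.
-/

set_option autoImplicit false
universe u
open CategoryTheory CategoryTheory.Limits Opposite

namespace Groth.Agent.H58

open scoped TensorProduct

variable {R : Type u} [CommRing R] {R' : Type u} [CommRing R'] [Algebra R R'] (I : Ideal R)
variable (M' : Type u) [AddCommGroup M'] [Module R' M'] [Module R M'] [IsScalarTower R R' M']

/-- multiplication map `R' ⊗ I^n → (IR')^n` -/
noncomputable def mulMap (n : ℕ) :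
    R' ⊗[R] ↥(I ^ n) →ₗ[R'] ↥((Ideal.map (algebraMap R R') I) ^ n) :=
  (incl I n).liftBaseChange R'

theorem mulMap_tmul (n : ℕ) (r' : R') (a : ↥(I ^ n)) :
    mulMap (R' := R') I n (r' ⊗ₜ a) = r' • incl I n a := rfl

theorem mulMap_surjective (n : ℕ) : Function.Surjective (mulMap (R' := R') I n) := by
  rintro ⟨y, hy⟩
  have hy' : y ∈ Ideal.map (algebraMap R R') (I ^ n) := by rwa [Ideal.map_pow]
  have key : ∀ hy'' : y ∈ (Ideal.map (algebraMap R R') I) ^ n,
      (⟨y, hy''⟩ : ↥((Ideal.map (algebraMap R R') I) ^ n)) ∈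
        LinearMap.range (mulMap (R' := R') I n) := by
    unfold Ideal.map at hy'
    induction hy' using Submodule.span_induction with
    | mem x hx =>
      obtain ⟨r, hr, rfl⟩ := hx
      intro _
      refine ⟨1 ⊗ₜ ⟨r, hr⟩, ?_⟩
      rw [mulMap_tmul, one_smul]
      rfl
    | zero =>
      intro _
      exact zero_mem _
    | add x z hx hz ihx ihz =>
      intro _
      have hx' : x ∈ (Ideal.map (algebraMap R R') I) ^ n := by
        rw [← Ideal.map_pow]; exact hx
      have hz' : z ∈ (Ideal.map (algebraMap R R') I) ^ n := by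
        rw [← Ideal.map_pow]; exact hz
      exact add_mem (ihx hx' hx') (ihz hz' hz')
    | smul c x hx ihx =>
      intro _
      have hx' : x ∈ (Ideal.map (algebraMap R R') I) ^ n := by
        rw [← Ideal.map_pow]; exact hx
      exact Submodule.smul_mem _ c (ihx hx' hx')
  exact key hy

theorem algebraMap_smul_eq (n : ℕ) (r : R) (hr : r ∈ I ^ n) (τ : R' ⊗[R] ↥(I ^ n)) :
    algebraMap R R' r • τ =
      ((mulMap (R' := R') I n τ : ↥((Ideal.map (algebraMap R R') I) ^ n)) : R') •
        ((1 : R') ⊗ₜ[R] (⟨r, hr⟩ : ↥(I ^ n))) := by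
  induction τ using TensorProduct.induction_on with
  | zero => simp
  | tmul r' a =>
    rw [mulMap_tmul, TensorProduct.smul_tmul', TensorProduct.smul_tmul']
    have h1 : ((r' • incl (R' := R') I n a : ↥((Ideal.map (algebraMap R R') I) ^ n)) : R') =
        r' * algebraMap R R' a.1 := rfl
    rw [h1, smul_eq_mul, smul_eq_mul, mul_one]
    have h2 : algebraMap R R' r * r' = r • r' := (Algebra.smul_def r r').symm
    have h3 : r' * algebraMap R R' a.1 = a.1 • r' := by rw [Algebra.smul_def, mul_comm]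
    rw [h2, h3, TensorProduct.smul_tmul, TensorProduct.smul_tmul]
    congr 1
    exact Subtype.ext (mul_comm _ _)
  | add x y hx hy =>
    rw [smul_add, map_add, Submodule.coe_add, add_smul, hx, hy]

theorem smul_eq_zero_of_mem_ker (n : ℕ) (τ : R' ⊗[R] ↥(I ^ n))
    (hτ : τ ∈ LinearMap.ker (mulMap (R' := R') I n)) :
    ∀ b ∈ (Ideal.map (algebraMap R R') I) ^ n, b • τ = 0 := by
  intro b hb
  have hb' : b ∈ Ideal.map (algebraMap R R') (I ^ n) := by rwa [Ideal.map_pow]
  unfold Ideal.map at hb'
  induction hb' using Submodule.span_induction with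
  | mem x hx =>
    obtain ⟨r, hr, rfl⟩ := hx
    rw [algebraMap_smul_eq I n r hr τ, LinearMap.mem_ker.mp hτ]
    simp
  | zero => exact zero_smul _ _
  | add x z _ _ ihx ihz =>
    rw [add_smul, ihx (by rw [← Ideal.map_pow]; assumption),
      ihz (by rw [← Ideal.map_pow]; assumption), add_zero]
  | smul c x _ ihx =>
    rw [smul_assoc, ihx (by rw [← Ideal.map_pow]; assumption), smul_zero]

theorem compare_surjective [IsNoetherianRing R'] :
    Function.Surjective (compare (R' := R') I M') := by
  intro x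
  obtain ⟨n, g, rfl⟩ := exists_rep I M' x
  obtain ⟨s, hs, h, hh⟩ := exists_lift (Ideal.map (algebraMap R R') I) (R' ⊗[R] ↥(I ^ n))
    (mulMap (R' := R') I n) (mulMap_surjective I n)
    (fun τ hτ => ⟨n, smul_eq_zero_of_mem_ker I n τ hτ⟩)
    (LinearMap.id : ↥((Ideal.map (algebraMap R R') I) ^ n) →ₗ[R'] _)
  have hδ : ∀ c ∈ I ^ n, ∀ r : ↥(I ^ s),
      c • (restr I M' s (g.liftBaseChange R' ∘ₗ h) - res I M' hs g) r = 0 := by
    intro c hc r
    have hτker : h (incl I s r) - (1 : R') ⊗ₜ[R] (⟨r.1, Ideal.pow_le_pow_right hs r.2⟩ : ↥(I ^ n)) ∈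
        LinearMap.ker (mulMap (R' := R') I n) := by
      rw [LinearMap.mem_ker, map_sub, mulMap_tmul, one_smul]
      have := LinearMap.congr_fun hh (incl I s r)
      rw [LinearMap.comp_apply] at this
      rw [this, sub_eq_zero]
      rfl
    have h1 : (restr I M' s (g.liftBaseChange R' ∘ₗ h) - res I M' hs g) r =
        g.liftBaseChange R' (h (incl I s r) -
          (1 : R') ⊗ₜ[R] (⟨r.1, Ideal.pow_le_pow_right hs r.2⟩ : ↥(I ^ n))) := by
      rw [map_sub, LinearMap.sub_apply, LinearMap.liftBaseChange_tmul, one_smul]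
      rfl
    rw [h1, ← algebraMap_smul R' c, ← map_smul,
      smul_eq_zero_of_mem_ker I n _ hτker _ (algebraMap_mem_pow I hc), map_zero]
  have h0 := res_eq_zero_of_smul I M' _ hδ
  refine ⟨mk (Ideal.map (algebraMap R R') I) M' s (g.liftBaseChange R' ∘ₗ h), ?_⟩
  rw [compare_mk, ← mk_res I M' (Nat.le_add_right s n) (restr I M' s _), ← mk_res I M' hs g,
    ← mk_res I M' (Nat.le_add_right s n) (res I M' hs g)]
  congr 1
  have h2 : res I M' (Nat.le_add_right s n) (restr I M' s (g.liftBaseChange R' ∘ₗ h)) -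
      res I M' (Nat.le_add_right s n) (res I M' hs g) = 0 := h0
  exact sub_eq_zero.mp h2

end Groth.Agent.H58
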