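import Groth.Agent.H58.DT5

/-!
Comparison maps `D_J ⟶ D_I` for `I ≤ J`, and `η_{D(M)} = D(η_M)`.
-/

set_option autoImplicit false
universe u
open CategoryTheory CategoryTheory.Limits Opposite

namespace Groth.Agent.H58

variable {R : Type u} [CommRing R] {I J : Ideal R}
variable (M : Type u) [AddCommGroup M] [Module R M]

/-- restriction of `J^n → M` to `I^n` for `I ≤ J`. -/
def resLE (h : I ≤ J) (n : ℕ) (f : ↥(J ^ n) →ₗ[R] M) : ↥(I ^ n) →ₗ[R] M :=
  f ∘ₗ Submodule.inclusion (Ideal.pow_right_mono h n)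

@[simp] theorem resLE_apply (h : I ≤ J) (n : ℕ) (f : ↥(J ^ n) →ₗ[R] M) (x : ↥(I ^ n)) :
    resLE M h n f x = f ⟨x.1, Ideal.pow_right_mono h n x.2⟩ := rfl

theorem DTmapOfLE_mk (h : I ≤ J) (n : ℕ) (f : ↥(J ^ n) →ₗ[R] M) :
    ((LocCoh.DTmapOfLE h).app (ModuleCat.of R M)).hom (mk J M n f) = mk I M n (resLE M h n f) := by
  rw [mk_def, mk_def]
  have h1 := ι_colimMap (Functor.whiskerRight (NatTrans.op (Functor.whiskerRight (LocCoh.powLE h)
    LocCoh.idealModFunctor)) (linearCoyoneda R (ModuleCat.{u} R))) (op (op n))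
  have h2 := congrArg (fun φ => (φ.app (ModuleCat.of R M)).hom (ModuleCat.ofHom f)) h1
  exact h2

variable {M} (I)

theorem toDT_DT_eq_map_toDT (x : LocCoh.DT I M) :
    LocCoh.toDT I (LocCoh.DT I M) x =
      ((LocCoh.idealTransform I).map (ModuleCat.ofHom (LocCoh.toDT I M))).hom x := by
  obtain ⟨n, f, rfl⟩ := exists_rep I M x
  rw [map_mk, toDT_eq_mk I _ n]
  congr 1
  refine LinearMap.ext fun r => ?_
  rw [smulMap_apply, LinearMap.comp_apply, smul_mk I f r.1 r.2]

theorem toDT_DT_bijective [IsNoetherianRing R] :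
    Function.Bijective (LocCoh.toDT I (LocCoh.DT I M)) := by
  have h1 : Function.Bijective
      ((LocCoh.idealTransform I).map (ModuleCat.ofHom (LocCoh.toDT I M))).hom := by
    apply map_bijective_of_torsion I
    · rw [ker_toDT]
    · exact coker_toDT_torsion I
  have h2 : ⇑(LocCoh.toDT I (LocCoh.DT I M)) =
      ⇑((LocCoh.idealTransform I).map (ModuleCat.ofHom (LocCoh.toDT I M))).hom :=
    funext (toDT_DT_eq_map_toDT I)
  rw [h2]
  exact h1

end Groth.Agent.H58
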