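import Mathlib
import Groth.Prelude.Def_Wider
import Groth.Prelude.Def_DRing3
import Groth.Prelude.Def_W4bk5brsh16IT
import Groth.Agent.H58.DT7
import Groth.Agent.H58.DT8
import Groth.Agent.H58.LCTors

/-!
# Ideal transforms and first local cohomology: `coker (M → D_I(M)) ≃ H^1_I(M)`
-/

open CategoryTheory Abelian
universe u

namespace Groth.Agent.H58.LC

variable {R : Type u} [CommRing R] (I : Ideal R)

/-- the short complex `0 → I^n → R → R/I^n → 0` -/
noncomputable abbrev Sn (n : ℕ) : ShortComplex (ModuleCat.{u} R) :=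
  ShortComplex.mk (ModuleCat.ofHom (Submodule.subtype (I ^ n)))
    (ModuleCat.ofHom (Submodule.mkQ (I ^ n)) : ModuleCat.of R R ⟶ Q I n)
    (ModuleCat.hom_ext (LinearMap.ext fun x => (Submodule.Quotient.mk_eq_zero _).2 x.2))

lemma Sn_shortExact (n : ℕ) : (Sn I n).ShortExact :=
  { exact := (ShortComplex.ShortExact.moduleCat_exact_iff_function_exact _).2
      (LinearMap.exact_subtype_mkQ (I ^ n))
    mono_f := (ModuleCat.mono_iff_injective _).2 (Submodule.injective_subtype _)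
    epi_g := (ModuleCat.epi_iff_surjective _).2 (Submodule.mkQ_surjective _) }

/-- the inclusion `I^m → I^n` for `n ≤ m` -/
noncomputable def incl {n m : ℕ} (h : n ≤ m) :
    ModuleCat.of R ↥(I ^ m) ⟶ ModuleCat.of R ↥(I ^ n) :=
  ModuleCat.ofHom (Submodule.inclusion (Ideal.pow_le_pow_right h))

/-- the morphism of short complexes for `n ≤ m` -/
noncomputable def SnHom {n m : ℕ} (h : n ≤ m) : Sn I m ⟶ Sn I n where
  τ₁ := incl I h
  τ₂ := 𝟙 _
  τ₃ := π I h
  comm₁₂ := rfl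
  comm₂₃ := rfl

/-- the extension class of `0 → I^n → R → R/I^n → 0` -/
noncomputable def e (n : ℕ) : Ext (Q I n) (ModuleCat.of R ↥(I ^ n)) 1 := (Sn_shortExact I n).extClass

lemma e_naturality {n m : ℕ} (h : n ≤ m) :
    (e I m).comp (Ext.mk₀ (incl I h)) (add_zero 1) = (Ext.mk₀ (π I h)).comp (e I n) (zero_add 1) :=
  ShortComplex.ShortExact.extClass_naturality (Sn_shortExact I m) (Sn_shortExact I n) (SnHom I h)

lemma mk₀_injective {X Y : ModuleCat.{u} R} {f g : X ⟶ Y} (h : Ext.mk₀ f = Ext.mk₀ g) : f = g := by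
  have := congrArg (Ext.linearEquiv₀ (R := R)) h
  rwa [← Ext.linearEquiv₀_symm_apply (R := R), ← Ext.linearEquiv₀_symm_apply (R := R),
    LinearEquiv.apply_symm_apply, LinearEquiv.apply_symm_apply] at this

section connecting

variable (M : ModuleCat.{u} R) (i : ℕ)

/-- the connecting map `Ext^i(I^n, M) → H^{i+1}_I(M)` -/
noncomputable def conn (n : ℕ) : Ext (ModuleCat.of R ↥(I ^ n)) M i →ₗ[R]
    (localCohomology I (i + 1)).obj M :=
  (ι I (i + 1) M n) ∘ₗ (Ext.precompOfLinear (e I n) R M (show 1 + i = i + 1 by omega))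

lemma conn_apply (n : ℕ) (y : Ext (ModuleCat.of R ↥(I ^ n)) M i) :
    conn I M i n y = ι I (i + 1) M n ((e I n).comp y (show 1 + i = i + 1 by omega)) := rfl

lemma conn_incl {n m : ℕ} (h : n ≤ m) (y : Ext (ModuleCat.of R ↥(I ^ n)) M i) :
    conn I M i m ((Ext.mk₀ (incl I h)).comp y (zero_add i)) = conn I M i n y := by
  rw [conn_apply, conn_apply,
    ← Ext.comp_assoc (e I m) (Ext.mk₀ (incl I h)) y (add_zero 1) (zero_add i)
      (show 1 + 0 + i = i + 1 by omega),
    e_naturality,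
    Ext.comp_assoc (Ext.mk₀ (π I h)) (e I n) y (zero_add 1) (show 1 + i = i + 1 by omega)
      (show 0 + 1 + i = i + 1 by omega), ι_comp_π]

/-- every class of `H^{i+1}` comes from `Ext^i(I^n, M)` -/
lemma conn_surjective (y : (localCohomology I (i + 1)).obj M) :
    ∃ n x, conn I M i n x = y := by
  obtain ⟨n, x, rfl⟩ := exists_rep I (i + 1) M y
  have h0 : (Ext.mk₀ (Sn I n).g).comp x (zero_add (i + 1)) = 0 :=
    Ext.eq_zero_of_projective (P := ModuleCat.of R R) _
  obtain ⟨x₁, hx₁⟩ := Ext.contravariant_sequence_exact₃ (Sn_shortExact I n) M x h0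
    (show 1 + i = i + 1 by omega)
  exact ⟨n, x₁, by rw [conn_apply]; exact congrArg _ hx₁⟩

/-- zero criterion for the connecting map -/
lemma exists_of_conn_eq_zero (n : ℕ) (y : Ext (ModuleCat.of R ↥(I ^ n)) M i)
    (hy : conn I M i n y = 0) : ∃ m, ∃ h : n ≤ m, ∃ z : Ext (ModuleCat.of R R) M i,
      (Ext.mk₀ (Sn I m).f).comp z (zero_add i) = (Ext.mk₀ (incl I h)).comp y (zero_add i) := by
  rw [conn_apply] at hy
  obtain ⟨m, h, hm⟩ := exists_of_ι_eq_zero I (i + 1) M n _ hy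
  rw [← Ext.comp_assoc (Ext.mk₀ (π I h)) (e I n) y (zero_add 1) (show 1 + i = i + 1 by omega)
      (show 0 + 1 + i = i + 1 by omega), ← e_naturality,
    Ext.comp_assoc (e I m) (Ext.mk₀ (incl I h)) y (add_zero 1) (zero_add i)
      (show 1 + 0 + i = i + 1 by omega)] at hm
  obtain ⟨z, hz⟩ := Ext.contravariant_sequence_exact₁ (Sn_shortExact I m) M _
    (show 1 + i = i + 1 by omega) hm
  exact ⟨m, h, z, hz⟩

lemma conn_restrict (n : ℕ) (z : Ext (ModuleCat.of R R) M i) :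
    conn I M i n ((Ext.mk₀ (Sn I n).f).comp z (zero_add i)) = 0 := by
  rw [conn_apply]
  have := (Sn_shortExact I n).extClass_comp_assoc z (h := show 1 + i = i + 1 by omega)
  show ι I (i + 1) M n ((Sn_shortExact I n).extClass.comp _ _) = 0
  rw [this, map_zero]

end connecting

section H1

open Groth.Agent.H58

variable (M : Type u) [AddCommGroup M] [Module R M]

/-- the additive maps `Hom(I^n, M) → H^1_I(M)` -/
noncomputable def Φn (n : ℕ) : (↥(I ^ n) →ₗ[R] M) →+ LocCoh.H I 1 M where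
  toFun f := conn I (ModuleCat.of R M) 0 n (Ext.mk₀ (ModuleCat.ofHom f))
  map_zero' := by
    have : (ModuleCat.ofHom (0 : ↥(I ^ n) →ₗ[R] M)) = 0 := rfl
    rw [this, Ext.mk₀_zero, map_zero]
  map_add' f g := by
    have : (ModuleCat.ofHom (f + g)) = ModuleCat.ofHom f + ModuleCat.ofHom g := rfl
    rw [this, Ext.mk₀_add, map_add]

lemma Φn_res {n k : ℕ} (h : n ≤ k) (f : ↥(I ^ n) →ₗ[R] M) :
    Φn I M k (res I M h f) = Φn I M n f := by
  show conn I (ModuleCat.of R M) 0 k (Ext.mk₀ (ModuleCat.ofHom (res I M h f))) =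
    conn I (ModuleCat.of R M) 0 n (Ext.mk₀ (ModuleCat.ofHom f))
  have : ModuleCat.ofHom (res I M h f) = incl I h ≫ ModuleCat.ofHom f := rfl
  rw [this, ← Ext.mk₀_comp_mk₀, conn_incl]

/-- the map `D_I(M) → H^1_I(M)` -/
noncomputable def ΦL : LocCoh.DT I M →ₗ[R] LocCoh.H I 1 M where
  toFun := liftAdd I (Φn I M) (fun n k h f => Φn_res I M h f)
  map_add' := map_add _
  map_smul' r x := by
    obtain ⟨n, f, rfl⟩ := Groth.Agent.H58.exists_rep I M x
    rw [← mk_smul, liftAdd_mk, liftAdd_mk, RingHom.id_apply]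
    show conn I (ModuleCat.of R M) 0 n (Ext.mk₀ (ModuleCat.ofHom (r • f))) =
      r • conn I (ModuleCat.of R M) 0 n (Ext.mk₀ (ModuleCat.ofHom f))
    have : ModuleCat.ofHom (r • f) = r • ModuleCat.ofHom f := rfl
    rw [this, Ext.mk₀_smul, map_smul]

lemma ΦL_mk (n : ℕ) (f : ↥(I ^ n) →ₗ[R] M) :
    ΦL I M (mk I M n f) = conn I (ModuleCat.of R M) 0 n (Ext.mk₀ (ModuleCat.ofHom f)) :=
  liftAdd_mk I (Φn I M) (fun n k h f => Φn_res I M h f) n f

lemma ΦL_surjective : Function.Surjective (ΦL I M) := by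
  intro y
  obtain ⟨n, x, rfl⟩ := conn_surjective I (ModuleCat.of R M) 0 y
  obtain ⟨f, rfl⟩ := exists_mk₀ x
  exact ⟨mk I M n f.hom, ΦL_mk I M n f.hom⟩

lemma ker_ΦL : LinearMap.ker (ΦL I M) = LinearMap.range (LocCoh.toDT I M) := by
  apply le_antisymm
  · intro x hx
    obtain ⟨n, f, rfl⟩ := Groth.Agent.H58.exists_rep I M x
    rw [LinearMap.mem_ker, ΦL_mk] at hx
    obtain ⟨m, h, z, hz⟩ := exists_of_conn_eq_zero I (ModuleCat.of R M) 0 n _ hx
    obtain ⟨g, rfl⟩ := exists_mk₀ z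
    rw [Ext.mk₀_comp_mk₀, Ext.mk₀_comp_mk₀] at hz
    have hz' := mk₀_injective hz
    refine ⟨g.hom (1 : R), ?_⟩
    rw [toDT_eq_mk I M m, ← mk_res I M h f]
    congr 1
    refine LinearMap.ext fun r => ?_
    have h1 := congrArg (fun t => t.hom r) hz'
    have h2 : g.hom (r : R) = res I M h f r := h1
    rw [← h2, smulMap_apply, ← map_smul, smul_eq_mul, mul_one]
  · rintro _ ⟨m₀, rfl⟩
    rw [LinearMap.mem_ker, toDT_eq_mk_zero, ΦL_mk]
    have : ModuleCat.ofHom (smulMap I M 0 m₀) =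
        (Sn I 0).f ≫ ModuleCat.ofHom (LinearMap.toSpanSingleton R M m₀) := rfl
    rw [this, ← Ext.mk₀_comp_mk₀, conn_restrict]

/-- `coker (M → D_I(M)) ≃ H^1_I(M)` -/
noncomputable def cokerToDTEquiv :
    (LocCoh.DT I M ⧸ LinearMap.range (LocCoh.toDT I M)) ≃ₗ[R] LocCoh.H I 1 M :=
  (Submodule.quotEquivOfEq _ _ (ker_ΦL I M).symm).trans
    ((ΦL I M).quotKerEquivOfSurjective (ΦL_surjective I M))

end H1

end Groth.Agent.H58.LC
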