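import Mathlib
import Groth.Prelude.Def_Wider
import Groth.Prelude.Def_DRing3
import Groth.Prelude.Def_DualLC
import Groth.Agent.H58.LCInj
import Groth.Agent.H58.LCTors
import Groth.Agent.S11603

/-!
# The comparison sequence for `a ⊆ a + Rb`

For a Noetherian ring `R`, an ideal `a`, an element `b` and an injective resolution `J•` of `M`
we study `0 → Γ_{a+Rb}(J•) → Γ_a(J•) → C• → 0` and show that `H^i(Γ_a J•) → H^i(C•)` is the
localization at the powers of `b`.  Consequences: image and kernel of the comparison map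
`H^{i+1}_{a+Rb}(M) → H^{i+1}_a(M)`, and vanishing by induction on generators.
-/

open CategoryTheory Limits
universe u

namespace Groth.Agent.H58.LC
open Groth.Agent.H58.LCBridge

variable {R : Type u} [CommRing R]

section compare

variable {I I' : Ideal R} (h : I ≤ I')

/-- `R/I^n → R/I'^n` for `I ≤ I'` -/
noncomputable def qLE (n : ℕ) : Q I n ⟶ Q I' n := (Dual2.quotMapOfLE h).app (Opposite.op n)

lemma qLE_apply (n : ℕ) (r : R) :
    (qLE h n).hom (Ideal.Quotient.mk (I ^ n) r) = Ideal.Quotient.mk (I' ^ n) r := rfl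

lemma qLE_one (n : ℕ) : (qLE h n).hom (1 : R ⧸ I ^ n) = (1 : R ⧸ I' ^ n) := by
  rw [← map_one (Ideal.Quotient.mk (I ^ n)), qLE_apply, map_one]

/-- the comparison map on representatives -/
theorem HmapOfLE_ι (i : ℕ) (M : ModuleCat.{u} R) (n : ℕ) (x : Abelian.Ext (Q I' n) M i) :
    ((Dual2.HmapOfLE h i).app M).hom (ι I' i M n x) =
      ι I i M n ((Abelian.Ext.mk₀ (qLE h n)).comp x (zero_add i)) := by
  obtain ⟨y, rfl⟩ := (bridge (Q I' n) M i).surjective x
  rw [← bridge_map_left (qLE h n) i y, ι_bridge, ι_bridge]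
  have hw := ι_colimMap (Functor.whiskerRight (NatTrans.op (Dual2.quotMapOfLE h))
    (Ext R (ModuleCat.{u} R) i)) (ix n)
  exact congrArg (fun t => (t.app M).hom y) hw

include h in
lemma torsionSub_anti (N : Type u) [AddCommGroup N] [Module R N] :
    DRing.torsionSub I' N ≤ DRing.torsionSub I N := by
  rintro x ⟨n, hn⟩
  exact ⟨n, fun r hr => hn r (Ideal.pow_right_mono h n hr)⟩

variable {M : ModuleCat.{u} R} (J : InjectiveResolution M)

/-- the inclusion `Γ_{I'}(J•) → Γ_I(J•)` -/
noncomputable def inclCx : gammaCx I' J ⟶ gammaCx I J where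
  f k := ModuleCat.ofHom (Submodule.inclusion (torsionSub_anti h (J.cocomplex.X k)))
  comm' := by
    intro k l _
    refine ModuleCat.hom_ext (LinearMap.ext fun x => ?_)
    exact Subtype.ext rfl

lemma cval_inclCx (i : ℕ) (z : (gammaCx I' J).cycles i) :
    cval I J i ((HomologicalComplex.cyclesMap (inclCx h J) i).hom z) = cval I' J i z := by
  have := congrArg (fun m => m.hom z) (HomologicalComplex.cyclesMap_i (inclCx h J) i)
  exact congrArg Subtype.val this

/-- `thetaEquiv` intertwines the inclusion of complexes with the comparison map -/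
theorem thetaEquiv_inclCx (i : ℕ) (x : (gammaCx I' J).homology i) :
    thetaEquiv I J i ((HomologicalComplex.homologyMap (inclCx h J) i).hom x) =
      ((Dual2.HmapOfLE h i).app M).hom (thetaEquiv I' J i x) := by
  obtain ⟨z, rfl⟩ := homologyπ_surjective (gammaCx I' J) i x
  obtain ⟨n, hn⟩ := cval_mem I' J i z
  have h1 : (HomologicalComplex.homologyMap (inclCx h J) i).hom
      (((gammaCx I' J).homologyπ i).hom z) =
      ((gammaCx I J).homologyπ i).hom ((HomologicalComplex.cyclesMap (inclCx h J) i).hom z) :=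
    congrArg (fun m => m.hom z) (HomologicalComplex.homologyπ_naturality (inclCx h J) i)
  have hc := cval_inclCx h J i z
  have hn' : ∀ r ∈ I ^ n, r • cval I J i
      ((HomologicalComplex.cyclesMap (inclCx h J) i).hom z) = 0 := by
    intro r hr
    rw [hc]
    exact hn r (Ideal.pow_right_mono h n hr)
  rw [h1, thetaEquiv_π I J i _ n hn', thetaEquiv_π I' J i z n hn, HmapOfLE_ι]
  congr 1
  unfold cls
  rw [InjectiveResolution.mk₀_comp_extMk]
  refine extMk_congrI J ?_ _ _ _
  refine hom_ext_Q I ?_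
  show (fOf I _ n hn').hom 1 = (fOf I' _ n hn).hom ((qLE h n).hom 1)
  rw [qLE_one, fOf_one, fOf_one]
  exact hc

end compare

section prereq

/-- membership in `Γ_{a + Rb}` -/
lemma mem_torsionSub_sup_span_iff (a : Ideal R) (b : R) (N : Type u) [AddCommGroup N] [Module R N]
    (x : N) :
    x ∈ DRing.torsionSub (a ⊔ Ideal.span {b}) N ↔
      x ∈ DRing.torsionSub a N ∧ ∃ t : ℕ, b ^ t • x = 0 := by
  constructor
  · rintro ⟨n, hn⟩
    refine ⟨⟨n, fun r hr => hn r (Ideal.pow_right_mono le_sup_left n hr)⟩, n, hn _ ?_⟩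
    exact Ideal.pow_mem_pow (Ideal.mem_sup_right (Ideal.mem_span_singleton_self b)) n
  · rintro ⟨⟨m, hm⟩, t, ht⟩
    refine ⟨m + t, fun r hr => ?_⟩
    have hr' : r ∈ a ^ m ⊔ Ideal.span {b} ^ t := Ideal.sup_pow_add_le_pow_sup_pow hr
    obtain ⟨u, hu, v, hv, rfl⟩ := Submodule.mem_sup.1 hr'
    rw [Ideal.span_singleton_pow, Ideal.mem_span_singleton'] at hv
    obtain ⟨w, rfl⟩ := hv
    rw [add_smul, hm u hu, mul_smul, ht, smul_zero, add_zero]

variable [IsNoetherianRing R]

/-- divisibility up to torsion inside an injective module, with control on the annihilator -/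
theorem exists_smul_pow_eq (N : Type u) [AddCommGroup N] [Module R N] [Module.Injective R N]
    (b : R) (x : N) :
    ∃ (y : N) (t : ℕ), (∀ r : R, r • x = 0 → r • y = 0) ∧ b ^ (t + 1) • y = b ^ t • x := by
  let col : ℕ →o Submodule R R :=
    ⟨fun k => LinearMap.ker (LinearMap.toSpanSingleton R N (b ^ k • x)), by
      intro n m hnm r hr
      obtain ⟨k, rfl⟩ := Nat.exists_eq_add_of_le hnm
      rw [LinearMap.mem_ker, LinearMap.toSpanSingleton_apply] at hr ⊢
      rw [pow_add, mul_comm, mul_smul, smul_comm r, hr, smul_zero]⟩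
  have hcol : ∀ k r, r ∈ col k ↔ r • b ^ k • x = 0 := fun k r => by
    show r ∈ LinearMap.ker (LinearMap.toSpanSingleton R N (b ^ k • x)) ↔ _
    rw [LinearMap.mem_ker, LinearMap.toSpanSingleton_apply]
  obtain ⟨t, ht⟩ := monotone_stabilizes_iff_noetherian.2 inferInstance col
  let f : (R ⧸ col (t + 1)) →ₗ[R] (R ⧸ col 0) :=
    Submodule.mapQ (col (t + 1)) (col 0) (LinearMap.lsmul R R (b ^ (t + 1))) (by
      intro r hr
      rw [Submodule.mem_comap, hcol]
      rw [hcol] at hr
      show (b ^ (t + 1) • r) • b ^ 0 • x = 0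
      rw [pow_zero, one_smul, smul_eq_mul, mul_comm, mul_smul]
      exact hr)
  have hf : Function.Injective f := by
    rw [← LinearMap.ker_eq_bot, LinearMap.ker_eq_bot']
    intro q hq
    obtain ⟨r, rfl⟩ := Submodule.Quotient.mk_surjective _ q
    have h1 : f (Submodule.Quotient.mk r) = Submodule.Quotient.mk (b ^ (t + 1) • r) := rfl
    rw [h1, Submodule.Quotient.mk_eq_zero, hcol, pow_zero, one_smul, smul_eq_mul, mul_comm,
      mul_smul] at hq
    rw [Submodule.Quotient.mk_eq_zero, hcol]
    exact hq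
  let g : (R ⧸ col (t + 1)) →ₗ[R] N :=
    Submodule.liftQ (col (t + 1)) (LinearMap.toSpanSingleton R N (b ^ t • x)) (by
      intro r hr
      have hr' : r ∈ col t := by rw [ht (t + 1) (Nat.le_succ t)]; exact hr
      rw [LinearMap.mem_ker, LinearMap.toSpanSingleton_apply]
      exact (hcol t r).1 hr')
  obtain ⟨hh, hhf⟩ := Module.Injective.extension_property R N (R ⧸ col (t + 1)) (R ⧸ col 0) f hf g
  refine ⟨hh (Submodule.Quotient.mk 1), t, fun r hr => ?_, ?_⟩
  · rw [← map_smul, ← Submodule.Quotient.mk_smul, smul_eq_mul, mul_one]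
    have h0 : (Submodule.Quotient.mk r : R ⧸ col 0) = 0 := by
      rw [Submodule.Quotient.mk_eq_zero, hcol, pow_zero, one_smul]; exact hr
    rw [h0, map_zero]
  · rw [← map_smul, ← Submodule.Quotient.mk_smul]
    have h2 : (Submodule.Quotient.mk (b ^ (t + 1) • (1 : R)) : R ⧸ col 0) =
        f (Submodule.Quotient.mk 1) := rfl
    rw [h2]
    have h3 := LinearMap.congr_fun hhf (Submodule.Quotient.mk 1)
    rw [LinearMap.comp_apply] at h3
    rw [h3]
    show (LinearMap.toSpanSingleton R N (b ^ t • x)) 1 = _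
    rw [LinearMap.toSpanSingleton_apply, one_smul]

end prereq

section cx

/-- multiplication by `r` on a complex -/
noncomputable def smulCx (r : R) (K : CochainComplex (ModuleCat.{u} R) ℕ) : K ⟶ K where
  f k := r • 𝟙 (K.X k)
  comm' := by
    intro i j _
    rw [Linear.smul_comp, Linear.comp_smul, Category.id_comp, Category.comp_id]

lemma homologyMap_smulCx (r : R) (K : CochainComplex (ModuleCat.{u} R) ℕ) (i : ℕ) :
    HomologicalComplex.homologyMap (smulCx r K) i = r • 𝟙 _ := by
  have hc : HomologicalComplex.cyclesMap (smulCx r K) i = r • 𝟙 _ := by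
    rw [← cancel_mono (K.iCycles i), HomologicalComplex.cyclesMap_i]
    show K.iCycles i ≫ (r • 𝟙 _) = _
    rw [Linear.comp_smul, Linear.smul_comp, Category.comp_id, Category.id_comp]
  rw [← cancel_epi (K.homologyπ i), HomologicalComplex.homologyπ_naturality, hc,
    Linear.smul_comp, Linear.comp_smul, Category.id_comp, Category.comp_id]

/-- if `r` is bijective on each term then it is bijective on homology -/
lemma smul_bijective_homology (r : R) (K : CochainComplex (ModuleCat.{u} R) ℕ)
    (hK : ∀ k, Function.Bijective (fun y : K.X k => r • y)) (i : ℕ) :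
    Function.Bijective (fun y : K.homology i => r • y) := by
  haveI : ∀ k, IsIso ((smulCx r K).f k) := fun k =>
    (ConcreteCategory.isIso_iff_bijective _).2 (hK k)
  haveI : IsIso (smulCx r K) := HomologicalComplex.Hom.isIso_of_components _
  have h1 : IsIso ((HomologicalComplex.homologyFunctor (ModuleCat.{u} R) (ComplexShape.up ℕ) i).map
      (smulCx r K)) := inferInstance
  have h2 : IsIso (r • 𝟙 (K.homology i)) := by
    rw [← homologyMap_smulCx]; exact h1
  exact (ConcreteCategory.isIso_iff_bijective _).1 h2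

end cx

section bseq

variable [IsNoetherianRing R] (a : Ideal R) (b : R) {M : ModuleCat.{u} R}
  (J : InjectiveResolution M)

/-- the inclusion `Γ_{a + Rb}(J•) → Γ_a(J•)` -/
noncomputable def jCx : gammaCx (a ⊔ Ideal.span {b}) J ⟶ gammaCx a J :=
  inclCx (le_sup_left : a ≤ a ⊔ Ideal.span {b}) J

instance mono_jCx : Mono (jCx a b J) := by
  apply HomologicalComplex.mono_of_mono_f
  intro k
  rw [ModuleCat.mono_iff_injective]
  exact Submodule.inclusion_injective
    (torsionSub_anti (le_sup_left : a ≤ a ⊔ Ideal.span {b}) (J.cocomplex.X k))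

/-- the cokernel complex -/
noncomputable def Cb : CochainComplex (ModuleCat.{u} R) ℕ := cokernel (jCx a b J)

/-- the projection to the cokernel complex -/
noncomputable def pCx : gammaCx a J ⟶ Cb a b J := cokernel.π (jCx a b J)

/-- the short exact sequence of complexes -/
noncomputable def Sb : ShortComplex (CochainComplex (ModuleCat.{u} R) ℕ) :=
  ShortComplex.mk (jCx a b J) (pCx a b J) (cokernel.condition _)

lemma Sb_shortExact : (Sb a b J).ShortExact :=
  { exact := ShortComplex.exact_cokernel (jCx a b J)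
    mono_f := mono_jCx a b J
    epi_g := by
      show Epi (cokernel.π (jCx a b J))
      infer_instance }

/-- `H^i(Γ_{a+Rb} J) → H^i(Γ_a J)` -/
noncomputable def jst (i : ℕ) :
    (gammaCx (a ⊔ Ideal.span {b}) J).homology i →ₗ[R] (gammaCx a J).homology i :=
  (HomologicalComplex.homologyMap (jCx a b J) i).hom

/-- `H^i(Γ_a J) → H^i(C)` -/
noncomputable def gst (i : ℕ) : (gammaCx a J).homology i →ₗ[R] (Cb a b J).homology i :=
  (HomologicalComplex.homologyMap (pCx a b J) i).hom

/-- the connecting map -/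
noncomputable def dst (i : ℕ) :
    (Cb a b J).homology i →ₗ[R] (gammaCx (a ⊔ Ideal.span {b}) J).homology (i + 1) :=
  ((Sb_shortExact a b J).δ i (i + 1) rfl).hom

lemma exact_jst_gst (i : ℕ) : Function.Exact (jst a b J i) (gst a b J i) :=
  (ShortComplex.ShortExact.moduleCat_exact_iff_function_exact _).1
    ((Sb_shortExact a b J).homology_exact₂ i)

lemma exact_gst_dst (i : ℕ) : Function.Exact (gst a b J i) (dst a b J i) :=
  (ShortComplex.ShortExact.moduleCat_exact_iff_function_exact _).1
    ((Sb_shortExact a b J).homology_exact₃ i (i + 1) rfl)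

lemma exact_dst_jst (i : ℕ) : Function.Exact (dst a b J i) (jst a b J (i + 1)) :=
  (ShortComplex.ShortExact.moduleCat_exact_iff_function_exact _).1
    ((Sb_shortExact a b J).homology_exact₁ i (i + 1) rfl)

theorem theta_jst (i : ℕ) (w : (gammaCx (a ⊔ Ideal.span {b}) J).homology i) :
    thetaEquiv a J i (jst a b J i w) =
      ((Dual2.HmapOfLE (le_sup_left : a ≤ a ⊔ Ideal.span {b}) i).app M).hom
        (thetaEquiv (a ⊔ Ideal.span {b}) J i w) :=
  thetaEquiv_inclCx (le_sup_left : a ≤ a ⊔ Ideal.span {b}) J i w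

lemma Sb_eval_shortExact (k : ℕ) :
    ((Sb a b J).map (HomologicalComplex.eval (ModuleCat.{u} R) (ComplexShape.up ℕ) k)).ShortExact :=
  (Sb_shortExact a b J).map_of_exact _

lemma pk_surjective (k : ℕ) : Function.Surjective ((pCx a b J).f k).hom :=
  (Sb_eval_shortExact a b J k).moduleCat_surjective_g

lemma pk_exact (k : ℕ) : Function.Exact ((jCx a b J).f k).hom ((pCx a b J).f k).hom :=
  (ShortComplex.ShortExact.moduleCat_exact_iff_function_exact _).1
    (Sb_eval_shortExact a b J k).exact

lemma pk_eq_zero_iff (k : ℕ) (x : (gammaCx a J).X k) :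
    ((pCx a b J).f k).hom x = 0 ↔
      (x : DRing.torsionSub a (J.cocomplex.X k)).1 ∈
        DRing.torsionSub (a ⊔ Ideal.span {b}) (J.cocomplex.X k) := by
  refine (pk_exact a b J k x).trans ?_
  constructor
  · rintro ⟨w, rfl⟩
    exact (w : DRing.torsionSub (a ⊔ Ideal.span {b}) (J.cocomplex.X k)).2
  · intro hx
    exact ⟨(⟨_, hx⟩ : DRing.torsionSub (a ⊔ Ideal.span {b}) (J.cocomplex.X k)), Subtype.ext rfl⟩

/-- `b` acts bijectively on the terms of the cokernel complex -/
lemma smul_bijective_Ck (k : ℕ) : Function.Bijective (fun y : (Cb a b J).X k => b • y) := by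
  haveI : CategoryTheory.Injective (ModuleCat.of R (J.cocomplex.X k)) := J.injective k
  haveI : Module.Injective R (J.cocomplex.X k) := Module.injective_module_of_injective_object R _
  have key : ∀ y : (Cb a b J).X k, b • y = 0 → y = 0 := by
    intro y hy
    obtain ⟨x, rfl⟩ := pk_surjective a b J k y
    have hb : ((pCx a b J).f k).hom (b • x) = 0 := by rw [map_smul]; exact hy
    rw [pk_eq_zero_iff, mem_torsionSub_sup_span_iff] at hb
    obtain ⟨-, t, ht⟩ := hb
    rw [pk_eq_zero_iff, mem_torsionSub_sup_span_iff]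
    refine ⟨(x : DRing.torsionSub a (J.cocomplex.X k)).2, t + 1, ?_⟩
    rw [pow_succ, mul_smul]
    exact ht
  constructor
  · intro y y' hyy
    have h1 : b • (y - y') = 0 := by rw [smul_sub]; exact sub_eq_zero.2 hyy
    exact sub_eq_zero.1 (key _ h1)
  · intro y
    obtain ⟨x, rfl⟩ := pk_surjective a b J k y
    obtain ⟨y', t, hann, hy'⟩ :=
      exists_smul_pow_eq (J.cocomplex.X k) b (x : DRing.torsionSub a (J.cocomplex.X k)).1
    have hy'mem : y' ∈ DRing.torsionSub a (J.cocomplex.X k) := by
      obtain ⟨n, hn⟩ := (x : DRing.torsionSub a (J.cocomplex.X k)).2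
      exact ⟨n, fun r hr => hann r (hn r hr)⟩
    let yy : (gammaCx a J).X k := (⟨y', hy'mem⟩ : DRing.torsionSub a (J.cocomplex.X k))
    refine ⟨((pCx a b J).f k).hom yy, ?_⟩
    show b • ((pCx a b J).f k).hom yy = ((pCx a b J).f k).hom x
    rw [← map_smul, ← sub_eq_zero, ← map_sub, pk_eq_zero_iff, mem_torsionSub_sup_span_iff]
    refine ⟨(b • yy - x : DRing.torsionSub a (J.cocomplex.X k)).2, t, ?_⟩
    show b ^ t • (b • y' - (x : DRing.torsionSub a (J.cocomplex.X k)).1) = 0
    rw [smul_sub, ← mul_smul, ← pow_succ, hy', sub_self]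

/-- every class in `H^i(Γ_{a+Rb} J)` is killed by a power of `b` -/
lemma exists_pow_smul_eq_zero_HA (i : ℕ) (w : (gammaCx (a ⊔ Ideal.span {b}) J).homology i) :
    ∃ n : ℕ, b ^ n • w = 0 := by
  obtain ⟨n, hn⟩ := isPowerTorsion (a ⊔ Ideal.span {b}) i M (thetaEquiv _ J i w)
  refine ⟨n, ?_⟩
  apply (thetaEquiv (a ⊔ Ideal.span {b}) J i).injective
  rw [map_smul, map_zero]
  exact hn _ (Ideal.pow_mem_pow (Ideal.mem_sup_right (Ideal.mem_span_singleton_self b)) n)

/-- **`H^i(Γ_a J) → H^i(C)` is the localization at the powers of `b`.** -/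
theorem isLocalizedModule_gst (i : ℕ) :
    IsLocalizedModule (Submonoid.powers b) (gst a b J i) := by
  have hbij : Function.Bijective (fun y : (Cb a b J).homology i => b • y) :=
    smul_bijective_homology b (Cb a b J) (smul_bijective_Ck a b J) i
  refine ⟨?_, ?_, ?_⟩
  · rintro ⟨s, hs⟩
    obtain ⟨n, rfl⟩ := (Submonoid.mem_powers_iff s b).1 hs
    have h1 : IsUnit (algebraMap R (Module.End R ((Cb a b J).homology i)) b) := by
      rw [Module.End.isUnit_iff]
      constructor
      · intro y y' hyy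
        rw [Module.algebraMap_end_apply, Module.algebraMap_end_apply] at hyy
        exact hbij.1 hyy
      · intro y
        obtain ⟨y', hy'⟩ := hbij.2 y
        exact ⟨y', by rw [Module.algebraMap_end_apply]; exact hy'⟩
    have h2 := h1.pow n
    rw [← map_pow] at h2
    exact h2
  · intro y
    obtain ⟨n, hn⟩ := exists_pow_smul_eq_zero_HA a b J (i + 1) (dst a b J i y)
    have h0 : dst a b J i (b ^ n • y) = 0 := by rw [map_smul]; exact hn
    obtain ⟨x, hx⟩ := (exact_gst_dst a b J i _).1 h0
    exact ⟨(x, ⟨b ^ n, (Submonoid.mem_powers_iff _ b).2 ⟨n, rfl⟩⟩), hx.symm⟩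
  · intro x₁ x₂ hx
    have h0 : gst a b J i (x₁ - x₂) = 0 := by rw [map_sub, hx, sub_self]
    obtain ⟨w, hw⟩ := (exact_jst_gst a b J i _).1 h0
    obtain ⟨n, hn⟩ := exists_pow_smul_eq_zero_HA a b J i w
    refine ⟨⟨b ^ n, (Submonoid.mem_powers_iff _ b).2 ⟨n, rfl⟩⟩, ?_⟩
    show b ^ n • x₁ = b ^ n • x₂
    rw [← sub_eq_zero, ← smul_sub, ← hw, ← map_smul, hn, map_zero]

/-- the image of `H^i(Γ_{a+Rb} J) → H^i(Γ_a J)` is the `b`-power torsion -/
theorem mem_range_jst_iff (i : ℕ) (x : (gammaCx a J).homology i) :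
    x ∈ LinearMap.range (jst a b J i) ↔ ∃ n : ℕ, b ^ n • x = 0 := by
  haveI := isLocalizedModule_gst a b J i
  have h1 : x ∈ LinearMap.range (jst a b J i) ↔ gst a b J i x = 0 :=
    ⟨fun hx => (exact_jst_gst a b J i x).2 (LinearMap.mem_range.1 hx),
      fun hx => LinearMap.mem_range.2 ((exact_jst_gst a b J i x).1 hx)⟩
  rw [h1, IsLocalizedModule.eq_zero_iff (Submonoid.powers b)]
  constructor
  · rintro ⟨⟨s, hs⟩, hsx⟩
    obtain ⟨n, rfl⟩ := (Submonoid.mem_powers_iff s b).1 hs
    exact ⟨n, hsx⟩
  · rintro ⟨n, hn⟩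
    exact ⟨⟨b ^ n, (Submonoid.mem_powers_iff _ b).2 ⟨n, rfl⟩⟩, hn⟩

end bseq

section abstract

/-- abstract transport: from a localization followed by an exact sequence to `coker ≃ ker` -/
theorem ker_equiv_aux {N Z W V : Type u} [AddCommGroup N] [Module R N] [AddCommGroup Z]
    [Module R Z] [AddCommGroup W] [Module R W] [AddCommGroup V] [Module R V]
    (S : Submonoid R) (g : N →ₗ[R] Z) [IsLocalizedModule S g] (d : Z →ₗ[R] W) (k : W →ₗ[R] V)
    (h1 : Function.Exact g d) (h2 : Function.Exact d k) :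
    Nonempty ((LocalizedModule S N ⧸ LinearMap.range (LocalizedModule.mkLinearMap S N)) ≃ₗ[R]
      LinearMap.ker k) := by
  let e := IsLocalizedModule.iso S g
  have he : ∀ x, e (LocalizedModule.mkLinearMap S N x) = g x := fun x => by
    have h := LinearMap.congr_fun (IsLocalizedModule.iso_symm_comp S g) x
    rw [LinearMap.comp_apply] at h
    rw [← h]
    exact e.apply_symm_apply _
  have hmap : (LinearMap.range (LocalizedModule.mkLinearMap S N)).map
      (e : LocalizedModule S N →ₗ[R] Z) = LinearMap.range g := by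
    rw [← LinearMap.range_comp]
    congr 1
    exact LinearMap.ext he
  have hk1 : LinearMap.range g = LinearMap.ker d := (LinearMap.exact_iff.1 h1).symm
  have hk2 : LinearMap.range d = LinearMap.ker k := (LinearMap.exact_iff.1 h2).symm
  exact ⟨((Submodule.Quotient.equiv _ _ e hmap).trans (Submodule.quotEquivOfEq _ _ hk1)).trans
    (d.quotKerEquivRange.trans (LinearEquiv.ofEq _ _ hk2))⟩

end abstract

section main

variable [IsNoetherianRing R] (a : Ideal R) (b : R)

/-- **The image of `H^i_{a+Rb}(M) → H^i_a(M)` is the `b`-power torsion.** -/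
theorem mem_range_HmapOfLE_iff (M : ModuleCat.{u} R) (i : ℕ) (x : (localCohomology a i).obj M) :
    x ∈ LinearMap.range
        ((Dual2.HmapOfLE (le_sup_left : a ≤ a ⊔ Ideal.span {b}) i).app M).hom ↔
      ∃ n : ℕ, b ^ n • x = 0 := by
  let J := injectiveResolution M
  constructor
  · intro hx
    obtain ⟨y, rfl⟩ := LinearMap.mem_range.1 hx
    obtain ⟨w, rfl⟩ := (thetaEquiv (a ⊔ Ideal.span {b}) J i).surjective y
    rw [← theta_jst a b J i w]
    obtain ⟨n, hn⟩ := (mem_range_jst_iff a b J i _).1 (LinearMap.mem_range.2 ⟨w, rfl⟩)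
    exact ⟨n, by rw [← map_smul, hn, map_zero]⟩
  · rintro ⟨n, hn⟩
    have h1 : b ^ n • (thetaEquiv a J i).symm x = 0 := by rw [← map_smul, hn, map_zero]
    obtain ⟨w, hw⟩ := LinearMap.mem_range.1 ((mem_range_jst_iff a b J i _).2 ⟨n, h1⟩)
    refine LinearMap.mem_range.2 ⟨thetaEquiv (a ⊔ Ideal.span {b}) J i w, ?_⟩
    rw [← theta_jst a b J i w, hw]
    exact LinearEquiv.apply_symm_apply _ _

/-- **The kernel of `H^{i+1}_{a+Rb}(M) → H^{i+1}_a(M)` is the cokernel of the localization map
of `H^i_a(M)`.** -/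
theorem ker_HmapOfLE_equiv (M : ModuleCat.{u} R) (i : ℕ) :
    Nonempty ((LocalizedModule (Submonoid.powers b) ((localCohomology a i).obj M) ⧸
        LinearMap.range (LocalizedModule.mkLinearMap (Submonoid.powers b)
          ((localCohomology a i).obj M))) ≃ₗ[R]
      LinearMap.ker
        ((Dual2.HmapOfLE (le_sup_left : a ≤ a ⊔ Ideal.span {b}) (i + 1)).app M).hom) := by
  let J := injectiveResolution M
  let θa := thetaEquiv a J i
  let θc := thetaEquiv (a ⊔ Ideal.span {b}) J (i + 1)
  let θa' := thetaEquiv a J (i + 1)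
  haveI := isLocalizedModule_gst a b J i
  let g' : (localCohomology a i).obj M →ₗ[R] (Cb a b J).homology i :=
    (gst a b J i) ∘ₗ (θa.symm : (localCohomology a i).obj M →ₗ[R] (gammaCx a J).homology i)
  haveI : IsLocalizedModule (Submonoid.powers b) g' :=
    IsLocalizedModule.of_linearEquiv_right (Submonoid.powers b) (gst a b J i) θa.symm
  have h1 : Function.Exact g' (dst a b J i) := by
    intro z
    refine (exact_gst_dst a b J i z).trans ?_
    constructor
    · rintro ⟨x, rfl⟩
      refine ⟨θa x, ?_⟩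
      show gst a b J i (θa.symm (θa x)) = _
      rw [LinearEquiv.symm_apply_apply]
    · rintro ⟨x, rfl⟩
      exact ⟨θa.symm x, rfl⟩
  obtain ⟨e⟩ := ker_equiv_aux (Submonoid.powers b) g' (dst a b J i) (jst a b J (i + 1)) h1
    (exact_dst_jst a b J i)
  have hmap : (LinearMap.ker (jst a b J (i + 1))).map
      (θc : (gammaCx (a ⊔ Ideal.span {b}) J).homology (i + 1) →ₗ[R] _) =
      LinearMap.ker
        ((Dual2.HmapOfLE (le_sup_left : a ≤ a ⊔ Ideal.span {b}) (i + 1)).app M).hom := by
    ext y
    constructor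
    · rintro ⟨w, hw, rfl⟩
      rw [LinearMap.mem_ker]
      show ((Dual2.HmapOfLE (le_sup_left : a ≤ a ⊔ Ideal.span {b}) (i + 1)).app M).hom (θc w) = 0
      rw [← theta_jst a b J (i + 1) w, LinearMap.mem_ker.1 hw, map_zero]
    · intro hy
      refine ⟨θc.symm y, ?_, θc.apply_symm_apply y⟩
      rw [SetLike.mem_coe, LinearMap.mem_ker]
      apply θa'.injective
      rw [map_zero]
      show thetaEquiv a J (i + 1) (jst a b J (i + 1) (θc.symm y)) = 0
      rw [theta_jst a b J (i + 1)]
      show ((Dual2.HmapOfLE (le_sup_left : a ≤ a ⊔ Ideal.span {b}) (i + 1)).app M).hom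
        (θc (θc.symm y)) = 0
      rw [LinearEquiv.apply_symm_apply]
      exact LinearMap.mem_ker.1 hy
  exact ⟨e.trans (LinearEquiv.ofSubmodules θc _ _ hmap)⟩

variable (M : Type u) [AddCommGroup M] [Module R M]

/-- the inductive step for vanishing -/
theorem subsingleton_H_sup_span (i : ℕ)
    (h1 : Subsingleton (LocCoh.H (Ideal.span {b}) 1 (LocCoh.H a i M)))
    (h2 : Subsingleton (LocCoh.H a (i + 1) M)) :
    Subsingleton (LocCoh.H (a ⊔ Ideal.span {b}) (i + 1) M) := by
  obtain ⟨e1⟩ := ker_HmapOfLE_equiv a b (ModuleCat.of R M) i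
  obtain ⟨e2⟩ := Groth.Agent.S11603.result R b (LocCoh.H a i M)
  let e := e1.symm.trans e2
  refine ⟨fun x y => ?_⟩
  have hk : x - y ∈ LinearMap.ker ((Dual2.HmapOfLE (le_sup_left : a ≤ a ⊔ Ideal.span {b})
      (i + 1)).app (ModuleCat.of R M)).hom := by
    rw [LinearMap.mem_ker]
    exact Subsingleton.elim _ _
  have h3 := e.injective (Subsingleton.elim (e ⟨x - y, hk⟩) (e 0))
  have h4 : x - y = 0 := congrArg Subtype.val h3
  exact sub_eq_zero.1 h4

theorem subsingleton_H_bot (i : ℕ) (hi : 0 < i) : Subsingleton (LocCoh.H (⊥ : Ideal R) i M) :=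
  subsingleton_H_of_isPowerTorsion' ⊥ M (fun m => ⟨1, fun r hr => by
    rw [pow_one, Ideal.mem_bot] at hr
    rw [hr, zero_smul]⟩) i hi

omit [IsNoetherianRing R] in
lemma span_insert_eq [DecidableEq R] (b : R) (s : Finset R) :
    Ideal.span ((insert b s : Finset R) : Set R) = Ideal.span (s : Set R) ⊔ Ideal.span {b} := by
  rw [Finset.coe_insert, Ideal.span_insert, sup_comm]

/-- divisibility up to torsion with control on the annihilator -/
def IsDivTors (R : Type u) [CommRing R] (E : Type u) [AddCommGroup E] [Module R E] : Prop :=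
  ∀ (x : E) (β : R), ∃ (y : E) (t : ℕ), (∀ r : R, r • x = 0 → r • y = 0) ∧
    β ^ (t + 1) • y = β ^ t • x

theorem isDivTors_of_injective (N : Type u) [AddCommGroup N] [Module R N] [Module.Injective R N] :
    IsDivTors R N := fun x β => exists_smul_pow_eq N β x

omit [IsNoetherianRing R] in
theorem mkLinearMap_surjective_torsionSub (hE : IsDivTors R M) :
    Function.Surjective
      (LocalizedModule.mkLinearMap (Submonoid.powers b) (DRing.torsionSub a M)) := by
  intro z
  induction z using LocalizedModule.induction_on with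
  | h x s =>
    obtain ⟨s, hs⟩ := s
    obtain ⟨n, rfl⟩ := (Submonoid.mem_powers_iff s b).1 hs
    obtain ⟨y, t, hann, hy⟩ := hE x.1 (b ^ n)
    have hymem : y ∈ DRing.torsionSub a M := by
      obtain ⟨m, hm⟩ := x.2
      exact ⟨m, fun r hr => hann r (hm r hr)⟩
    refine ⟨⟨y, hymem⟩, ?_⟩
    rw [LocalizedModule.mkLinearMap_apply, LocalizedModule.mk_eq]
    refine ⟨⟨(b ^ n) ^ t, (Submonoid.mem_powers_iff _ b).2 ⟨n * t, pow_mul b n t⟩⟩, ?_⟩
    rw [Subtype.ext_iff]
    simp only [Submonoid.smul_def, Submodule.coe_smul, Submonoid.coe_one, one_smul]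
    rw [← mul_smul, ← pow_succ, hy]

theorem subsingleton_H1_of_mkLinearMap_surjective
    (hs : Function.Surjective (LocalizedModule.mkLinearMap (Submonoid.powers b) M)) :
    Subsingleton (LocCoh.H (Ideal.span {b}) 1 M) := by
  obtain ⟨e⟩ := Groth.Agent.S11603.result R b M
  haveI : Subsingleton (LocalizedModule (Submonoid.powers b) M ⧸
      LinearMap.range (LocalizedModule.mkLinearMap (Submonoid.powers b) M)) :=
    Submodule.Quotient.subsingleton_iff.2 (LinearMap.range_eq_top.2 hs)
  exact e.symm.injective.subsingleton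

theorem subsingleton_H1_H0_of_isDivTors (hE : IsDivTors R M) :
    Subsingleton (LocCoh.H (Ideal.span {b}) 1 (LocCoh.H a 0 M)) := by
  haveI := subsingleton_H1_of_mkLinearMap_surjective b _
    (mkLinearMap_surjective_torsionSub a b M hE)
  exact (Hcongr (Ideal.span {b}) 1 (H0equiv a M)).injective.subsingleton

theorem subsingleton_H_span_of_isDivTors (hE : IsDivTors R M) (s : Finset R) :
    ∀ i, 0 < i → Subsingleton (LocCoh.H (Ideal.span (s : Set R)) i M) := by
  classical
  induction s using Finset.induction_on with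
  | empty =>
    intro i hi
    rw [Finset.coe_empty, Ideal.span_empty]
    exact subsingleton_H_bot M i hi
  | insert b s hb ih =>
    intro i hi
    obtain ⟨i', rfl⟩ : ∃ i', i = i' + 1 := ⟨i - 1, by omega⟩
    rw [span_insert_eq]
    refine subsingleton_H_sup_span _ b M i' ?_ (ih (i' + 1) (Nat.succ_pos _))
    rcases Nat.eq_zero_or_pos i' with h0 | hpos
    · subst h0
      exact subsingleton_H1_H0_of_isDivTors _ b M hE
    · haveI := ih i' hpos
      exact subsingleton_H_of_subsingleton _ 1

/-- **Modules divisible up to torsion (e.g. injective modules over a Noetherian overring) are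
`Γ_I`-acyclic.** -/
theorem subsingleton_H_of_isDivTors (hE : IsDivTors R M) (I : Ideal R) (i : ℕ) (hi : 0 < i) :
    Subsingleton (LocCoh.H I i M) := by
  obtain ⟨s, rfl⟩ := IsNoetherian.noetherian I
  exact subsingleton_H_span_of_isDivTors M hE s i hi

end main

end Groth.Agent.H58.LC
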