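import Mathlib
import Groth.Prelude.Def_Wider
import Groth.Prelude.Def_DRing3
import Groth.Agent.H58.LCMod
import Groth.Agent.H58.IH
import Groth.Agent.S11611

/-!
# Independence of the base ring for local cohomology

For a homomorphism `R → R'` of Noetherian rings, an ideal `I` of `R` and an `R'`-module `M'`,
`H^i_{IR'}(M') ≃ H^i_I(M')` (additive, compatible with the `R`-actions).
-/

open CategoryTheory
universe u

namespace Groth.Agent.H58.LC

section generic

variable {S : Type u} [CommRing S]

lemma H0map_H0equiv_symm (J : Ideal S) (Y : Type u) [AddCommGroup Y] [Module S Y]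
    (t : DRing.torsionSub J Y) : H0map J Y ((H0equiv J Y).symm t) = t.1 := by
  rw [← H0equiv_coe, LinearEquiv.apply_symm_apply]

end generic

variable (R R' : Type u) [CommRing R] [CommRing R'] [Algebra R R']

section transfer

/-- transfer of a semilinear additive equivalence along surjections with corresponding kernels -/
theorem semi_transfer {A' B' A B : Type u} [AddCommGroup A'] [Module R' A'] [AddCommGroup B']
    [Module R' B'] [AddCommGroup A] [Module R A] [AddCommGroup B] [Module R B]
    (δ' : A' →ₗ[R'] B') (δ : A →ₗ[R] B) (hδ' : Function.Surjective δ')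
    (hδ : Function.Surjective δ)
    (φ : A' ≃+ A) (hφ : ∀ (r : R) (x : A'), φ (algebraMap R R' r • x) = r • φ x)
    (hker : ∀ x : A', δ' x = 0 ↔ δ (φ x) = 0) :
    ∃ ψ : B' ≃+ B, ∀ (r : R) (y : B'), ψ (algebraMap R R' r • y) = r • ψ y := by
  have key1 : ∀ x₁ x₂ : A', δ' x₁ = δ' x₂ → δ (φ x₁) = δ (φ x₂) := by
    intro x₁ x₂ h
    have h0 : δ' (x₁ - x₂) = 0 := by rw [map_sub, h, sub_self]
    have h1 := (hker _).1 h0
    rw [map_sub, map_sub, sub_eq_zero] at h1
    exact h1
  have key2 : ∀ z₁ z₂ : A, δ z₁ = δ z₂ → δ' (φ.symm z₁) = δ' (φ.symm z₂) := by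
    intro z₁ z₂ h
    have h0 : δ (φ (φ.symm z₁ - φ.symm z₂)) = 0 := by
      rw [map_sub, AddEquiv.apply_symm_apply, AddEquiv.apply_symm_apply, map_sub, h, sub_self]
    have h1 := (hker _).2 h0
    rw [map_sub, sub_eq_zero] at h1
    exact h1
  let f : B' → B := fun y => δ (φ (Classical.choose (hδ' y)))
  let g : B → B' := fun z => δ' (φ.symm (Classical.choose (hδ z)))
  have hf : ∀ x, f (δ' x) = δ (φ x) := fun x => key1 _ _ (Classical.choose_spec (hδ' (δ' x)))
  have hg : ∀ z, g (δ z) = δ' (φ.symm z) := fun z => key2 _ _ (Classical.choose_spec (hδ (δ z)))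
  refine ⟨{ toFun := f, invFun := g, left_inv := ?_, right_inv := ?_, map_add' := ?_ }, ?_⟩
  · intro y
    obtain ⟨x, rfl⟩ := hδ' y
    show g (f (δ' x)) = δ' x
    rw [hf, hg, AddEquiv.symm_apply_apply]
  · intro z
    obtain ⟨w, rfl⟩ := hδ z
    show f (g (δ w)) = δ w
    rw [hg, hf, AddEquiv.apply_symm_apply]
  · intro y₁ y₂
    obtain ⟨x₁, rfl⟩ := hδ' y₁
    obtain ⟨x₂, rfl⟩ := hδ' y₂
    show f (δ' x₁ + δ' x₂) = f (δ' x₁) + f (δ' x₂)
    rw [← map_add, hf, hf, hf, map_add, map_add]
  · intro r y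
    obtain ⟨x, rfl⟩ := hδ' y
    show f (algebraMap R R' r • δ' x) = r • f (δ' x)
    rw [← map_smul, hf, hf, hφ, map_smul]

end transfer

section phi0

variable (I : Ideal R) (X : Type u) [AddCommGroup X] [Module R' X] [Module R X]
  [IsScalarTower R R' X]

lemma mem_torsionSub_map_iff (x : X) :
    x ∈ DRing.torsionSub (I.map (algebraMap R R')) X ↔ x ∈ DRing.torsionSub I X := by
  constructor
  · rintro ⟨n, hn⟩
    refine ⟨n, fun r hr => ?_⟩
    rw [← algebraMap_smul R' r x]
    refine hn _ ?_
    rw [← Ideal.map_pow]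
    exact Ideal.mem_map_of_mem _ hr
  · rintro ⟨n, hn⟩
    refine ⟨n, ?_⟩
    rw [← Ideal.map_pow]
    have hle : (I ^ n).map (algebraMap R R') ≤
        LinearMap.ker (LinearMap.toSpanSingleton R' X x) := by
      rw [Ideal.map_le_iff_le_comap]
      intro r hr
      rw [Ideal.mem_comap, LinearMap.mem_ker, LinearMap.toSpanSingleton_apply, algebraMap_smul]
      exact hn r hr
    intro r' hr'
    have := hle hr'
    rwa [LinearMap.mem_ker, LinearMap.toSpanSingleton_apply] at this

lemma H0map_mem (x : LocCoh.H (I.map (algebraMap R R')) 0 X) :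
    H0map (I.map (algebraMap R R')) X x ∈ DRing.torsionSub I X := by
  rw [← mem_torsionSub_map_iff R R' I X, ← range_H0map]
  exact ⟨x, rfl⟩

lemma H0map_mem' (y : LocCoh.H I 0 X) :
    H0map I X y ∈ DRing.torsionSub (I.map (algebraMap R R')) X := by
  rw [mem_torsionSub_map_iff R R' I X, ← range_H0map]
  exact ⟨y, rfl⟩

/-- the comparison in degree `0` -/
noncomputable def phi0 (x : LocCoh.H (I.map (algebraMap R R')) 0 X) : LocCoh.H I 0 X :=
  (H0equiv I X).symm ⟨_, H0map_mem R R' I X x⟩

/-- its inverse -/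
noncomputable def phi0inv (y : LocCoh.H I 0 X) : LocCoh.H (I.map (algebraMap R R')) 0 X :=
  (H0equiv (I.map (algebraMap R R')) X).symm ⟨_, H0map_mem' R R' I X y⟩

lemma H0map_phi0 (x : LocCoh.H (I.map (algebraMap R R')) 0 X) :
    H0map I X (phi0 R R' I X x) = H0map (I.map (algebraMap R R')) X x :=
  H0map_H0equiv_symm I X _

lemma H0map_phi0inv (y : LocCoh.H I 0 X) :
    H0map (I.map (algebraMap R R')) X (phi0inv R R' I X y) = H0map I X y :=
  H0map_H0equiv_symm _ X _

/-- the comparison in degree `0` as an additive equivalence -/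
noncomputable def phi0Equiv : LocCoh.H (I.map (algebraMap R R')) 0 X ≃+ LocCoh.H I 0 X where
  toFun := phi0 R R' I X
  invFun := phi0inv R R' I X
  left_inv x := H0map_injective _ X (by rw [H0map_phi0inv, H0map_phi0])
  right_inv y := H0map_injective I X (by rw [H0map_phi0, H0map_phi0inv])
  map_add' x y := H0map_injective I X (by
    rw [H0map_phi0, map_add, map_add, H0map_phi0, H0map_phi0])

lemma phi0_semilinear (r : R) (x : LocCoh.H (I.map (algebraMap R R')) 0 X) :
    phi0 R R' I X (algebraMap R R' r • x) = r • phi0 R R' I X x :=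
  H0map_injective I X (by
    rw [H0map_phi0, map_smul, map_smul, H0map_phi0]
    exact algebraMap_smul R' r _)

variable {X}

lemma phi0_natural {Y : Type u} [AddCommGroup Y] [Module R' Y] [Module R Y] [IsScalarTower R R' Y]
    (g : X →ₗ[R'] Y) (x : LocCoh.H (I.map (algebraMap R R')) 0 X) :
    phi0 R R' I Y (Hmap (I.map (algebraMap R R')) 0 g x) =
      Hmap I 0 (g.restrictScalars R) (phi0 R R' I X x) :=
  H0map_injective I Y (by
    rw [H0map_phi0, H0map_natural, H0map_natural, H0map_phi0]
    rfl)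

end phi0

section main

variable [IsNoetherianRing R] [IsNoetherianRing R'] (I : Ideal R)

theorem semiEq_succ (i : ℕ) (M' : Type u) [AddCommGroup M'] [Module R' M'] [Module R M']
    [IsScalarTower R R' M']
    (hQ : ∀ (Q : Type u) [AddCommGroup Q] [Module R' Q] [Module R Q] [IsScalarTower R R' Q],
      0 < i → ∃ φ : LocCoh.H (I.map (algebraMap R R')) i Q ≃+ LocCoh.H I i Q,
        ∀ (r : R) (x : LocCoh.H (I.map (algebraMap R R')) i Q),
          φ (algebraMap R R' r • x) = r • φ x) :
    ∃ φ : LocCoh.H (I.map (algebraMap R R')) (i + 1) M' ≃+ LocCoh.H I (i + 1) M',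
      ∀ (r : R) (x : LocCoh.H (I.map (algebraMap R R')) (i + 1) M'),
        φ (algebraMap R R' r • x) = r • φ x := by
  obtain ⟨E, _, _, hEinj, j, hj⟩ := Groth.Agent.H58.IH.exists_injective_embedding R' M'
  letI : Module R E := Module.compHom E (algebraMap R R')
  haveI : IsScalarTower R R' E := IsScalarTower.of_algebraMap_smul fun r x => rfl
  haveI := hEinj
  obtain ⟨δ', -, e2', e3', -⟩ := les_mod (I.map (algebraMap R R')) j (LinearMap.range j).mkQ hj
    (Submodule.mkQ_surjective _) (LinearMap.exact_map_mkQ_range j) i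
  obtain ⟨δ, -, e2, e3, -⟩ := les_mod I (j.restrictScalars R)
    ((LinearMap.range j).mkQ.restrictScalars R) hj
    (Submodule.mkQ_surjective _) (LinearMap.exact_map_mkQ_range j) i
  haveI : Subsingleton (LocCoh.H (I.map (algebraMap R R')) (i + 1) E) :=
    subsingleton_H_of_injective _ (i + 1) (Nat.succ_pos i)
  haveI : Subsingleton (LocCoh.H I (i + 1) E) :=
    Groth.Agent.S11611.result R R' I E (i + 1) (Nat.succ_pos i)
  have hδ' : Function.Surjective δ' := fun y => (e3' y).1 (Subsingleton.elim _ _)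
  have hδ : Function.Surjective δ := fun y => (e3 y).1 (Subsingleton.elim _ _)
  rcases Nat.eq_zero_or_pos i with h0 | hpos
  · subst h0
    refine semi_transfer R R' δ' δ hδ' hδ (phi0Equiv R R' I (E ⧸ LinearMap.range j))
      (phi0_semilinear R R' I _) ?_
    intro x
    refine (e2' x).trans (Iff.trans ?_ (e2 _).symm)
    constructor
    · rintro ⟨e, rfl⟩
      exact ⟨phi0 R R' I E e, (phi0_natural R R' I (LinearMap.range j).mkQ e).symm⟩
    · rintro ⟨e₁, he₁⟩
      obtain ⟨e, rfl⟩ := (phi0Equiv R R' I E).surjective e₁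
      refine ⟨e, (phi0Equiv R R' I (E ⧸ LinearMap.range j)).injective ?_⟩
      exact (phi0_natural R R' I (LinearMap.range j).mkQ e).trans he₁
  · obtain ⟨φQ, hφQ⟩ := hQ (E ⧸ LinearMap.range j) hpos
    haveI : Subsingleton (LocCoh.H (I.map (algebraMap R R')) i E) :=
      subsingleton_H_of_injective _ i hpos
    haveI : Subsingleton (LocCoh.H I i E) := Groth.Agent.S11611.result R R' I E i hpos
    refine semi_transfer R R' δ' δ hδ' hδ φQ hφQ ?_
    intro x
    have h1 : δ' x = 0 ↔ x = 0 :=
      ⟨fun h => by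
        obtain ⟨e, rfl⟩ := (e2' x).1 h
        rw [Subsingleton.elim e 0, map_zero], fun h => by rw [h, map_zero]⟩
    have h2 : δ (φQ x) = 0 ↔ φQ x = 0 :=
      ⟨fun h => by
        obtain ⟨e, he⟩ := (e2 _).1 h
        rw [← he, Subsingleton.elim e 0, map_zero], fun h => by rw [h, map_zero]⟩
    rw [h1, h2]
    exact ⟨fun h => by rw [h, map_zero], fun h => φQ.injective (h.trans (map_zero φQ).symm)⟩

/-- **Independence of the base.** -/
theorem semiEq_H : ∀ (i : ℕ) (M' : Type u) [AddCommGroup M'] [Module R' M'] [Module R M']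
    [IsScalarTower R R' M'],
    ∃ φ : LocCoh.H (I.map (algebraMap R R')) i M' ≃+ LocCoh.H I i M',
      ∀ (r : R) (x : LocCoh.H (I.map (algebraMap R R')) i M'),
        φ (algebraMap R R' r • x) = r • φ x := by
  intro i
  induction i with
  | zero =>
    intro M' _ _ _ _
    exact ⟨phi0Equiv R R' I M', phi0_semilinear R R' I M'⟩
  | succ i ih =>
    intro M' _ _ _ _
    exact semiEq_succ R R' I i M' (fun Q _ _ _ _ _ => ih Q)

end main

end Groth.Agent.H58.LC
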