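import Mathlib
import Groth.Prelude.Def_Wider
import Groth.Prelude.Def_DRing3
import Groth.Prelude.Def_DualLC
import Groth.Agent.H58.LCBSeq

/-!
# Local cohomology and localization at an element

For a Noetherian ring `R`, an ideal `a`, `b : R` and a module `M`, the map
`H^i_a(M) → H^i_a(M_b)` is the localization at the powers of `b`.
-/

open CategoryTheory Limits
universe u

namespace Groth.Agent.H58.LC

variable {R : Type u} [CommRing R]

/-- `b`-power torsion modules -/
def BTors (b : R) (X : Type u) [AddCommGroup X] [Module R X] : Prop :=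
  ∀ x : X, ∃ n : ℕ, b ^ n • x = 0

section basic

variable (b : R)
variable {M N P : Type u} [AddCommGroup M] [Module R M] [AddCommGroup N] [Module R N]
  [AddCommGroup P] [Module R P]

lemma BTors.isPowerTorsion (h : BTors b M) : LocCoh.IsPowerTorsion (Ideal.span {b}) M := by
  intro x
  obtain ⟨n, hn⟩ := h x
  refine ⟨n, fun r hr => ?_⟩
  rw [Ideal.span_singleton_pow, Ideal.mem_span_singleton'] at hr
  obtain ⟨w, rfl⟩ := hr
  rw [mul_smul, hn, smul_zero]

lemma bTors_of_isPowerTorsion (h : LocCoh.IsPowerTorsion (Ideal.span {b}) M) : BTors b M := by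
  intro x
  obtain ⟨n, hn⟩ := h x
  exact ⟨n, hn _ (Ideal.pow_mem_pow (Ideal.mem_span_singleton_self b) n)⟩

lemma BTors.of_injective (f : M →ₗ[R] N) (hf : Function.Injective f) (h : BTors b N) :
    BTors b M := by
  intro x
  obtain ⟨n, hn⟩ := h (f x)
  exact ⟨n, hf (by rw [map_smul, hn, map_zero])⟩

lemma BTors.of_surjective (f : M →ₗ[R] N) (hf : Function.Surjective f) (h : BTors b M) :
    BTors b N := by
  intro y
  obtain ⟨x, rfl⟩ := hf y
  obtain ⟨n, hn⟩ := h x
  exact ⟨n, by rw [← map_smul, hn, map_zero]⟩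

/-- a criterion for being a localization at the powers of `b` -/
theorem isLocalizedModule_powers_of {X Z : Type u} [AddCommGroup X] [Module R X]
    [AddCommGroup Z] [Module R Z] (g : X →ₗ[R] Z)
    (hbij : Function.Bijective (fun z : Z => b • z))
    (hsurj : ∀ z : Z, ∃ (n : ℕ) (x : X), b ^ n • z = g x)
    (hker : ∀ x : X, g x = 0 → ∃ n : ℕ, b ^ n • x = 0) :
    IsLocalizedModule (Submonoid.powers b) g := by
  refine ⟨?_, ?_, ?_⟩
  · rintro ⟨s, hs⟩
    obtain ⟨n, rfl⟩ := (Submonoid.mem_powers_iff s b).1 hs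
    have h1 : IsUnit (algebraMap R (Module.End R Z) b) := by
      rw [Module.End.isUnit_iff]
      constructor
      · intro y y' hyy
        rw [Module.algebraMap_end_apply, Module.algebraMap_end_apply] at hyy
        exact hbij.1 hyy
      · intro y
        obtain ⟨y', hy'⟩ := hbij.2 y
        exact ⟨y', by rw [Module.algebraMap_end_apply]; exact hy'⟩
    have h2 := h1.pow n
    rw [← map_pow] at h2
    exact h2
  · intro z
    obtain ⟨n, x, hx⟩ := hsurj z
    exact ⟨(x, ⟨b ^ n, (Submonoid.mem_powers_iff _ b).2 ⟨n, rfl⟩⟩), hx⟩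
  · intro x₁ x₂ hx
    have h0 : g (x₁ - x₂) = 0 := by rw [map_sub, hx, sub_self]
    obtain ⟨n, hn⟩ := hker _ h0
    refine ⟨⟨b ^ n, (Submonoid.mem_powers_iff _ b).2 ⟨n, rfl⟩⟩, ?_⟩
    show b ^ n • x₁ = b ^ n • x₂
    rw [← sub_eq_zero, ← smul_sub]
    exact hn

/-- quotient by the range of a localization map -/
theorem quot_equiv_of_isLocalizedModule {X Z : Type u} [AddCommGroup X] [Module R X]
    [AddCommGroup Z] [Module R Z] (S : Submonoid R) (g : X →ₗ[R] Z) [IsLocalizedModule S g] :
    Nonempty ((LocalizedModule S X ⧸ LinearMap.range (LocalizedModule.mkLinearMap S X)) ≃ₗ[R]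
      (Z ⧸ LinearMap.range g)) := by
  let e := IsLocalizedModule.iso S g
  have he : ∀ x, e (LocalizedModule.mkLinearMap S X x) = g x := fun x => by
    have h := LinearMap.congr_fun (IsLocalizedModule.iso_symm_comp S g) x
    rw [LinearMap.comp_apply] at h
    rw [← h]
    exact e.apply_symm_apply _
  have hmap : (LinearMap.range (LocalizedModule.mkLinearMap S X)).map
      (e : LocalizedModule S X →ₗ[R] Z) = LinearMap.range g := by
    rw [← LinearMap.range_comp]
    congr 1
    exact LinearMap.ext he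
  exact ⟨Submodule.Quotient.equiv _ _ e hmap⟩

end basic

section noeth

variable [IsNoetherianRing R] (b : R) (a : Ideal R)

/-- local cohomology of a `b`-power torsion module is `b`-power torsion -/
theorem bTors_H : ∀ (i : ℕ) (T : Type u) [AddCommGroup T] [Module R T],
    BTors b T → BTors b (LocCoh.H a i T) := by
  intro i
  induction i with
  | zero =>
    intro T _ _ hT
    exact BTors.of_injective b (H0map a T) (H0map_injective a T) hT
  | succ i ih =>
    intro T _ _ hT
    obtain ⟨E, _, _, hEinj, hEtors, j, hj⟩ :=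
      exists_torsion_injective_embedding (Ideal.span {b}) T (BTors.isPowerTorsion b hT)
    haveI := hEinj
    have hQ : BTors b (E ⧸ LinearMap.range j) :=
      BTors.of_surjective b (LinearMap.range j).mkQ (Submodule.mkQ_surjective _)
        (bTors_of_isPowerTorsion b hEtors)
    obtain ⟨δ, -, -, h3, -⟩ := les_mod a j (LinearMap.range j).mkQ hj
      (Submodule.mkQ_surjective _) (LinearMap.exact_map_mkQ_range j) i
    haveI : Subsingleton (LocCoh.H a (i + 1) E) :=
      subsingleton_H_of_injective a (i + 1) (Nat.succ_pos i)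
    have hδ : Function.Surjective δ := fun y => (h3 y).1 (Subsingleton.elim _ _)
    exact BTors.of_surjective b δ hδ (ih _ hQ)

variable {M N : Type u} [AddCommGroup M] [Module R M] [AddCommGroup N] [Module R N]

/-- a map with `b`-torsion kernel and cokernel induces maps with `b`-torsion kernel and cokernel
on local cohomology -/
theorem ker_coker_Hmap_of_bTors (f : M →ₗ[R] N)
    (hk : BTors b (LinearMap.ker f)) (hc : BTors b (N ⧸ LinearMap.range f)) (i : ℕ) :
    (∀ x : LocCoh.H a i M, Hmap a i f x = 0 → ∃ n : ℕ, b ^ n • x = 0) ∧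
    (∀ y : LocCoh.H a i N, ∃ (n : ℕ) (x : LocCoh.H a i M), b ^ n • y = Hmap a i f x) := by
  let p : M →ₗ[R] LinearMap.range f := f.rangeRestrict
  let ι' : LinearMap.range f →ₗ[R] N := (LinearMap.range f).subtype
  have hfac : f = ι' ∘ₗ p := LinearMap.ext fun x => rfl
  have hp : Function.Surjective p := f.surjective_rangeRestrict
  have hex1 : Function.Exact (LinearMap.ker f).subtype p := by
    intro m
    constructor
    · intro hm
      have : f m = 0 := congrArg Subtype.val hm
      exact ⟨⟨m, this⟩, rfl⟩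
    · rintro ⟨k, rfl⟩
      exact Subtype.ext k.2
  -- part A
  obtain ⟨δ, e1, e2, -, -⟩ := les_mod a (LinearMap.ker f).subtype p
    (Submodule.injective_subtype _) hp hex1 i
  have A1 : ∀ x : LocCoh.H a i M, Hmap a i p x = 0 → ∃ n : ℕ, b ^ n • x = 0 := by
    intro x hx
    obtain ⟨k, rfl⟩ := (e1 x).1 hx
    obtain ⟨n, hn⟩ := bTors_H b a i _ hk k
    exact ⟨n, by rw [← map_smul, hn, map_zero]⟩
  have A2 : ∀ z : LocCoh.H a i (LinearMap.range f), ∃ (n : ℕ) (w : LocCoh.H a i M),
      b ^ n • z = Hmap a i p w := by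
    intro z
    obtain ⟨n, hn⟩ := bTors_H b a (i + 1) _ hk (δ z)
    have h0 : δ (b ^ n • z) = 0 := by rw [map_smul]; exact hn
    obtain ⟨w, hw⟩ := (e2 _).1 h0
    exact ⟨n, w, hw.symm⟩
  -- part B
  obtain ⟨-, e1', -, -, -⟩ := les_mod a ι' (LinearMap.range f).mkQ
    (Submodule.injective_subtype _) (Submodule.mkQ_surjective _)
    (LinearMap.exact_subtype_mkQ _) i
  have B2 : ∀ y : LocCoh.H a i N, ∃ (n : ℕ) (z : LocCoh.H a i (LinearMap.range f)),
      b ^ n • y = Hmap a i ι' z := by
    intro y
    obtain ⟨n, hn⟩ := bTors_H b a i _ hc (Hmap a i (LinearMap.range f).mkQ y)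
    have h0 : Hmap a i (LinearMap.range f).mkQ (b ^ n • y) = 0 := by rw [map_smul]; exact hn
    obtain ⟨z, hz⟩ := (e1' _).1 h0
    exact ⟨n, z, hz.symm⟩
  have B1 : ∀ z : LocCoh.H a i (LinearMap.range f), Hmap a i ι' z = 0 →
      ∃ n : ℕ, b ^ n • z = 0 := by
    intro z hz
    rcases i with _ | i'
    · refine ⟨0, ?_⟩
      rw [pow_zero, one_smul]
      apply H0map_injective a _
      have h1 := H0map_natural a ι' z
      rw [hz, map_zero] at h1
      rw [map_zero]
      exact (Submodule.injective_subtype _) (h1.symm.trans (map_zero _).symm)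
    · obtain ⟨δ', -, -, e3', -⟩ := les_mod a ι' (LinearMap.range f).mkQ
        (Submodule.injective_subtype _) (Submodule.mkQ_surjective _)
        (LinearMap.exact_subtype_mkQ _) i'
      obtain ⟨q, rfl⟩ := (e3' z).1 hz
      obtain ⟨n, hn⟩ := bTors_H b a i' _ hc q
      exact ⟨n, by rw [← map_smul, hn, map_zero]⟩
  constructor
  · intro x hx
    rw [hfac, Hmap_comp_apply] at hx
    obtain ⟨n, hn⟩ := B1 _ hx
    rw [← map_smul] at hn
    obtain ⟨m, hm⟩ := A1 _ hn
    exact ⟨m + n, by rw [pow_add, mul_smul]; exact hm⟩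
  · intro y
    obtain ⟨n, z, hz⟩ := B2 y
    obtain ⟨m, w, hw⟩ := A2 z
    refine ⟨m + n, w, ?_⟩
    rw [hfac, Hmap_comp_apply, ← hw, map_smul, ← hz, pow_add, mul_smul]

variable (M)

/-- **`H^i_a(M) → H^i_a(M_b)` is the localization at the powers of `b`.** -/
theorem isLocalizedModule_Hmap_mkLinearMap (i : ℕ) :
    IsLocalizedModule (Submonoid.powers b)
      (Hmap a i (LocalizedModule.mkLinearMap (Submonoid.powers b) M)) := by
  let S := Submonoid.powers b
  let L := LocalizedModule S M
  let F : M →ₗ[R] L := LocalizedModule.mkLinearMap S M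
  have hk : BTors b (LinearMap.ker F) := by
    intro x
    obtain ⟨⟨s, hs⟩, hsx⟩ := (IsLocalizedModule.eq_zero_iff S F).1 (LinearMap.mem_ker.1 x.2)
    obtain ⟨n, rfl⟩ := (Submonoid.mem_powers_iff s b).1 hs
    exact ⟨n, Subtype.ext hsx⟩
  have hc : BTors b (L ⧸ LinearMap.range F) := by
    intro y
    obtain ⟨z, rfl⟩ := Submodule.Quotient.mk_surjective _ y
    induction z using LocalizedModule.induction_on with
    | h m s =>
      obtain ⟨s, hs⟩ := s
      obtain ⟨n, rfl⟩ := (Submonoid.mem_powers_iff s b).1 hs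
      refine ⟨n, ?_⟩
      rw [← Submodule.Quotient.mk_smul, Submodule.Quotient.mk_eq_zero]
      refine ⟨m, ?_⟩
      rw [LocalizedModule.mkLinearMap_apply, LocalizedModule.smul'_mk]
      exact (LocalizedModule.mk_cancel (⟨b ^ n, hs⟩ : S) m).symm
  obtain ⟨h1, h2⟩ := ker_coker_Hmap_of_bTors b a F hk hc i
  have hu := IsLocalizedModule.map_units F (⟨b, Submonoid.mem_powers b⟩ : S)
  rw [Module.End.isUnit_iff, Module.algebraMap_end_eq_smul_id] at hu
  let e : L ≃ₗ[R] L := LinearEquiv.ofBijective (b • LinearMap.id) hu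
  have he : (e : L →ₗ[R] L) = b • LinearMap.id := LinearMap.ext fun z => rfl
  have hHb : ∀ y : LocCoh.H a i L, Hcongr a i e y = b • y := fun y => by
    show Hmap a i (e : L →ₗ[R] L) y = _
    rw [he, Hmap_smul, Hmap_id]
    rfl
  have hbij : Function.Bijective (fun y : LocCoh.H a i L => b • y) := by
    have := (Hcongr a i e).bijective
    convert this using 1
    funext y
    exact (hHb y).symm
  exact isLocalizedModule_powers_of b _ hbij h2 h1

end noeth

section H0

variable {I I' : Ideal R} (h : I ≤ I') (M : Type u) [AddCommGroup M] [Module R M]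

/-- the comparison map in degree `0` is compatible with the inclusions into `M` -/
lemma H0map_HmapOfLE (x : LocCoh.H I' 0 M) :
    H0map I M (((Dual2.HmapOfLE h 0).app (ModuleCat.of R M)).hom x) = H0map I' M x := by
  obtain ⟨n, ξ, rfl⟩ := exists_rep I' 0 (ModuleCat.of R M) x
  obtain ⟨φ, rfl⟩ := exists_mk₀ ξ
  rw [HmapOfLE_ι, Abelian.Ext.mk₀_comp_mk₀, H0map_ι, H0map_ι, ev_mk₀, ev_mk₀]
  show φ.hom ((qLE h n).hom 1) = φ.hom 1
  rw [qLE_one]

lemma HmapOfLE_zero_injective :
    Function.Injective ((Dual2.HmapOfLE h 0).app (ModuleCat.of R M)).hom := by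
  intro x y hxy
  apply H0map_injective I' M
  rw [← H0map_HmapOfLE h M x, ← H0map_HmapOfLE h M y, hxy]

end H0

end Groth.Agent.H58.LC
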