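import Mathlib
import Groth.Prelude.Def_Wider
import Groth.Prelude.Def_DRing3
import Groth.Prelude.Def_DualLC
import Groth.Agent.H58.LCLoc
import Groth.Agent.H58.IH

/-!
# Cohomological dimension of a sum of ideals
-/

open CategoryTheory Limits
universe u

namespace Groth.Agent.H58.LC

variable {R : Type u} [CommRing R]

section aux

variable {A B C : Type u} [AddCommGroup A] [Module R A] [AddCommGroup B] [Module R B]
  [AddCommGroup C] [Module R C]

lemma subsingleton_of_exact (f : A →ₗ[R] B) (g : B →ₗ[R] C) (h : Function.Exact f g)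
    [Subsingleton A] [Subsingleton C] : Subsingleton B := by
  refine ⟨fun x y => ?_⟩
  have key : ∀ z : B, z = 0 := fun z => by
    obtain ⟨w, rfl⟩ := (h z).1 (Subsingleton.elim _ _)
    rw [Subsingleton.elim w 0, map_zero]
  rw [key x, key y]

end aux

section basics

variable (K : Ideal R) (M : Type u) [AddCommGroup M] [Module R M]

lemma subsingleton_H0_iff : Subsingleton (LocCoh.H K 0 M) ↔ DRing.torsionSub K M = ⊥ := by
  rw [← Submodule.subsingleton_iff_eq_bot]
  constructor
  · intro h
    exact (H0equiv K M).symm.injective.subsingleton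
  · intro h
    exact (H0equiv K M).injective.subsingleton

variable {M}
variable {E : Type u} [AddCommGroup E] [Module R E]

lemma subsingleton_H_quot (j : M →ₗ[R] E) (hj : Function.Injective j) (q : ℕ)
    [Subsingleton (LocCoh.H K q E)] [Subsingleton (LocCoh.H K (q + 1) M)] :
    Subsingleton (LocCoh.H K q (E ⧸ LinearMap.range j)) := by
  obtain ⟨δ, -, e2, -, -⟩ := les_mod K j (LinearMap.range j).mkQ hj
    (Submodule.mkQ_surjective _) (LinearMap.exact_map_mkQ_range j) q
  exact subsingleton_of_exact _ _ e2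

lemma subsingleton_H_succ_of_quot (j : M →ₗ[R] E) (hj : Function.Injective j)
    [Module.Injective R E] (q : ℕ)
    [Subsingleton (LocCoh.H K q (E ⧸ LinearMap.range j))] :
    Subsingleton (LocCoh.H K (q + 1) M) := by
  obtain ⟨δ, -, -, e3, -⟩ := les_mod K j (LinearMap.range j).mkQ hj
    (Submodule.mkQ_surjective _) (LinearMap.exact_map_mkQ_range j) q
  haveI : Subsingleton (LocCoh.H K (q + 1) E) :=
    subsingleton_H_of_injective K (q + 1) (Nat.succ_pos q)
  exact subsingleton_of_exact _ _ e3

end basics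

section noeth

variable [IsNoetherianRing R]

/-- `Γ_J(M/Γ_J(M)) = 0` -/
theorem torsionSub_quot_torsionSub (J : Ideal R) (M : Type u) [AddCommGroup M] [Module R M] :
    DRing.torsionSub J (M ⧸ DRing.torsionSub J M) = ⊥ := by
  rw [eq_bot_iff]
  rintro y ⟨n, hn⟩
  obtain ⟨x, rfl⟩ := Submodule.Quotient.mk_surjective _ y
  rw [Submodule.mem_bot, Submodule.Quotient.mk_eq_zero]
  let A : Ideal R := LinearMap.ker (LinearMap.toSpanSingleton R M x)
  have hA : ∀ r, r ∈ A ↔ r • x = 0 := fun r => by
    show r ∈ LinearMap.ker (LinearMap.toSpanSingleton R M x) ↔ _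
    rw [LinearMap.mem_ker, LinearMap.toSpanSingleton_apply]
  have hJA : J ≤ A.radical := by
    intro s hs
    have h1 : s ^ n • (Submodule.Quotient.mk x : M ⧸ DRing.torsionSub J M) = 0 :=
      hn _ (Ideal.pow_mem_pow hs n)
    rw [← Submodule.Quotient.mk_smul, Submodule.Quotient.mk_eq_zero] at h1
    obtain ⟨m, hm⟩ := h1
    refine ⟨m + n, (hA _).2 ?_⟩
    rw [pow_add, mul_smul]
    exact hm _ (Ideal.pow_mem_pow hs m)
  obtain ⟨k, hk⟩ := Ideal.exists_pow_le_of_le_radical_of_fg hJA (IsNoetherian.noetherian J)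
  exact ⟨k, fun r hr => (hA r).1 (hk hr)⟩

omit [IsNoetherianRing R] in
/-- a `J`-torsion-free module embeds in a `J`-torsion-free injective module -/
theorem exists_injective_torsionFree (J : Ideal R) (M : Type u) [AddCommGroup M] [Module R M]
    (hM : DRing.torsionSub J M = ⊥) :
    ∃ (E : Type u) (_ : AddCommGroup E) (_ : Module R E), Module.Injective R E ∧
      DRing.torsionSub J E = ⊥ ∧ ∃ j : M →ₗ[R] E, Function.Injective j := by
  obtain ⟨I₀, _, _, hI₀, i, hi⟩ := Groth.Agent.H58.IH.exists_injective_embedding R M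
  haveI := hI₀
  obtain ⟨E, hle, hess, hEinj⟩ := Groth.Agent.H58.IH.exists_injective_essential (LinearMap.range i)
  refine ⟨E, inferInstance, inferInstance, hEinj, ?_,
    LinearMap.codRestrict E i (fun z => hle ⟨z, rfl⟩), fun a b h => hi (congrArg Subtype.val h)⟩
  rw [eq_bot_iff]
  rintro ⟨x, hxE⟩ ⟨n, hn⟩
  rw [Submodule.mem_bot]
  by_contra hne
  have hx0 : x ≠ 0 := fun h => hne (Subtype.ext h)
  obtain ⟨r, ⟨m, hm⟩, hr0⟩ := hess x hxE hx0
  have hmt : m ∈ DRing.torsionSub J M := ⟨n, fun s hs => hi (by
    have hsx : s • x = 0 := congrArg Subtype.val (hn s hs)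
    rw [map_smul, map_zero, hm, smul_comm, hsx, smul_zero])⟩
  rw [hM, Submodule.mem_bot] at hmt
  rw [hmt, map_zero] at hm
  exact hr0 hm.symm

/-- for a `b`-power torsion module the comparison map is injective -/
theorem HmapOfLE_injective_of_bTors (I' : Ideal R) (b : R) (N : Type u) [AddCommGroup N]
    [Module R N] (hN : BTors b N) (n : ℕ) :
    Function.Injective
      ((Dual2.HmapOfLE (le_sup_left : I' ≤ I' ⊔ Ideal.span {b}) n).app (ModuleCat.of R N)).hom := by
  rcases n with _ | m
  · exact HmapOfLE_zero_injective _ N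
  · obtain ⟨e⟩ := ker_HmapOfLE_equiv I' b (ModuleCat.of R N) m
    haveI : Subsingleton (LocalizedModule (Submonoid.powers b) (LocCoh.H I' m N)) :=
      LocalizedModule.subsingleton_iff.2 (fun x => by
        obtain ⟨k, hk⟩ := bTors_H b I' m N hN x
        exact ⟨b ^ k, ⟨k, rfl⟩, hk⟩)
    haveI : Subsingleton (LinearMap.ker ((Dual2.HmapOfLE
        (le_sup_left : I' ≤ I' ⊔ Ideal.span {b}) (m + 1)).app (ModuleCat.of R N)).hom) :=
      e.symm.injective.subsingleton
    rw [← LinearMap.ker_eq_bot]
    exact Submodule.subsingleton_iff_eq_bot.1 inferInstance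

/-- vanishing transfers from `I₀` to `I₀ + (s)` on modules torsion for the elements of `s` -/
theorem subsingleton_H_sup_span_of_bTors (I₀ : Ideal R) (N : Type u) [AddCommGroup N] [Module R N]
    (n : ℕ) (h : Subsingleton (LocCoh.H I₀ n N)) (s : Finset R) (hN : ∀ b ∈ s, BTors b N) :
    Subsingleton (LocCoh.H (I₀ ⊔ Ideal.span (s : Set R)) n N) := by
  classical
  induction s using Finset.induction_on with
  | empty =>
    rw [Finset.coe_empty, Ideal.span_empty, sup_bot_eq]
    exact h
  | insert b s hb ih =>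
    haveI := ih (fun c hc => hN c (Finset.mem_insert_of_mem hc))
    rw [span_insert_eq, ← sup_assoc]
    exact (HmapOfLE_injective_of_bTors (I₀ ⊔ Ideal.span (s : Set R)) b N
      (hN b (Finset.mem_insert_self b s)) n).subsingleton

theorem subsingleton_H_sup_of_isPowerTorsion (I J : Ideal R) (N : Type u) [AddCommGroup N]
    [Module R N] (hN : LocCoh.IsPowerTorsion J N) (n : ℕ) (h : Subsingleton (LocCoh.H I n N)) :
    Subsingleton (LocCoh.H (I ⊔ J) n N) := by
  obtain ⟨s, rfl⟩ := IsNoetherian.noetherian J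
  refine subsingleton_H_sup_span_of_bTors I N n h s (fun b hb x => ?_)
  obtain ⟨k, hk⟩ := hN x
  exact ⟨k, hk _ (Ideal.pow_mem_pow (Submodule.subset_span hb) k)⟩

variable (I J : Ideal R)

/-- if all `H^q_J(M)` vanish then all `H^n_{I+J}(M)` vanish -/
theorem subsingleton_H_sup_of_all : ∀ (n : ℕ) (M : Type u) [AddCommGroup M] [Module R M],
    (∀ q, Subsingleton (LocCoh.H J q M)) → Subsingleton (LocCoh.H (I ⊔ J) n M) := by
  intro n
  induction n with
  | zero =>
    intro M _ _ hall
    rw [subsingleton_H0_iff, eq_bot_iff]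
    have h0 := (subsingleton_H0_iff J M).1 (hall 0)
    rw [← h0]
    exact torsionSub_anti (le_sup_right : J ≤ I ⊔ J) M
  | succ n ih =>
    intro M _ _ hall
    have h0 := (subsingleton_H0_iff J M).1 (hall 0)
    obtain ⟨E, _, _, hEinj, hEt, j, hj⟩ := exists_injective_torsionFree J M h0
    haveI := hEinj
    have hQ : ∀ q, Subsingleton (LocCoh.H J q (E ⧸ LinearMap.range j)) := by
      intro q
      haveI : Subsingleton (LocCoh.H J q E) := by
        rcases Nat.eq_zero_or_pos q with hq | hq
        · subst hq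
          exact (subsingleton_H0_iff J E).2 hEt
        · exact subsingleton_H_of_injective J q hq
      haveI := hall (q + 1)
      exact subsingleton_H_quot J j hj q
    haveI := ih (E ⧸ LinearMap.range j) hQ
    exact subsingleton_H_succ_of_quot (I ⊔ J) j hj n

/-- the reduction to the `J`-torsion-free quotient -/
theorem subsingleton_H_sup_of_quot (a : ℕ) (hI : LocCoh.CdLE R I a) (M : Type u) [AddCommGroup M]
    [Module R M] (n : ℕ) (hn : a < n)
    (h : Subsingleton (LocCoh.H (I ⊔ J) n (M ⧸ DRing.torsionSub J M))) :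
    Subsingleton (LocCoh.H (I ⊔ J) n M) := by
  haveI : Subsingleton (LocCoh.H (I ⊔ J) n (DRing.torsionSub J M)) :=
    subsingleton_H_sup_of_isPowerTorsion I J _ (isPowerTorsion_torsionSub J M) n
      (hI _ n hn)
  obtain ⟨δ, e1, -, -, -⟩ := les_mod (I ⊔ J) (DRing.torsionSub J M).subtype
    (DRing.torsionSub J M).mkQ (Submodule.injective_subtype _) (Submodule.mkQ_surjective _)
    (LinearMap.exact_subtype_mkQ _) n
  exact subsingleton_of_exact _ _ e1

/-- **cd(I + J) ≤ cd(I) + cd(J)**, module-wise in `J` -/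
theorem subsingleton_H_sup_of_cd (a : ℕ) (hI : LocCoh.CdLE R I a) : ∀ (b : ℕ) (M : Type u)
    [AddCommGroup M] [Module R M], (∀ q, b < q → Subsingleton (LocCoh.H J q M)) →
    ∀ n, a + b < n → Subsingleton (LocCoh.H (I ⊔ J) n M) := by
  intro b
  induction b with
  | zero =>
    intro M _ _ hM n hn
    refine subsingleton_H_sup_of_quot I J a hI M n (by omega) ?_
    refine subsingleton_H_sup_of_all I J n _ (fun q => ?_)
    rcases Nat.eq_zero_or_pos q with hq | hq
    · subst hq
      exact (subsingleton_H0_iff J _).2 (torsionSub_quot_torsionSub J M)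
    · haveI := hM q hq
      exact (LinearEquiv.ofBijective _
        (Hmap_mkQ_torsionSub_bijective J M q hq)).symm.injective.subsingleton
  | succ b ih =>
    intro M _ _ hM n hn
    refine subsingleton_H_sup_of_quot I J a hI M n (by omega) ?_
    have hMbar : ∀ q, b + 1 < q →
        Subsingleton (LocCoh.H J q (M ⧸ DRing.torsionSub J M)) := by
      intro q hq
      haveI := hM q hq
      exact (LinearEquiv.ofBijective _
        (Hmap_mkQ_torsionSub_bijective J M q (by omega))).symm.injective.subsingleton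
    obtain ⟨E, _, _, hEinj, hEt, j, hj⟩ :=
      exists_injective_torsionFree J _ (torsionSub_quot_torsionSub J M)
    haveI := hEinj
    have hQ : ∀ q, b < q → Subsingleton (LocCoh.H J q (E ⧸ LinearMap.range j)) := by
      intro q hq
      haveI : Subsingleton (LocCoh.H J q E) := by
        rcases Nat.eq_zero_or_pos q with hq0 | hq0
        · subst hq0
          exact (subsingleton_H0_iff J E).2 hEt
        · exact subsingleton_H_of_injective J q hq0
      haveI := hMbar (q + 1) (by omega)
      exact subsingleton_H_quot J j hj q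
    obtain ⟨m, rfl⟩ : ∃ m, n = m + 1 := ⟨n - 1, by omega⟩
    haveI := ih (E ⧸ LinearMap.range j) hQ m (by omega)
    exact subsingleton_H_succ_of_quot (I ⊔ J) j hj m

end noeth

end Groth.Agent.H58.LC
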