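import Mathlib
import Groth.Prelude.Def_Wider
import Groth.Prelude.Def_DRing3
import Groth.Agent.H58.LCCd

/-!
# Finiteness of local cohomology and annihilators (Faltings)
-/

open CategoryTheory
universe u

namespace Groth.Agent.H58.LC

variable {R : Type u} [CommRing R]

section uniform

/-- a finite power-torsion module is killed by a single power -/
theorem exists_pow_smul_eq_zero_of_finite (I : Ideal R) (N : Type u) [AddCommGroup N] [Module R N]
    [Module.Finite R N] (hN : LocCoh.IsPowerTorsion I N) :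
    ∃ k : ℕ, ∀ a ∈ I ^ k, ∀ x : N, a • x = 0 := by
  classical
  obtain ⟨s, hs⟩ := (Module.Finite.fg_top : (⊤ : Submodule R N).FG)
  choose k hk using hN
  refine ⟨s.sup k, fun a ha x => ?_⟩
  have hle : Submodule.span R (s : Set N) ≤
      LinearMap.ker (a • (LinearMap.id : N →ₗ[R] N)) :=
    Submodule.span_le.2 (fun y hy => by
      rw [SetLike.mem_coe, LinearMap.mem_ker, LinearMap.smul_apply, LinearMap.id_apply]
      exact hk y a (Ideal.pow_le_pow_right (Finset.le_sup hy) ha))
  have hx : x ∈ LinearMap.ker (a • (LinearMap.id : N →ₗ[R] N)) := hle (hs ▸ Submodule.mem_top)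
  rw [LinearMap.mem_ker, LinearMap.smul_apply, LinearMap.id_apply] at hx
  exact hx

/-- uniform exponent over finitely many degrees -/
theorem exists_uniform_pow (I : Ideal R) (n : ℕ) (X : ℕ → Type u) [∀ i, AddCommGroup (X i)]
    [∀ i, Module R (X i)]
    (h : ∀ i ≤ n, ∃ m : ℕ, ∀ a ∈ I ^ m, ∀ x : X i, a • x = 0) :
    ∃ K : ℕ, ∀ i ≤ n, ∀ a ∈ I ^ K, ∀ x : X i, a • x = 0 := by
  have h' : ∀ i, ∃ m : ℕ, i ≤ n → ∀ a ∈ I ^ m, ∀ x : X i, a • x = 0 := fun i => by
    by_cases hi : i ≤ n
    · obtain ⟨m, hm⟩ := h i hi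
      exact ⟨m, fun _ => hm⟩
    · exact ⟨0, fun h'' => absurd h'' hi⟩
  choose k hk using h'
  refine ⟨(Finset.range (n + 1)).sup k, fun i hi a ha x => ?_⟩
  exact hk i hi a (Ideal.pow_le_pow_right
    (Finset.le_sup (Finset.mem_range.2 (Nat.lt_succ_of_le hi))) ha) x

end uniform

section regular

variable [IsNoetherianRing R]

/-- if `Γ_I(M) = 0` then `I^k` contains an `M`-regular element -/
theorem exists_mem_pow_smul_injective (I : Ideal R) (M : Type u) [AddCommGroup M] [Module R M]
    [Module.Finite R M] (hM : DRing.torsionSub I M = ⊥) (k : ℕ) :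
    ∃ x ∈ I ^ k, Function.Injective (fun m : M => x • m) := by
  by_contra hcon
  have hcon' : ∀ x ∈ I ^ k, ¬ Function.Injective (fun m : M => x • m) :=
    fun x hx h => hcon ⟨x, hx, h⟩
  have hfin := associatedPrimes.finite R M
  have hsub : ((I ^ k : Ideal R) : Set R) ⊆
      ⋃ p ∈ (↑hfin.toFinset : Set (Ideal R)), ((fun q : Ideal R => q) p : Set R) := by
    intro x hx
    have h1 : ∃ m m' : M, x • m = x • m' ∧ m ≠ m' := by
      by_contra hno
      exact hcon' x hx (fun m m' h => by
        by_contra hne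
        exact hno ⟨m, m', h, hne⟩)
    obtain ⟨m, m', hmm, hne⟩ := h1
    have hx' : x ∈ ⋃ p ∈ associatedPrimes R M, (p : Set R) := by
      rw [biUnion_associatedPrimes_eq_zero_divisors]
      exact ⟨m - m', sub_ne_zero.2 hne, by rw [smul_sub]; exact sub_eq_zero.2 hmm⟩
    obtain ⟨p, hp, hxp⟩ := Set.mem_iUnion₂.1 hx'
    exact Set.mem_iUnion₂.2 ⟨p, (Finset.mem_coe.2 ((hfin.mem_toFinset).2 hp)), hxp⟩
  obtain ⟨p, hp, hle⟩ := (Ideal.subset_union_prime (f := fun q : Ideal R => q) ⊤ ⊤
    (fun q hq _ _ => ((hfin.mem_toFinset).1 hq).isPrime)).1 hsub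
  have hpA : IsAssociatedPrime p M := (hfin.mem_toFinset).1 hp
  obtain ⟨hpp, m, hpm⟩ := isAssociatedPrime_iff.1 hpA
  haveI := hpp
  have hIp : I ≤ p := Ideal.IsPrime.le_of_pow_le hle
  have hm : m ∈ DRing.torsionSub I M := ⟨1, fun a ha => by
    rw [pow_one] at ha
    have h2 := hIp ha
    rw [hpm, Submodule.mem_colon_singleton, Submodule.mem_bot] at h2
    exact h2⟩
  rw [hM, Submodule.mem_bot] at hm
  refine hpp.ne_top ?_
  rw [hpm, Ideal.eq_top_iff_one, Submodule.mem_colon_singleton, one_smul, Submodule.mem_bot]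
  exact hm

end regular

section faltings

variable [IsNoetherianRing R] (I : Ideal R)

lemma finite_H_zero (M : Type u) [AddCommGroup M] [Module R M] [Module.Finite R M] :
    Module.Finite R (LocCoh.H I 0 M) :=
  Module.Finite.of_injective (H0map I M) (H0map_injective I M)

/-- **Faltings:** if a power of `I` kills `H^i_I(M)` for `i ≤ n` then these are finite -/
theorem finite_H_of_pow_smul_eq_zero : ∀ (n k : ℕ) (M : Type u) [AddCommGroup M] [Module R M]
    [Module.Finite R M],
    (∀ i ≤ n, ∀ a ∈ I ^ k, ∀ x : LocCoh.H I i M, a • x = 0) →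
    ∀ i ≤ n, Module.Finite R (LocCoh.H I i M) := by
  intro n
  induction n with
  | zero =>
    intro k M _ _ _ _ i hi
    obtain rfl : i = 0 := Nat.le_zero.1 hi
    exact finite_H_zero I M
  | succ n ih =>
    intro k M _ _ _ hk i hi
    rcases i with _ | i
    · exact finite_H_zero I M
    have hin : i ≤ n := Nat.le_of_succ_le_succ hi
    -- pass to `M / Γ_I(M)`
    have hbar : DRing.torsionSub I (M ⧸ DRing.torsionSub I M) = ⊥ :=
      torsionSub_quot_torsionSub I M
    have hkbar : ∀ j ≤ n + 1, ∀ a ∈ I ^ k,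
        ∀ y : LocCoh.H I j (M ⧸ DRing.torsionSub I M), a • y = 0 := by
      intro j hj a ha y
      rcases Nat.eq_zero_or_pos j with h0 | hpos
      · subst h0
        haveI := (subsingleton_H0_iff I (M ⧸ DRing.torsionSub I M)).2 hbar
        exact Subsingleton.elim _ _
      · obtain ⟨y', rfl⟩ := (Hmap_mkQ_torsionSub_bijective I M j hpos).2 y
        rw [← map_smul, hk j hj a ha y', map_zero]
    obtain ⟨x, hxI, hxinj⟩ :=
      exists_mem_pow_smul_injective I (M ⧸ DRing.torsionSub I M) hbar k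
    let f : (M ⧸ DRing.torsionSub I M) →ₗ[R] (M ⧸ DRing.torsionSub I M) := x • LinearMap.id
    have hf : Function.Injective f := hxinj
    have hHf : ∀ (j : ℕ) (y : LocCoh.H I j (M ⧸ DRing.torsionSub I M)),
        Hmap I j f y = x • y := by
      intro j y
      show Hmap I j (x • LinearMap.id) y = _
      rw [Hmap_smul, Hmap_id]
      rfl
    -- annihilation for the quotient by `x`
    have hQ : ∀ j ≤ n, ∀ a ∈ I ^ (k + k),
        ∀ y : LocCoh.H I j ((M ⧸ DRing.torsionSub I M) ⧸ LinearMap.range f), a • y = 0 := by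
      intro j hj a ha y
      obtain ⟨δ, -, e2, -, -⟩ := les_mod I f (LinearMap.range f).mkQ hf
        (Submodule.mkQ_surjective _) (LinearMap.exact_map_mkQ_range f) j
      rw [pow_add] at ha
      refine Submodule.mul_induction_on ha (fun a₁ h₁ a₂ h₂ => ?_) (fun u v hu hv => ?_)
      · have h0 : δ (a₂ • y) = 0 := by
          rw [map_smul]
          exact hkbar (j + 1) (by omega) a₂ h₂ (δ y)
        obtain ⟨z, hz⟩ := (e2 _).1 h0
        rw [mul_smul, ← hz, ← map_smul, hkbar j (by omega) a₁ h₁ z, map_zero]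
      · rw [add_smul, hu, hv, add_zero]
    haveI := ih (k + k) ((M ⧸ DRing.torsionSub I M) ⧸ LinearMap.range f) hQ i hin
    obtain ⟨δ, -, -, e3, -⟩ := les_mod I f (LinearMap.range f).mkQ hf
      (Submodule.mkQ_surjective _) (LinearMap.exact_map_mkQ_range f) i
    have hδ : Function.Surjective δ := fun y => (e3 y).1 (by
      rw [hHf]
      exact hkbar (i + 1) hi x hxI y)
    haveI : Module.Finite R (LocCoh.H I (i + 1) (M ⧸ DRing.torsionSub I M)) :=
      Module.Finite.of_surjective δ hδ
    exact Module.Finite.equiv (LinearEquiv.ofBijective _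
      (Hmap_mkQ_torsionSub_bijective I M (i + 1) (Nat.succ_pos i))).symm

end faltings

end Groth.Agent.H58.LC
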