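import Mathlib
import Groth.Prelude.Def_Wider
import Groth.Prelude.Def_DRing3
import Groth.Agent.H58.LCCd
import Groth.Agent.H58.LCFalt

/-!
# Natural connecting homomorphisms and reduction to finitely generated modules

* `conn'`, `conn'_ι`, `conn'_natural` : a chosen connecting homomorphism, natural in the short
  exact sequence;
* `connMod`, `connMod_exact`, `connMod_natural` : the module-level versions;
* `exists_fg_rep` : every class in `H^i_I(M)` comes from a finitely generated submodule
  (Noetherian ring);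
* `subsingleton_H_of_fg` : vanishing on f.g. submodules implies vanishing;
* `subsingleton_H_of_supportDim_lt_of_finite` : Grothendieck vanishing for finite modules.
-/

open CategoryTheory Abelian
open scoped Pointwise
universe u

namespace Groth.Agent.H58.LC

variable {R : Type u} [CommRing R] (I : Ideal R)

section natδ

variable {S S' : ShortComplex (ModuleCat.{u} R)} (hS : S.ShortExact) (hS' : S'.ShortExact)

/-- a chosen connecting homomorphism -/
noncomputable def conn' (i : ℕ) :
    (localCohomology I i).obj S.X₃ →ₗ[R] (localCohomology I (i + 1)).obj S.X₁ :=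
  Classical.choose (exists_δ I hS i)

lemma conn'_ι (i n : ℕ) (x : Ext (Q I n) S.X₃ i) :
    conn' I hS i (ι I i S.X₃ n x) = ι I (i + 1) S.X₁ n (x.comp hS.extClass rfl) :=
  Classical.choose_spec (exists_δ I hS i) n x

theorem conn'_natural (φ : S ⟶ S') (i : ℕ) (y : (localCohomology I i).obj S.X₃) :
    conn' I hS' i (((localCohomology I i).map φ.τ₃).hom y) =
      ((localCohomology I (i + 1)).map φ.τ₁).hom (conn' I hS i y) := by
  obtain ⟨n, x, rfl⟩ := exists_rep I i S.X₃ y
  rw [map_ι, conn'_ι, conn'_ι, map_ι]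
  congr 1
  rw [Ext.comp_assoc x (Ext.mk₀ φ.τ₃) hS'.extClass (add_zero i) (zero_add 1)
      (show i + 0 + 1 = i + 1 by omega),
    ← ShortComplex.ShortExact.extClass_naturality hS hS' φ,
    Ext.comp_assoc x hS.extClass (Ext.mk₀ φ.τ₁) rfl (add_zero 1)
      (show i + 1 + 0 = i + 1 by omega)]

end natδ

section modδ

variable {M N P : Type u} [AddCommGroup M] [Module R M] [AddCommGroup N] [Module R N]
  [AddCommGroup P] [Module R P]

/-- the short complex of a pair of composable linear maps -/
noncomputable abbrev scMod (f : M →ₗ[R] N) (g : N →ₗ[R] P) (hfg : Function.Exact f g) :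
    ShortComplex (ModuleCat.{u} R) :=
  ShortComplex.mk (ModuleCat.ofHom f) (ModuleCat.ofHom g)
    (ModuleCat.hom_ext (LinearMap.ext fun x => hfg.apply_apply_eq_zero x))

lemma scMod_shortExact (f : M →ₗ[R] N) (g : N →ₗ[R] P) (hf : Function.Injective f)
    (hg : Function.Surjective g) (hfg : Function.Exact f g) : (scMod f g hfg).ShortExact :=
  { exact := (ShortComplex.ShortExact.moduleCat_exact_iff_function_exact _).2 hfg
    mono_f := (ModuleCat.mono_iff_injective _).2 hf
    epi_g := (ModuleCat.epi_iff_surjective _).2 hg }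

/-- the connecting homomorphism of a short exact sequence of modules -/
noncomputable def connMod (f : M →ₗ[R] N) (g : N →ₗ[R] P) (hf : Function.Injective f)
    (hg : Function.Surjective g) (hfg : Function.Exact f g) (i : ℕ) :
    LocCoh.H I i P →ₗ[R] LocCoh.H I (i + 1) M :=
  conn' I (scMod_shortExact f g hf hg hfg) i

theorem connMod_exact (f : M →ₗ[R] N) (g : N →ₗ[R] P) (hf : Function.Injective f)
    (hg : Function.Surjective g) (hfg : Function.Exact f g) (i : ℕ) :
    Function.Exact (Hmap I i g) (connMod I f g hf hg hfg i) ∧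
      Function.Exact (connMod I f g hf hg hfg i) (Hmap I (i + 1) f) :=
  ⟨exact₃ I (scMod_shortExact f g hf hg hfg) i _ (conn'_ι I _ i),
    exact₁ I (scMod_shortExact f g hf hg hfg) i _ (conn'_ι I _ i)⟩

variable {M' N' P' : Type u} [AddCommGroup M'] [Module R M'] [AddCommGroup N'] [Module R N']
  [AddCommGroup P'] [Module R P']

theorem connMod_natural (f : M →ₗ[R] N) (g : N →ₗ[R] P) (hf : Function.Injective f)
    (hg : Function.Surjective g) (hfg : Function.Exact f g)
    (f' : M' →ₗ[R] N') (g' : N' →ₗ[R] P') (hf' : Function.Injective f')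
    (hg' : Function.Surjective g') (hfg' : Function.Exact f' g')
    (a : M →ₗ[R] M') (b : N →ₗ[R] N') (c : P →ₗ[R] P')
    (h1 : b ∘ₗ f = f' ∘ₗ a) (h2 : c ∘ₗ g = g' ∘ₗ b) (i : ℕ) (y : LocCoh.H I i P) :
    connMod I f' g' hf' hg' hfg' i (Hmap I i c y) =
      Hmap I (i + 1) a (connMod I f g hf hg hfg i y) := by
  let φ : scMod f g hfg ⟶ scMod f' g' hfg' :=
    { τ₁ := ModuleCat.ofHom a
      τ₂ := ModuleCat.ofHom b
      τ₃ := ModuleCat.ofHom c
      comm₁₂ := by
        show ModuleCat.ofHom a ≫ ModuleCat.ofHom f' = ModuleCat.ofHom f ≫ ModuleCat.ofHom b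
        rw [← ModuleCat.ofHom_comp, ← ModuleCat.ofHom_comp, h1]
      comm₂₃ := by
        show ModuleCat.ofHom b ≫ ModuleCat.ofHom g' = ModuleCat.ofHom g ≫ ModuleCat.ofHom c
        rw [← ModuleCat.ofHom_comp, ← ModuleCat.ofHom_comp, h2] }
  exact conn'_natural I (scMod_shortExact f g hf hg hfg) (scMod_shortExact f' g' hf' hg' hfg') φ i y

end modδ

section fg

theorem exists_fg_rep_zero (M : Type u) [AddCommGroup M] [Module R M] (x : LocCoh.H I 0 M) :
    ∃ M' : Submodule R M, M'.FG ∧ x ∈ LinearMap.range (Hmap I 0 M'.subtype) := by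
  obtain ⟨m, hmdef⟩ : ∃ m, m = H0map I M x := ⟨_, rfl⟩
  have hmt : m ∈ DRing.torsionSub I M := by
    rw [hmdef, ← range_H0map]; exact ⟨x, rfl⟩
  obtain ⟨n, hn⟩ := hmt
  refine ⟨Submodule.span R {m}, Submodule.fg_span_singleton m, ?_⟩
  have hm' : (⟨m, Submodule.mem_span_singleton_self m⟩ : Submodule.span R {m}) ∈
      DRing.torsionSub I (Submodule.span R {m}) :=
    ⟨n, fun a ha => Subtype.ext (hn a ha)⟩
  refine ⟨(H0equiv I _).symm ⟨_, hm'⟩, ?_⟩
  apply H0map_injective I M
  rw [H0map_natural]
  have h2 : H0map I _ ((H0equiv I (Submodule.span R {m})).symm ⟨_, hm'⟩) =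
      (⟨m, Submodule.mem_span_singleton_self m⟩ : Submodule.span R {m}) := by
    rw [← H0equiv_coe, LinearEquiv.apply_symm_apply]
  rw [h2]
  exact hmdef

variable [IsNoetherianRing R]

/-- every local cohomology class comes from a finitely generated submodule -/
theorem exists_fg_rep (i : ℕ) : ∀ (M : Type u) [AddCommGroup M] [Module R M]
    (x : LocCoh.H I i M),
    ∃ M' : Submodule R M, M'.FG ∧ x ∈ LinearMap.range (Hmap I i M'.subtype) := by
  induction i with
  | zero => exact fun M _ _ x => exists_fg_rep_zero I M x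
  | succ i ih =>
    intro M _ _ x
    obtain ⟨E, _, _, hinj, j, hj⟩ := IH.exists_injective_embedding R M
    haveI := hinj
    have hg : Function.Surjective (LinearMap.range j).mkQ := Submodule.mkQ_surjective _
    have hfg : Function.Exact j (LinearMap.range j).mkQ := LinearMap.exact_map_mkQ_range j
    obtain ⟨-, e2⟩ := connMod_exact I j (LinearMap.range j).mkQ hj hg hfg i
    haveI : Subsingleton (LocCoh.H I (i + 1) E) :=
      subsingleton_H_of_injective I (i + 1) (Nat.succ_pos i)
    obtain ⟨y, rfl⟩ := (e2 x).1 (Subsingleton.elim _ _)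
    obtain ⟨Q', hQ'fg, y', rfl⟩ := ih (E ⧸ LinearMap.range j) y
    obtain ⟨E', hE'fg, hE'map⟩ : ∃ E' : Submodule R E, E'.FG ∧
        E'.map (LinearMap.range j).mkQ = Q' := by
      classical
      obtain ⟨t, ht⟩ := hQ'fg
      refine ⟨Submodule.span R ((t.image (Function.surjInv hg) : Finset E) : Set E),
        Submodule.fg_span (Finset.finite_toSet _), ?_⟩
      rw [← ht, Submodule.map_span, Finset.coe_image, Set.image_image]
      simp only [Function.surjInv_eq hg, Set.image_id']
    haveI : Module.Finite R E' := Module.Finite.iff_fg.2 hE'fg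
    haveI : IsNoetherian R E' := isNoetherian_of_isNoetherianRing_of_finite R E'
    have hmaps : ∀ m ∈ E'.comap j, j m ∈ E' := fun m hm => hm
    have hj' : Function.Injective (j.restrict hmaps) :=
      fun a b h => Subtype.ext (hj (congrArg Subtype.val h))
    have hM'fg : (E'.comap j).FG := by
      rw [← Module.Finite.iff_fg]; exact Module.Finite.of_injective (j.restrict hmaps) hj'
    have hmaps2 : ∀ e ∈ E', (LinearMap.range j).mkQ e ∈ Q' := fun e he => by
      rw [← hE'map]; exact Submodule.mem_map_of_mem he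
    have hp' : Function.Surjective ((LinearMap.range j).mkQ.restrict hmaps2) := by
      rintro ⟨q, hq⟩
      have hq' : q ∈ E'.map (LinearMap.range j).mkQ := by rw [hE'map]; exact hq
      obtain ⟨e, he, hqe⟩ := hq'
      exact ⟨⟨e, he⟩, Subtype.ext hqe⟩
    have hex' : Function.Exact (j.restrict hmaps) ((LinearMap.range j).mkQ.restrict hmaps2) := by
      intro e
      constructor
      · intro h
        have h0 : (LinearMap.range j).mkQ (e : E) = 0 := congrArg Subtype.val h
        obtain ⟨m, hm⟩ := (hfg (e : E)).1 h0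
        exact ⟨⟨m, show j m ∈ E' by rw [hm]; exact e.2⟩, Subtype.ext hm⟩
      · rintro ⟨m, rfl⟩
        exact Subtype.ext (hfg.apply_apply_eq_zero (m : M))
    have hnat := connMod_natural I (j.restrict hmaps) ((LinearMap.range j).mkQ.restrict hmaps2)
      hj' hp' hex' j (LinearMap.range j).mkQ hj hg hfg (E'.comap j).subtype E'.subtype Q'.subtype
      (LinearMap.ext fun m => rfl) (LinearMap.ext fun e => rfl) i y'
    exact ⟨E'.comap j, hM'fg, connMod I (j.restrict hmaps)
      ((LinearMap.range j).mkQ.restrict hmaps2) hj' hp' hex' i y', hnat.symm⟩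

/-- vanishing on finitely generated submodules implies vanishing -/
theorem subsingleton_H_of_fg (i : ℕ) (M : Type u) [AddCommGroup M] [Module R M]
    (h : ∀ M' : Submodule R M, M'.FG → Subsingleton (LocCoh.H I i M')) :
    Subsingleton (LocCoh.H I i M) := by
  refine ⟨fun x y => ?_⟩
  have key : ∀ z : LocCoh.H I i M, z = 0 := fun z => by
    obtain ⟨M', hfg, w, rfl⟩ := exists_fg_rep I i M z
    haveI := h M' hfg
    rw [Subsingleton.elim w 0, map_zero]
  rw [key x, key y]

end fg

section gv

variable [IsNoetherianRing R]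

lemma withBot_lt_of_add_one_lt (a : WithBot ℕ∞) (i : ℕ)
    (h : a + 1 < ((i + 1 : ℕ) : WithBot ℕ∞)) : a < (i : WithBot ℕ∞) := by
  by_contra hcon
  rw [not_lt] at hcon
  have h1 : (i : WithBot ℕ∞) + 1 ≤ a + 1 := add_le_add hcon le_rfl
  have h2 : ((i + 1 : ℕ) : WithBot ℕ∞) = (i : WithBot ℕ∞) + 1 := by push_cast; rfl
  rw [h2] at h
  exact lt_irrefl _ (lt_of_le_of_lt h1 h)

/-- Grothendieck vanishing for finite modules -/
theorem subsingleton_H_of_supportDim_lt_of_finite (i : ℕ) :
    ∀ (M : Type u) [AddCommGroup M] [Module R M] [Module.Finite R M],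
      Module.supportDim R M < (i : WithBot ℕ∞) → Subsingleton (LocCoh.H I i M) := by
  induction i with
  | zero =>
    intro M _ _ _ h
    have hbot : Module.supportDim R M = ⊥ := by
      by_contra hne
      obtain ⟨e, he⟩ := WithBot.ne_bot_iff_exists.1 hne
      rw [← he] at h
      have h' : (e : WithBot ℕ∞) < ((0 : ℕ∞) : WithBot ℕ∞) := by simpa using h
      exact lt_irrefl _ (lt_of_lt_of_le (WithBot.coe_lt_coe.1 h') (zero_le : (0 : ℕ∞) ≤ e))
    haveI := (Module.supportDim_eq_bot_iff_subsingleton R M).1 hbot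
    exact subsingleton_H_of_subsingleton I 0
  | succ i ih =>
    intro M _ _ _ h
    have hbij := Hmap_mkQ_torsionSub_bijective I M (i + 1) (Nat.succ_pos i)
    suffices hs : Subsingleton (LocCoh.H I (i + 1) (M ⧸ DRing.torsionSub I M)) from
      hbij.injective.subsingleton
    have hdim : Module.supportDim R (M ⧸ DRing.torsionSub I M) < ((i + 1 : ℕ) : WithBot ℕ∞) :=
      lt_of_le_of_lt (Module.supportDim_le_of_surjective (DRing.torsionSub I M).mkQ
        (Submodule.mkQ_surjective _)) h
    have hT : DRing.torsionSub I (M ⧸ DRing.torsionSub I M) = ⊥ := torsionSub_quot_torsionSub I M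
    obtain ⟨r, hr, hrinj⟩ := exists_mem_pow_smul_injective I (M ⧸ DRing.torsionSub I M) hT 1
    rw [pow_one] at hr
    have hreg : IsSMulRegular (M ⧸ DRing.torsionSub I M) r := hrinj
    have hle := Module.supportDim_quotSMulTop_succ_le_of_notMem_minimalPrimes
      (M := M ⧸ DRing.torsionSub I M) (x := r)
      (fun p hp => hreg.notMem_of_mem_minimalPrimes hp)
    have hlt : Module.supportDim R (QuotSMulTop r (M ⧸ DRing.torsionSub I M)) <
        (i : WithBot ℕ∞) :=
      withBot_lt_of_add_one_lt _ i (lt_of_le_of_lt hle hdim)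
    haveI := ih (QuotSMulTop r (M ⧸ DRing.torsionSub I M)) hlt
    have hex : Function.Exact (LinearMap.lsmul R (M ⧸ DRing.torsionSub I M) r)
        (Submodule.mkQ (r • (⊤ : Submodule R (M ⧸ DRing.torsionSub I M)))) := by
      intro y
      rw [Submodule.mkQ_apply, Submodule.Quotient.mk_eq_zero,
        Submodule.mem_smul_pointwise_iff_exists]
      constructor
      · rintro ⟨b, -, hb⟩; exact ⟨b, hb⟩
      · rintro ⟨b, hb⟩; exact ⟨b, Submodule.mem_top, hb⟩
    obtain ⟨δ, -, -, e3, -⟩ := les_mod I (LinearMap.lsmul R (M ⧸ DRing.torsionSub I M) r)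
      (Submodule.mkQ (r • (⊤ : Submodule R (M ⧸ DRing.torsionSub I M)))) hrinj
      (Submodule.mkQ_surjective _) hex i
    have hsm : LinearMap.lsmul R (M ⧸ DRing.torsionSub I M) r = r • LinearMap.id :=
      LinearMap.ext fun m => rfl
    have hinj : ∀ y : LocCoh.H I (i + 1) (M ⧸ DRing.torsionSub I M), r • y = 0 → y = 0 := by
      intro y hy
      have hy' : Hmap I (i + 1) (LinearMap.lsmul R (M ⧸ DRing.torsionSub I M) r) y = 0 := by
        rw [hsm, Hmap_smul, Hmap_id]; exact hy
      obtain ⟨w, rfl⟩ := (e3 y).1 hy'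
      rw [Subsingleton.elim w 0, map_zero]
    have hpow : ∀ (n : ℕ) (y : LocCoh.H I (i + 1) (M ⧸ DRing.torsionSub I M)),
        r ^ n • y = 0 → y = 0 := by
      intro n
      induction n with
      | zero => intro y hy; rwa [pow_zero, one_smul] at hy
      | succ n ihn =>
        intro y hy
        apply ihn
        apply hinj
        rw [smul_smul, ← pow_succ']
        exact hy
    refine ⟨fun x y => ?_⟩
    have key : ∀ z : LocCoh.H I (i + 1) (M ⧸ DRing.torsionSub I M), z = 0 := fun z => by
      obtain ⟨n, hn⟩ := isPowerTorsion_H I (i + 1) (M := M ⧸ DRing.torsionSub I M) z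
      exact hpow n z (hn _ (Ideal.pow_mem_pow hr n))
    rw [key x, key y]

/-- Grothendieck vanishing for arbitrary modules over a Noetherian ring -/
theorem subsingleton_H_of_supportDim_lt (M : Type u) [AddCommGroup M] [Module R M] (i : ℕ)
    (hi : Module.supportDim R M < (i : WithBot ℕ∞)) : Subsingleton (LocCoh.H I i M) := by
  apply subsingleton_H_of_fg I i M
  intro M' hM'
  haveI : Module.Finite R M' := Module.Finite.iff_fg.2 hM'
  exact subsingleton_H_of_supportDim_lt_of_finite I i M'
    (lt_of_le_of_lt (Module.supportDim_le_of_injective M'.subtype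
      (Submodule.injective_subtype _)) hi)

end gv

end Groth.Agent.H58.LC
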