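import Mathlib
import Groth.Prelude.Def_Wider
import Groth.Prelude.Def_DRing3
import Groth.Agent.H58.LCFG
import Groth.Agent.H58.LCIndep

/-!
# Enlarging the support ideal by elements of the Jacobson radical
-/

open CategoryTheory
universe u

namespace Groth.Agent.H58.LC

variable {A : Type u} [CommRing A]

/-- inverting an element of the Jacobson radical drops the dimension -/
theorem ringKrullDim_away_lt (d : ℕ) (hd : ringKrullDim A = d) (f : A)
    (hf : f ∈ (⊥ : Ideal A).jacobson) :
    ringKrullDim (Localization (Submonoid.powers f)) < (d : WithBot ℕ∞) := by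
  rw [ringKrullDim, Order.krullDim_lt_coe_iff]
  intro l
  have hinj := PrimeSpectrum.localization_comap_injective (Localization (Submonoid.powers f))
    (Submonoid.powers f)
  have hmono : StrictMono
      (PrimeSpectrum.comap (algebraMap A (Localization (Submonoid.powers f)))) := by
    intro a b hab
    refine lt_of_le_of_ne ?_ (fun h => hab.ne (hinj h))
    exact Ideal.comap_mono (show a.asIdeal ≤ b.asIdeal from hab.le)
  have hlast : f ∉ ((l.map _ hmono).last).asIdeal := by
    rw [LTSeries.last_map]
    intro hfm
    have hu : IsUnit (algebraMap A (Localization (Submonoid.powers f)) f) :=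
      IsLocalization.map_units (Localization (Submonoid.powers f))
        (⟨f, Submonoid.mem_powers f⟩ : Submonoid.powers f)
    exact l.last.2.ne_top (Ideal.eq_top_of_isUnit_mem _
      (show algebraMap A (Localization (Submonoid.powers f)) f ∈ l.last.asIdeal from hfm) hu)
  obtain ⟨m, hm, hle⟩ := Ideal.exists_le_maximal (l.map _ hmono).last.asIdeal
    (l.map _ hmono).last.2.ne_top
  have hfm : f ∈ m := by
    have h1 := hf
    rw [Ideal.jacobson, Ideal.mem_sInf] at h1
    exact h1 ⟨bot_le, hm⟩
  have hlt : (l.map _ hmono).last < (⟨m, hm.isPrime⟩ : PrimeSpectrum A) :=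
    lt_of_le_of_ne (show (l.map _ hmono).last ≤ (⟨m, hm.isPrime⟩ : PrimeSpectrum A) from hle)
      (fun h => hlast (by rw [h]; exact hfm))
  have hlen := Order.LTSeries.length_le_krullDim ((l.map _ hmono).snoc ⟨m, hm.isPrime⟩ hlt)
  have h2 : ((((l.map _ hmono).snoc ⟨m, hm.isPrime⟩ hlt).length : ℕ) : WithBot ℕ∞) ≤
      (d : WithBot ℕ∞) := le_of_le_of_eq hlen hd
  simp only [RelSeries.snoc_length, LTSeries.map_length] at h2
  exact_mod_cast h2

variable [IsNoetherianRing A]

/-- one step: adding an element of the Jacobson radical to the support ideal -/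
theorem subsingleton_H_of_sup_span_jacobson (d : ℕ) (hd : ringKrullDim A = d) (J : Ideal A)
    (f : A) (hf : f ∈ (⊥ : Ideal A).jacobson)
    (h : ∀ (M : Type u) [AddCommGroup M] [Module A M],
      Subsingleton (LocCoh.H (J ⊔ Ideal.span {f}) d M))
    (M : Type u) [AddCommGroup M] [Module A M] : Subsingleton (LocCoh.H J d M) := by
  haveI : IsNoetherianRing (Localization (Submonoid.powers f)) :=
    IsLocalization.isNoetherianRing (Submonoid.powers f) _ inferInstance
  have hR' := ringKrullDim_away_lt d hd f hf
  haveI h1 : Subsingleton (LocCoh.H (J.map (algebraMap A (Localization (Submonoid.powers f)))) d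
      (LocalizedModule (Submonoid.powers f) M)) := by
    apply subsingleton_H_of_supportDim_lt
    exact lt_of_le_of_lt (Module.supportDim_le_ringKrullDim _ _) hR'
  obtain ⟨φ, -⟩ := semiEq_H A (Localization (Submonoid.powers f)) J d
    (LocalizedModule (Submonoid.powers f) M)
  haveI h2 : Subsingleton (LocCoh.H J d (LocalizedModule (Submonoid.powers f) M)) :=
    φ.symm.injective.subsingleton
  haveI := isLocalizedModule_Hmap_mkLinearMap f J M d
  refine ⟨fun x y => ?_⟩
  have key : ∀ z : LocCoh.H J d M, z = 0 := fun z => by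
    obtain ⟨⟨s, hs⟩, hsz⟩ := (IsLocalizedModule.eq_zero_iff (Submonoid.powers f)
      (Hmap J d (LocalizedModule.mkLinearMap (Submonoid.powers f) M)) (m := z)).1
      (Subsingleton.elim _ _)
    obtain ⟨n, rfl⟩ := (Submonoid.mem_powers_iff s f).1 hs
    obtain ⟨w, hw⟩ := (mem_range_HmapOfLE_iff J f (ModuleCat.of A M) d z).2 ⟨n, hsz⟩
    haveI := h M
    rw [← hw, Subsingleton.elim w 0, map_zero]
  rw [key x, key y]

/-- finitely many steps -/
theorem subsingleton_H_of_sup_span_finset_jacobson [DecidableEq A] (d : ℕ)
    (hd : ringKrullDim A = d) (t : Finset A) :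
    (∀ b ∈ t, b ∈ (⊥ : Ideal A).jacobson) → ∀ (J : Ideal A),
    (∀ (M : Type u) [AddCommGroup M] [Module A M],
      Subsingleton (LocCoh.H (J ⊔ Ideal.span (t : Set A)) d M)) →
    ∀ (M : Type u) [AddCommGroup M] [Module A M], Subsingleton (LocCoh.H J d M) := by
  induction t using Finset.induction_on with
  | empty =>
    intro _ J h M _ _
    have hJ : J ⊔ Ideal.span ((∅ : Finset A) : Set A) = J := by simp
    rw [hJ] at h
    exact h M
  | insert b t hb ih =>
    intro hmem J h M _ _
    have hJ : J ⊔ Ideal.span ((insert b t : Finset A) : Set A) =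
        (J ⊔ Ideal.span (t : Set A)) ⊔ Ideal.span {b} := by
      rw [span_insert_eq, sup_assoc]
    rw [hJ] at h
    exact ih (fun c hc => hmem c (Finset.mem_insert_of_mem hc)) J
      (fun N _ _ => subsingleton_H_of_sup_span_jacobson d hd (J ⊔ Ideal.span (t : Set A)) b
        (hmem b (Finset.mem_insert_self b t)) h N) M

end Groth.Agent.H58.LC
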