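import Mathlib
import Groth.Prelude.Def_Wider
import Groth.Agent.H12.DualDepth
import Groth.Agent.H71.DK.Defs

/-!
# S0364 squad, package (DK1): nilpotency of scalars on a cone of `a • 𝟙`
-/

set_option autoImplicit false
universe u
open CategoryTheory CategoryTheory.Limits DerivedCategory Pretriangulated

namespace Groth.Agent.H58.DK1

attribute [local instance] HasDerivedCategory.standard

open Groth.Agent.H12.DualDepth DerivedCategory.TStructure Groth.Agent.H71.DK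

variable {A : Type u} [CommRing A]

/-- (DK1) nilpotency of scalars on a cone -/
theorem smul_id_cone_sq {X Z : Dual.D A} (a c : A) (g : X ⟶ Z) (h : Z ⟶ X⟦(1 : ℤ)⟧)
    (hT : Triangle.mk (a • 𝟙 X) g h ∈ distTriang (Dual.D A)) (hc : c • 𝟙 X = 0) :
    (c * c) • 𝟙 Z = 0 := by
  have h0 : (Triangle.mk (a • 𝟙 X) g h).mor₂ ≫ (c • 𝟙 Z) = 0 := by
    show g ≫ (c • 𝟙 Z) = 0
    rw [Linear.comp_smul, Category.comp_id, ← Category.id_comp g, ← Linear.smul_comp, hc,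
      zero_comp]
  obtain ⟨φ, hφ'⟩ : ∃ φ : X⟦(1 : ℤ)⟧ ⟶ Z, c • 𝟙 Z = h ≫ φ :=
    Triangle.yoneda_exact₃ _ hT (c • 𝟙 Z) h0
  have h1 : (c • 𝟙 Z) ≫ h = 0 := by
    have : (c • 𝟙 Z) ≫ h = h ≫ (c • 𝟙 X)⟦(1 : ℤ)⟧' := by
      rw [Functor.map_smul, CategoryTheory.Functor.map_id, Linear.comp_smul, Category.comp_id,
        Linear.smul_comp, Category.id_comp]
    rw [this, hc, Functor.map_zero, comp_zero]
  calc (c * c) • 𝟙 Z = (c • 𝟙 Z) ≫ (c • 𝟙 Z) := by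
        rw [Linear.smul_comp, Linear.comp_smul, Category.comp_id, smul_smul]
    _ = (c • 𝟙 Z) ≫ h ≫ φ := by rw [← hφ']
    _ = 0 := by rw [← Category.assoc, h1, zero_comp]

theorem smul_id_cone_self {X Z : Dual.D A} (a : A) (g : X ⟶ Z) (h : Z ⟶ X⟦(1 : ℤ)⟧)
    (hT : Triangle.mk (a • 𝟙 X) g h ∈ distTriang (Dual.D A)) :
    (a * a) • 𝟙 Z = 0 := by
  have h12 : (a • 𝟙 X) ≫ g = 0 := comp_distTriang_mor_zero₁₂ _ hT
  have h31 : h ≫ (a • 𝟙 X)⟦(1 : ℤ)⟧' = 0 := comp_distTriang_mor_zero₃₁ _ hT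
  have h0 : (Triangle.mk (a • 𝟙 X) g h).mor₂ ≫ (a • 𝟙 Z) = 0 := by
    show g ≫ (a • 𝟙 Z) = 0
    rw [Linear.comp_smul, Category.comp_id, ← Category.id_comp g, ← Linear.smul_comp, h12]
  obtain ⟨φ, hφ'⟩ : ∃ φ : X⟦(1 : ℤ)⟧ ⟶ Z, a • 𝟙 Z = h ≫ φ :=
    Triangle.yoneda_exact₃ _ hT (a • 𝟙 Z) h0
  have h1 : (a • 𝟙 Z) ≫ h = 0 := by
    have : (a • 𝟙 Z) ≫ h = h ≫ (a • 𝟙 X)⟦(1 : ℤ)⟧' := by
      rw [Functor.map_smul, CategoryTheory.Functor.map_id, Linear.comp_smul, Category.comp_id,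
        Linear.smul_comp, Category.id_comp]
    rw [this, h31]
  calc (a * a) • 𝟙 Z = (a • 𝟙 Z) ≫ (a • 𝟙 Z) := by
        rw [Linear.smul_comp, Linear.comp_smul, Category.comp_id, smul_smul]
    _ = (a • 𝟙 Z) ≫ h ≫ φ := by rw [← hφ']
    _ = 0 := by rw [← Category.assoc, h1, zero_comp]

end Groth.Agent.H58.DK1
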