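import Mathlib
import Groth.Prelude.Def_Wider
import Groth.Agent.H12.DualDepth
import Groth.Agent.H71.DK.Defs

/-!
# S0364 squad, package (DK2): first-variable long exact sequence of a cone of `a • 𝟙`
-/

set_option autoImplicit false
universe u
open CategoryTheory CategoryTheory.Limits DerivedCategory Pretriangulated

namespace Groth.Agent.H58.DK2

attribute [local instance] HasDerivedCategory.standard

open Groth.Agent.H12.DualDepth DerivedCategory.TStructure Groth.Agent.H71.DK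

variable {A : Type u} [CommRing A]

/-- (DK2a) first variable, vanishing -/
theorem vanO_cone_left {X Z : Dual.D A} (a : A) (g : X ⟶ Z) (h : Z ⟶ X⟦(1 : ℤ)⟧)
    (hT : Triangle.mk (a • 𝟙 X) g h ∈ distTriang (Dual.D A)) (W : Dual.D A) (i j : ℤ)
    (hij : i + 1 = j) (h1 : VanO X W i) (h2 : VanO X W j) : VanO Z W j := by
  intro φ
  have h0 : (Triangle.mk (a • 𝟙 X) g h).mor₂ ≫ φ = 0 := h2 _
  obtain ⟨χ, hχ⟩ := Triangle.yoneda_exact₃ _ hT φ h0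
  obtain ⟨ψ, hψ⟩ := exists_shift_eq X W i j hij χ
  rw [hχ, hψ, h1 ψ, Functor.map_zero, zero_comp]
  exact comp_zero

/-- (DK2b) first variable, top degree: `Hom(Z, W[j]) ≅ Hom(X, W[i]) / a` when `Hom(X, W[j]) = 0` -/
theorem exists_top_cone_left {X Z : Dual.D A} (a : A) (g : X ⟶ Z) (h : Z ⟶ X⟦(1 : ℤ)⟧)
    (hT : Triangle.mk (a • 𝟙 X) g h ∈ distTriang (Dual.D A)) (W : Dual.D A) (i j : ℤ)
    (hij : i + 1 = j) (h2 : VanO X W j) :
    ∃ q : (X ⟶ W⟦i⟧) →ₗ[A] (Z ⟶ W⟦j⟧), Function.Surjective q ∧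
      ∀ ψ : X ⟶ W⟦i⟧, q ψ = 0 ↔ ∃ ψ' : X ⟶ W⟦i⟧, ψ = a • ψ' := by
  let q : (X ⟶ W⟦i⟧) →ₗ[A] (Z ⟶ W⟦j⟧) :=
    { toFun := fun ψ => h ≫ ψ⟦(1 : ℤ)⟧' ≫ (shiftFunctorAdd' (Dual.D A) i 1 j hij).inv.app W
      map_add' := fun ψ₁ ψ₂ => by
        simp only [Functor.map_add, Preadditive.add_comp, Preadditive.comp_add]
      map_smul' := fun c ψ => by
        simp only [Functor.map_smul, Linear.smul_comp, Linear.comp_smul, RingHom.id_apply] }
  have hq : ∀ ψ, q ψ = h ≫ ψ⟦(1 : ℤ)⟧' ≫ (shiftFunctorAdd' (Dual.D A) i 1 j hij).inv.app W :=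
    fun _ => rfl
  refine ⟨q, ?_, ?_⟩
  · intro φ
    have h0 : (Triangle.mk (a • 𝟙 X) g h).mor₂ ≫ φ = 0 := h2 _
    obtain ⟨χ, hχ⟩ := Triangle.yoneda_exact₃ _ hT φ h0
    obtain ⟨ψ, hψ⟩ := exists_shift_eq X W i j hij χ
    refine ⟨ψ, ?_⟩
    rw [hq, hχ, hψ]
    rfl
  · intro ψ
    constructor
    · intro hψ
      rw [hq] at hψ
      have hT' := rot_of_distTriang _ hT
      obtain ⟨χ', hχ'⟩ := Triangle.yoneda_exact₃ _ hT'
        (ψ⟦(1 : ℤ)⟧' ≫ (shiftFunctorAdd' (Dual.D A) i 1 j hij).inv.app W) hψ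
      have hχ'' : ψ⟦(1 : ℤ)⟧' ≫ (shiftFunctorAdd' (Dual.D A) i 1 j hij).inv.app W =
          (-(a • 𝟙 X)⟦(1 : ℤ)⟧') ≫ χ' := hχ'
      obtain ⟨φ', hφ'⟩ := exists_shift_eq X W i j hij χ'
      refine ⟨-φ', ?_⟩
      apply (shiftFunctor (Dual.D A) (1 : ℤ)).map_injective
      rw [← cancel_mono ((shiftFunctorAdd' (Dual.D A) i 1 j hij).inv.app W), hχ'', hφ']
      simp only [Functor.map_neg, Functor.map_smul, Preadditive.neg_comp,
        Linear.smul_comp, CategoryTheory.Functor.map_id, Category.id_comp,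
        smul_neg]
    · rintro ⟨ψ', rfl⟩
      rw [hq]
      have h31 : h ≫ (a • 𝟙 X)⟦(1 : ℤ)⟧' = 0 := comp_distTriang_mor_zero₃₁ _ hT
      have h4 : (a • ψ')⟦(1 : ℤ)⟧' = (a • 𝟙 X)⟦(1 : ℤ)⟧' ≫ ψ'⟦(1 : ℤ)⟧' := by
        rw [← Functor.map_comp, Linear.smul_comp, Category.id_comp]
      rw [h4, Category.assoc, ← Category.assoc, h31, zero_comp]

end Groth.Agent.H58.DK2
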