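import Mathlib
import Groth.Agent.H57.RelAssGen.Defs

/-!
# S1368 squad (RED): the socle condition passes to quotients
-/

set_option autoImplicit false
universe u
open Groth.Agent.H57.RelAssGen

namespace Groth.Agent.H58.RA_RED

/-- (RED) the socle condition passes to quotients. -/
theorem socAt_iff_of_surjective {B B' : Type u} [CommRing B] [CommRing B'] (π : B →+* B')
    (hπ : Function.Surjective π)
    {M M' : Type u} [AddCommGroup M] [Module B M] [AddCommGroup M'] [Module B' M']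
    (πM : M →+ M') (hπM : Function.Surjective πM)
    (hsl : ∀ (b : B) (m : M), πM (b • m) = π b • πM m)
    (hker : ∀ m : M, πM m = 0 ↔ m ∈ (RingHom.ker π) • (⊤ : Submodule B M))
    (I q : Ideal B) (hI : RingHom.ker π ≤ I) (hq : RingHom.ker π ≤ q) :
    SocAt (I.map π) (q.map π) M' ↔ SocAt I q M := by
  -- (F1)
  have F1 : ∀ b : B, π b ∈ q.map π ↔ b ∈ q := by
    intro b
    constructor
    · intro hb
      obtain ⟨x, hx, hxb⟩ := (Ideal.mem_map_iff_of_surjective π hπ).1 hb
      have h1 : b - x ∈ RingHom.ker π := by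
        rw [RingHom.mem_ker, map_sub, hxb, sub_self]
      have h2 : b = (b - x) + x := by ring
      rw [h2]
      exact q.add_mem (hq h1) hx
    · exact fun hb => Ideal.mem_map_of_mem π hb
  -- (F2)
  have F2a : ∀ m : M, m ∈ I • (⊤ : Submodule B M) →
      πM m ∈ (I.map π) • (⊤ : Submodule B' M') := by
    intro m hm
    refine Submodule.smul_induction_on hm ?_ ?_
    · intro a ha m' _
      rw [hsl]
      exact Submodule.smul_mem_smul (Ideal.mem_map_of_mem π ha) Submodule.mem_top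
    · intro x y hx hy
      rw [map_add]
      exact Submodule.add_mem _ hx hy
  have F2b : ∀ y : M', y ∈ (I.map π) • (⊤ : Submodule B' M') →
      ∃ m₀ : M, m₀ ∈ I • (⊤ : Submodule B M) ∧ πM m₀ = y := by
    intro y hy
    refine Submodule.smul_induction_on hy ?_ ?_
    · intro c hc y' _
      obtain ⟨a, ha, rfl⟩ := (Ideal.mem_map_iff_of_surjective π hπ).1 hc
      obtain ⟨m', rfl⟩ := hπM y'
      exact ⟨a • m', Submodule.smul_mem_smul ha Submodule.mem_top, hsl a m'⟩
    · intro x y hx hy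
      obtain ⟨m₁, hm₁, rfl⟩ := hx
      obtain ⟨m₂, hm₂, rfl⟩ := hy
      exact ⟨m₁ + m₂, Submodule.add_mem _ hm₁ hm₂, map_add πM m₁ m₂⟩
  have F2 : ∀ m : M, πM m ∈ (I.map π) • (⊤ : Submodule B' M') ↔
      m ∈ I • (⊤ : Submodule B M) := by
    intro m
    refine ⟨fun hm => ?_, F2a m⟩
    obtain ⟨m₀, hm₀, h0⟩ := F2b _ hm
    have h1 : πM (m - m₀) = 0 := by rw [map_sub, h0, sub_self]
    have h2 : m - m₀ ∈ I • (⊤ : Submodule B M) :=
      Submodule.smul_mono hI le_rfl ((hker _).1 h1)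
    have h3 : m = (m - m₀) + m₀ := by abel
    rw [h3]
    exact Submodule.add_mem _ h2 hm₀
  constructor
  · rintro ⟨m', h1, h2⟩
    obtain ⟨m, rfl⟩ := hπM m'
    refine ⟨m, ?_, ?_⟩
    · intro s hs hsm
      refine h1 (π s) (fun h => hs ((F1 s).1 h)) ?_
      rw [← hsl]
      exact (F2 _).2 hsm
    · intro b hb
      obtain ⟨s', hs', h3⟩ := h2 (π b) ((F1 b).2 hb)
      obtain ⟨s, rfl⟩ := hπ s'
      refine ⟨s, fun h => hs' ((F1 s).2 h), ?_⟩
      rw [← map_mul, ← hsl] at h3
      exact (F2 _).1 h3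
  · rintro ⟨m, h1, h2⟩
    refine ⟨πM m, ?_, ?_⟩
    · intro s' hs' hsm
      obtain ⟨s, rfl⟩ := hπ s'
      rw [← hsl] at hsm
      exact h1 s (fun h => hs' ((F1 s).2 h)) ((F2 _).1 hsm)
    · intro b' hb'
      obtain ⟨b, hb, rfl⟩ := (Ideal.mem_map_iff_of_surjective π hπ).1 hb'
      obtain ⟨s, hs, h3⟩ := h2 b hb
      refine ⟨π s, fun h => hs ((F1 s).1 h), ?_⟩
      rw [← map_mul, ← hsl]
      exact (F2 _).2 h3

end Groth.Agent.H58.RA_RED
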