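import Mathlib
import Groth.Agent.H57.RelAssGen.Defs

/-!
# S1368 squad (NOE): the generic fibre ring is Noetherian
-/

set_option autoImplicit false
universe u
open Groth.Agent.H57.RelAssGen

namespace Groth.Agent.H58.RA_NOE

/-- (NOE) the generic fibre ring is Noetherian. -/
theorem isNoetherianRing_localization_generic (A B : Type u) [CommRing A] [IsDomain A] [CommRing B]
    [Algebra A B] [Algebra.FiniteType A B] :
    IsNoetherianRing (Localization (Algebra.algebraMapSubmonoid B (nonZeroDivisors A))) := by
  haveI : IsLocalization ((nonZeroDivisors A).map (algebraMap A B))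
      (Localization (Algebra.algebraMapSubmonoid B (nonZeroDivisors A))) :=
    inferInstanceAs (IsLocalization (Algebra.algebraMapSubmonoid B (nonZeroDivisors A))
      (Localization (Algebra.algebraMapSubmonoid B (nonZeroDivisors A))))
  let f : FractionRing A →+* Localization (Algebra.algebraMapSubmonoid B (nonZeroDivisors A)) :=
    IsLocalization.map (Localization (Algebra.algebraMapSubmonoid B (nonZeroDivisors A)))
      (algebraMap A B) (Submonoid.le_comap_map (nonZeroDivisors A))
  have hf : f.FiniteType :=
    RingHom.finiteType_localizationPreserves (algebraMap A B) (nonZeroDivisors A)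
      (FractionRing A) (Localization (Algebra.algebraMapSubmonoid B (nonZeroDivisors A)))
      (RingHom.finiteType_algebraMap.2 inferInstance)
  letI : Algebra (FractionRing A)
      (Localization (Algebra.algebraMapSubmonoid B (nonZeroDivisors A))) := f.toAlgebra
  haveI : Algebra.FiniteType (FractionRing A)
      (Localization (Algebra.algebraMapSubmonoid B (nonZeroDivisors A))) := hf
  exact Algebra.FiniteType.isNoetherianRing (FractionRing A) _

end Groth.Agent.H58.RA_NOE
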