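import Mathlib
import Groth.Agent.S0389
import Groth.Agent.H57.RelAssGen.Defs
import Groth.Agent.H58.RA_NOE

/-!
# S1368 squad (ASS): associated primes of the generic fibre give socles
-/

set_option autoImplicit false
universe u
open Groth.Agent.H57.RelAssGen

namespace Groth.Agent.H58.RA_ASS

section Domain

variable {A B M : Type u} [CommRing A] [IsDomain A] [CommRing B] [Algebra A B]
  [Algebra.FiniteType A B] [AddCommGroup M] [Module B M] [Module A M] [IsScalarTower A B M]
  [Module.Finite B M]

/-- (ASS) associated primes of the generic fibre give socles. -/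
theorem socAt_of_mem_associatedPrimes
    (P : Ideal (Localization (Algebra.algebraMapSubmonoid B (nonZeroDivisors A))))
    (hP : P ∈ associatedPrimes (Localization (Algebra.algebraMapSubmonoid B (nonZeroDivisors A)))
      (LocalizedModule (Algebra.algebraMapSubmonoid B (nonZeroDivisors A)) M)) :
    (P.comap (algebraMap B _)).comap (algebraMap A B) = ⊥ ∧
      SocAt (⊥ : Ideal B) (P.comap (algebraMap B _)) M := by
  haveI := Groth.Agent.H58.RA_NOE.isNoetherianRing_localization_generic A B
  have hex : ∀ ξ : LocalizedModule (Algebra.algebraMapSubmonoid B (nonZeroDivisors A)) M,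
      ∃ (m : M) (t : Algebra.algebraMapSubmonoid B (nonZeroDivisors A)),
        ξ = LocalizedModule.mk m t :=
    fun ξ => LocalizedModule.induction_on (fun m t => ⟨m, t, rfl⟩) ξ
  obtain ⟨hPprime, ξ, hξ⟩ := (isAssociatedPrime_iff
    (M := LocalizedModule (Algebra.algebraMapSubmonoid B (nonZeroDivisors A)) M)).mp hP
  obtain ⟨m, t, rfl⟩ := hex ξ
  have hmemP : ∀ c : Localization (Algebra.algebraMapSubmonoid B (nonZeroDivisors A)),
      c ∈ P ↔ c • (LocalizedModule.mk m t :
        LocalizedModule (Algebra.algebraMapSubmonoid B (nonZeroDivisors A)) M) = 0 := by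
    intro c
    rw [hξ, Submodule.mem_colon_singleton, Submodule.mem_bot]
  have hsmul : ∀ s : B,
      algebraMap B (Localization (Algebra.algebraMapSubmonoid B (nonZeroDivisors A))) s •
        (LocalizedModule.mk m t :
          LocalizedModule (Algebra.algebraMapSubmonoid B (nonZeroDivisors A)) M) =
        LocalizedModule.mk (s • m) t := by
    intro s
    rw [algebraMap_smul, LocalizedModule.smul'_mk]
  have hunitT : ∀ u : Algebra.algebraMapSubmonoid B (nonZeroDivisors A),
      algebraMap B (Localization (Algebra.algebraMapSubmonoid B (nonZeroDivisors A))) u.1 ∉ P := by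
    intro u hmem
    exact hPprime.ne_top (Ideal.eq_top_of_isUnit_mem _ hmem
      (IsLocalization.map_units
        (Localization (Algebra.algebraMapSubmonoid B (nonZeroDivisors A))) u))
  constructor
  · rw [eq_bot_iff]
    intro a ha
    rw [Ideal.mem_comap, Ideal.mem_comap] at ha
    by_contra h0
    have h1 : a ≠ 0 := fun h => h0 (by rw [h]; exact Ideal.zero_mem _)
    exact hunitT ⟨algebraMap A B a, ⟨a, mem_nonZeroDivisors_of_ne_zero h1, rfl⟩⟩ ha
  · refine ⟨m, ?_, ?_⟩
    · intro s hs hsm
      rw [Submodule.bot_smul, Submodule.mem_bot] at hsm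
      apply hs
      rw [Ideal.mem_comap, hmemP, hsmul, hsm, LocalizedModule.zero_mk]
    · intro b hb
      rw [Ideal.mem_comap, hmemP, hsmul] at hb
      have h1 : (LocalizedModule.mk (b • m) t :
          LocalizedModule (Algebra.algebraMapSubmonoid B (nonZeroDivisors A)) M) =
          LocalizedModule.mk 0 1 := by
        rw [hb, LocalizedModule.zero_mk]
      obtain ⟨u, hu⟩ := LocalizedModule.mk_eq.1 h1
      rw [smul_zero, smul_zero, one_smul] at hu
      refine ⟨u.1, fun h => hunitT u h, ?_⟩
      rw [mul_smul]
      have h2 : u.1 • b • m = 0 := hu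
      rw [h2]
      exact Submodule.zero_mem _

end Domain

end Groth.Agent.H58.RA_ASS
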