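import Mathlib

/-! (T2) for helper17's S0815 squad: prime partition. -/

set_option autoImplicit false
universe u

namespace Groth.Agent.H58.FC

theorem exists_ideals_of_closed_cover (A : Type u) [CommRing A] [IsNoetherianRing A] (I : Ideal A)
    (Z F₁ F₂ : Set (PrimeSpectrum A)) (hZ : IsClosed Z) (hF₁ : IsClosed F₁) (hF₂ : IsClosed F₂)
    (h₁ : F₁ ⊆ PrimeSpectrum.zeroLocus (I : Set A)) (h₂ : F₂ ⊆ PrimeSpectrum.zeroLocus (I : Set A))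
    (hcov : PrimeSpectrum.zeroLocus (I : Set A) ⊆ F₁ ∪ F₂ ∪ Z) (hint : F₁ ∩ F₂ ⊆ Z)
    (hn₁ : ¬ F₁ ⊆ Z) (hn₂ : ¬ F₂ ⊆ Z) :
    ∃ a b : Ideal A, a ≠ ⊤ ∧ b ≠ ⊤ ∧ (a ⊓ b).radical = I.radical ∧
      PrimeSpectrum.zeroLocus ((a ⊔ b : Ideal A) : Set A) ⊆ Z ∧
      (∀ x : Ideal A, x.IsPrime → a ⊔ b ≤ x → ∃ q : Ideal A, q.IsPrime ∧ a ≤ q ∧ q < x) ∧
      (∀ x : Ideal A, x.IsPrime → a ⊔ b ≤ x → ∃ q : Ideal A, q.IsPrime ∧ b ≤ q ∧ q < x) := by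
  classical
  let P : Ideal A → Prop := fun q =>
    ∃ hq : q.IsPrime, (⟨q, hq⟩ : PrimeSpectrum A) ∈ F₁ ∧ (⟨q, hq⟩ : PrimeSpectrum A) ∉ Z
  let 𝒜 : Set (Ideal A) := {q | q ∈ I.minimalPrimes ∧ P q}
  let ℬ : Set (Ideal A) := {q | q ∈ I.minimalPrimes ∧ ¬ P q}
  have hfin : (I.minimalPrimes).Finite := Ideal.finite_minimalPrimes_of_isNoetherianRing A I
  have h𝒜fin : 𝒜.Finite := hfin.subset (fun q hq => hq.1)
  have hℬfin : ℬ.Finite := hfin.subset (fun q hq => hq.1)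
  have spec : ∀ (F : Set (PrimeSpectrum A)), IsClosed F → ∀ (q x : PrimeSpectrum A),
      q ≤ x → q ∈ F → x ∈ F := by
    intro F hF q x hqx hq
    exact hF.stableUnderSpecialization ((PrimeSpectrum.le_iff_specializes q x).mp hqx) hq
  have finf : ∀ (𝒮 : Set (Ideal A)), 𝒮.Finite → ∀ x : Ideal A, x.IsPrime → sInf 𝒮 ≤ x →
      ∃ q ∈ 𝒮, q ≤ x := by
    intro 𝒮 h𝒮 x hx hle
    have h' : h𝒮.toFinset.inf id ≤ x := by
      rw [Finset.inf_id_eq_sInf, Set.Finite.coe_toFinset]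
      exact hle
    obtain ⟨q, hq, hqx⟩ := (Ideal.IsPrime.inf_le' hx).mp h'
    exact ⟨q, h𝒮.mem_toFinset.mp hq, hqx⟩
  have hmin : ∀ x : PrimeSpectrum A, x ∈ PrimeSpectrum.zeroLocus (I : Set A) →
      ∃ q ∈ I.minimalPrimes, q ≤ x.asIdeal := by
    intro x hx
    haveI := x.isPrime
    exact Ideal.exists_minimalPrimes_le ((PrimeSpectrum.mem_zeroLocus _ _).mp hx)
  obtain ⟨q₁, hq₁𝒜⟩ : 𝒜.Nonempty := by
    obtain ⟨x, hx1, hxZ⟩ := Set.not_subset.mp hn₁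
    obtain ⟨q, hq, hqx⟩ := hmin x (h₁ hx1)
    have hqp : q.IsPrime := hq.1.1
    have hle : (⟨q, hqp⟩ : PrimeSpectrum A) ≤ x := hqx
    have hqZ : (⟨q, hqp⟩ : PrimeSpectrum A) ∉ Z := fun hz => hxZ (spec Z hZ _ _ hle hz)
    have hqI : (⟨q, hqp⟩ : PrimeSpectrum A) ∈ PrimeSpectrum.zeroLocus (I : Set A) :=
      (PrimeSpectrum.mem_zeroLocus _ _).mpr hq.1.2
    rcases hcov hqI with (h | h) | h
    · exact ⟨q, hq, hqp, h, hqZ⟩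
    · exact absurd (hint ⟨hx1, spec F₂ hF₂ _ _ hle h⟩) hxZ
    · exact absurd h hqZ
  obtain ⟨q₂, hq₂ℬ⟩ : ℬ.Nonempty := by
    obtain ⟨x, hx2, hxZ⟩ := Set.not_subset.mp hn₂
    obtain ⟨q, hq, hqx⟩ := hmin x (h₂ hx2)
    have hqp : q.IsPrime := hq.1.1
    have hle : (⟨q, hqp⟩ : PrimeSpectrum A) ≤ x := hqx
    refine ⟨q, hq, ?_⟩
    rintro ⟨hqp', hF, -⟩
    exact hxZ (hint ⟨spec F₁ hF₁ _ _ hle hF, hx2⟩)
  refine ⟨sInf 𝒜, sInf ℬ, ?_, ?_, ?_, ?_, ?_, ?_⟩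
  · intro htop
    have h3 : sInf 𝒜 ≤ q₁ := sInf_le hq₁𝒜
    rw [htop, top_le_iff] at h3
    exact hq₁𝒜.1.1.1.ne_top h3
  · intro htop
    have h3 : sInf ℬ ≤ q₂ := sInf_le hq₂ℬ
    rw [htop, top_le_iff] at h3
    exact hq₂ℬ.1.1.1.ne_top h3
  · have hun : 𝒜 ∪ ℬ = I.minimalPrimes := by
      ext q
      constructor
      · rintro (h | h) <;> exact h.1
      · intro h
        by_cases hp : P q
        · exact Or.inl ⟨h, hp⟩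
        · exact Or.inr ⟨h, hp⟩
    rw [← sInf_union, hun, Ideal.sInf_minimalPrimes, Ideal.radical_idem]
  · intro x hx
    have hx' : sInf 𝒜 ⊔ sInf ℬ ≤ x.asIdeal := (PrimeSpectrum.mem_zeroLocus _ _).mp hx
    obtain ⟨q, hq, hqx⟩ := finf 𝒜 h𝒜fin x.asIdeal x.isPrime (le_sup_left.trans hx')
    obtain ⟨q', hq', hq'x⟩ := finf ℬ hℬfin x.asIdeal x.isPrime (le_sup_right.trans hx')
    obtain ⟨hqm, hqp, hqF, hqZ⟩ := hq
    have hxF₁ : x ∈ F₁ := spec F₁ hF₁ ⟨q, hqp⟩ x hqx hqF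
    have hq'p : q'.IsPrime := hq'.1.1.1
    have hq'I : (⟨q', hq'p⟩ : PrimeSpectrum A) ∈ PrimeSpectrum.zeroLocus (I : Set A) :=
      (PrimeSpectrum.mem_zeroLocus _ _).mpr hq'.1.1.2
    have hle' : (⟨q', hq'p⟩ : PrimeSpectrum A) ≤ x := hq'x
    rcases hcov hq'I with (h | h) | h
    · by_cases hz : (⟨q', hq'p⟩ : PrimeSpectrum A) ∈ Z
      · exact spec Z hZ _ _ hle' hz
      · exact absurd ⟨hq'p, h, hz⟩ hq'.2
    · exact hint ⟨hxF₁, spec F₂ hF₂ _ _ hle' h⟩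
    · exact spec Z hZ _ _ hle' h
  · intro x hxp hx
    obtain ⟨q, hq, hqx⟩ := finf 𝒜 h𝒜fin x hxp (le_sup_left.trans hx)
    obtain ⟨q', hq', hq'x⟩ := finf ℬ hℬfin x hxp (le_sup_right.trans hx)
    refine ⟨q, hq.1.1.1, sInf_le hq, lt_of_le_of_ne hqx ?_⟩
    intro hqx_eq
    have hq'q : q' ≤ q := by rw [hqx_eq]; exact hq'x
    have h4 : q ≤ q' := hq.1.2 hq'.1.1 hq'q
    have heq : q = q' := le_antisymm h4 hq'q
    exact hq'.2 (heq ▸ hq.2)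
  · intro x hxp hx
    obtain ⟨q, hq, hqx⟩ := finf 𝒜 h𝒜fin x hxp (le_sup_left.trans hx)
    obtain ⟨q', hq', hq'x⟩ := finf ℬ hℬfin x hxp (le_sup_right.trans hx)
    refine ⟨q', hq'.1.1.1, sInf_le hq', lt_of_le_of_ne hq'x ?_⟩
    intro hqx_eq
    have hqq' : q ≤ q' := by rw [hqx_eq]; exact hqx
    have h4 : q' ≤ q := hq'.1.2 hq.1.1 hqq'
    have heq : q = q' := le_antisymm hqq' h4
    exact hq'.2 (heq ▸ hq.2)

end Groth.Agent.H58.FC
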