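import Mathlib

/-! (G2) for helper17's S3362 squad. -/

set_option autoImplicit false
universe u

namespace Groth.Agent.H58.PS

theorem isClosed_image_union_pt' {U T : Type u} [TopologicalSpace U] [TopologicalSpace T]
    (ι : U → T) (hι : Topology.IsOpenEmbedding ι) (pt : T) (hpt : Set.range ι = {pt}ᶜ)
    (Z : Set U) (hZ : IsClosed Z) : IsClosed (ι '' Z ∪ {pt}) := by
  rw [← isOpen_compl_iff]
  have h : (ι '' Z ∪ {pt})ᶜ = ι '' Zᶜ := by
    ext x
    constructor
    · intro hx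
      have hx1 : x ∉ ι '' Z := fun h => hx (Or.inl h)
      have hx2 : x ≠ pt := fun h => hx (Or.inr h)
      have hx3 : x ∈ Set.range ι := by rw [hpt]; exact hx2
      obtain ⟨u, rfl⟩ := hx3
      exact ⟨u, fun hu => hx1 ⟨u, hu, rfl⟩, rfl⟩
    · rintro ⟨u, hu, rfl⟩ hx
      rcases hx with ⟨z, hz, hzu⟩ | hx
      · exact hu (hι.injective hzu ▸ hz)
      · have h1 : ι u ∈ Set.range ι := ⟨u, rfl⟩
        rw [hpt] at h1
        exact h1 hx
  rw [h]
  exact hι.isOpenMap _ hZ.isOpen_compl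

theorem dim_add_one_le {U T : Type u} [TopologicalSpace U] [TopologicalSpace T] (ι : U → T)
    (hι : Topology.IsOpenEmbedding ι) (pt : T) (hpt : Set.range ι = {pt}ᶜ)
    (hloc : ∀ C : Set T, IsClosed C → C.Nonempty → pt ∈ C)
    (Z : Set U) (hZ : IsClosed Z) (hne : Z.Nonempty) :
    topologicalKrullDim ↥Z + 1 ≤ topologicalKrullDim ↥(ι '' Z ∪ {pt}) := by
  classical
  have hYc : IsClosed (ι '' Z ∪ {pt}) := isClosed_image_union_pt' ι hι pt hpt Z hZ
  let g : ↥Z → ↥(ι '' Z ∪ {pt}) := fun z => ⟨ι z.1, Or.inl ⟨z.1, z.2, rfl⟩⟩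
  have hgc : Continuous g := (hι.continuous.comp continuous_subtype_val).subtype_mk _
  have hgi : Topology.IsInducing g := by
    have h1 : Topology.IsInducing ((Subtype.val : ↥(ι '' Z ∪ {pt}) → T) ∘ g) := by
      have h2 : (Subtype.val : ↥(ι '' Z ∪ {pt}) → T) ∘ g = ι ∘ (Subtype.val : ↥Z → U) := rfl
      rw [h2]
      exact hι.isInducing.comp Topology.IsInducing.subtypeVal
    exact Topology.IsInducing.of_comp hgc continuous_subtype_val h1
  let pt' : ↥(ι '' Z ∪ {pt}) := ⟨pt, Or.inr rfl⟩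
  have hptc : IsClosed ({pt} : Set T) := by
    rw [← isOpen_compl_iff, ← hpt]
    exact hι.isOpen_range
  have hpt'c : IsClosed ({pt'} : Set ↥(ι '' Z ∪ {pt})) := by
    have h2 : ({pt'} : Set ↥(ι '' Z ∪ {pt})) = Subtype.val ⁻¹' ({pt} : Set T) := by
      ext y
      simp [pt', Subtype.ext_iff]
    rw [h2]
    exact hptc.preimage continuous_subtype_val
  let P₀ : TopologicalSpace.IrreducibleCloseds ↥(ι '' Z ∪ {pt}) :=
    ⟨{pt'}, isIrreducible_singleton, hpt'c⟩
  let φ₀ : TopologicalSpace.IrreducibleCloseds ↥Z →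
      TopologicalSpace.IrreducibleCloseds ↥(ι '' Z ∪ {pt}) :=
    TopologicalSpace.IrreducibleCloseds.map g hgc
  have hφ₀ : StrictMono φ₀ :=
    TopologicalSpace.IrreducibleCloseds.map_strictMono_of_isInducing hgi
  let φ : WithBot (TopologicalSpace.IrreducibleCloseds ↥Z) →
      TopologicalSpace.IrreducibleCloseds ↥(ι '' Z ∪ {pt}) :=
    fun w => WithBot.recBotCoe P₀ φ₀ w
  have hφ : StrictMono φ := by
    rw [WithBot.strictMono_iff]
    refine ⟨hφ₀, fun V => ?_⟩
    show P₀ < φ₀ V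
    have hcl : IsClosed (Subtype.val '' (closure (g '' (V : Set ↥Z))) : Set T) :=
      (hYc.isClosedEmbedding_subtypeVal).isClosedMap _ isClosed_closure
    obtain ⟨z, hz⟩ := V.isIrreducible.nonempty
    have hgz : g z ∈ closure (g '' (V : Set ↥Z)) := subset_closure ⟨z, hz, rfl⟩
    have hptmem : pt ∈ Subtype.val '' (closure (g '' (V : Set ↥Z))) :=
      hloc _ hcl ⟨_, ⟨g z, hgz, rfl⟩⟩
    obtain ⟨y, hy, hy'⟩ := hptmem
    have hy'' : y = pt' := Subtype.ext hy'
    have hpt'mem : pt' ∈ closure (g '' (V : Set ↥Z)) := hy'' ▸ hy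
    have hle : P₀ ≤ φ₀ V := by
      intro w hw
      have hw' : w = pt' := hw
      rw [hw']
      exact hpt'mem
    refine lt_of_le_of_ne hle ?_
    intro heq
    have h3 : g z ∈ (P₀ : Set ↥(ι '' Z ∪ {pt})) := by
      rw [heq]
      exact hgz
    have h3' : g z = pt' := h3
    have h4 : ι z.1 = pt := congrArg Subtype.val h3'
    have h5 : ι z.1 ∈ Set.range ι := ⟨z.1, rfl⟩
    rw [hpt] at h5
    exact h5 h4
  haveI : Nonempty (TopologicalSpace.IrreducibleCloseds ↥Z) := by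
    obtain ⟨z, hz⟩ := hne
    exact ⟨⟨closure {(⟨z, hz⟩ : ↥Z)}, isIrreducible_singleton.closure, isClosed_closure⟩⟩
  have hfin := Order.krullDim_le_of_strictMono φ hφ
  rw [Order.krullDim_withBot] at hfin
  exact hfin

end Groth.Agent.H58.PS
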