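import Groth.Prelude.Def_Wider
import Mathlib.AlgebraicGeometry.Modules.Tilde

/-!
# Sections of `M~` over open subsets of `Spec R`: kernel / cokernel of restriction are power torsion
-/

set_option autoImplicit false
universe u
open AlgebraicGeometry CategoryTheory Opposite TopologicalSpace

namespace Groth.Agent.H58.TS

variable {R : Type u} [CommRing R] (M : Type u) [AddCommGroup M] [Module R M]

/-- the sheaf of `R`-modules on `Spec R` attached to `M`. -/
noncomputable abbrev sh :=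
  modulesSpecToSheaf.obj (tilde (R := CommRingCat.of R) (ModuleCat.of R M))

/-- sections over `U`. -/
noncomputable abbrev sec (U : (Spec (CommRingCat.of R)).Opens) : ModuleCat.{u} R :=
  (sh M).presheaf.obj (op U)

/-- restriction. -/
noncomputable def res {U V : (Spec (CommRingCat.of R)).Opens} (h : V ≤ U) :
    sec M U →ₗ[R] sec M V :=
  ((sh M).presheaf.map (homOfLE h).op).hom

theorem res_res {U V W : (Spec (CommRingCat.of R)).Opens} (h₁ : V ≤ U) (h₂ : W ≤ V)
    (s : sec M U) : res M h₂ (res M h₁ s) = res M (h₂.trans h₁) s := by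
  have h : (sh M).presheaf.map (homOfLE (h₂.trans h₁)).op =
      (sh M).presheaf.map (homOfLE h₁).op ≫ (sh M).presheaf.map (homOfLE h₂).op := by
    rw [← Functor.map_comp]; rfl
  unfold res
  rw [h]; rfl

/-- the canonical map `M → Γ(U, M~)`. -/
noncomputable def toSec (U : (Spec (CommRingCat.of R)).Opens) : M →ₗ[R] sec M U :=
  (tilde.toOpen (R := CommRingCat.of R) (ModuleCat.of R M) U).hom

theorem res_toSec {U V : (Spec (CommRingCat.of R)).Opens} (h : V ≤ U) (m : M) :
    res M h (toSec M U m) = toSec M V m := by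
  have := tilde.toOpen_res (R := CommRingCat.of R) (ModuleCat.of R M) U V (homOfLE h)
  exact congrArg (fun φ => φ.hom m) this

theorem sec_ext {U : (Spec (CommRingCat.of R)).Opens} (s t : sec M U)
    (h : ∀ x ∈ U, ∃ V, ∃ hV : V ≤ U, x ∈ V ∧ res M hV s = res M hV t) : s = t :=
  TopCat.Presheaf.IsSheaf.section_ext (sh M).2 (U := op U) h

theorem isLoc_aux (R : CommRingCat.{u}) (M : ModuleCat.{u} R) (f : R) :
    IsLocalizedModule.Away f (tilde.toOpen M (PrimeSpectrum.basicOpen f)).hom := inferInstance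

instance isLoc (f : R) :
    IsLocalizedModule (Submonoid.powers f) (toSec M (PrimeSpectrum.basicOpen f)) :=
  isLoc_aux (CommRingCat.of R) (ModuleCat.of R M) f

theorem toSec_basicOpen_eq_zero_iff (f : R) (m : M) :
    toSec M (PrimeSpectrum.basicOpen f) m = 0 ↔ ∃ k : ℕ, f ^ k • m = 0 := by
  rw [IsLocalizedModule.eq_zero_iff (Submonoid.powers f)]
  constructor
  · rintro ⟨⟨c, k, rfl⟩, hc⟩; exact ⟨k, hc⟩
  · rintro ⟨k, hk⟩; exact ⟨⟨f ^ k, k, rfl⟩, hk⟩

theorem smul_pow_injective (f : R) (k : ℕ) (y : sec M (PrimeSpectrum.basicOpen f))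
    (h : f ^ k • y = 0) : y = 0 := by
  apply IsLocalizedModule.smul_injective (toSec M (PrimeSpectrum.basicOpen f))
    (⟨f ^ k, k, rfl⟩ : Submonoid.powers f)
  simpa [Submonoid.smul_def] using h

theorem surj_basicOpen (f : R) (y : sec M (PrimeSpectrum.basicOpen f)) :
    ∃ (m : M) (k : ℕ), f ^ k • y = toSec M (PrimeSpectrum.basicOpen f) m := by
  obtain ⟨⟨m, ⟨_, k, rfl⟩⟩, hm⟩ :=
    IsLocalizedModule.surj (Submonoid.powers f) (toSec M (PrimeSpectrum.basicOpen f)) y
  exact ⟨m, k, hm⟩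

variable (a : Ideal R)

theorem basicOpen_le_punctured {f : R} (hf : f ∈ a) :
    PrimeSpectrum.basicOpen f ≤ LocCoh.puncturedOpen R a := by
  intro p hp
  show p ∈ (PrimeSpectrum.zeroLocus (a : Set R))ᶜ
  rw [Set.mem_compl_iff, PrimeSpectrum.mem_zeroLocus]
  intro h
  exact (PrimeSpectrum.mem_basicOpen f p).1 hp (h hf)

theorem exists_basicOpen_of_mem_punctured {p : PrimeSpectrum R}
    (hp : p ∈ LocCoh.puncturedOpen R a) : ∃ f ∈ a, p ∈ PrimeSpectrum.basicOpen f := by
  have hp' : p ∉ PrimeSpectrum.zeroLocus (a : Set R) := hp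
  rw [PrimeSpectrum.mem_zeroLocus, Set.not_subset] at hp'
  obtain ⟨f, hfa, hfp⟩ := hp'
  exact ⟨f, hfa, (PrimeSpectrum.mem_basicOpen f p).2 hfp⟩

theorem exists_pow_smul_eq_zero {P : Type*} [AddCommGroup P] [Module R P] (ha : a.FG) (x : P)
    (h : ∀ f ∈ a, ∃ k : ℕ, f ^ k • x = 0) : ∃ n : ℕ, ∀ r ∈ a ^ n, r • x = 0 := by
  have hle : a ≤ Ideal.radical (LinearMap.ker (LinearMap.toSpanSingleton R P x)) := by
    intro f hf
    obtain ⟨k, hk⟩ := h f hf
    exact ⟨k, by simpa [LinearMap.mem_ker, LinearMap.toSpanSingleton_apply] using hk⟩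
  obtain ⟨n, hn⟩ := Ideal.exists_pow_le_of_le_radical_of_fg hle ha
  exact ⟨n, fun r hr => by
    simpa [LinearMap.mem_ker, LinearMap.toSpanSingleton_apply] using hn hr⟩

/-- a finite cover of an open subset of `Spec R` by basic opens (`R` Noetherian). -/
theorem exists_finset_cover' [IsNoetherianRing R] (W : TopologicalSpace.Opens (PrimeSpectrum R)) :
    ∃ s : Finset R, (∀ g ∈ s, PrimeSpectrum.basicOpen g ≤ W) ∧
      ∀ x ∈ W, ∃ g ∈ s, x ∈ PrimeSpectrum.basicOpen g := by
  have hcl : IsClosed ((W : Set (PrimeSpectrum R))ᶜ) := W.2.isClosed_compl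
  obtain ⟨b, hb⟩ := (PrimeSpectrum.isClosed_iff_zeroLocus_ideal _).1 hcl
  obtain ⟨s, hs⟩ := (IsNoetherian.noetherian b : b.FG)
  have hmem : ∀ x : PrimeSpectrum R, x ∈ W ↔ ∃ g ∈ s, g ∉ x.asIdeal := by
    intro x
    have h1 : x ∈ W ↔ x ∉ (W : Set (PrimeSpectrum R))ᶜ := by
      rw [Set.notMem_compl_iff]; rfl
    rw [h1, hb, ← hs, PrimeSpectrum.zeroLocus_span, PrimeSpectrum.mem_zeroLocus, Set.not_subset]
    constructor
    · rintro ⟨g, hg, hgx⟩; exact ⟨g, hg, hgx⟩
    · rintro ⟨g, hg, hgx⟩; exact ⟨g, hg, hgx⟩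
  refine ⟨s, ?_, ?_⟩
  · intro g hg x hx
    exact (hmem x).2 ⟨g, hg, (PrimeSpectrum.mem_basicOpen g x).1 hx⟩
  · intro x hx
    obtain ⟨g, hg, hgx⟩ := (hmem x).1 hx
    exact ⟨g, hg, (PrimeSpectrum.mem_basicOpen g x).2 hgx⟩

theorem exists_finset_cover [IsNoetherianRing R] (W : (Spec (CommRingCat.of R)).Opens) :
    ∃ s : Finset R, (∀ g ∈ s, PrimeSpectrum.basicOpen g ≤ W) ∧
      ∀ x ∈ W, ∃ g ∈ s, x ∈ PrimeSpectrum.basicOpen g :=
  exists_finset_cover' W

/-- a section over `W` vanishing on `D(f)` is killed by a power of `f`. -/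
theorem exists_pow_smul_eq_zero_of_res_eq_zero {W : (Spec (CommRingCat.of R)).Opens}
    (s : Finset R) (hsW : ∀ g ∈ s, PrimeSpectrum.basicOpen g ≤ W)
    (hcov : ∀ x ∈ W, ∃ g ∈ s, x ∈ PrimeSpectrum.basicOpen g)
    {f : R} (hfW : PrimeSpectrum.basicOpen f ≤ W) (τ : sec M W)
    (hτ : res M hfW τ = 0) : ∃ l : ℕ, f ^ l • τ = 0 := by
  classical
  have key : ∀ g (hg : g ∈ s), ∃ e : ℕ, f ^ e • res M (hsW g hg) τ = 0 := by
    intro g hg
    obtain ⟨x, c, hx⟩ := surj_basicOpen M g (res M (hsW g hg) τ)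
    have hfg_g : PrimeSpectrum.basicOpen (f * g) ≤ PrimeSpectrum.basicOpen g := by
      rw [PrimeSpectrum.basicOpen_mul]; exact inf_le_right
    have hfg_f : PrimeSpectrum.basicOpen (f * g) ≤ PrimeSpectrum.basicOpen f := by
      rw [PrimeSpectrum.basicOpen_mul]; exact inf_le_left
    have h0 : res M hfg_g (res M (hsW g hg) τ) = 0 := by
      rw [res_res, ← res_res M hfW hfg_f, hτ, map_zero]
    have h1 : toSec M (PrimeSpectrum.basicOpen (f * g)) x = 0 := by
      rw [← res_toSec M hfg_g, ← hx, map_smul, h0, smul_zero]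
    obtain ⟨e, he⟩ := (toSec_basicOpen_eq_zero_iff M (f * g) x).1 h1
    refine ⟨e, ?_⟩
    have h2 : g ^ (c + e) • (f ^ e • res M (hsW g hg) τ) = 0 := by
      calc g ^ (c + e) • (f ^ e • res M (hsW g hg) τ)
          = (f ^ e * g ^ e) • (g ^ c • res M (hsW g hg) τ) := by
            rw [smul_smul, smul_smul]; congr 1; ring
        _ = toSec M (PrimeSpectrum.basicOpen g) ((f * g) ^ e • x) := by
            rw [hx, ← map_smul, mul_pow]
        _ = 0 := by rw [he, map_zero]
    exact smul_pow_injective M g (c + e) _ h2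
  choose! e he using key
  refine ⟨s.sup e, ?_⟩
  apply sec_ext
  intro x hx
  obtain ⟨g, hgs, hgx⟩ := hcov x hx
  refine ⟨_, hsW g hgs, hgx, ?_⟩
  rw [map_zero, map_smul]
  have hle : e g ≤ s.sup e := Finset.le_sup hgs
  rw [← Nat.sub_add_cancel hle, pow_add, mul_smul, he g hgs, smul_zero]

theorem ker_toSec (ha : a.FG) :
    LinearMap.ker (toSec M (LocCoh.puncturedOpen R a)) =
      ⨆ n : ℕ, LocCoh.torsionBy (a ^ n) M := by
  have hmono : Monotone (fun n : ℕ => LocCoh.torsionBy (a ^ n) M) := by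
    intro n k hnk
    exact Submodule.torsionBySet_le_torsionBySet_of_subset (Ideal.pow_le_pow_right hnk)
  ext m
  rw [LinearMap.mem_ker, Submodule.mem_iSup_of_directed _ hmono.directed_le]
  constructor
  · intro hm
    have h1 : ∀ f ∈ a, ∃ k : ℕ, f ^ k • m = 0 := by
      intro f hf
      rw [← toSec_basicOpen_eq_zero_iff, ← res_toSec M (basicOpen_le_punctured a hf), hm,
        map_zero]
    obtain ⟨n, hn⟩ := exists_pow_smul_eq_zero a ha m h1
    refine ⟨n, ?_⟩
    rw [Submodule.mem_torsionBySet_iff]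
    rintro ⟨r, hr⟩
    exact hn r hr
  · rintro ⟨n, hn⟩
    rw [Submodule.mem_torsionBySet_iff] at hn
    apply sec_ext
    intro x hx
    obtain ⟨f, hf, hxf⟩ := exists_basicOpen_of_mem_punctured a hx
    refine ⟨_, basicOpen_le_punctured a hf, hxf, ?_⟩
    rw [res_toSec, map_zero, toSec_basicOpen_eq_zero_iff]
    exact ⟨n, hn ⟨f ^ n, Ideal.pow_mem_pow hf n⟩⟩

theorem torsion_sec_eq_bot :
    (⨆ n : ℕ, LocCoh.torsionBy (a ^ n) (sec M (LocCoh.puncturedOpen R a))) = ⊥ := by
  rw [eq_bot_iff]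
  apply iSup_le
  intro n σ hσ
  rw [Submodule.mem_torsionBySet_iff] at hσ
  rw [Submodule.mem_bot]
  apply sec_ext
  intro x hx
  obtain ⟨f, hf, hxf⟩ := exists_basicOpen_of_mem_punctured a hx
  refine ⟨_, basicOpen_le_punctured a hf, hxf, ?_⟩
  rw [map_zero]
  have h1 : f ^ n • res M (basicOpen_le_punctured a hf) σ = 0 := by
    rw [← map_smul, hσ ⟨f ^ n, Ideal.pow_mem_pow hf n⟩, map_zero]
  exact smul_pow_injective M f n _ h1

theorem exists_pow_smul_mem_range [IsNoetherianRing R] (τ : sec M (LocCoh.puncturedOpen R a)) :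
    ∃ n : ℕ, ∀ r ∈ a ^ n, r • τ ∈ LinearMap.range (toSec M (LocCoh.puncturedOpen R a)) := by
  have ha : a.FG := IsNoetherian.noetherian a
  obtain ⟨s, hsW, hcov⟩ := exists_finset_cover (LocCoh.puncturedOpen R a)
  have h := exists_pow_smul_eq_zero a ha
    (Submodule.Quotient.mk (p := LinearMap.range (toSec M (LocCoh.puncturedOpen R a))) τ) ?_
  · obtain ⟨n, hn⟩ := h
    refine ⟨n, fun r hr => ?_⟩
    have := hn r hr
    rwa [← Submodule.Quotient.mk_smul, Submodule.Quotient.mk_eq_zero] at this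
  · intro f hf
    obtain ⟨m, k, hm⟩ := surj_basicOpen M f (res M (basicOpen_le_punctured a hf) τ)
    have hτ0 : res M (basicOpen_le_punctured a hf)
        (f ^ k • τ - toSec M (LocCoh.puncturedOpen R a) m) = 0 := by
      rw [map_sub, map_smul, hm, res_toSec, sub_self]
    obtain ⟨l, hl⟩ := exists_pow_smul_eq_zero_of_res_eq_zero M s hsW hcov
      (basicOpen_le_punctured a hf) _ hτ0
    refine ⟨l + k, ?_⟩
    rw [← Submodule.Quotient.mk_smul, Submodule.Quotient.mk_eq_zero]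
    refine ⟨f ^ l • m, ?_⟩
    have h3 : f ^ (l + k) • τ = f ^ l • (f ^ k • τ - toSec M (LocCoh.puncturedOpen R a) m) +
        f ^ l • toSec M (LocCoh.puncturedOpen R a) m := by
      rw [smul_sub, sub_add_cancel, pow_add, mul_smul]
    rw [h3, hl, zero_add, map_smul]

theorem coker_toSec_torsion [IsNoetherianRing R] :
    LocCoh.IsPowerTorsion a (sec M (LocCoh.puncturedOpen R a) ⧸
      LinearMap.range (toSec M (LocCoh.puncturedOpen R a))) := by
  intro x
  obtain ⟨τ, rfl⟩ := Submodule.Quotient.mk_surjective _ x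
  obtain ⟨n, hn⟩ := exists_pow_smul_mem_range M a τ
  refine ⟨n, fun r hr => ?_⟩
  rw [← Submodule.Quotient.mk_smul, Submodule.Quotient.mk_eq_zero]
  exact hn r hr

/-- restriction `Γ(W) → Γ(U)` for `U = D(a) ≤ W`. -/
theorem ker_res [IsNoetherianRing R] (W : (Spec (CommRingCat.of R)).Opens)
    (hUW : LocCoh.puncturedOpen R a ≤ W) :
    LinearMap.ker (res M hUW) = ⨆ n : ℕ, LocCoh.torsionBy (a ^ n) (sec M W) := by
  have ha : a.FG := IsNoetherian.noetherian a
  have hmono : Monotone (fun n : ℕ => LocCoh.torsionBy (a ^ n) (sec M W)) := by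
    intro n k hnk
    exact Submodule.torsionBySet_le_torsionBySet_of_subset (Ideal.pow_le_pow_right hnk)
  ext σ
  rw [LinearMap.mem_ker, Submodule.mem_iSup_of_directed _ hmono.directed_le]
  constructor
  · intro hσ
    obtain ⟨s, hsW, hcov⟩ := exists_finset_cover W
    have h1 : ∀ f ∈ a, ∃ k : ℕ, f ^ k • σ = 0 := by
      intro f hf
      apply exists_pow_smul_eq_zero_of_res_eq_zero M s hsW hcov
        ((basicOpen_le_punctured a hf).trans hUW)
      rw [← res_res M hUW (basicOpen_le_punctured a hf), hσ, map_zero]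
    obtain ⟨n, hn⟩ := exists_pow_smul_eq_zero a ha σ h1
    refine ⟨n, ?_⟩
    rw [Submodule.mem_torsionBySet_iff]
    rintro ⟨r, hr⟩
    exact hn r hr
  · rintro ⟨n, hn⟩
    rw [Submodule.mem_torsionBySet_iff] at hn
    have h2 : res M hUW σ ∈ (⨆ n : ℕ, LocCoh.torsionBy (a ^ n)
        (sec M (LocCoh.puncturedOpen R a))) := by
      apply Submodule.mem_iSup_of_mem n
      rw [Submodule.mem_torsionBySet_iff]
      intro r
      rw [← map_smul, hn r, map_zero]
    rw [torsion_sec_eq_bot] at h2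
    exact (Submodule.mem_bot R).1 h2

theorem coker_res_torsion [IsNoetherianRing R] (W : (Spec (CommRingCat.of R)).Opens)
    (hUW : LocCoh.puncturedOpen R a ≤ W) :
    LocCoh.IsPowerTorsion a (sec M (LocCoh.puncturedOpen R a) ⧸
      LinearMap.range (res M hUW)) := by
  intro x
  obtain ⟨τ, rfl⟩ := Submodule.Quotient.mk_surjective _ x
  obtain ⟨n, hn⟩ := exists_pow_smul_mem_range M a τ
  refine ⟨n, fun r hr => ?_⟩
  rw [← Submodule.Quotient.mk_smul, Submodule.Quotient.mk_eq_zero]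
  obtain ⟨m, hm⟩ := hn r hr
  exact ⟨toSec M W m, by rw [res_toSec, hm]⟩

end Groth.Agent.H58.TS
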