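import Groth.Agent.H58.DT5
import Mathlib.RingTheory.TensorProduct.Basic

/-!
Maps out of the ideal transform, and change of rings.
-/

set_option autoImplicit false
universe u
open CategoryTheory CategoryTheory.Limits Opposite

namespace Groth.Agent.H58

section lift

variable {R : Type u} [CommRing R] (I : Ideal R)
variable (M : Type u) [AddCommGroup M] [Module R M]
variable {X : Type*} [AddCommGroup X]

theorem res_add {n k : ℕ} (h : n ≤ k) (f g : ↥(I ^ n) →ₗ[R] M) :
    res I M h (f + g) = res I M h f + res I M h g := rfl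

theorem res_res {n k l : ℕ} (h : n ≤ k) (h' : k ≤ l) (f : ↥(I ^ n) →ₗ[R] M) :
    res I M h' (res I M h f) = res I M (h.trans h') f := rfl

/-- the underlying function of `liftAdd` -/
noncomputable def liftFun (φ : ∀ n, (↥(I ^ n) →ₗ[R] M) →+ X) (x : LocCoh.DT I M) : X :=
  φ (Classical.choose (exists_rep I M x))
    (Classical.choose (Classical.choose_spec (exists_rep I M x)))

variable {M}

theorem liftFun_mk (φ : ∀ n, (↥(I ^ n) →ₗ[R] M) →+ X)
    (hφ : ∀ (n k : ℕ) (h : n ≤ k) (f : ↥(I ^ n) →ₗ[R] M), φ k (res I M h f) = φ n f)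
    (n : ℕ) (f : ↥(I ^ n) →ₗ[R] M) : liftFun I M φ (mk I M n f) = φ n f := by
  have h1 := Classical.choose_spec (Classical.choose_spec (exists_rep I M (mk I M n f)))
  obtain ⟨k, hn, hm, h⟩ := (mk_eq_mk_iff I M _ _).mp h1
  unfold liftFun
  rw [← hφ _ k hn, h, hφ _ k hm]

/-- A compatible family of additive maps on `Hom(I^n, M)` induces an additive map on `D_I(M)`. -/
noncomputable def liftAdd (φ : ∀ n, (↥(I ^ n) →ₗ[R] M) →+ X)
    (hφ : ∀ (n k : ℕ) (h : n ≤ k) (f : ↥(I ^ n) →ₗ[R] M), φ k (res I M h f) = φ n f) :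
    LocCoh.DT I M →+ X where
  toFun := liftFun I M φ
  map_zero' := by
    rw [← mk_zero I M 0, liftFun_mk I φ hφ, map_zero]
  map_add' x y := by
    obtain ⟨n, f, rfl⟩ := exists_rep I M x
    obtain ⟨m, g, rfl⟩ := exists_rep I M y
    rw [← mk_res I M (le_max_left n m) f, ← mk_res I M (le_max_right n m) g, ← mk_add,
      liftFun_mk I φ hφ, liftFun_mk I φ hφ, liftFun_mk I φ hφ, map_add]

@[simp] theorem liftAdd_mk (φ : ∀ n, (↥(I ^ n) →ₗ[R] M) →+ X)
    (hφ : ∀ (n k : ℕ) (h : n ≤ k) (f : ↥(I ^ n) →ₗ[R] M), φ k (res I M h f) = φ n f)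
    (n : ℕ) (f : ↥(I ^ n) →ₗ[R] M) : liftAdd I φ hφ (mk I M n f) = φ n f :=
  liftFun_mk I φ hφ n f

end lift

section changeOfRings

open scoped TensorProduct

variable {R : Type u} [CommRing R] {R' : Type u} [CommRing R'] [Algebra R R'] (I : Ideal R)
variable (M' : Type u) [AddCommGroup M'] [Module R' M'] [Module R M'] [IsScalarTower R R' M']

theorem algebraMap_mem_pow {n : ℕ} {r : R} (hr : r ∈ I ^ n) :
    algebraMap R R' r ∈ (Ideal.map (algebraMap R R') I) ^ n := by
  rw [← Ideal.map_pow]; exact Ideal.mem_map_of_mem _ hr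

/-- the `R`-linear inclusion `I^n → (IR')^n` -/
def incl (n : ℕ) : ↥(I ^ n) →ₗ[R] ↥((Ideal.map (algebraMap R R') I) ^ n) where
  toFun r := ⟨algebraMap R R' r.1, algebraMap_mem_pow I r.2⟩
  map_add' r s := Subtype.ext (map_add _ _ _)
  map_smul' c r := Subtype.ext (by simp [Algebra.smul_def])

@[simp] theorem incl_coe (n : ℕ) (r : ↥(I ^ n)) :
    ((incl (R' := R') I n r : ↥((Ideal.map (algebraMap R R') I) ^ n)) : R') = algebraMap R R' r.1 :=
  rfl

/-- restriction of an `R'`-linear map `(IR')^n → M'` to an `R`-linear map `I^n → M'`. -/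
def restr (n : ℕ) (f : ↥((Ideal.map (algebraMap R R') I) ^ n) →ₗ[R'] M') : ↥(I ^ n) →ₗ[R] M' :=
  (f.restrictScalars R) ∘ₗ incl I n

@[simp] theorem restr_apply (n : ℕ) (f : ↥((Ideal.map (algebraMap R R') I) ^ n) →ₗ[R'] M')
    (r : ↥(I ^ n)) : restr I M' n f r = f ⟨algebraMap R R' r.1, algebraMap_mem_pow I r.2⟩ := rfl

theorem restr_add (n : ℕ) (f g : ↥((Ideal.map (algebraMap R R') I) ^ n) →ₗ[R'] M') :
    restr I M' n (f + g) = restr I M' n f + restr I M' n g := rfl

theorem restr_res {n k : ℕ} (h : n ≤ k) (f : ↥((Ideal.map (algebraMap R R') I) ^ n) →ₗ[R'] M') :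
    restr I M' k (res (Ideal.map (algebraMap R R') I) M' h f) = res I M' h (restr I M' n f) := rfl

/-- the comparison map `D_{IR'}(M') → D_I(M')`. -/
noncomputable def compare : LocCoh.DT (Ideal.map (algebraMap R R') I) M' →+ LocCoh.DT I M' :=
  liftAdd (Ideal.map (algebraMap R R') I)
    (fun n => (mkₗ I M' n).toAddMonoidHom.comp
      { toFun := restr I M' n, map_zero' := rfl, map_add' := restr_add I M' n })
    (fun n k h f => by
      show mk I M' k (restr I M' k (res _ M' h f)) = mk I M' n (restr I M' n f)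
      rw [restr_res, mk_res])

theorem compare_mk (n : ℕ) (f : ↥((Ideal.map (algebraMap R R') I) ^ n) →ₗ[R'] M') :
    compare I M' (mk (Ideal.map (algebraMap R R') I) M' n f) = mk I M' n (restr I M' n f) := by
  unfold compare
  rw [liftAdd_mk]
  rfl

theorem compare_smul (r : R) (x : LocCoh.DT (Ideal.map (algebraMap R R') I) M') :
    compare I M' (algebraMap R R' r • x) = r • compare I M' x := by
  obtain ⟨n, f, rfl⟩ := exists_rep _ M' x
  rw [← mk_smul, compare_mk, compare_mk, ← mk_smul]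
  congr 1
  refine LinearMap.ext fun y => ?_
  simp

theorem compare_toDT (m : M') :
    compare I M' (LocCoh.toDT (Ideal.map (algebraMap R R') I) M' m) = LocCoh.toDT I M' m := by
  rw [toDT_eq_mk_zero, toDT_eq_mk_zero, compare_mk]
  congr 1
  refine LinearMap.ext fun y => ?_
  simp

end changeOfRings

section changeOfRings2

open scoped TensorProduct

variable {R : Type u} [CommRing R] {R' : Type u} [CommRing R'] [Algebra R R'] (I : Ideal R)
variable (M' : Type u) [AddCommGroup M'] [Module R' M'] [Module R M'] [IsScalarTower R R' M']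

/-- An `R'`-linear map on `(IR')^k` vanishing on the image of `I^k` vanishes. -/
theorem eq_zero_of_restr_eq_zero {k : ℕ} (f : ↥((Ideal.map (algebraMap R R') I) ^ k) →ₗ[R'] M')
    (h : restr I M' k f = 0) : f = 0 := by
  refine LinearMap.ext fun y => ?_
  obtain ⟨y, hy⟩ := y
  have hy' : y ∈ Ideal.map (algebraMap R R') (I ^ k) := by rwa [Ideal.map_pow]
  have key : ∀ hy'' : y ∈ (Ideal.map (algebraMap R R') I) ^ k, f ⟨y, hy''⟩ = 0 := by
    unfold Ideal.map at hy'
    induction hy' using Submodule.span_induction with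
    | mem x hx =>
      obtain ⟨r, hr, rfl⟩ := hx
      intro _
      exact LinearMap.congr_fun h ⟨r, hr⟩
    | zero =>
      intro _
      exact map_zero f
    | add x z hx hz ihx ihz =>
      intro _
      have hx' : x ∈ (Ideal.map (algebraMap R R') I) ^ k := by
        rw [← Ideal.map_pow]; exact hx
      have hz' : z ∈ (Ideal.map (algebraMap R R') I) ^ k := by
        rw [← Ideal.map_pow]; exact hz
      have : (⟨x + z, ‹_›⟩ : ↥((Ideal.map (algebraMap R R') I) ^ k)) = ⟨x, hx'⟩ + ⟨z, hz'⟩ := rfl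
      rw [this, map_add, ihx hx', ihz hz', add_zero]
    | smul c x hx ihx =>
      intro _
      have hx' : x ∈ (Ideal.map (algebraMap R R') I) ^ k := by
        rw [← Ideal.map_pow]; exact hx
      have : (⟨c • x, ‹_›⟩ : ↥((Ideal.map (algebraMap R R') I) ^ k)) = c • ⟨x, hx'⟩ := rfl
      rw [this, map_smul, ihx hx', smul_zero]
  exact key hy

theorem compare_injective : Function.Injective (compare (R' := R') I M') := by
  rw [injective_iff_map_eq_zero]
  intro x hx
  obtain ⟨n, f, rfl⟩ := exists_rep _ M' x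
  rw [compare_mk, mk_eq_zero_iff] at hx
  obtain ⟨k, hk, h⟩ := hx
  rw [← restr_res] at h
  rw [← mk_res _ M' hk f, eq_zero_of_restr_eq_zero I M' _ h, mk_zero]

end changeOfRings2

end Groth.Agent.H58
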