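import Groth.Agent.H58.DT2

/-!
Further properties of the ideal transform: naturality of `η`, torsion-freeness, universal property.
-/

set_option autoImplicit false
universe u
open CategoryTheory CategoryTheory.Limits Opposite

namespace Groth.Agent.H58

variable {R : Type u} [CommRing R] (I : Ideal R)
variable {M : Type u} [AddCommGroup M] [Module R M]
variable {M' : Type u} [AddCommGroup M'] [Module R M']

theorem ker_toDT : LinearMap.ker (LocCoh.toDT I M) = DRing.torsionSub I M := by
  ext m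
  rw [LinearMap.mem_ker, toDT_eq_mk_zero, mk_eq_zero_iff]
  constructor
  · rintro ⟨k, hk, h⟩
    refine ⟨k, fun a ha => ?_⟩
    have := LinearMap.congr_fun h ⟨a, ha⟩
    simpa using this
  · rintro ⟨k, hk⟩
    refine ⟨k, Nat.zero_le k, ?_⟩
    ext ⟨a, ha⟩
    simpa using hk a ha

theorem map_toDT (e : M →ₗ[R] M') (m : M) :
    ((LocCoh.idealTransform I).map (ModuleCat.ofHom e)).hom (LocCoh.toDT I M m) =
      LocCoh.toDT I M' (e m) := by
  rw [toDT_eq_mk_zero, toDT_eq_mk_zero, map_mk]
  congr 1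
  refine LinearMap.ext fun r => ?_
  simp

theorem smul_mk {n : ℕ} (f : ↥(I ^ n) →ₗ[R] M) (a : R) (ha : a ∈ I ^ n) :
    a • mk I M n f = LocCoh.toDT I M (f ⟨a, ha⟩) := by
  rw [← mk_smul, toDT_eq_mk I M n]
  congr 1
  refine LinearMap.ext fun r => ?_
  rw [LinearMap.smul_apply, smulMap_apply, ← map_smul, ← map_smul]
  congr 1
  exact Subtype.ext (mul_comm _ _)

theorem coker_toDT_torsion :
    LocCoh.IsPowerTorsion I (LocCoh.DT I M ⧸ LinearMap.range (LocCoh.toDT I M)) := by
  intro x
  obtain ⟨y, rfl⟩ := Submodule.Quotient.mk_surjective _ x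
  obtain ⟨n, f, rfl⟩ := exists_rep I M y
  refine ⟨n, fun a ha => ?_⟩
  rw [← Submodule.Quotient.mk_smul, Submodule.Quotient.mk_eq_zero, smul_mk I f a ha]
  exact ⟨_, rfl⟩

theorem torsionSub_DT_eq_bot [IsNoetherianRing R] : DRing.torsionSub I (LocCoh.DT I M) = ⊥ := by
  rw [eq_bot_iff]
  rintro x ⟨t, ht⟩
  obtain ⟨n, f, rfl⟩ := exists_rep I M x
  rw [Submodule.mem_bot]
  -- the submodule of `a` with `a • f` eventually zero
  have h1 : ∀ a ∈ I ^ t, ∃ k : ℕ, ∃ hk : n ≤ k, res I M hk (a • f) = 0 := by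
    intro a ha
    have := ht a ha
    rwa [← mk_smul, mk_eq_zero_iff] at this
  -- finitely many generators of I^t
  obtain ⟨s, hs⟩ := (IsNoetherian.noetherian (I ^ t) : (I ^ t).FG)
  classical
  have h2 : ∀ a : R, ∃ k : ℕ, a ∈ s → ∃ hk : n ≤ k, res I M hk (a • f) = 0 := by
    intro a
    by_cases has : a ∈ s
    · obtain ⟨k, hk, h⟩ := h1 a (hs ▸ Submodule.subset_span has)
      exact ⟨k, fun _ => ⟨hk, h⟩⟩
    · exact ⟨0, fun h => absurd h has⟩
  choose k hk using h2
  set K := n + s.sup k with hK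
  have hnK : n ≤ K := Nat.le_add_right _ _
  have h3 : ∀ a ∈ I ^ t, ∀ y : ↥(I ^ K), a • res I M hnK f y = 0 := by
    intro a ha
    rw [← hs] at ha
    induction ha using Submodule.span_induction with
    | mem a has =>
      intro y
      obtain ⟨hk', h⟩ := hk a has
      have hkK : k a ≤ K := (Finset.le_sup has).trans (Nat.le_add_left _ _)
      have := LinearMap.congr_fun h ⟨y.1, Ideal.pow_le_pow_right hkK y.2⟩
      simpa using this
    | zero => intro y; exact zero_smul _ _
    | add a b _ _ ha hb => intro y; rw [add_smul, ha y, hb y, add_zero]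
    | smul r a _ ha => intro y; rw [smul_assoc, ha y, smul_zero]
  have h4 := res_eq_zero_of_smul I M (res I M hnK f) h3
  rw [← mk_res I M hnK f, ← mk_res I M (Nat.le_add_right K t) (res I M hnK f), h4, mk_zero]

end Groth.Agent.H58
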