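import Mathlib
import Groth.Prelude.Def_Wider
import Groth.Prelude.Def_DRing3
import Groth.Prelude.Def_DualLC
import Groth.Agent.H58.LCLoc
import Groth.Agent.H58.LCIndep

/-!
# Local cohomology and localization at a multiplicative set

For a Noetherian ring `R`, an ideal `a`, a submonoid `S` and a module `M`, the map
`H^i_a(M) → H^i_a(S⁻¹M)` is the localization at `S`.
-/

open CategoryTheory Limits
universe u

namespace Groth.Agent.H58.LC

variable {R : Type u} [CommRing R]

/-- `S`-torsion modules -/
def STors (S : Submonoid R) (X : Type u) [AddCommGroup X] [Module R X] : Prop :=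
  ∀ x : X, ∃ s ∈ S, s • x = 0

section basic

variable (S : Submonoid R)
variable {M N P : Type u} [AddCommGroup M] [Module R M] [AddCommGroup N] [Module R N]
  [AddCommGroup P] [Module R P]

lemma STors.of_injective (f : M →ₗ[R] N) (hf : Function.Injective f) (h : STors S N) :
    STors S M := by
  intro x
  obtain ⟨s, hs, hn⟩ := h (f x)
  exact ⟨s, hs, hf (by rw [map_smul, hn, map_zero])⟩

lemma STors.of_surjective (f : M →ₗ[R] N) (hf : Function.Surjective f) (h : STors S M) :
    STors S N := by
  intro y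
  obtain ⟨x, rfl⟩ := hf y
  obtain ⟨s, hs, hn⟩ := h x
  exact ⟨s, hs, by rw [← map_smul, hn, map_zero]⟩

/-- a criterion for being a localization at `S` -/
theorem isLocalizedModule_of {X Z : Type u} [AddCommGroup X] [Module R X]
    [AddCommGroup Z] [Module R Z] (g : X →ₗ[R] Z)
    (hbij : ∀ s ∈ S, Function.Bijective (fun z : Z => s • z))
    (hsurj : ∀ z : Z, ∃ s ∈ S, ∃ x : X, s • z = g x)
    (hker : ∀ x : X, g x = 0 → ∃ s ∈ S, s • x = 0) :
    IsLocalizedModule S g := by
  refine ⟨?_, ?_, ?_⟩
  · rintro ⟨s, hs⟩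
    rw [Module.End.isUnit_iff]
    constructor
    · intro y y' hyy
      rw [Module.algebraMap_end_apply, Module.algebraMap_end_apply] at hyy
      exact (hbij s hs).1 hyy
    · intro y
      obtain ⟨y', hy'⟩ := (hbij s hs).2 y
      exact ⟨y', by rw [Module.algebraMap_end_apply]; exact hy'⟩
  · intro z
    obtain ⟨s, hs, x, hx⟩ := hsurj z
    exact ⟨(x, ⟨s, hs⟩), hx⟩
  · intro x₁ x₂ hx
    have h0 : g (x₁ - x₂) = 0 := by rw [map_sub, hx, sub_self]
    obtain ⟨s, hs, hn⟩ := hker _ h0
    refine ⟨⟨s, hs⟩, ?_⟩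
    show s • x₁ = s • x₂
    rw [← sub_eq_zero, ← smul_sub]
    exact hn

/-- a finitely generated `S`-torsion submodule is killed by a single element of `S` -/
lemma exists_smul_eq_zero_of_fg {E : Type u} [AddCommGroup E] [Module R E] (P : Submodule R E)
    (hfg : P.FG) (h : ∀ y ∈ P, ∃ s ∈ S, s • y = 0) : ∃ s ∈ S, ∀ y ∈ P, s • y = 0 := by
  classical
  obtain ⟨t, rfl⟩ := hfg
  have key : ∀ t : Finset E, (∀ y ∈ t, ∃ s ∈ S, s • y = 0) →
      ∃ s ∈ S, ∀ y ∈ Submodule.span R (t : Set E), s • y = 0 := by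
    intro t
    induction t using Finset.induction_on with
    | empty =>
      intro _
      refine ⟨1, S.one_mem, fun y hy => ?_⟩
      rw [Finset.coe_empty, Submodule.span_empty, Submodule.mem_bot] at hy
      rw [hy, smul_zero]
    | insert a t ha ih =>
      intro hall
      obtain ⟨sa, hsa, hsa0⟩ := hall a (Finset.mem_insert_self a t)
      obtain ⟨st, hst, hst0⟩ := ih (fun y hy => hall y (Finset.mem_insert_of_mem hy))
      refine ⟨sa * st, S.mul_mem hsa hst, fun y hy => ?_⟩
      rw [Finset.coe_insert, Submodule.mem_span_insert] at hy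
      obtain ⟨c, z, hz, rfl⟩ := hy
      have h1 : (sa * st) • z = 0 := by rw [mul_smul, hst0 z hz, smul_zero]
      have h2 : (sa * st) • (c • a) = 0 := by
        rw [smul_smul, show sa * st * c = (st * c) * sa by ring, mul_smul, hsa0, smul_zero]
      rw [smul_add, h1, h2, add_zero]
  exact key t (fun y hy => h y (Submodule.subset_span hy))

end basic

section noeth

variable [IsNoetherianRing R] (S : Submonoid R)

/-- an essential extension of an `S`-torsion module is `S`-torsion -/
theorem sTors_of_essential {E : Type u} [AddCommGroup E] [Module R E] (N : Submodule R E)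
    (hess : ∀ x : E, x ≠ 0 → ∃ r : R, r • x ∈ N ∧ r • x ≠ 0)
    (hN : ∀ y ∈ N, ∃ s ∈ S, s • y = 0) (x : E) : ∃ s ∈ S, s • x = 0 := by
  haveI : IsNoetherian R (Submodule.span R {x}) :=
    isNoetherian_span_of_finite R (Set.finite_singleton x)
  haveI : IsNoetherian R ↥(N ⊓ Submodule.span R {x}) := isNoetherian_of_le inf_le_right
  have hfg : (N ⊓ Submodule.span R {x}).FG := (Submodule.fg_top _).1 (IsNoetherian.noetherian ⊤)
  obtain ⟨s, hs, hs0⟩ := exists_smul_eq_zero_of_fg S _ hfg (fun y hy => hN y hy.1)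
  obtain ⟨n, hn⟩ := exists_pow_smul_eq_zero_of_essential
    (E := Submodule.span R {x})
    (Submodule.comap (Submodule.span R {x}).subtype N)
    (fun z hz => by
      have hz' : (z : E) ≠ 0 := fun h => hz (Subtype.ext h)
      obtain ⟨r, hr, hr0⟩ := hess z.1 hz'
      exact ⟨r, hr, fun h => hr0 (congrArg Subtype.val h)⟩)
    s
    (fun y hy => ⟨1, by
      rw [pow_one]
      exact Subtype.ext (hs0 (y : E) ⟨hy, y.2⟩)⟩)
    ⟨x, Submodule.mem_span_singleton_self x⟩
  exact ⟨s ^ n, pow_mem hs n, congrArg Subtype.val hn⟩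

/-- an `S`-torsion module embeds in an `S`-torsion injective module -/
theorem exists_sTors_injective_embedding (N : Type u) [AddCommGroup N] [Module R N]
    (hN : STors S N) :
    ∃ (E : Type u) (_ : AddCommGroup E) (_ : Module R E), Module.Injective R E ∧
      STors S E ∧ ∃ j : N →ₗ[R] E, Function.Injective j := by
  obtain ⟨I₀, _, _, hI₀, i, hi⟩ := Groth.Agent.H58.IH.exists_injective_embedding R N
  obtain ⟨E, hle, hess, hEinj⟩ := Groth.Agent.H58.IH.exists_injective_essential (LinearMap.range i)
  refine ⟨E, inferInstance, inferInstance, hEinj, ?_, ?_⟩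
  · refine sTors_of_essential S (Submodule.comap E.subtype (LinearMap.range i)) ?_ ?_
    · intro x hx
      have hx' : (x : I₀) ≠ 0 := fun h => hx (Subtype.ext h)
      obtain ⟨r, hr, hr0⟩ := hess x.1 x.2 hx'
      refine ⟨r, hr, fun h => hr0 ?_⟩
      have := congrArg Subtype.val h
      exact this
    · rintro y ⟨z, hz⟩
      obtain ⟨s, hs, hn⟩ := hN z
      refine ⟨s, hs, Subtype.ext ?_⟩
      show s • (y : I₀) = 0
      have hz' : i z = (y : I₀) := hz
      rw [← hz', ← map_smul, hn, map_zero]
  · exact ⟨LinearMap.codRestrict E i (fun z => hle ⟨z, rfl⟩), fun a b h =>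
      hi (congrArg Subtype.val h)⟩

variable (a : Ideal R)

/-- local cohomology of an `S`-torsion module is `S`-torsion -/
theorem sTors_H : ∀ (i : ℕ) (T : Type u) [AddCommGroup T] [Module R T],
    STors S T → STors S (LocCoh.H a i T) := by
  intro i
  induction i with
  | zero =>
    intro T _ _ hT
    exact STors.of_injective S (H0map a T) (H0map_injective a T) hT
  | succ i ih =>
    intro T _ _ hT
    obtain ⟨E, _, _, hEinj, hEtors, j, hj⟩ := exists_sTors_injective_embedding S T hT
    haveI := hEinj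
    have hQ : STors S (E ⧸ LinearMap.range j) :=
      STors.of_surjective S (LinearMap.range j).mkQ (Submodule.mkQ_surjective _) hEtors
    obtain ⟨δ, -, -, h3, -⟩ := les_mod a j (LinearMap.range j).mkQ hj
      (Submodule.mkQ_surjective _) (LinearMap.exact_map_mkQ_range j) i
    haveI : Subsingleton (LocCoh.H a (i + 1) E) :=
      subsingleton_H_of_injective a (i + 1) (Nat.succ_pos i)
    have hδ : Function.Surjective δ := fun y => (h3 y).1 (Subsingleton.elim _ _)
    exact STors.of_surjective S δ hδ (ih _ hQ)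

variable {M N : Type u} [AddCommGroup M] [Module R M] [AddCommGroup N] [Module R N]

/-- a map with `S`-torsion kernel and cokernel induces maps with `S`-torsion kernel and cokernel
on local cohomology -/
theorem ker_coker_Hmap_of_sTors (f : M →ₗ[R] N)
    (hk : STors S (LinearMap.ker f)) (hc : STors S (N ⧸ LinearMap.range f)) (i : ℕ) :
    (∀ x : LocCoh.H a i M, Hmap a i f x = 0 → ∃ s ∈ S, s • x = 0) ∧
    (∀ y : LocCoh.H a i N, ∃ s ∈ S, ∃ x : LocCoh.H a i M, s • y = Hmap a i f x) := by
  have hfac : f = (LinearMap.range f).subtype ∘ₗ f.rangeRestrict := LinearMap.ext fun x => rfl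
  have hp : Function.Surjective f.rangeRestrict := f.surjective_rangeRestrict
  have hex1 : Function.Exact (LinearMap.ker f).subtype f.rangeRestrict := by
    intro m
    constructor
    · intro hm
      have : f m = 0 := congrArg Subtype.val hm
      exact ⟨⟨m, this⟩, rfl⟩
    · rintro ⟨k, rfl⟩
      exact Subtype.ext k.2
  obtain ⟨δ, e1, e2, -, -⟩ := les_mod a (LinearMap.ker f).subtype f.rangeRestrict
    (Submodule.injective_subtype _) hp hex1 i
  have A1 : ∀ x : LocCoh.H a i M, Hmap a i f.rangeRestrict x = 0 → ∃ s ∈ S, s • x = 0 := by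
    intro x hx
    obtain ⟨k, rfl⟩ := (e1 x).1 hx
    obtain ⟨s, hs, hn⟩ := sTors_H S a i _ hk k
    exact ⟨s, hs, by rw [← map_smul, hn, map_zero]⟩
  have A2 : ∀ z : LocCoh.H a i (LinearMap.range f), ∃ s ∈ S, ∃ w : LocCoh.H a i M,
      s • z = Hmap a i f.rangeRestrict w := by
    intro z
    obtain ⟨s, hs, hn⟩ := sTors_H S a (i + 1) _ hk (δ z)
    have h0 : δ (s • z) = 0 := by rw [map_smul]; exact hn
    obtain ⟨w, hw⟩ := (e2 _).1 h0
    exact ⟨s, hs, w, hw.symm⟩
  obtain ⟨-, e1', -, -, -⟩ := les_mod a (LinearMap.range f).subtype (LinearMap.range f).mkQ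
    (Submodule.injective_subtype _) (Submodule.mkQ_surjective _)
    (LinearMap.exact_subtype_mkQ _) i
  have B2 : ∀ y : LocCoh.H a i N, ∃ s ∈ S, ∃ z : LocCoh.H a i (LinearMap.range f),
      s • y = Hmap a i (LinearMap.range f).subtype z := by
    intro y
    obtain ⟨s, hs, hn⟩ := sTors_H S a i _ hc (Hmap a i (LinearMap.range f).mkQ y)
    have h0 : Hmap a i (LinearMap.range f).mkQ (s • y) = 0 := by rw [map_smul]; exact hn
    obtain ⟨z, hz⟩ := (e1' _).1 h0
    exact ⟨s, hs, z, hz.symm⟩
  have B1 : ∀ z : LocCoh.H a i (LinearMap.range f),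
      Hmap a i (LinearMap.range f).subtype z = 0 → ∃ s ∈ S, s • z = 0 := by
    intro z hz
    rcases i with _ | i'
    · refine ⟨1, S.one_mem, ?_⟩
      rw [one_smul]
      apply H0map_injective a _
      have h1 := H0map_natural a (LinearMap.range f).subtype z
      rw [hz, map_zero] at h1
      rw [map_zero]
      exact (Submodule.injective_subtype _) (h1.symm.trans (map_zero _).symm)
    · obtain ⟨δ', -, -, e3', -⟩ := les_mod a (LinearMap.range f).subtype
        (LinearMap.range f).mkQ
        (Submodule.injective_subtype _) (Submodule.mkQ_surjective _)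
        (LinearMap.exact_subtype_mkQ _) i'
      obtain ⟨q, rfl⟩ := (e3' z).1 hz
      obtain ⟨s, hs, hn⟩ := sTors_H S a i' _ hc q
      exact ⟨s, hs, by rw [← map_smul, hn, map_zero]⟩
  constructor
  · intro x hx
    rw [hfac, Hmap_comp_apply] at hx
    obtain ⟨s, hs, hn⟩ := B1 _ hx
    rw [← map_smul] at hn
    obtain ⟨t, ht, hm⟩ := A1 _ hn
    exact ⟨t * s, S.mul_mem ht hs, by rw [mul_smul]; exact hm⟩
  · intro y
    obtain ⟨s, hs, z, hz⟩ := B2 y
    obtain ⟨t, ht, w, hw⟩ := A2 z
    refine ⟨t * s, S.mul_mem ht hs, w, ?_⟩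
    rw [hfac, Hmap_comp_apply, ← hw, map_smul, ← hz, mul_smul]

variable (M)

/-- **`H^i_a(M) → H^i_a(S⁻¹M)` is the localization at `S`.** -/
theorem isLocalizedModule_Hmap_mkLinearMap_of_submonoid (i : ℕ) :
    IsLocalizedModule S (Hmap a i (LocalizedModule.mkLinearMap S M)) := by
  have hk : STors S (LinearMap.ker (LocalizedModule.mkLinearMap S M)) := by
    intro x
    obtain ⟨⟨s, hs⟩, hsx⟩ := (IsLocalizedModule.eq_zero_iff S
      (LocalizedModule.mkLinearMap S M)).1 (LinearMap.mem_ker.1 x.2)
    exact ⟨s, hs, Subtype.ext hsx⟩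
  have hc : STors S (LocalizedModule S M ⧸ LinearMap.range (LocalizedModule.mkLinearMap S M)) := by
    intro y
    obtain ⟨z, rfl⟩ := Submodule.Quotient.mk_surjective _ y
    induction z using LocalizedModule.induction_on with
    | h m s =>
      obtain ⟨s, hs⟩ := s
      refine ⟨s, hs, ?_⟩
      rw [← Submodule.Quotient.mk_smul, Submodule.Quotient.mk_eq_zero]
      refine ⟨m, ?_⟩
      rw [LocalizedModule.mkLinearMap_apply, LocalizedModule.smul'_mk]
      exact (LocalizedModule.mk_cancel (⟨s, hs⟩ : S) m).symm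
  obtain ⟨h1, h2⟩ := ker_coker_Hmap_of_sTors S a (LocalizedModule.mkLinearMap S M) hk hc i
  refine isLocalizedModule_of S _ ?_ h2 h1
  intro s hs
  have hu := IsLocalizedModule.map_units (LocalizedModule.mkLinearMap S M) (⟨s, hs⟩ : S)
  rw [Module.End.isUnit_iff, Module.algebraMap_end_eq_smul_id] at hu
  have he : ((LinearEquiv.ofBijective (s • LinearMap.id) hu :
      LocalizedModule S M ≃ₗ[R] LocalizedModule S M) :
      LocalizedModule S M →ₗ[R] LocalizedModule S M) = s • LinearMap.id :=
    LinearMap.ext fun z => rfl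
  have hHb : ∀ y : LocCoh.H a i (LocalizedModule S M),
      Hcongr a i (LinearEquiv.ofBijective (s • LinearMap.id) hu :
        LocalizedModule S M ≃ₗ[R] LocalizedModule S M) y = s • y := fun y => by
    show Hmap a i ((LinearEquiv.ofBijective (s • LinearMap.id) hu :
      LocalizedModule S M ≃ₗ[R] LocalizedModule S M) :
      LocalizedModule S M →ₗ[R] LocalizedModule S M) y = _
    rw [he, Hmap_smul, Hmap_id]
    rfl
  have := (Hcongr a i (LinearEquiv.ofBijective (s • LinearMap.id) hu :
    LocalizedModule S M ≃ₗ[R] LocalizedModule S M)).bijective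
  convert this using 1
  funext y
  exact (hHb y).symm

end noeth

end Groth.Agent.H58.LC
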