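import Mathlib
import Groth.Prelude.Def_W4bk5brsh7111920
import Groth.Agent.H58.LCMod
import Groth.Agent.H58.LCLocS
import Groth.Agent.H58.HtChain
import Groth.Agent.H71.DepthHt
import Groth.Agent.H15.DepthSpread2
import Groth.Agent.H29.Depth
import Groth.Agent.S11643
import Groth.Agent.S11649
import Groth.Agent.S11651
import Groth.Agent.S11652

/-!
# The finiteness dimension is bounded by the minimum adjusted depth (Brodmann–Sharp 9.3.5)
-/

universe u v
open scoped Pointwise

namespace Groth.Agent.H58.LC

/-- the statement of S11648, as a hypothesis -/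
def Stmt48 (R : Type u) [CommRing R] : Prop :=
  ∀ (a b : Ideal R) (M : Type u) [AddCommGroup M] [Module R M] [Module.Finite R M]
    (p : Ideal R) [p.IsPrime],
    p ∈ associatedPrimes R M → ¬ b ≤ p →
    ((a ⊔ p).map (Ideal.Quotient.mk p)).height = 1 →
    ¬ b ≤ (Module.annihilator R (LocCoh.H a 1 M)).radical

lemma idealDepth_mono {A : Type u} [CommRing A] {I J : Ideal A} (hIJ : I ≤ J) (X : Type v)
    [AddCommGroup X] [Module A X] : LocCoh.idealDepth I X ≤ LocCoh.idealDepth J X := by
  unfold LocCoh.idealDepth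
  by_cases hJ : J • (⊤ : Submodule A X) = ⊤
  · rw [if_pos hJ]; exact le_top
  · have hI : I • (⊤ : Submodule A X) ≠ ⊤ := by
      intro h
      have hle : I • (⊤ : Submodule A X) ≤ J • (⊤ : Submodule A X) := Submodule.smul_mono_left hIJ
      rw [h] at hle
      exact hJ (top_le_iff.1 hle)
    rw [if_neg hI, if_neg hJ]
    exact iSup₂_mono' fun rs hrs => ⟨rs, ⟨hrs.1, fun r hr => hIJ (hrs.2 r hr)⟩, le_rfl⟩

lemma smul_H_eq_zero {R : Type u} [CommRing R] (a : Ideal R) (j : ℕ) (K : Type u)
    [AddCommGroup K] [Module R K] (s : R) (hs : ∀ k : K, s • k = 0) (ξ : LocCoh.H a j K) :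
    s • ξ = 0 := by
  have h0 : s • (LinearMap.id : K →ₗ[R] K) = 0 := LinearMap.ext fun k => hs k
  have h := LinearMap.congr_fun (Hmap_smul a j s (LinearMap.id : K →ₗ[R] K)) ξ
  rw [h0, Hmap_zero, Hmap_id, LinearMap.zero_apply, LinearMap.smul_apply,
    LinearMap.id_apply] at h
  exact h.symm

section

variable (R : Type u) [CommRing R] [IsNoetherianRing R]

theorem step_h1 (h48 : Stmt48 R) (a : Ideal R) (p : Ideal R) [p.IsPrime]
    (hht : ((a ⊔ p).map (Ideal.Quotient.mk p)).height = 1) :
    ∀ (n : ℕ) (M : Type u) [AddCommGroup M] [Module R M] [Module.Finite R M] (b : Ideal R),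
      ¬ b ≤ p →
      LocCoh.depth (Localization.AtPrime p) (LocalizedModule p.primeCompl M) ≤ (n : ℕ∞) →
      ∃ i : ℕ, i ≤ n + 1 ∧ ¬ b ≤ (Module.annihilator R (LocCoh.H a i M)).radical := by
  have h0 : ∀ (M : Type u) [AddCommGroup M] [Module R M] [Module.Finite R M] (b : Ideal R),
      ¬ b ≤ p → LocCoh.depth (Localization.AtPrime p) (LocalizedModule p.primeCompl M) = 0 →
      ¬ b ≤ (Module.annihilator R (LocCoh.H a 1 M)).radical := by
    intro M _ _ _ b hb hd
    exact h48 a b M p
      (Groth.Agent.H15.DepthSpread.mem_associatedPrimes_of_depth_eq_zero p M hd) hb hht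
  intro n
  induction n with
  | zero =>
    intro M _ _ _ b hb hd
    exact ⟨1, le_rfl, h0 M b hb (by simpa using hd)⟩
  | succ n ih =>
    intro M _ _ _ b hb hd
    by_cases hd0 : LocCoh.depth (Localization.AtPrime p) (LocalizedModule p.primeCompl M) = 0
    · exact ⟨1, by omega, h0 M b hb hd0⟩
    -- a regular element
    obtain ⟨x, hxp, hreg⟩ : ∃ x ∈ p, IsSMulRegular (LocalizedModule p.primeCompl M)
        (algebraMap R (Localization.AtPrime p) x) := by
      have hnot := mt (Groth.Agent.H29.depth_eq_zero_iff (Localization.AtPrime p)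
        (LocalizedModule p.primeCompl M)).2 hd0
      by_cases htop : IsLocalRing.maximalIdeal (Localization.AtPrime p) •
          (⊤ : Submodule (Localization.AtPrime p) (LocalizedModule p.primeCompl M)) = ⊤
      · exfalso
        have hdt : LocCoh.depth (Localization.AtPrime p) (LocalizedModule p.primeCompl M) = ⊤ := by
          unfold LocCoh.depth LocCoh.idealDepth
          rw [if_pos htop]
        rw [hdt] at hd
        exact (ENat.natCast_lt_top (n + 1)).not_ge hd
      · have hex : ∃ r ∈ IsLocalRing.maximalIdeal (Localization.AtPrime p),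
            IsSMulRegular (LocalizedModule p.primeCompl M) r := by
          by_contra hcon
          push Not at hcon
          exact hnot ⟨htop, hcon⟩
        obtain ⟨r, hr, hrreg⟩ := hex
        rw [← Localization.AtPrime.map_eq_maximalIdeal] at hr
        exact Groth.Agent.H71.DH.exists_regular_numerator M p p hr hrreg
    have hq1 := Groth.Agent.H71.DH.depth_quot_add_one_le M p hxp hreg
    have hdq : LocCoh.depth (Localization.AtPrime p)
        (LocalizedModule p.primeCompl (QuotSMulTop x M)) ≤ (n : ℕ∞) := by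
      have h2 := hq1.trans hd
      rw [Nat.cast_add, Nat.cast_one] at h2
      exact (ENat.add_le_add_iff_right ENat.one_ne_top).1 h2
    -- the kernel of multiplication by `x` is killed by some `s ∉ p`
    obtain ⟨s, hsp, hsK⟩ : ∃ s ∈ p.primeCompl,
        ∀ y ∈ LinearMap.ker (LinearMap.lsmul R M x), s • y = 0 := by
      apply exists_smul_eq_zero_of_fg p.primeCompl _ (IsNoetherian.noetherian _)
      intro y hy
      have hxy : x • y = 0 := LinearMap.mem_ker.1 hy
      have h1 : algebraMap R (Localization.AtPrime p) x •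
          LocalizedModule.mkLinearMap p.primeCompl M y =
          algebraMap R (Localization.AtPrime p) x • (0 : LocalizedModule p.primeCompl M) := by
        rw [algebraMap_smul, ← map_smul, hxy, map_zero, smul_zero]
      have h2 := hreg h1
      obtain ⟨c, hc⟩ := (IsLocalizedModule.eq_zero_iff p.primeCompl
        (LocalizedModule.mkLinearMap p.primeCompl M)).1 h2
      exact ⟨c.1, c.2, hc⟩
    obtain ⟨c, hcb, hcp⟩ := SetLike.not_le_iff_exists.1 hb
    have hb' : ¬ b * Ideal.span {s} ≤ p := by
      intro hle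
      have hmem : c * s ∈ p := hle (Ideal.mul_mem_mul hcb (Ideal.mem_span_singleton_self s))
      rcases (‹p.IsPrime›).mem_or_mem hmem with h | h
      · exact hcp h
      · exact hsp h
    obtain ⟨i, hi, hnot⟩ := ih (QuotSMulTop x M) (b * Ideal.span {s}) hb' hdq
    by_contra hall
    push Not at hall
    apply hnot
    have hKann : ∀ j, b * Ideal.span {s} ≤ (Module.annihilator R
        (LocCoh.H a j (LinearMap.ker (LinearMap.lsmul R M x)))).radical := by
      intro j
      refine le_trans Ideal.mul_le_right (le_trans ?_ Ideal.le_radical)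
      rw [Ideal.span_singleton_le_iff_mem, Module.mem_annihilator]
      intro ξ
      exact smul_H_eq_zero a j _ s (fun k => Subtype.ext (hsK k.1 k.2)) ξ
    have hp : Function.Surjective (LinearMap.lsmul R M x).rangeRestrict :=
      (LinearMap.lsmul R M x).surjective_rangeRestrict
    have hex1 : Function.Exact (LinearMap.ker (LinearMap.lsmul R M x)).subtype
        (LinearMap.lsmul R M x).rangeRestrict := by
      intro m
      constructor
      · intro hm
        have : LinearMap.lsmul R M x m = 0 := congrArg Subtype.val hm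
        exact ⟨⟨m, this⟩, rfl⟩
      · rintro ⟨k, rfl⟩
        exact Subtype.ext k.2
    have hex2 : Function.Exact (LinearMap.range (LinearMap.lsmul R M x)).subtype
        (Submodule.mkQ (x • (⊤ : Submodule R M))) := by
      intro y
      rw [Submodule.mkQ_apply, Submodule.Quotient.mk_eq_zero,
        Submodule.mem_smul_pointwise_iff_exists]
      constructor
      · rintro ⟨b, -, hb⟩; exact ⟨⟨y, ⟨b, hb⟩⟩, rfl⟩
      · rintro ⟨⟨z, ⟨b, hb⟩⟩, rfl⟩; exact ⟨b, Submodule.mem_top, hb⟩
    have hrange : ∀ j, j ≤ n + 1 + 1 → b * Ideal.span {s} ≤ (Module.annihilator R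
        (LocCoh.H a j (LinearMap.range (LinearMap.lsmul R M x)))).radical := by
      intro j hj
      obtain ⟨δ, -, e2, -, -⟩ := les_mod a (LinearMap.ker (LinearMap.lsmul R M x)).subtype
        (LinearMap.lsmul R M x).rangeRestrict (Submodule.injective_subtype _) hp hex1 j
      exact Groth.Agent.S11643.result (b * Ideal.span {s})
        (Hmap a j (LinearMap.lsmul R M x).rangeRestrict) δ e2
        (Ideal.mul_le_left.trans (hall j hj)) (hKann (j + 1))
    obtain ⟨δ, -, e2, -, -⟩ := les_mod a (LinearMap.range (LinearMap.lsmul R M x)).subtype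
      (Submodule.mkQ (x • (⊤ : Submodule R M))) (Submodule.injective_subtype _)
      (Submodule.mkQ_surjective _) hex2 i
    exact Groth.Agent.S11643.result (b * Ideal.span {s})
      (Hmap a i (Submodule.mkQ (x • (⊤ : Submodule R M)))) δ e2
      (Ideal.mul_le_left.trans (hall i (by omega))) (hrange (i + 1) (by omega))

theorem exists_le_adjDepth (h48 : Stmt48 R) (a b : Ideal R) (M : Type u) [AddCommGroup M]
    [Module R M] [Module.Finite R M] :
    ∀ (h : ℕ) (p : PrimeSpectrum R), ¬ b ≤ p.asIdeal →
      ((a ⊔ p.asIdeal).map (Ideal.Quotient.mk p.asIdeal)).height = (h : ℕ∞) →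
      LocCoh.adjDepth a M p ≠ ⊤ →
      ∃ i : ℕ, (i : ℕ∞) ≤ LocCoh.adjDepth a M p ∧
        ¬ b ≤ (Module.annihilator R (LocCoh.H a i M)).radical := by
  intro h
  induction h using Nat.strong_induction_on with
  | _ h ih =>
    intro p hbp hht hfin
    haveI hpp : p.asIdeal.IsPrime := p.2
    have hdfin : LocCoh.depth (Localization.AtPrime p.asIdeal)
        (LocalizedModule p.asIdeal.primeCompl M) ≠ ⊤ := by
      intro htop
      apply hfin
      unfold LocCoh.adjDepth
      rw [htop, top_add]
    obtain ⟨m, hm⟩ := ENat.ne_top_iff_exists.1 hdfin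
    have hadj : LocCoh.adjDepth a M p = (m : ℕ∞) + (h : ℕ∞) := by
      unfold LocCoh.adjDepth
      rw [hht, ← hm]
    by_cases h0 : h = 0
    · subst h0
      rw [Nat.cast_zero] at hht
      have ha : a ≤ p.asIdeal := Groth.Agent.H58.Ht.le_of_height_map_eq_zero a p.asIdeal hht
      have hnt : Nontrivial (LocalizedModule p.asIdeal.primeCompl M) := by
        by_contra hcon
        rw [not_nontrivial_iff_subsingleton] at hcon
        apply hdfin
        unfold LocCoh.depth LocCoh.idealDepth
        rw [if_pos (Submodule.eq_top_iff'.2 (fun x => by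
          rw [Subsingleton.elim x 0]; exact Submodule.zero_mem _))]
      have hsupp : p ∈ Module.support R M := Module.mem_support_iff.2 hnt
      have hle : LocCoh.idealDepth (a.map (algebraMap R (Localization.AtPrime p.asIdeal)))
          (LocalizedModule p.asIdeal.primeCompl M) ≤
          LocCoh.depth (Localization.AtPrime p.asIdeal)
            (LocalizedModule p.asIdeal.primeCompl M) :=
        idealDepth_mono (by
          rw [← Localization.AtPrime.map_eq_maximalIdeal]
          exact Ideal.map_mono ha) (LocalizedModule p.asIdeal.primeCompl M)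
      obtain ⟨t₀, ht₀⟩ := ENat.ne_top_iff_exists.1 (ne_top_of_le_ne_top hdfin hle)
      refine ⟨t₀, ?_, Groth.Agent.S11649.result R a b M p hsupp ha hbp t₀ ht₀.symm⟩
      rw [ht₀]
      refine hle.trans ?_
      unfold LocCoh.adjDepth
      exact le_self_add
    by_cases h1 : h = 1
    · subst h1
      rw [Nat.cast_one] at hht
      obtain ⟨i, hi, hnot⟩ := step_h1 R h48 a p.asIdeal hht m M b hbp (le_of_eq hm.symm)
      refine ⟨i, ?_, hnot⟩
      rw [hadj]
      exact_mod_cast hi
    have hge : 2 ≤ h := by omega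
    obtain ⟨q, hqmin, hqh⟩ :=
      Groth.Agent.H58.Ht.exists_minimalPrimes_height_map_eq a p.asIdeal h hht
    haveI hqp : q.IsPrime := hqmin.1.1
    have haq : a ≤ q := le_sup_left.trans hqmin.1.2
    have hpq : p.asIdeal ≤ q := le_sup_right.trans hqmin.1.2
    have hplt : p.asIdeal < q := by
      refine lt_of_le_of_ne hpq (fun heq => ?_)
      rw [← heq, Ideal.map_quotient_self, Ideal.height_bot] at hqh
      have : h = 0 := by exact_mod_cast hqh.symm
      omega
    obtain ⟨x, hxq, hxp⟩ := SetLike.exists_of_lt hplt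
    obtain ⟨y, hyb, hyp⟩ := SetLike.not_le_iff_exists.1 hbp
    obtain ⟨t, htp, hpt, htq, hxyt⟩ := Groth.Agent.S11652.result R p.asIdeal q hplt
      (by rw [hqh]; exact_mod_cast (show 1 < h by omega)) (x * y) (Ideal.mul_mem_right y q hxq)
      (fun hmem => (hpp.mem_or_mem hmem).elim hxp hyp)
    haveI := htp
    let tP : PrimeSpectrum R := ⟨t, htp⟩
    have hbt : ¬ b ≤ t := fun hle => hxyt (Ideal.mul_mem_left t x (hle hyb))
    have h51 : LocCoh.adjDepth a M tP ≤ LocCoh.adjDepth a M p :=
      Groth.Agent.S11651.result R a M p ⟨q, hqp⟩ hqmin (hqh.trans hht.symm) tP hpt.le htq.le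
    have hA := Groth.Agent.H58.Ht.height_map_add_le p.asIdeal t q hpt.le htq.le
    have hB := Groth.Agent.H58.Ht.one_le_height_map_of_lt p.asIdeal t hpt
    have hC : ((a ⊔ t).map (Ideal.Quotient.mk t)).height ≤
        (q.map (Ideal.Quotient.mk t)).height :=
      Ideal.height_mono (Ideal.map_mono (sup_le haq htq.le))
    rw [hqh] at hA
    have hD : 1 + ((a ⊔ t).map (Ideal.Quotient.mk t)).height ≤ (h : ℕ∞) :=
      le_trans (add_le_add hB hC) hA
    have hfinh' : ((a ⊔ t).map (Ideal.Quotient.mk t)).height ≠ ⊤ := by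
      intro htop
      rw [htop, add_top] at hD
      exact (ENat.natCast_lt_top h).not_ge hD
    obtain ⟨n', hn'⟩ := ENat.ne_top_iff_exists.1 hfinh'
    have hlt : n' < h := by
      rw [← hn'] at hD
      have h3 : 1 + n' ≤ h := by exact_mod_cast hD
      omega
    have hfin' : LocCoh.adjDepth a M tP ≠ ⊤ := ne_top_of_le_ne_top hfin h51
    obtain ⟨i, hi, hnot⟩ := ih n' hlt tP hbt hn'.symm hfin'
    exact ⟨i, hi.trans h51, hnot⟩

theorem finDimRel_le_minAdjDepth (h48 : Stmt48 R) (a b : Ideal R) (M : Type u) [AddCommGroup M]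
    [Module R M] [Module.Finite R M] : LocCoh.finDimRel a b M ≤ LocCoh.minAdjDepth a b M := by
  unfold LocCoh.minAdjDepth
  refine le_iInf₂ fun p hbp => ?_
  by_cases hfin : LocCoh.adjDepth a M p = ⊤
  · rw [hfin]; exact le_top
  have hhfin : ((a ⊔ p.asIdeal).map (Ideal.Quotient.mk p.asIdeal)).height ≠ ⊤ := by
    intro htop
    apply hfin
    unfold LocCoh.adjDepth
    rw [htop, add_top]
  obtain ⟨h, hh⟩ := ENat.ne_top_iff_exists.1 hhfin
  obtain ⟨i, hi, hnot⟩ := exists_le_adjDepth R h48 a b M h p hbp hh.symm hfin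
  unfold LocCoh.finDimRel
  exact (iInf₂_le i hnot).trans hi

end

end Groth.Agent.H58.LC
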