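import Mathlib
import Groth.Prelude.Def_Wider
import Groth.Prelude.Def_DRing3
import Groth.Agent.H58.LCFG

/-!
# Top local cohomology: surjectivity of multiplication maps
-/

open CategoryTheory
open scoped Pointwise
universe u

namespace Groth.Agent.H58.LC

variable {R : Type u} [CommRing R]

/-- if `H^i_I(M/fM) = 0` and `H^{i+1}_I(0 :_M f) = 0` then `f` is surjective on `H^i_I(M)` -/
theorem smul_surjective_H (I : Ideal R) (i : ℕ) (f : R) (M : Type u) [AddCommGroup M] [Module R M]
    (hq : Subsingleton (LocCoh.H I i (QuotSMulTop f M)))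
    (hK : Subsingleton (LocCoh.H I (i + 1) (LinearMap.ker (LinearMap.lsmul R M f)))) :
    Function.Surjective (fun x : LocCoh.H I i M => f • x) := by
  have hfac : LinearMap.lsmul R M f =
      (LinearMap.range (LinearMap.lsmul R M f)).subtype ∘ₗ
        (LinearMap.lsmul R M f).rangeRestrict := LinearMap.ext fun x => rfl
  have hp : Function.Surjective (LinearMap.lsmul R M f).rangeRestrict :=
    (LinearMap.lsmul R M f).surjective_rangeRestrict
  have hex1 : Function.Exact (LinearMap.ker (LinearMap.lsmul R M f)).subtype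
      (LinearMap.lsmul R M f).rangeRestrict := by
    intro m
    constructor
    · intro hm
      have : LinearMap.lsmul R M f m = 0 := congrArg Subtype.val hm
      exact ⟨⟨m, this⟩, rfl⟩
    · rintro ⟨k, rfl⟩
      exact Subtype.ext k.2
  obtain ⟨δ, -, e2, -, -⟩ := les_mod I (LinearMap.ker (LinearMap.lsmul R M f)).subtype
    (LinearMap.lsmul R M f).rangeRestrict (Submodule.injective_subtype _) hp hex1 i
  have hp' : Function.Surjective (Hmap I i (LinearMap.lsmul R M f).rangeRestrict) :=
    fun z => (e2 z).1 (Subsingleton.elim _ _)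
  have hex2 : Function.Exact (LinearMap.range (LinearMap.lsmul R M f)).subtype
      (Submodule.mkQ (f • (⊤ : Submodule R M))) := by
    intro y
    rw [Submodule.mkQ_apply, Submodule.Quotient.mk_eq_zero,
      Submodule.mem_smul_pointwise_iff_exists]
    constructor
    · rintro ⟨b, -, hb⟩; exact ⟨⟨y, ⟨b, hb⟩⟩, rfl⟩
    · rintro ⟨⟨z, ⟨b, hb⟩⟩, rfl⟩; exact ⟨b, Submodule.mem_top, hb⟩
  obtain ⟨-, e1', -, -, -⟩ := les_mod I (LinearMap.range (LinearMap.lsmul R M f)).subtype
    (Submodule.mkQ (f • (⊤ : Submodule R M))) (Submodule.injective_subtype _)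
    (Submodule.mkQ_surjective _) hex2 i
  have hι' : Function.Surjective
      (Hmap I i (LinearMap.range (LinearMap.lsmul R M f)).subtype) :=
    fun y => (e1' y).1 (Subsingleton.elim _ _)
  have hsm : LinearMap.lsmul R M f = f • LinearMap.id := LinearMap.ext fun m => rfl
  intro y
  obtain ⟨z, rfl⟩ := hι' y
  obtain ⟨w, rfl⟩ := hp' z
  refine ⟨w, ?_⟩
  show f • w = _
  rw [← Hmap_comp_apply, ← hfac, hsm, Hmap_smul, Hmap_id]
  rfl

/-- killing an element outside the top-dimensional minimal primes drops the dimension of the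
support -/
theorem supportDim_quotSMulTop_lt (d : ℕ) (hd : ringKrullDim R = d) (f : R)
    (hf : ∀ p ∈ minimalPrimes R, ringKrullDim (R ⧸ p) = d → f ∉ p)
    (M : Type u) [AddCommGroup M] [Module R M] [Module.Finite R M] :
    Module.supportDim R (QuotSMulTop f M) < (d : WithBot ℕ∞) := by
  rw [Module.supportDim, Order.krullDim_lt_coe_iff]
  intro l
  have hfl : ∀ x : Module.support R (QuotSMulTop f M), f ∈ x.1.asIdeal := by
    intro x
    have hx : x.1 ∈ Module.support R M ∩ PrimeSpectrum.zeroLocus {f} := by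
      rw [← Module.support_quotSMulTop]; exact x.2
    exact hx.2 (Set.mem_singleton f)
  obtain ⟨p, hp, hple⟩ := Ideal.exists_minimalPrimes_le
    (bot_le : (⊥ : Ideal R) ≤ (l.map Subtype.val (fun _ _ h => h)).head.asIdeal)
  haveI hpp : p.IsPrime := hp.1.1
  by_cases hpe : p = (l.map Subtype.val (fun _ _ h => h)).head.asIdeal
  · have hfp : f ∈ p := by rw [hpe]; exact hfl l.head
    have hne : ringKrullDim (R ⧸ p) ≠ d := fun h => hf p hp h hfp
    have hle : ringKrullDim (R ⧸ p) ≤ d := le_of_le_of_eq (ringKrullDim_quotient_le p) hd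
    have hlt : ringKrullDim (R ⧸ p) < d := lt_of_le_of_ne hle hne
    rw [ringKrullDim_quotient, Order.krullDim_lt_coe_iff] at hlt
    have hmem : ∀ i : Fin (l.length + 1),
        (l i).1 ∈ PrimeSpectrum.zeroLocus (R := R) (p : Set R) := by
      intro i
      have h1 : (l.head).1.asIdeal ≤ (l i).1.asIdeal := l.head_le i
      exact (PrimeSpectrum.mem_zeroLocus _ _).2 (fun a ha => h1 (hple ha))
    exact hlt (LTSeries.mk l.length (fun i => ⟨(l i).1, hmem i⟩)
      (fun i j hij => l.strictMono hij))
  · have hlt : (⟨p, hpp⟩ : PrimeSpectrum R) < (l.map Subtype.val (fun _ _ h => h)).head :=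
      lt_of_le_of_ne hple (fun h => hpe (congrArg PrimeSpectrum.asIdeal h))
    have hlen := Order.LTSeries.length_le_krullDim
      ((l.map Subtype.val (fun _ _ h => h)).cons ⟨p, hpp⟩ hlt)
    have h2 : (((((l.map Subtype.val (fun _ _ h => h)).cons ⟨p, hpp⟩ hlt).length : ℕ)) :
        WithBot ℕ∞) ≤ (d : WithBot ℕ∞) := le_of_le_of_eq hlen hd
    simp only [RelSeries.cons_length, LTSeries.map_length] at h2
    exact_mod_cast h2

end Groth.Agent.H58.LC
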