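import Mathlib
import Groth.Prelude.Def_Wider
import Groth.Agent.H58.LCAnn

/-!
# Uniform annihilators of local cohomology: finite projective dimension at a prime
-/

open CategoryTheory
universe u

namespace Groth.Agent.H58.LC

variable {R : Type u} [CommRing R]

/-- the depth arithmetic: vanishing of `H^i_b(R)` below the depth -/
theorem subsingleton_H_self_of_lt_depth (b : Ideal R) (hb : b ≠ ⊤) (i : ℕ)
    (hi : (i : ℕ∞) < LocCoh.idealDepth b R) : Subsingleton (LocCoh.H b i R) := by
  have hbR : b • (⊤ : Submodule R R) ≠ ⊤ := by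
    rw [smul_eq_mul, Ideal.mul_top]
    exact hb
  have hd : ((i + 1 : ℕ) : ℕ∞) ≤ LocCoh.idealDepth b R := by
    rw [Nat.cast_add, Nat.cast_one]
    exact Order.add_one_le_of_lt hi
  exact subsingleton_H_of_lt_idealDepth b R (i + 1) hd hbR i (Nat.lt_succ_self i)

/-- vanishing of `H^i_b(P)` below the depth for finite free `P` -/
theorem subsingleton_H_free_of_lt_depth (b : Ideal R) (hb : b ≠ ⊤) (i : ℕ)
    (hi : (i : ℕ∞) < LocCoh.idealDepth b R) (P : Type u) [AddCommGroup P] [Module R P]
    [Module.Free R P] [Module.Finite R P] : Subsingleton (LocCoh.H b i P) := by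
  classical
  haveI := subsingleton_H_self_of_lt_depth b hb i hi
  haveI : Subsingleton (LocCoh.H b i (Module.Free.ChooseBasisIndex R P → R)) :=
    subsingleton_H_pi b i
  exact (Hcongr b i (Module.Free.chooseBasis R P).equivFun).injective.subsingleton

theorem pd_ker_localized (p : Ideal R) [p.IsPrime] {M P : Type u}
    [AddCommGroup M] [Module R M] [AddCommGroup P] [Module R P] [Module.Projective R P]
    (f : P →ₗ[R] M) (hf : Function.Surjective f) (h : ℕ)
    (hpd : HasProjectiveDimensionLE (ModuleCat.of (Localization.AtPrime p)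
      (LocalizedModule p.primeCompl M)) (h + 1)) :
    HasProjectiveDimensionLE (ModuleCat.of (Localization.AtPrime p)
      (LocalizedModule p.primeCompl (LinearMap.ker f))) h := by
  let S := p.primeCompl
  let Sf := f.shortComplexKer
  have Sf_exact := LinearMap.shortExact_shortComplexKer hf
  have proj : CategoryTheory.Projective Sf.X₂ :=
    ModuleCat.projective_of_categoryTheory_projective Sf.X₂
  let Sp := Sf.map (ModuleCat.localizedModuleFunctor.{u} S)
  have Sp_exact : Sp.ShortExact := Sf_exact.map_of_exact (ModuleCat.localizedModuleFunctor.{u} S)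
  have projp : CategoryTheory.Projective Sp.X₂ :=
    (ModuleCat.localizedModuleFunctor.{u} S).projective_obj_of_projective proj
  let eM : Sp.X₃ ≅ ModuleCat.of (Localization.AtPrime p) (LocalizedModule S M) :=
    (Shrink.linearEquiv (Localization.AtPrime p) (LocalizedModule S M)).toModuleIso
  let eK : Sp.X₁ ≅ ModuleCat.of (Localization.AtPrime p)
      (LocalizedModule S (LinearMap.ker f)) :=
    (Shrink.linearEquiv (Localization.AtPrime p) (LocalizedModule S (LinearMap.ker f))).toModuleIso
  haveI h0 : HasProjectiveDimensionLT (ModuleCat.of (Localization.AtPrime p)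
      (LocalizedModule S M)) (h + 2) := hpd
  haveI h3 : HasProjectiveDimensionLT Sp.X₃ (h + 2) :=
    hasProjectiveDimensionLT_of_iso eM.symm (h + 2)
  haveI h1 : HasProjectiveDimensionLT Sp.X₁ (h + 1) :=
    (Sp_exact.hasProjectiveDimensionLT_X₃_iff h projp).1 h3
  exact hasProjectiveDimensionLT_of_iso eK (h + 1)

/-- **uniform annihilation below `depth - pd`** -/
theorem exists_smul_H_eq_zero_of_pd [IsNoetherianRing R] (p : Ideal R) [p.IsPrime] :
    ∀ (h : ℕ) (M : Type u) [AddCommGroup M] [Module R M] [Module.Finite R M],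
    HasProjectiveDimensionLE (ModuleCat.of (Localization.AtPrime p)
      (LocalizedModule p.primeCompl M)) h →
    ∃ s : R, s ∉ p ∧ ∀ (b : Ideal R), b ≠ ⊤ → ∀ (i : ℕ),
      ((i + h : ℕ) : ℕ∞) < LocCoh.idealDepth b R → ∀ x : LocCoh.H b i M, s • x = 0 := by
  intro h
  induction h with
  | zero =>
    intro M _ _ _ hpd
    haveI : CategoryTheory.Projective (ModuleCat.of (Localization.AtPrime p)
        (LocalizedModule p.primeCompl M)) :=
      (projective_iff_hasProjectiveDimensionLE_zero _).2 hpd
    haveI : Module.Projective (Localization.AtPrime p) (LocalizedModule p.primeCompl M) :=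
      (IsProjective.iff_projective _).2 inferInstance
    haveI : Module.Free (Localization.AtPrime p) (LocalizedModule p.primeCompl M) :=
      Module.free_of_flat_of_isLocalRing
    obtain ⟨ι, _, _, u, v, s, hs, huv⟩ := exists_factor_of_free_localization M p
    refine ⟨s, hs, fun b hb i hi x => ?_⟩
    haveI := subsingleton_H_self_of_lt_depth b hb i hi
    haveI : Subsingleton (LocCoh.H b i (ι → R)) := subsingleton_H_pi b i
    exact smul_H_eq_zero_of_factor b i u v s huv x
  | succ h ih =>
    intro M _ _ _ hpd
    obtain ⟨P, _, _, _, _, f, hf⟩ := Module.exists_finite_presentation R M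
    have hK := pd_ker_localized p f hf h hpd
    obtain ⟨s, hs, hsK⟩ := ih (LinearMap.ker f) hK
    refine ⟨s, hs, fun b hb i hi x => ?_⟩
    have hi1 : (((i + 1) + h : ℕ) : ℕ∞) < LocCoh.idealDepth b R := by
      have : i + 1 + h = i + (h + 1) := by omega
      rw [this]
      exact hi
    have hi0 : (i : ℕ∞) < LocCoh.idealDepth b R :=
      lt_of_le_of_lt (by exact_mod_cast (by omega : i ≤ i + (h + 1))) hi
    haveI := subsingleton_H_free_of_lt_depth b hb i hi0 P
    have hex : Function.Exact (LinearMap.ker f).subtype f := by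
      intro m
      constructor
      · intro hm
        exact ⟨⟨m, hm⟩, rfl⟩
      · rintro ⟨k, rfl⟩
        exact k.2
    obtain ⟨δ, -, e2, -, -⟩ := les_mod b (LinearMap.ker f).subtype f
      (Submodule.injective_subtype _) hf hex i
    have h0 : δ (s • x) = 0 := by
      rw [map_smul]
      exact hsK b hb (i + 1) hi1 (δ x)
    obtain ⟨y, hy⟩ := (e2 _).1 h0
    rw [← hy, Subsingleton.elim y 0, map_zero]

end Groth.Agent.H58.LC
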