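import Mathlib
import Groth.Prelude.Def_W4bk5brsh7111920
import Groth.Agent.H58.LCFalt
import Groth.Agent.H58.HtChain
import Groth.Agent.S11653
import Groth.Agent.S11660
import Groth.Agent.S11650
import Groth.Agent.S0817
import Groth.Agent.S0564

/-!
# Applications of Faltings' annihilator theorem: finiteness of local cohomology
-/

universe u

namespace Groth.Agent.H58.LC

open Groth.Agent.H58.Ht

section

variable (S : Type u) [CommRing S] [IsRegularRing S] (A : Type u) [CommRing A]
  [IsNoetherianRing A] (π : S →+* A) (hπ : Function.Surjective π)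

include hπ in
/-- over a quotient of a regular ring: `H^i_I(M)` finite for `i ≤ n` iff `n < λ_I^I(M)` -/
theorem finite_H_iff_lt_minAdjDepth (I : Ideal A) (M : Type u) [AddCommGroup M] [Module A M]
    [Module.Finite A M] (n : ℕ) :
    (∀ i : ℕ, i ≤ n → Module.Finite A (LocCoh.H I i M)) ↔
      (n : ℕ∞) < LocCoh.minAdjDepth I I M := by
  constructor
  · intro hfin
    have hann : ∀ i ≤ n, I ≤ (Module.annihilator A (LocCoh.H I i M)).radical := by
      intro i hi
      haveI := hfin i hi
      obtain ⟨k, hk⟩ := exists_pow_smul_eq_zero_of_finite I (LocCoh.H I i M)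
        (isPowerTorsion_H I i)
      intro r hr
      exact ⟨k, Module.mem_annihilator.2 (fun x => hk _ (Ideal.pow_mem_pow hr k) x)⟩
    have h1 : ((n + 1 : ℕ) : ℕ∞) ≤ LocCoh.finDimRel I I M := by
      unfold LocCoh.finDimRel
      refine le_iInf₂ fun i hi => ?_
      have hni : n < i := by
        by_contra hcon
        exact hi (hann i (by omega))
      exact_mod_cast hni
    have h2 := h1.trans (Groth.Agent.S11653.result A I I M)
    exact lt_of_lt_of_le (by exact_mod_cast Nat.lt_succ_self n) h2
  · intro hlt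
    have h2 := lt_of_lt_of_le hlt (Groth.Agent.S11660.result S A π hπ I I M)
    have hann : ∀ i ≤ n, I ≤ (Module.annihilator A (LocCoh.H I i M)).radical := by
      intro i hi
      by_contra hcon
      have h3 : LocCoh.finDimRel I I M ≤ (i : ℕ∞) := by
        unfold LocCoh.finDimRel
        exact iInf₂_le i hcon
      have h4 : (n : ℕ∞) < (i : ℕ∞) := lt_of_lt_of_le h2 h3
      have h5 : n < i := by exact_mod_cast h4
      omega
    have hk : ∀ i ≤ n, ∃ m : ℕ, ∀ a ∈ I ^ m, ∀ x : LocCoh.H I i M, a • x = 0 := by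
      intro i hi
      obtain ⟨m, hm⟩ := Ideal.exists_pow_le_of_le_radical_of_fg (hann i hi)
        (IsNoetherian.noetherian I)
      exact ⟨m, fun a ha x => Module.mem_annihilator.1 (hm ha) x⟩
    obtain ⟨K, hK⟩ := exists_uniform_pow I n (fun i => LocCoh.H I i M) hk
    exact finite_H_of_pow_smul_eq_zero I n K M hK

end

section cov

variable {A : Type u} [CommRing A]

lemma height_map_le_one_of_covBy (p q : PrimeSpectrum A) (h : p ⋖ q) :
    (q.asIdeal.map (Ideal.Quotient.mk p.asIdeal)).height ≤ 1 := by
  haveI := p.2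
  haveI := q.2
  have hpq : p.asIdeal ≤ q.asIdeal := h.1.le
  haveI hQ : (q.asIdeal.map (Ideal.Quotient.mk p.asIdeal)).IsPrime :=
    Ideal.map_isPrime_of_surjective Ideal.Quotient.mk_surjective (by rw [Ideal.mk_ker]; exact hpq)
  have h1 : (q.asIdeal.map (Ideal.Quotient.mk p.asIdeal)).height ≤ ((1 : ℕ) : ℕ∞) := by
    rw [Ideal.height_le_iff]
    intro Q' hQ' hlt
    haveI := hQ'
    have hc : Q'.comap (Ideal.Quotient.mk p.asIdeal) = p.asIdeal := by
      by_contra hne
      let c : PrimeSpectrum A := ⟨Q'.comap (Ideal.Quotient.mk p.asIdeal), inferInstance⟩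
      have hpc : p < c := by
        refine lt_of_le_of_ne ?_ (fun heq => hne (congrArg PrimeSpectrum.asIdeal heq).symm)
        show p.asIdeal ≤ Q'.comap (Ideal.Quotient.mk p.asIdeal)
        intro r hr
        show Ideal.Quotient.mk p.asIdeal r ∈ Q'
        rw [Ideal.Quotient.eq_zero_iff_mem.2 hr]
        exact Q'.zero_mem
      have hle : c ≤ q := by
        show Q'.comap (Ideal.Quotient.mk p.asIdeal) ≤ q.asIdeal
        intro r hr
        have hr' : Ideal.Quotient.mk p.asIdeal r ∈ q.asIdeal.map (Ideal.Quotient.mk p.asIdeal) :=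
          hlt.le hr
        exact (Ideal.mem_quotient_iff_mem hpq).1 hr'
      have hcq : c < q := by
        refine lt_of_le_of_ne hle (fun heq => hlt.ne ?_)
        have h2 : Q'.comap (Ideal.Quotient.mk p.asIdeal) = q.asIdeal :=
          congrArg PrimeSpectrum.asIdeal heq
        rw [← Ideal.map_comap_of_surjective (Ideal.Quotient.mk p.asIdeal)
          Ideal.Quotient.mk_surjective Q', h2]
      exact h.2 hpc hcq
    have hbot : Q' = ⊥ := by
      rw [← Ideal.map_comap_of_surjective (Ideal.Quotient.mk p.asIdeal)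
        Ideal.Quotient.mk_surjective Q', hc, Ideal.map_quotient_self]
    rw [hbot, Ideal.height_bot]
    exact_mod_cast Nat.zero_lt_one
  simpa using h1

variable [IsNoetherianRing A]

/-- `n < λ_I^I(M)` is detected at the primes covered by a prime of `V(I)` -/
theorem lt_minAdjDepth_iff_covBy (I : Ideal A) (M : Type u) [AddCommGroup M] [Module A M]
    [Module.Finite A M] (n : ℕ) :
    (n : ℕ∞) < LocCoh.minAdjDepth I I M ↔
      ∀ p q : PrimeSpectrum A, ¬ I ≤ p.asIdeal → I ≤ q.asIdeal → p ⋖ q →
        (n : ℕ∞) ≤ LocCoh.depth (Localization.AtPrime p.asIdeal)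
          (LocalizedModule p.asIdeal.primeCompl M) := by
  constructor
  · intro hlt p q hIp hIq hcov
    haveI := p.2
    haveI := q.2
    have h1 : LocCoh.minAdjDepth I I M ≤ LocCoh.adjDepth I M p := by
      unfold LocCoh.minAdjDepth
      exact iInf₂_le p hIp
    have h2 : ((I ⊔ p.asIdeal).map (Ideal.Quotient.mk p.asIdeal)).height ≤ 1 :=
      (Ideal.height_mono (Ideal.map_mono (sup_le hIq hcov.1.le))).trans
        (height_map_le_one_of_covBy p q hcov)
    have h3 : (n : ℕ∞) < LocCoh.depth (Localization.AtPrime p.asIdeal)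
        (LocalizedModule p.asIdeal.primeCompl M) + 1 := by
      refine lt_of_lt_of_le hlt (h1.trans ?_)
      unfold LocCoh.adjDepth
      exact add_le_add le_rfl h2
    exact Order.le_of_lt_add_one h3
  · intro hcond
    have key : ((n + 1 : ℕ) : ℕ∞) ≤ LocCoh.minAdjDepth I I M := by
      unfold LocCoh.minAdjDepth
      refine le_iInf₂ fun p hIp => ?_
      haveI hpp : p.asIdeal.IsPrime := p.2
      by_cases hh : ((I ⊔ p.asIdeal).map (Ideal.Quotient.mk p.asIdeal)).height = ⊤
      · unfold LocCoh.adjDepth
        rw [hh, add_top]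
        exact le_top
      obtain ⟨h, hh'⟩ := ENat.ne_top_iff_exists.1 hh
      obtain ⟨q, hqmin, hqh⟩ := exists_minimalPrimes_height_map_eq I p.asIdeal h hh'.symm
      haveI hqp : q.IsPrime := hqmin.1.1
      have hIq : I ≤ q := le_sup_left.trans hqmin.1.2
      have hpq : p.asIdeal ≤ q := le_sup_right.trans hqmin.1.2
      have hh0 : h ≠ 0 := by
        intro h0
        subst h0
        apply hIp
        exact le_of_height_map_eq_zero I p.asIdeal (by rw [← hh']; rfl)
      have hplt : p.asIdeal < q := by
        refine lt_of_le_of_ne hpq (fun heq => ?_)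
        rw [← heq, Ideal.map_quotient_self, Ideal.height_bot] at hqh
        have : h = 0 := by exact_mod_cast hqh.symm
        exact hh0 this
      obtain ⟨p', ⟨hp'prime, hpp', hp'q⟩, hmax⟩ := set_has_maximal_iff_noetherian.2
        (inferInstance : IsNoetherian A A)
        {P : Ideal A | P.IsPrime ∧ p.asIdeal ≤ P ∧ P < q} ⟨p.asIdeal, p.2, le_rfl, hplt⟩
      haveI := hp'prime
      let pP : PrimeSpectrum A := ⟨p', hp'prime⟩
      let qP : PrimeSpectrum A := ⟨q, hqp⟩
      have hcov : pP ⋖ qP :=
        ⟨hp'q, fun c hpc hcq => hmax c.asIdeal ⟨c.2, hpp'.trans hpc.le, hcq⟩ hpc⟩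
      have hIp' : ¬ I ≤ p' := fun hle =>
        absurd (hqmin.2 ⟨hp'prime, sup_le hle hpp'⟩ hp'q.le) hp'q.not_ge
      have hd := hcond pP qP hIp' hIq hcov
      have h50 := Groth.Agent.S11650.result A M p.asIdeal p' hpp'
      have hA := height_map_add_le p.asIdeal p' q hpp' hp'q.le
      have hB := one_le_height_map_of_lt p' q hp'q
      rw [hqh] at hA
      unfold LocCoh.adjDepth
      rw [← hh']
      calc ((n + 1 : ℕ) : ℕ∞) = (n : ℕ∞) + 1 := by push_cast; rfl
        _ ≤ (LocCoh.depth (Localization.AtPrime p.asIdeal)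
              (LocalizedModule p.asIdeal.primeCompl M) +
              Ideal.height (Ideal.map (Ideal.Quotient.mk p.asIdeal) (p' : Ideal A))) +
              Ideal.height (Ideal.map (Ideal.Quotient.mk (p' : Ideal A)) q) := add_le_add (hd.trans h50) hB
        _ = LocCoh.depth (Localization.AtPrime p.asIdeal)
              (LocalizedModule p.asIdeal.primeCompl M) +
              (Ideal.height (Ideal.map (Ideal.Quotient.mk p.asIdeal) (p' : Ideal A)) +
              Ideal.height (Ideal.map (Ideal.Quotient.mk (p' : Ideal A)) q)) := add_assoc _ _ _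
        _ ≤ _ := add_le_add le_rfl hA
    exact lt_of_lt_of_le (by exact_mod_cast Nat.lt_succ_self n) key

end cov

section loc

variable (A : Type u) [CommRing A] [IsLocalRing A]

lemma height_map_maximalIdeal (p : Ideal A) [p.IsPrime] :
    (((IsLocalRing.maximalIdeal A).map (Ideal.Quotient.mk p)).height : WithBot ℕ∞) =
      ringKrullDim (A ⧸ p) := by
  haveI : IsLocalRing (A ⧸ p) :=
    IsLocalRing.of_surjective' (Ideal.Quotient.mk p) Ideal.Quotient.mk_surjective
  have hmax : ((IsLocalRing.maximalIdeal (A ⧸ p)).comap (Ideal.Quotient.mk p)).IsMaximal :=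
    Ideal.comap_isMaximal_of_surjective _ Ideal.Quotient.mk_surjective
  have h1 := IsLocalRing.eq_maximalIdeal hmax
  rw [← h1, Ideal.map_comap_of_surjective _ Ideal.Quotient.mk_surjective]
  exact IsLocalRing.maximalIdeal_height_eq_ringKrullDim

variable [IsNoetherianRing A]

theorem lt_minAdjDepth_maximalIdeal_iff (M : Type u) [AddCommGroup M] [Module A M]
    [Module.Finite A M] (n : ℕ) :
    (n : ℕ∞) < LocCoh.minAdjDepth (IsLocalRing.maximalIdeal A) (IsLocalRing.maximalIdeal A) M ↔
      ∀ p : PrimeSpectrum A, p.asIdeal ≠ IsLocalRing.maximalIdeal A → ∀ e : ℕ,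
        ringKrullDim (A ⧸ p.asIdeal) = e →
        (n : ℕ∞) < LocCoh.depth (Localization.AtPrime p.asIdeal)
          (LocalizedModule p.asIdeal.primeCompl M) + e := by
  have hadj : ∀ (p : PrimeSpectrum A) (e : ℕ), ringKrullDim (A ⧸ p.asIdeal) = e →
      LocCoh.adjDepth (IsLocalRing.maximalIdeal A) M p =
        LocCoh.depth (Localization.AtPrime p.asIdeal)
          (LocalizedModule p.asIdeal.primeCompl M) + e := by
    intro p e he
    haveI := p.2
    unfold LocCoh.adjDepth
    have hsup : IsLocalRing.maximalIdeal A ⊔ p.asIdeal = IsLocalRing.maximalIdeal A :=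
      sup_eq_left.2 (IsLocalRing.le_maximalIdeal p.2.ne_top)
    have h1 := height_map_maximalIdeal A p.asIdeal
    rw [he] at h1
    have h2 : ((IsLocalRing.maximalIdeal A).map (Ideal.Quotient.mk p.asIdeal)).height =
        (e : ℕ∞) := by exact_mod_cast h1
    rw [hsup, h2]
  have hne : ∀ p : PrimeSpectrum A, ¬ IsLocalRing.maximalIdeal A ≤ p.asIdeal ↔
      p.asIdeal ≠ IsLocalRing.maximalIdeal A := by
    intro p
    constructor
    · intro h heq
      exact h (le_of_eq heq.symm)
    · intro h hle
      exact h (le_antisymm (IsLocalRing.le_maximalIdeal p.2.ne_top) hle)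
  constructor
  · intro hlt p hp e he
    rw [← hadj p e he]
    refine lt_of_lt_of_le hlt ?_
    unfold LocCoh.minAdjDepth
    exact iInf₂_le p ((hne p).2 hp)
  · intro hcond
    have key : ((n + 1 : ℕ) : ℕ∞) ≤ LocCoh.minAdjDepth (IsLocalRing.maximalIdeal A)
        (IsLocalRing.maximalIdeal A) M := by
      unfold LocCoh.minAdjDepth
      refine le_iInf₂ fun p hp => ?_
      haveI := p.2
      have hfin : ((IsLocalRing.maximalIdeal A).map (Ideal.Quotient.mk p.asIdeal)).height ≠ ⊤ := by
        haveI : ((IsLocalRing.maximalIdeal A).map (Ideal.Quotient.mk p.asIdeal)).IsPrime :=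
          Ideal.map_isPrime_of_surjective Ideal.Quotient.mk_surjective
            (by rw [Ideal.mk_ker]; exact IsLocalRing.le_maximalIdeal p.2.ne_top)
        exact Ideal.height_ne_top_of_isPrime
      obtain ⟨e, he⟩ := ENat.ne_top_iff_exists.1 hfin
      have hdim : ringKrullDim (A ⧸ p.asIdeal) = e := by
        rw [← height_map_maximalIdeal A p.asIdeal, ← he]
        rfl
      have h1 := hcond p ((hne p).1 hp) e hdim
      rw [hadj p e hdim]
      have h2 : (n : ℕ∞) + 1 ≤ LocCoh.depth (Localization.AtPrime p.asIdeal)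
          (LocalizedModule p.asIdeal.primeCompl M) + e :=
        (ENat.add_one_le_iff (ENat.coe_ne_top n)).2 h1
      exact_mod_cast h2
    exact lt_of_lt_of_le (by exact_mod_cast Nat.lt_succ_self n) key

end loc

end Groth.Agent.H58.LC
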