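import Mathlib
import Groth.Prelude.Def_SGA2
import Groth.Agent.H58.LCFaltApp
import Groth.Agent.H71.Catenary
import Groth.Agent.H71.SkSupport
import Groth.Agent.H71.RelCodim
import Groth.Agent.H29.Depth
import Groth.Agent.S0603

/-!
# Finiteness of local cohomology below `n` for modules CM off `V(I)` in terms of `relCodim`
-/

set_option autoImplicit false
universe u

open Groth.Agent.H71.CAT

namespace Groth.Agent.H58.LC

section cat

variable {A : Type u} [CommRing A] [IsNoetherianRing A]

lemma sat_unique (hc : CAlg.IsCatenary A) {x y : PrimeSpectrum A} {L L' : ℕ}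
    (h : Sat x y L) (h' : Sat x y L') : L = L' := by
  obtain ⟨t, ht1, ht2, ht3⟩ := h
  obtain ⟨t', ht1', ht2', ht3'⟩ := h'
  have heq := hc.2 (toLT t) (toLT t') (ht1.trans ht1'.symm) (ht2.trans ht2'.symm)
    (toLT_covBy t) (toLT_covBy t')
  rw [← ht3, ← ht3']
  exact heq

lemma sat_snoc {x y z : PrimeSpectrum A} {L : ℕ} (h : Sat x y L) (hyz : y ⋖ z) :
    Sat x z (L + 1) := by
  obtain ⟨t, ht1, ht2, ht3⟩ := h
  have hrel : t.last ⋖ z := ht2 ▸ hyz
  refine ⟨t.snoc z hrel, ?_, RelSeries.last_snoc _ _ _, ?_⟩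
  · rw [RelSeries.head_snoc]; exact ht1
  · rw [RelSeries.snoc_length, ht3]

lemma exists_sat_of_le {x y : PrimeSpectrum A} (h : x ≤ y) : ∃ L, Sat x y L := by
  by_cases hx : x = y
  · subst hx
    exact ⟨0, RelSeries.singleton _ _, rfl, rfl, rfl⟩
  · have hlt : x < y := lt_of_le_of_ne h hx
    obtain ⟨L, -, hL⟩ := exists_sat_refinement
      ((RelSeries.singleton {(a, b) : PrimeSpectrum A × PrimeSpectrum A | a < b} x).snoc y hlt)
    obtain ⟨t, ht1, ht2, ht3⟩ := hL
    exact ⟨L, t, ht1.trans (RelSeries.head_snoc _ _ _), ht2.trans (RelSeries.last_snoc _ _ _),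
      ht3⟩

lemma exists_sat_ge {x z : PrimeSpectrum A} (hxz : x ≤ z) (s : LTSeries (Set.Ici x))
    (hs : s.last = ⟨z, hxz⟩) : ∃ L', s.length ≤ L' ∧ Sat x z L' := by
  let s' : LTSeries (PrimeSpectrum A) := s.map Subtype.val (fun _ _ h => h)
  have hlen : s'.length = s.length := rfl
  have hlast : s'.last = z := by
    show (s.last).1 = z
    rw [hs]
  have hhead : x ≤ s'.head := (s.head).2
  by_cases hh : s'.head = x
  · obtain ⟨L', h1, h2⟩ := exists_sat_refinement s'
    rw [hh, hlast] at h2
    exact ⟨L', hlen ▸ h1, h2⟩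
  · have hlt : x < s'.head := lt_of_le_of_ne hhead (Ne.symm hh)
    obtain ⟨L', h1, h2⟩ := exists_sat_refinement (s'.cons x hlt)
    rw [RelSeries.head_cons, RelSeries.last_cons, hlast] at h2
    refine ⟨L', le_trans ?_ h1, h2⟩
    rw [RelSeries.cons_length, hlen]
    exact Nat.le_succ _

lemma sat_le_height {x y : PrimeSpectrum A} {L : ℕ} (h : Sat x y L) (hxy : x ≤ y) :
    (L : ℕ∞) ≤ Order.height (⟨y, hxy⟩ : Set.Ici x) := by
  obtain ⟨t, h1, h2, h3⟩ := h
  have hmono : ∀ i : Fin (t.length + 1), x ≤ t i := by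
    intro i
    have := (toLT t).strictMono.monotone (Fin.zero_le i)
    have h0 : (toLT t) 0 = x := h1
    exact le_trans (le_of_eq h0.symm) this
  let u : LTSeries (Set.Ici x) :=
    { length := t.length
      toFun := fun i => ⟨t i, hmono i⟩
      step := fun i => by
        have h : t.toFun i.castSucc ⋖ t.toFun i.succ := t.step i
        exact h.lt }
  have hu : u.last ≤ (⟨y, hxy⟩ : Set.Ici x) := by
    show t (Fin.last t.length) ≤ y
    have : t (Fin.last t.length) = y := h2
    rw [this]
  have := Order.length_le_height hu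
  rw [← h3]
  exact this

lemma height_Ici_le_of_covBy (hc : CAlg.IsCatenary A) {x y z : PrimeSpectrum A} (hxy : x ≤ y)
    (hyz : y ⋖ z) :
    Order.height (⟨z, hxy.trans hyz.le⟩ : Set.Ici x) ≤
      Order.height (⟨y, hxy⟩ : Set.Ici x) + 1 := by
  rw [Order.height_le_iff']
  intro s hs
  obtain ⟨L', h1, h2⟩ := exists_sat_ge (hxy.trans hyz.le) s hs
  obtain ⟨L₁, h3⟩ := exists_sat_of_le hxy
  have h4 := sat_snoc h3 hyz
  have h5 : L' = L₁ + 1 := sat_unique hc h2 h4
  have h6 := sat_le_height h3 hxy
  calc (s.length : ℕ∞) ≤ (L' : ℕ∞) := by exact_mod_cast h1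
    _ = (L₁ : ℕ∞) + 1 := by rw [h5]; push_cast; rfl
    _ ≤ _ := add_le_add h6 le_rfl

end cat

lemma isCatenary_of_surjective (R : Type u) [CommRing R] [IsRegularRing R] (A : Type u)
    [CommRing A] (π : R →+* A) (hπ : Function.Surjective π) : CAlg.IsCatenary A := by
  haveI := Groth.Agent.H72.Faltings.isCMRing_of_isRegularRing R
  have h := Groth.Agent.S0603.result R
  letI : Algebra R A := π.toAlgebra
  exact h.2 A (RingHom.FiniteType.of_surjective π hπ)

lemma depth_eq_top_of_subsingleton (B : Type u) [CommRing B] [IsLocalRing B] (N : Type u)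
    [AddCommGroup N] [Module B N] [Subsingleton N] : LocCoh.depth B N = ⊤ := by
  unfold LocCoh.depth LocCoh.idealDepth
  rw [if_pos]
  rw [Submodule.eq_top_iff']
  intro x
  rw [Subsingleton.elim x 0]
  exact zero_mem _

section supp

variable {A : Type u} [CommRing A] [IsNoetherianRing A]

lemma depth_eq_zero_of_mem_associatedPrimes (p : Ideal A) [p.IsPrime] (M : Type u)
    [AddCommGroup M] [Module A M] [Module.Finite A M] (h : p ∈ associatedPrimes A M) :
    LocCoh.depth (Localization.AtPrime p) (LocalizedModule p.primeCompl M) = 0 := by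
  have hass := Module.associatedPrimes.mem_associatedPrimes_atPrime_of_mem_associatedPrimes h
  obtain ⟨-, y, hy⟩ := isAssociatedPrime_iff.1 hass
  have hkill : ∀ r ∈ IsLocalRing.maximalIdeal (Localization.AtPrime p), r • y = 0 := by
    intro r hr
    rw [hy, Submodule.mem_colon_singleton, Submodule.mem_bot] at hr
    exact hr
  have hy0 : y ≠ 0 := by
    intro h0
    have h1 : (1 : Localization.AtPrime p) ∈ IsLocalRing.maximalIdeal (Localization.AtPrime p) := by
      rw [hy, Submodule.mem_colon_singleton, Submodule.mem_bot, h0, smul_zero]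
    exact (IsLocalRing.maximalIdeal.isMaximal _).ne_top ((Ideal.eq_top_iff_one _).2 h1)
  rw [Groth.Agent.H29.depth_eq_zero_iff]
  constructor
  · intro htop
    have hbot := Submodule.eq_bot_of_le_smul_of_le_jacobson_bot
      (IsLocalRing.maximalIdeal (Localization.AtPrime p))
      (⊤ : Submodule (Localization.AtPrime p) (LocalizedModule p.primeCompl M))
      Module.Finite.fg_top (le_of_eq htop.symm) (IsLocalRing.maximalIdeal_le_jacobson ⊥)
    have hmem : y ∈ (⊤ : Submodule (Localization.AtPrime p) (LocalizedModule p.primeCompl M)) :=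
      Submodule.mem_top
    rw [hbot, Submodule.mem_bot] at hmem
    exact hy0 hmem
  · intro r hr hreg
    exact hy0 (hreg (by rw [hkill r hr, smul_zero] : r • y = r • 0))

lemma height_Ici_le_supportDim (M : Type u) [AddCommGroup M] [Module A M] [Module.Finite A M]
    (p₀ p : PrimeSpectrum A) (h₀ : Module.annihilator A M ≤ p₀.asIdeal) (hp : p₀ ≤ p) :
    ((Order.height (⟨p, hp⟩ : Set.Ici p₀) : ℕ∞) : WithBot ℕ∞) ≤
      Module.supportDim (Localization.AtPrime p.asIdeal)
        (LocalizedModule p.asIdeal.primeCompl M) := by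
  rw [Order.height_eq_krullDim_Iic]
  unfold Module.supportDim
  have hdisj : ∀ x : Set.Iic (⟨p, hp⟩ : Set.Ici p₀),
      Disjoint (p.asIdeal.primeCompl : Set A) (x.1.1.asIdeal : Set A) := by
    intro x
    rw [Set.disjoint_left]
    intro a ha hax
    have hxle : x.1.1.asIdeal ≤ p.asIdeal := x.2
    exact ha (hxle hax)
  have hprime : ∀ x : Set.Iic (⟨p, hp⟩ : Set.Ici p₀),
      (x.1.1.asIdeal.map (algebraMap A (Localization.AtPrime p.asIdeal))).IsPrime := fun x =>
    IsLocalization.isPrime_of_isPrime_disjoint p.asIdeal.primeCompl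
      (Localization.AtPrime p.asIdeal) _ x.1.1.2 (hdisj x)
  have hcomap : ∀ x : Set.Iic (⟨p, hp⟩ : Set.Ici p₀),
      (x.1.1.asIdeal.map (algebraMap A (Localization.AtPrime p.asIdeal))).comap
        (algebraMap A (Localization.AtPrime p.asIdeal)) = x.1.1.asIdeal := fun x =>
    IsLocalization.under_map_of_isPrime_disjoint p.asIdeal.primeCompl
      (Localization.AtPrime p.asIdeal) x.1.1.2 (hdisj x)
  let f : Set.Iic (⟨p, hp⟩ : Set.Ici p₀) →
      Module.support (Localization.AtPrime p.asIdeal)
        (LocalizedModule p.asIdeal.primeCompl M) := fun x =>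
    ⟨⟨x.1.1.asIdeal.map (algebraMap A (Localization.AtPrime p.asIdeal)), hprime x⟩, by
      rw [Groth.Agent.H71.SK.mem_support_localizedModule_iff, Module.mem_support_iff_of_finite]
      show Module.annihilator A M ≤
        (x.1.1.asIdeal.map (algebraMap A (Localization.AtPrime p.asIdeal))).comap
          (algebraMap A (Localization.AtPrime p.asIdeal))
      rw [hcomap x]
      exact h₀.trans x.1.2⟩
  have hf : StrictMono f := by
    intro x y hxy
    have hle : x.1.1.asIdeal ≤ y.1.1.asIdeal := hxy.le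
    have hne : ¬ y.1.1.asIdeal ≤ x.1.1.asIdeal := fun h => hxy.not_ge h
    show x.1.1.asIdeal.map (algebraMap A (Localization.AtPrime p.asIdeal)) <
      y.1.1.asIdeal.map (algebraMap A (Localization.AtPrime p.asIdeal))
    rw [lt_iff_le_not_ge]
    refine ⟨Ideal.map_mono hle, fun hge => hne ?_⟩
    have := Ideal.comap_mono (f := algebraMap A (Localization.AtPrime p.asIdeal)) hge
    rwa [hcomap x, hcomap y] at this
  exact Order.krullDim_le_of_strictMono f hf

end supp

section main

variable (R : Type u) [CommRing R] [IsRegularRing R] (A : Type u) [CommRing A]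
  [IsNoetherianRing A] (π : R →+* A) (hπ : Function.Surjective π)

include hπ in
theorem finite_H_iff_relCodim (I : Ideal A) (M : Type u) [AddCommGroup M] [Module A M]
    [Module.Finite A M]
    (hCM : ∀ p : PrimeSpectrum A, ¬ I ≤ p.asIdeal →
      Subsingleton (LocalizedModule p.asIdeal.primeCompl M) ∨
        LocCoh.IsCohenMacaulayModule (Localization.AtPrime p.asIdeal)
          (LocalizedModule p.asIdeal.primeCompl M)) (n : ℕ) :
    (∀ i : ℕ, i ≤ n → Module.Finite A (LocCoh.H I i M)) ↔
      ∀ p : PrimeSpectrum A, ¬ I ≤ p.asIdeal →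
        p.asIdeal ∈ (Module.annihilator A M).minimalPrimes → (n : ℕ∞) < SGA2.relCodim I p := by
  constructor
  · intro hfin p hIp hpmin
    have h1 := (finite_H_iff_lt_minAdjDepth R A π hπ I M n).1 hfin
    have h2 : LocCoh.minAdjDepth I I M ≤ LocCoh.adjDepth I M p := by
      unfold LocCoh.minAdjDepth
      exact iInf₂_le p hIp
    haveI := p.2
    have hass : p.asIdeal ∈ associatedPrimes A M :=
      Module.associatedPrimes.minimalPrimes_annihilator_subset_associatedPrimes A M hpmin
    have h3 := depth_eq_zero_of_mem_associatedPrimes p.asIdeal M hass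
    have h4 : LocCoh.adjDepth I M p =
        ((I ⊔ p.asIdeal).map (Ideal.Quotient.mk p.asIdeal)).height := by
      unfold LocCoh.adjDepth
      rw [h3, zero_add]
    have h5 : ((I ⊔ p.asIdeal).map (Ideal.Quotient.mk p.asIdeal)).height ≤
        SGA2.relCodim I p := by
      unfold SGA2.relCodim
      refine le_iInf fun q => ?_
      exact (Ideal.height_mono (Ideal.map_mono (sup_le q.2.2 q.2.1))).trans
        (Groth.Agent.H71.RC.height_map_le p q.1 q.2.1)
    exact lt_of_lt_of_le h1 (h2.trans (h4.le.trans h5))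
  · intro hrc
    rw [(finite_H_iff_lt_minAdjDepth R A π hπ I M n).trans (lt_minAdjDepth_iff_covBy I M n)]
    intro p q hIp hIq hpq
    have hcat := isCatenary_of_surjective R A π hπ
    by_cases hsub : Subsingleton (LocalizedModule p.asIdeal.primeCompl M)
    · rw [depth_eq_top_of_subsingleton]
      exact le_top
    · have hcm : Module.supportDim (Localization.AtPrime p.asIdeal)
          (LocalizedModule p.asIdeal.primeCompl M) =
          ((LocCoh.depth (Localization.AtPrime p.asIdeal)
            (LocalizedModule p.asIdeal.primeCompl M) : ℕ∞) : WithBot ℕ∞) :=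
        (hCM p hIp).resolve_left hsub
      have hsupp : p ∈ Module.support A M := by
        rw [Module.mem_support_iff]
        exact not_subsingleton_iff_nontrivial.1 hsub
      have hann : Module.annihilator A M ≤ p.asIdeal := Module.mem_support_iff_of_finite.1 hsupp
      haveI := p.2
      obtain ⟨P₀, hP₀min, hP₀p⟩ := Ideal.exists_minimalPrimes_le hann
      let p₀ : PrimeSpectrum A := ⟨P₀, hP₀min.1.1⟩
      have hp₀p : p₀ ≤ p := hP₀p
      have hIp₀ : ¬ I ≤ p₀.asIdeal := fun h => hIp (h.trans hP₀p)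
      have h1 := hrc p₀ hIp₀ hP₀min
      have h2 : SGA2.relCodim I p₀ ≤ Order.height (⟨q, hp₀p.trans hpq.le⟩ : Set.Ici p₀) := by
        unfold SGA2.relCodim
        exact iInf_le (fun q : {q : PrimeSpectrum A // p₀ ≤ q ∧ I ≤ q.asIdeal} =>
          Order.height (⟨q.1, q.2.1⟩ : Set.Ici p₀)) ⟨q, hp₀p.trans hpq.le, hIq⟩
      have h3 := height_Ici_le_of_covBy hcat hp₀p hpq
      have h4 := height_Ici_le_supportDim M p₀ p hP₀min.1.2 hp₀p
      rw [hcm] at h4
      have h4' : Order.height (⟨p, hp₀p⟩ : Set.Ici p₀) ≤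
          LocCoh.depth (Localization.AtPrime p.asIdeal)
            (LocalizedModule p.asIdeal.primeCompl M) := WithBot.coe_le_coe.1 h4
      have h5 : (n : ℕ∞) < Order.height (⟨p, hp₀p⟩ : Set.Ici p₀) + 1 :=
        lt_of_lt_of_le h1 (h2.trans h3)
      exact (Order.le_of_lt_add_one h5).trans h4'

end main

/-- a chain given by a function on `Fin (n+1)` as a list -/
lemma list_of_chain {α : Type*} (r : α → α → Prop) : ∀ (n : ℕ) (c : Fin (n + 1) → α),
    (∀ i : Fin n, r (c i.castSucc) (c i.succ)) →
    ∃ tl : List α, (c 0 :: tl).getLast? = some (c (Fin.last n)) ∧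
      (∀ p ∈ c 0 :: tl, ∃ i, p = c i) ∧ List.IsChain r (c 0 :: tl)
  | 0, c, _ => ⟨[], rfl, fun p hp => ⟨0, by simpa using hp⟩, List.IsChain.singleton _⟩
  | n + 1, c, h => by
      obtain ⟨tl, h1, h2, h3⟩ := list_of_chain r n (fun i => c i.succ) (fun i => h i.succ)
      refine ⟨c (Fin.succ 0) :: tl, ?_, ?_, ?_⟩
      · rw [List.getLast?_cons_cons]
        exact h1
      · intro p hp
        rcases List.mem_cons.1 hp with rfl | hp
        · exact ⟨0, rfl⟩
        · obtain ⟨i, hi⟩ := h2 p hp
          exact ⟨i.succ, hi⟩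
      · exact List.IsChain.cons_cons (h 0) h3

end Groth.Agent.H58.LC
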