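import Mathlib
import Groth.Agent.H58.LCFaltApp
import Groth.Agent.H58.LCRelCodim
import Groth.Agent.S0580
import Groth.Agent.S5784
import Groth.Agent.H29.Depth
import Groth.Agent.H29.CM2

/-!
# Finiteness of local cohomology over complete local rings

A complete Noetherian local ring is a quotient of a regular ring (Cohen), so Faltings' finiteness
criterion applies.
-/

universe u

namespace Groth.Agent.H58.CplFin

open IsLocalRing

/-- a complete Noetherian local ring is a quotient of a regular ring -/
theorem exists_regular_surjective (B : Type u) [CommRing B] [IsLocalRing B] [IsNoetherianRing B]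
    [IsAdicComplete (maximalIdeal B) B] :
    ∃ (S : Type u) (_ : CommRing S) (_ : IsRegularRing S) (π : S →+* B),
      Function.Surjective π := by
  obtain ⟨Λ, instΛ, n, f, hΛ, hf⟩ :=
    Groth.Agent.S0580.result B (maximalIdeal B).fg_of_isNoetherianRing
  have hreg : IsRegularRing Λ := by
    rcases hΛ with h | h
    · haveI := h.isDomain
      haveI := h.isPrincipalIdealRing
      infer_instance
    · obtain ⟨hd, hdvr, -⟩ := h
      infer_instance
  exact ⟨MvPowerSeries (Fin n) Λ, inferInstance, Groth.Agent.S5784.result Λ n, f, hf⟩

variable (B : Type u) [CommRing B] [IsLocalRing B] [IsNoetherianRing B]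
  [IsAdicComplete (maximalIdeal B) B]

/-- over a complete local ring: `H^i_m(N)` finite for `i ≤ n` iff `depth N_p + dim B/p > n`
for all non-maximal primes `p` -/
theorem finite_H_iff_of_complete (N : Type u) [AddCommGroup N] [Module B N] [Module.Finite B N]
    (n : ℕ) :
    (∀ i : ℕ, i ≤ n → Module.Finite B (LocCoh.H (maximalIdeal B) i N)) ↔
      ∀ p : PrimeSpectrum B, p.asIdeal ≠ maximalIdeal B → ∀ e : ℕ,
        ringKrullDim (B ⧸ p.asIdeal) = e →
        (n : ℕ∞) < LocCoh.depth (Localization.AtPrime p.asIdeal)
          (LocalizedModule p.asIdeal.primeCompl N) + e := by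
  obtain ⟨S, _, _, π, hπ⟩ := exists_regular_surjective B
  rw [Groth.Agent.H58.LC.finite_H_iff_lt_minAdjDepth S B π hπ,
    Groth.Agent.H58.LC.lt_minAdjDepth_maximalIdeal_iff]

/-- over a complete local ring: `H^1_m(N)` is finite iff every non-maximal associated prime of `N`
has dimension at least two -/
theorem finite_H1_iff_of_complete (N : Type u) [AddCommGroup N] [Module B N]
    [Module.Finite B N] :
    Module.Finite B (LocCoh.H (maximalIdeal B) 1 N) ↔
      ∀ p' ∈ associatedPrimes B N, p' ≠ maximalIdeal B →
        (2 : WithBot ℕ∞) ≤ ringKrullDim (B ⧸ p') := by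
  constructor
  · intro hfin p' hp' hne
    haveI : p'.IsPrime := hp'.isPrime
    have hall : ∀ i : ℕ, i ≤ 1 → Module.Finite B (LocCoh.H (maximalIdeal B) i N) := by
      intro i hi
      rcases i with _ | i
      · exact Groth.Agent.H58.LC.finite_H_zero (maximalIdeal B) N
      · obtain rfl : i = 0 := by omega
        exact hfin
    have h1 := (finite_H_iff_of_complete B N 1).1 hall ⟨p', inferInstance⟩ hne
    obtain ⟨e, he⟩ := Groth.Agent.H29.CM.exists_nat_ringKrullDim_quotient p'
    have he' : ringKrullDim (B ⧸ p') = (e : WithBot ℕ∞) := by rw [he]; rfl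
    have h2 := h1 e he'
    rw [Groth.Agent.H58.LC.depth_eq_zero_of_mem_associatedPrimes p' N hp', zero_add] at h2
    rw [he']
    have h3 : 1 < e := by exact_mod_cast h2
    have h4 : 2 ≤ e := h3
    exact_mod_cast h4
  · intro hass
    refine (finite_H_iff_of_complete B N 1).2 ?_ 1 le_rfl
    intro p hpm e he
    haveI := p.2
    by_cases hsub : Subsingleton (LocalizedModule p.asIdeal.primeCompl N)
    · rw [Groth.Agent.H58.LC.depth_eq_top_of_subsingleton, top_add]
      exact ENat.coe_lt_top 1
    · haveI : Nontrivial (LocalizedModule p.asIdeal.primeCompl N) :=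
        not_subsingleton_iff_nontrivial.1 hsub
      have he1 : 1 ≤ e := by
        have hlt : p.asIdeal < maximalIdeal B :=
          lt_of_le_of_ne (IsLocalRing.le_maximalIdeal p.2.ne_top) hpm
        have h1 := Groth.Agent.H58.Ht.one_le_height_map_of_lt p.asIdeal (maximalIdeal B) hlt
        have h2 := Groth.Agent.H58.LC.height_map_maximalIdeal B p.asIdeal
        rw [he] at h2
        have h3 : ((maximalIdeal B).map (Ideal.Quotient.mk p.asIdeal)).height = (e : ℕ∞) := by
          exact_mod_cast h2
        rw [h3] at h1
        exact_mod_cast h1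
      by_cases hd0 : LocCoh.depth (Localization.AtPrime p.asIdeal)
          (LocalizedModule p.asIdeal.primeCompl N) = 0
      · have hmaxass : maximalIdeal (Localization.AtPrime p.asIdeal) ∈
            associatedPrimes (Localization.AtPrime p.asIdeal)
              (LocalizedModule p.asIdeal.primeCompl N) :=
          (Groth.Agent.H29.forall_not_isSMulRegular_iff_mem_associatedPrimes _ _).mp
            ((Groth.Agent.H29.depth_eq_zero_iff _ _).mp hd0).2
        have hloc :=
          Module.associatedPrimes.preimage_comap_associatedPrimes_eq_associatedPrimes_of_isLocalizedModule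
            p.asIdeal.primeCompl (Localization.AtPrime p.asIdeal)
            (LocalizedModule.mkLinearMap p.asIdeal.primeCompl N)
        have hpass : p.asIdeal ∈ associatedPrimes B N := by
          have h1 : maximalIdeal (Localization.AtPrime p.asIdeal) ∈
              (Ideal.comap (algebraMap B (Localization.AtPrime p.asIdeal))) ⁻¹'
                (associatedPrimes B N) := by
            rw [hloc]
            exact hmaxass
          have h2 : (maximalIdeal (Localization.AtPrime p.asIdeal)).comap
              (algebraMap B (Localization.AtPrime p.asIdeal)) = p.asIdeal :=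
            IsLocalization.AtPrime.under_maximalIdeal (Localization.AtPrime p.asIdeal) p.asIdeal
          rw [Set.mem_preimage, h2] at h1
          exact h1
        have h2 := hass p.asIdeal hpass hpm
        rw [he] at h2
        have h3 : 2 ≤ e := by exact_mod_cast h2
        rw [hd0, zero_add]
        exact_mod_cast (show 1 < e by omega)
      · have hd1 : 1 ≤ LocCoh.depth (Localization.AtPrime p.asIdeal)
            (LocalizedModule p.asIdeal.primeCompl N) := Order.one_le_iff_ne_zero.2 hd0
        have h12 : (1 : ℕ∞) + 1 ≤ LocCoh.depth (Localization.AtPrime p.asIdeal)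
            (LocalizedModule p.asIdeal.primeCompl N) + (e : ℕ∞) :=
          add_le_add hd1 (by exact_mod_cast he1)
        refine lt_of_lt_of_le ?_ h12
        exact_mod_cast (by norm_num : (1 : ℕ) < 1 + 1)

end Groth.Agent.H58.CplFin
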