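import Mathlib
import Groth.Agent.H58.IH
import Groth.Agent.S11664

/-!
Injective hulls and localization (Noetherian rings).
-/

set_option autoImplicit false
universe u v
open InjHull

namespace Groth.Agent.H58.IH

variable {R : Type u} [CommRing R]

section prime

variable (p : Ideal R) [p.IsPrime] {E : Type u} [AddCommGroup E] [Module R E]

theorem smul_bijective_of_hull (f : (R ⧸ p) →ₗ[R] E) (hf : IsInjectiveHull f) {s : R}
    (hs : s ∉ p) : Function.Bijective (fun x : E => s • x) := by
  obtain ⟨hinj, hess, hI⟩ := (isInjectiveHull_iff f).1 hf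
  haveI := hI
  let T : E →ₗ[R] E := LinearMap.lsmul R E s
  have hT : ∀ x, T x = s • x := fun x => rfl
  have hTinj : Function.Injective T := by
    rw [← LinearMap.ker_eq_bot, LinearMap.ker_eq_bot']
    intro x hx
    by_contra hx0
    obtain ⟨r, ⟨a, ha⟩, hr0⟩ := hess x hx0
    have h1 : f (s • a) = 0 := by rw [map_smul, ha, smul_comm, ← hT, hx, smul_zero]
    have h2 : s • a = 0 := hinj (h1.trans (map_zero f).symm)
    rw [smul_quotient, mul_eq_zero] at h2
    rcases h2 with h | h
    · exact hs (Ideal.Quotient.eq_zero_iff_mem.1 h)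
    · apply hr0
      rw [← ha, h, map_zero]
  refine ⟨hTinj, ?_⟩
  obtain ⟨ρ, hρ⟩ := Module.Injective.extension_property R E E E T hTinj LinearMap.id
  have hρT : ∀ x, ρ (T x) = x := fun x => LinearMap.congr_fun hρ x
  have hE := indecomposable_of_hull p f hf
  have hC : IsCompl (LinearMap.range T) (LinearMap.ker ρ) := by
    constructor
    · rw [disjoint_iff, eq_bot_iff]
      rintro y ⟨⟨z, rfl⟩, hy⟩
      have hy' : ρ (T z) = 0 := hy
      rw [hρT] at hy'
      rw [Submodule.mem_bot, hy', map_zero]
    · rw [codisjoint_iff, eq_top_iff]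
      intro y _
      rw [Submodule.mem_sup]
      refine ⟨T (ρ y), ⟨ρ y, rfl⟩, y - T (ρ y), ?_, by abel⟩
      rw [LinearMap.mem_ker, map_sub, hρT, sub_self]
  rcases hE.2 _ _ hC with h | h
  · exfalso
    haveI := hE.1
    obtain ⟨x, hx⟩ := exists_ne (0 : E)
    have h1 : T x ∈ LinearMap.range T := ⟨x, rfl⟩
    rw [h, Submodule.mem_bot] at h1
    exact hx (hTinj (h1.trans (map_zero T).symm))
  · intro y
    have hy : y - T (ρ y) ∈ LinearMap.ker ρ := by
      rw [LinearMap.mem_ker, map_sub, hρT, sub_self]
    rw [h, Submodule.mem_bot, sub_eq_zero] at hy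
    exact ⟨ρ y, hy.symm⟩

theorem exists_pow_smul_eq_zero_of_hull [IsNoetherianRing R] (f : (R ⧸ p) →ₗ[R] E)
    (hf : IsInjectiveHull f) {s : R} (hs : s ∈ p) (x : E) : ∃ n : ℕ, s ^ n • x = 0 := by
  obtain ⟨hinj, hess, -⟩ := (isInjectiveHull_iff f).1 hf
  let a : ℕ →o Submodule R R :=
    ⟨fun n => LinearMap.ker (LinearMap.toSpanSingleton R E (s ^ n • x)), by
      intro n m hnm r hr
      obtain ⟨k, rfl⟩ := Nat.exists_eq_add_of_le hnm
      have hr' : r • (s ^ n • x) = 0 := hr
      show r • (s ^ (n + k) • x) = 0
      rw [pow_add, mul_comm, mul_smul, smul_comm r (s ^ k), hr', smul_zero]⟩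
  obtain ⟨n, hn⟩ := monotone_stabilizes_iff_noetherian.2 inferInstance a
  refine ⟨n, ?_⟩
  by_contra hne
  obtain ⟨r, ⟨b, hb⟩, hr0⟩ := hess _ hne
  have h1 : s • f b = 0 := by
    rw [← map_smul, smul_quotient, Ideal.Quotient.eq_zero_iff_mem.2 hs, zero_mul, map_zero]
  have h2 : r ∈ a (n + 1) := by
    show r • (s ^ (n + 1) • x) = 0
    rw [pow_succ', mul_smul, smul_comm r s, ← hb, h1]
  rw [← hn (n + 1) (Nat.le_succ n)] at h2
  exact hr0 h2

end prime

/-- the localization of an injective module over a Noetherian ring is injective. -/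
theorem injective_localizedModule [IsNoetherianRing R] (S : Submonoid R) (E : Type u)
    [AddCommGroup E] [Module R E] [Module.Injective R E] :
    Module.Injective (Localization S) (LocalizedModule S E) := by
  apply Module.Baer.injective
  intro J' g
  let J : Ideal R := J'.comap (algebraMap R (Localization S))
  haveI : Module.FinitePresentation R J := Module.finitePresentation_of_finite R J
  let incl : J →ₗ[R] J' :=
    { toFun := fun a => ⟨algebraMap R (Localization S) a.1, a.2⟩
      map_add' := fun a b => Subtype.ext (map_add _ _ _)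
      map_smul' := fun r a => Subtype.ext (by
        show algebraMap R (Localization S) (r * a.1) = r • algebraMap R (Localization S) a.1
        rw [map_mul, Algebra.smul_def]) }
  let ψ : J →ₗ[R] LocalizedModule S E := (g.restrictScalars R).comp incl
  obtain ⟨h, s, hs⟩ := Module.FinitePresentation.exists_lift_of_isLocalizedModule S
    (LocalizedModule.mkLinearMap S E) ψ
  obtain ⟨h', hh'⟩ := Module.Injective.extension_property R E J R J.subtype
    Subtype.val_injective h
  have he : ∀ a : J, h a = a.1 • h' 1 := fun a => by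
    rw [← LinearMap.congr_fun hh' a]
    show h' a.1 = a.1 • h' 1
    rw [← map_smul, smul_eq_mul, mul_one]
  refine ⟨LinearMap.toSpanSingleton (Localization S) (LocalizedModule S E)
    (LocalizedModule.mk (h' 1) s), ?_⟩
  intro x hx
  rw [LinearMap.toSpanSingleton_apply]
  obtain ⟨a, t, rfl⟩ := IsLocalization.exists_mk'_eq S x
  have haJ' : algebraMap R (Localization S) a ∈ J' := by
    rw [← IsLocalization.mk'_spec (Localization S) a t]
    exact J'.mul_mem_right _ hx
  have haJ : a ∈ J := haJ'
  have h1 : (s : R) • g ⟨algebraMap R _ a, haJ'⟩ = LocalizedModule.mk (a • h' 1) 1 := by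
    have h2 := LinearMap.congr_fun hs ⟨a, haJ⟩
    rw [LinearMap.comp_apply, LocalizedModule.mkLinearMap_apply, he] at h2
    exact h2.symm
  have h3 : (t : R) • g ⟨IsLocalization.mk' (Localization S) a t, hx⟩ =
      g ⟨algebraMap R _ a, haJ'⟩ := by
    rw [← algebraMap_smul (Localization S) (t : R), ← map_smul]
    congr 1
    apply Subtype.ext
    show algebraMap R (Localization S) t * IsLocalization.mk' (Localization S) a t = _
    rw [mul_comm, IsLocalization.mk'_spec]
  apply IsLocalizedModule.smul_injective (LocalizedModule.mkLinearMap S E) (t * s)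
  show ((t * s : S) : R) • (IsLocalization.mk' (Localization S) a t • LocalizedModule.mk (h' 1) s)
    = ((t * s : S) : R) • g ⟨IsLocalization.mk' (Localization S) a t, hx⟩
  symm
  have h4 : IsLocalization.mk' (Localization S) a t • LocalizedModule.mk (h' 1) s =
      LocalizedModule.mk (a • h' 1) (t * s) := by
    have hmk : IsLocalization.mk' (Localization S) a t = Localization.mk a t := by
      rw [Localization.mk_eq_mk']
    rw [hmk, LocalizedModule.mk_smul_mk]
  rw [h4, LocalizedModule.smul'_mk, Submonoid.coe_mul, mul_comm (t : R), mul_smul, h3, h1,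
    LocalizedModule.mk_eq]
  refine ⟨1, ?_⟩
  simp only [one_smul, Submonoid.smul_def, Submonoid.coe_mul, mul_smul]
  rw [smul_comm (t : R) (s : R)]

end Groth.Agent.H58.IH
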