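import Groth.Agent.H58.DT4
import Mathlib.Algebra.Module.LocalizedModule.Basic

/-!
The ideal transform of a principal ideal is localization.
-/

set_option autoImplicit false
universe u
open CategoryTheory CategoryTheory.Limits Opposite

namespace Groth.Agent.H58

variable {R : Type u} [CommRing R] (I : Ideal R)
variable {M : Type u} [AddCommGroup M] [Module R M]
variable {M' : Type u} [AddCommGroup M'] [Module R M']
variable {K : Type u} [AddCommGroup K] [Module R K]

theorem isPowerTorsion_quotient_range_of_surjective (e : M →ₗ[R] M') (he : Function.Surjective e) :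
    LocCoh.IsPowerTorsion I (M' ⧸ LinearMap.range e) := by
  intro x
  refine ⟨0, fun a _ => ?_⟩
  obtain ⟨y, hy⟩ := Submodule.Quotient.mk_surjective _ (a • x)
  rw [← hy, Submodule.Quotient.mk_eq_zero, LinearMap.range_eq_top.mpr he]
  trivial

theorem factor_bijective [IsNoetherianRing R] (e : M →ₗ[R] M')
    (hker : LinearMap.ker e ≤ DRing.torsionSub I M)
    (hcoker : LocCoh.IsPowerTorsion I (M' ⧸ LinearMap.range e)) (ψ : M →ₗ[R] K)
    (hψ : Function.Bijective ψ) (hη : Function.Bijective (LocCoh.toDT I M')) :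
    Function.Bijective (factor I e hker hcoker ψ) := by
  have hDψ : Function.Bijective ((LocCoh.idealTransform I).map (ModuleCat.ofHom ψ)).hom := by
    apply map_bijective_of_torsion I
    · rw [LinearMap.ker_eq_bot.mpr hψ.1]
      exact bot_le
    · exact isPowerTorsion_quotient_range_of_surjective I ψ hψ.2
  show Function.Bijective (((LocCoh.idealTransform I).map (ModuleCat.ofHom ψ)).hom ∘
    (mapEquiv I e hker hcoker).symm ∘ LocCoh.toDT I M')
  exact hDψ.comp ((mapEquiv I e hker hcoker).symm.bijective.comp hη)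

section principal

variable (a : R) (M)

theorem mem_span_pow_iff (n : ℕ) (b : R) : b ∈ Ideal.span {a} ^ n ↔ ∃ c, c * a ^ n = b := by
  rw [Ideal.span_singleton_pow, Ideal.mem_span_singleton']

theorem ker_mkLinearMap_le :
    LinearMap.ker (LocalizedModule.mkLinearMap (Submonoid.powers a) M) ≤
      DRing.torsionSub (Ideal.span {a}) M := by
  intro m hm
  rw [LinearMap.mem_ker, IsLocalizedModule.eq_zero_iff (Submonoid.powers a)] at hm
  obtain ⟨⟨s, n, rfl⟩, hs⟩ := hm
  refine ⟨n, fun b hb => ?_⟩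
  obtain ⟨c, rfl⟩ := (mem_span_pow_iff a n b).mp hb
  rw [mul_smul]
  have : a ^ n • m = 0 := hs
  rw [this, smul_zero]

theorem coker_mkLinearMap_torsion :
    LocCoh.IsPowerTorsion (Ideal.span {a})
      (LocalizedModule (Submonoid.powers a) M ⧸
        LinearMap.range (LocalizedModule.mkLinearMap (Submonoid.powers a) M)) := by
  intro x
  obtain ⟨y, rfl⟩ := Submodule.Quotient.mk_surjective _ x
  induction y using LocalizedModule.induction_on with
  | h m s =>
    obtain ⟨n, hn⟩ := s.2
    refine ⟨n, fun b hb => ?_⟩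
    obtain ⟨c, rfl⟩ := (mem_span_pow_iff a n b).mp hb
    rw [← Submodule.Quotient.mk_smul, Submodule.Quotient.mk_eq_zero]
    refine ⟨c • m, ?_⟩
    rw [mul_smul, map_smul]
    congr 1
    have hn' : a ^ n = (s : R) := hn
    rw [hn']
    show LocalizedModule.mk m 1 = (s : R) • LocalizedModule.mk m s
    rw [LocalizedModule.smul'_mk]
    exact (LocalizedModule.mk_cancel s m).symm

theorem toDT_localized_bijective [IsNoetherianRing R] :
    Function.Bijective (LocCoh.toDT (Ideal.span {a}) (LocalizedModule (Submonoid.powers a) M)) := by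
  constructor
  · rw [← LinearMap.ker_eq_bot, ker_toDT, eq_bot_iff]
    rintro x ⟨n, hn⟩
    have h1 : a ^ n • x = 0 := hn _ (Ideal.pow_mem_pow (Ideal.mem_span_singleton_self a) n)
    have h2 := IsLocalizedModule.smul_injective
      (LocalizedModule.mkLinearMap (Submonoid.powers a) M) (⟨a ^ n, n, rfl⟩ : Submonoid.powers a)
    have h3 : (⟨a ^ n, n, rfl⟩ : Submonoid.powers a) • x =
        (⟨a ^ n, n, rfl⟩ : Submonoid.powers a) • (0 : LocalizedModule (Submonoid.powers a) M) := by
      rw [smul_zero]; exact h1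
    exact h2 h3
  · intro z
    obtain ⟨n, f, rfl⟩ := exists_rep (Ideal.span {a}) _ z
    have han : a ^ n ∈ Ideal.span {a} ^ n :=
      Ideal.pow_mem_pow (Ideal.mem_span_singleton_self a) n
    set s : Submonoid.powers a := ⟨a ^ n, n, rfl⟩ with hs
    refine ⟨LocalizedModule.divBy s (f ⟨a ^ n, han⟩), ?_⟩
    rw [toDT_eq_mk _ _ n]
    congr 1
    refine LinearMap.ext fun r => ?_
    obtain ⟨r, hr⟩ := r
    obtain ⟨c, rfl⟩ := (mem_span_pow_iff a n r).mp hr
    rw [smulMap_apply]
    have h1 : (⟨c * a ^ n, hr⟩ : ↥(Ideal.span {a} ^ n)) = c • ⟨a ^ n, han⟩ := rfl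
    rw [h1, map_smul]
    show (c * a ^ n) • _ = _
    rw [mul_smul]
    congr 1
    exact LocalizedModule.mul_by_divBy s _

/-- The comparison map `M_a → D_{(a)}(M)`. -/
noncomputable def locToDT [IsNoetherianRing R] :
    LocalizedModule (Submonoid.powers a) M →ₗ[R] LocCoh.DT (Ideal.span {a}) M :=
  factor (Ideal.span {a}) (LocalizedModule.mkLinearMap (Submonoid.powers a) M)
    (ker_mkLinearMap_le M a) (coker_mkLinearMap_torsion M a) LinearMap.id

theorem locToDT_comp [IsNoetherianRing R] :
    locToDT M a ∘ₗ LocalizedModule.mkLinearMap (Submonoid.powers a) M =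
      LocCoh.toDT (Ideal.span {a}) M :=
  factor_comp _ _ _ _ _

theorem locToDT_bijective [IsNoetherianRing R] : Function.Bijective (locToDT M a) :=
  factor_bijective _ _ _ _ _ Function.bijective_id (toDT_localized_bijective M a)

theorem locToDT_mk [IsNoetherianRing R] (t : ℕ) (f : ↥(Ideal.span {a} ^ t) →ₗ[R] M) :
    locToDT M a (LocalizedModule.mk
      (f ⟨a ^ t, Ideal.pow_mem_pow (Ideal.mem_span_singleton_self a) t⟩)
      ⟨a ^ t, t, rfl⟩) = mk (Ideal.span {a}) M t f := by
  have hat : a ^ t ∈ Ideal.span {a} ^ t :=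
    Ideal.pow_mem_pow (Ideal.mem_span_singleton_self a) t
  rw [← sub_eq_zero]
  have hmem : locToDT M a (LocalizedModule.mk (f ⟨a ^ t, hat⟩) ⟨a ^ t, t, rfl⟩) -
      mk (Ideal.span {a}) M t f ∈ DRing.torsionSub (Ideal.span {a}) (LocCoh.DT (Ideal.span {a}) M) := by
    refine ⟨t, fun b hb => ?_⟩
    obtain ⟨c, rfl⟩ := (mem_span_pow_iff a t b).mp hb
    rw [mul_smul, smul_sub, smul_sub, smul_mk _ f (a ^ t) hat, ← map_smul, ← locToDT_comp,
      LinearMap.comp_apply]
    have h1 : a ^ t • LocalizedModule.mk (f ⟨a ^ t, hat⟩) (⟨a ^ t, t, rfl⟩ : Submonoid.powers a) =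
        LocalizedModule.mkLinearMap (Submonoid.powers a) M (f ⟨a ^ t, hat⟩) := by
      rw [LocalizedModule.smul'_mk]
      exact LocalizedModule.mk_cancel (⟨a ^ t, t, rfl⟩ : Submonoid.powers a) _
    rw [h1, sub_self]
  rw [torsionSub_DT_eq_bot] at hmem
  exact hmem

end principal

end Groth.Agent.H58
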