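import Mathlib
import Groth.Prelude.Def_FlatCA
import Groth.Agent.H20.ShrinkFib

/-!
# S12246/S12247 squad (X2): the local-dimension field of the shrunken dévissage
-/

set_option autoImplicit false
set_option linter.style.haveILetI false
universe u
open TensorProduct

namespace Groth.Agent.H58.ShrinkX2

open Groth.Agent.H20 Groth.Agent.H20.ShrinkFib

attribute [local instance] Algebra.TensorProduct.rightAlgebra

theorem locDim_of_isBaseChange_away {R : Type u} [CommRing R] (p : Ideal R) [p.IsPrime] (g : R)
    (hg : g ∉ p) (B : Type u) [CommRing B] [Algebra R B] (b : B)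
    [Algebra (Localization.Away g) (Localization.Away b)]
    [IsScalarTower R (Localization.Away g) (Localization.Away b)]
    [(p.map (algebraMap R (Localization.Away g))).IsPrime]
    (M : Type u) [AddCommGroup M] [Module B M] [Module.Finite B M]
    (Q : Ideal B) [Q.IsPrime] [Q.LiesOver p] (hb : b ∉ Q)
    [(Q.map (algebraMap B (Localization.Away b))).IsPrime]
    [(Q.map (algebraMap B (Localization.Away b))).LiesOver
      (p.map (algebraMap R (Localization.Away g)))]
    (M' : Type u) [AddCommGroup M'] [Module (Localization.Away b) M'] [Module B M']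
    [IsScalarTower B (Localization.Away b) M']
    (f : M →ₗ[B] M') (hf : IsBaseChange (Localization.Away b) f) (d : ℕ)
    (h1 : ∃ (ξ : PrimeSpectrum (p.Fiber B))
      (hξ : ξ ∈ Module.support (p.Fiber B) (FlatCA.fiberMod p B M)),
      ξ.asIdeal = FlatCA.fiberIdeal p Q ∧
      FlatMor.localDim (Module.support (p.Fiber B) (FlatCA.fiberMod p B M)) ⟨ξ, hξ⟩ = d) :
    ∃ (ξ' : PrimeSpectrum ((p.map (algebraMap R (Localization.Away g))).Fiber (Localization.Away b)))
      (hξ' : ξ' ∈ Module.support
        ((p.map (algebraMap R (Localization.Away g))).Fiber (Localization.Away b))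
        (FlatCA.fiberMod (p.map (algebraMap R (Localization.Away g))) (Localization.Away b) M')),
      ξ'.asIdeal = FlatCA.fiberIdeal (p.map (algebraMap R (Localization.Away g)))
        (Q.map (algebraMap B (Localization.Away b))) ∧
      FlatMor.localDim (Module.support
        ((p.map (algebraMap R (Localization.Away g))).Fiber (Localization.Away b))
        (FlatCA.fiberMod (p.map (algebraMap R (Localization.Away g))) (Localization.Away b) M'))
        ⟨ξ', hξ'⟩ = d := by
  obtain ⟨ξ, hξ, hξq, hloc⟩ := h1
  -- the equivalence with the standard localized module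
  let e : M' ≃ₗ[Localization.Away b] LocalizedModule (Submonoid.powers b) M :=
    hf.equiv.symm ≪≫ₗ (IsLocalizedModule.isBaseChange (Submonoid.powers b) (Localization.Away b)
      (LocalizedModule.mkLinearMap (Submonoid.powers b) M)).equiv
  haveI : Module.Finite (Localization.Away b) M' := Module.Finite.equiv e.symm
  have hsupp : Module.support
      ((p.map (algebraMap R (Localization.Away g))).Fiber (Localization.Away b))
      (FlatCA.fiberMod (p.map (algebraMap R (Localization.Away g))) (Localization.Away b) M') =
      Module.support
      ((p.map (algebraMap R (Localization.Away g))).Fiber (Localization.Away b))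
      (FlatCA.fiberMod (p.map (algebraMap R (Localization.Away g))) (Localization.Away b)
        (LocalizedModule (Submonoid.powers b) M)) := by
    rw [support_fiberMod, support_fiberMod, e.support_eq]
  rw [hsupp]
  -- the point ξ'
  obtain ⟨ξ', hξ'q, hξ'c⟩ := exists_fiber_prime (p.map (algebraMap R (Localization.Away g)))
    (Localization.Away b) (Q.map (algebraMap B (Localization.Away b)))
  have hj : PrimeSpectrum.comap (Θ p g hg B b) ξ' = ξ := by
    apply PrimeSpectrum.ext
    rw [PrimeSpectrum.comap_asIdeal, hξq]
    haveI : (ξ'.asIdeal.comap (Θ p g hg B b)).IsPrime := Ideal.comap_isPrime _ _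
    rw [eq_fiberIdeal_comap p B (ξ'.asIdeal.comap (Θ p g hg B b))]
    congr 1
    rw [Ideal.comap_comap, Θ_comp_includeRight, ← Ideal.comap_comap, hξ'c]
    exact ShrinkAlg.under_map_away b Q hb
  have hS := support_shrink p g hg B b M
  have hξ' : ξ' ∈ Module.support
      ((p.map (algebraMap R (Localization.Away g))).Fiber (Localization.Away b))
      (FlatCA.fiberMod (p.map (algebraMap R (Localization.Away g))) (Localization.Away b)
        (LocalizedModule (Submonoid.powers b) M)) := by
    rw [hS, Set.mem_preimage, hj]
    exact hξ
  let j : ↥(Module.support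
      ((p.map (algebraMap R (Localization.Away g))).Fiber (Localization.Away b))
      (FlatCA.fiberMod (p.map (algebraMap R (Localization.Away g))) (Localization.Away b)
        (LocalizedModule (Submonoid.powers b) M))) →
      ↥(Module.support (p.Fiber B) (FlatCA.fiberMod p B M)) :=
    (Set.restrictPreimage (Module.support (p.Fiber B) (FlatCA.fiberMod p B M))
      (PrimeSpectrum.comap (Θ p g hg B b))) ∘ (Homeomorph.setCongr hS)
  have hjo : Topology.IsOpenEmbedding j :=
    ((isOpenEmbedding_comap_Θ p g hg B b).restrictPreimage _).comp
      (Homeomorph.setCongr hS).isOpenEmbedding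
  have hjξ : j ⟨ξ', hξ'⟩ = ⟨ξ, hξ⟩ := Subtype.ext hj
  have hloc' : FlatMor.localDim
      (Module.support
      ((p.map (algebraMap R (Localization.Away g))).Fiber (Localization.Away b))
      (FlatCA.fiberMod (p.map (algebraMap R (Localization.Away g))) (Localization.Away b)
        (LocalizedModule (Submonoid.powers b) M))) ⟨ξ', hξ'⟩ = d := by
    rw [Groth.Agent.H9.FibDim.localDim_of_isOpenEmbedding hjo ⟨ξ', hξ'⟩, hjξ, hloc]
  exact ⟨ξ', hξ', hξ'q, hloc'⟩

end Groth.Agent.H58.ShrinkX2
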