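import Mathlib
import Groth.Prelude.Def_PBC
import Groth.Prelude.Def_ProEtS
import Groth.Agent.H23.WCDefs

/-!
# S0715 squad (L7): an epimorphism of sheaves of sets on the pro-étale site is locally surjective
-/

set_option autoImplicit false
set_option backward.isDefEq.respectTransparency.types false
universe u v
open CategoryTheory CategoryTheory.Limits AlgebraicGeometry Opposite
open Groth.Agent.H23.WCDefs

namespace Groth.Agent.H58.WC_L7

theorem exists_sieve_of_epi {X : Scheme.{u}}
    {F G : Sheaf (Scheme.ProEt.topology X) (Type (u + 1))} (φ : F ⟶ G) (hφ : Epi φ)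
    (U : X.ProEt) (t : G.obj.obj (op U)) :
    ∃ R ∈ Scheme.ProEt.topology X U, ∀ (Z : X.ProEt) (g : Z ⟶ U), R.arrows g →
      ∃ s : F.obj.obj (op Z), φ.hom.app (op Z) s = G.obj.map g.op t := by
  haveI h : Sheaf.IsLocallySurjective φ := (Sheaf.isLocallySurjective_iff_epi φ).2 hφ
  refine ⟨Presheaf.imageSieve φ.hom t,
    Presheaf.imageSieve_mem (Scheme.ProEt.topology X) φ.hom (U := op U) t, ?_⟩
  intro Z g hg
  exact hg

end Groth.Agent.H58.WC_L7
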