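import Mathlib

/-!
# S18955 squad (DX1): the ideal of coefficients cutting out `(id ⊗ ξ) ∘ co ∈ range (ι ⊗ id)`
-/

set_option autoImplicit false
open CategoryTheory AlgebraicGeometry TensorProduct
universe u

namespace Groth.Agent.H58.DX1

variable {k : Type u} [Field k]

/-- slice along a functional on the left factor -/
noncomputable def slice {AG : Type u} [AddCommGroup AG] [Module k AG] (R : Type u)
    [AddCommGroup R] [Module k R] (ℓ : AG →ₗ[k] k) : AG ⊗[k] R →ₗ[k] R :=
  (TensorProduct.lid k R).toLinearMap ∘ₗ ℓ.rTensor R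

lemma slice_tmul {AG : Type u} [AddCommGroup AG] [Module k AG] (R : Type u)
    [AddCommGroup R] [Module k R] (ℓ : AG →ₗ[k] k) (a : AG) (r : R) :
    slice R ℓ (a ⊗ₜ[k] r) = ℓ a • r := by
  simp [slice]

lemma map_eq_rTensor {A AG R : Type u} [CommRing A] [CommRing AG] [CommRing R]
    [Algebra k A] [Algebra k AG] [Algebra k R] (ι : A →ₐ[k] AG) (w : A ⊗[k] R) :
    Algebra.TensorProduct.map ι (AlgHom.id k R) w = ι.toLinearMap.rTensor R w := by
  induction w using TensorProduct.induction_on with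
  | zero => simp
  | tmul a r => simp
  | add x y hx hy => rw [map_add, map_add, hx, hy]

theorem mem_range_iff {A AG R : Type u} [CommRing A] [CommRing AG] [CommRing R]
    [Algebra k A] [Algebra k AG] [Algebra k R] (ι : A →ₐ[k] AG) (z : AG ⊗[k] R) :
    z ∈ Set.range (Algebra.TensorProduct.map ι (AlgHom.id k R)) ↔
      ∀ ℓ : AG →ₗ[k] k, ℓ ∘ₗ ι.toLinearMap = 0 → slice R ℓ z = 0 := by
  constructor
  · rintro ⟨w, rfl⟩ ℓ hℓ
    induction w using TensorProduct.induction_on with
    | zero => simp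
    | tmul a r =>
      rw [Algebra.TensorProduct.map_tmul, slice_tmul]
      have h0 : ℓ (ι a) = 0 := LinearMap.congr_fun hℓ a
      rw [h0, zero_smul]
    | add x y hx hy => rw [map_add, map_add, hx, hy, add_zero]
  · intro h
    set V := LinearMap.range ι.toLinearMap with hV
    have hex : Function.Exact ι.toLinearMap V.mkQ := LinearMap.exact_map_mkQ_range _
    have hex' := rTensor_exact R hex (Submodule.mkQ_surjective V)
    have hz : (V.mkQ).rTensor R z = 0 := by
      let bQ := Module.Free.chooseBasis k (AG ⧸ V)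
      apply (TensorProduct.equivFinsuppOfBasisLeft bQ).injective
      rw [map_zero]
      ext j
      have hj : (bQ.coord j ∘ₗ V.mkQ) ∘ₗ ι.toLinearMap = 0 := by
        ext a
        have h1 : V.mkQ (ι.toLinearMap a) = 0 := by
          rw [Submodule.mkQ_apply, Submodule.Quotient.mk_eq_zero]
          exact LinearMap.mem_range_self _ a
        simp only [LinearMap.coe_comp, Function.comp_apply, LinearMap.zero_apply]
        rw [h1, map_zero]
      have h2 := h _ hj
      rw [TensorProduct.equivFinsuppOfBasisLeft_apply, ← LinearMap.rTensor_comp_apply,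
        Finsupp.zero_apply]
      exact h2
    obtain ⟨w, hw⟩ := (hex' z).1 hz
    exact ⟨w, (map_eq_rTensor ι w).trans hw⟩

theorem exists_ideal_forall_le_ker_iff {k : Type u} [Field k] {A AG B : Type u}
    [CommRing A] [CommRing AG] [CommRing B] [Algebra k A] [Algebra k AG] [Algebra k B]
    (ι : A →ₐ[k] AG) (co : B →ₐ[k] AG ⊗[k] B) :
    ∃ I : Ideal B, ∀ (R : Type u) [CommRing R] [Algebra k R] (ξ : B →ₐ[k] R),
      I ≤ RingHom.ker ξ ↔
        ∀ b : B, (Algebra.TensorProduct.map (AlgHom.id k AG) ξ) (co b) ∈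
          Set.range (Algebra.TensorProduct.map ι (AlgHom.id k R)) := by
  refine ⟨Ideal.span {x | ∃ (b : B) (ℓ : AG →ₗ[k] k), ℓ ∘ₗ ι.toLinearMap = 0 ∧
    x = slice B ℓ (co b)}, ?_⟩
  intro R _ _ ξ
  have hcomm : ∀ (ℓ : AG →ₗ[k] k) (z : AG ⊗[k] B),
      ξ (slice B ℓ z) = slice R ℓ (Algebra.TensorProduct.map (AlgHom.id k AG) ξ z) := by
    intro ℓ z
    induction z using TensorProduct.induction_on with
    | zero => simp
    | tmul a b =>
      rw [Algebra.TensorProduct.map_tmul, slice_tmul, slice_tmul, map_smul]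
      rfl
    | add x y hx hy => simp only [map_add, hx, hy]
  rw [Ideal.span_le]
  constructor
  · intro h b
    rw [mem_range_iff]
    intro ℓ hℓ
    rw [← hcomm]
    exact h ⟨b, ℓ, hℓ, rfl⟩
  · rintro h x ⟨b, ℓ, hℓ, rfl⟩
    show ξ (slice B ℓ (co b)) = 0
    rw [hcomm]
    exact (mem_range_iff ι _).1 (h b) ℓ hℓ

end Groth.Agent.H58.DX1
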