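import Groth.Statements.S15828

/-!
# `- ⊗ L` commutes with mapping cones (cochain complexes of modules)  (helper58)

We let `- ⊗ L` act on cochains (`tc`), show compatibility with composition, `δ`, `ofHom`,
and deduce `mappingCone φ ⊗ L ≅ mappingCone (φ ▷ L)`.
-/

set_option autoImplicit false
universe u
open CategoryTheory CategoryTheory.Limits MonoidalCategory HomologicalComplex CochainComplex
open CochainComplex.HomComplex

namespace Groth.Agent.H58.TensorCone

variable {A : Type u} [CommRing A]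

/-- cochain complexes of `A`-modules -/
abbrev Cx (A : Type u) [CommRing A] := CochainComplex (ModuleCat.{u} A) ℤ

variable (L : Cx A)

lemma tensor_hom_ext {X : Cx A} {m : ℤ} {Z : ModuleCat.{u} A} {f g : (X ⊗ L).X m ⟶ Z}
    (h : ∀ (p q : ℤ) (hpq : p + q = m),
      ιTensorObj X L p q m hpq ≫ f = ιTensorObj X L p q m hpq ≫ g) : f = g :=
  mapBifunctor.hom_ext (K₁ := X) (K₂ := L) (F := curriedTensor (ModuleCat.{u} A))
    (c := ComplexShape.up ℤ) h

/-- the action of `- ⊗ L` on cochains. -/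
noncomputable def tc {X Y : Cx A} {n : ℤ} (α : Cochain X Y n) : Cochain (X ⊗ L) (Y ⊗ L) n :=
  Cochain.mk (fun m m' hmm' =>
    mapBifunctorDesc (K₁ := X) (K₂ := L) (F := curriedTensor (ModuleCat.{u} A))
      (c := ComplexShape.up ℤ)
      (fun p q hpq => (α.v p (p + n) rfl ▷ L.X q) ≫ ιTensorObj Y L (p + n) q m' (by
        have : p + q = m := hpq
        omega)))

@[reassoc]
lemma ι_tc {X Y : Cx A} {n : ℤ} (α : Cochain X Y n) (p q m m' p' : ℤ) (hpq : p + q = m)
    (hmm' : m + n = m') (hp' : p + n = p') :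
    ιTensorObj X L p q m hpq ≫ (tc L α).v m m' hmm' =
      (α.v p p' hp' ▷ L.X q) ≫ ιTensorObj Y L p' q m' (by omega) := by
  subst hp'
  exact ι_mapBifunctorDesc (K₁ := X) (K₂ := L) (F := curriedTensor (ModuleCat.{u} A))
    (c := ComplexShape.up ℤ) _ p q hpq

@[reassoc]
lemma ι_whiskerRight {X Y : Cx A} (φ : X ⟶ Y) (p q m : ℤ) (hpq : p + q = m) :
    ιTensorObj X L p q m hpq ≫ (φ ▷ L).f m = (φ.f p ▷ L.X q) ≫ ιTensorObj Y L p q m hpq :=
  (ι_mapBifunctorMap φ (𝟙 L) (curriedTensor (ModuleCat.{u} A)) (ComplexShape.up ℤ) p q m hpq).trans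
    (by simp)

lemma tc_ofHom {X Y : Cx A} (φ : X ⟶ Y) : tc L (Cochain.ofHom φ) = Cochain.ofHom (φ ▷ L) := by
  refine Cochain.ext₀ _ _ (fun m => ?_)
  apply tensor_hom_ext
  intro p q hpq
  rw [ι_tc L _ p q m m p hpq (add_zero m) (add_zero p), Cochain.ofHom_v, Cochain.ofHom_v,
    ι_whiskerRight]

lemma tc_comp {X Y Z : Cx A} {n₁ n₂ n₁₂ : ℤ} (α : Cochain X Y n₁) (β : Cochain Y Z n₂)
    (h : n₁ + n₂ = n₁₂) : tc L (α.comp β h) = (tc L α).comp (tc L β) h := by
  refine Cochain.ext _ _ (fun m m'' hm => ?_)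
  apply tensor_hom_ext
  intro p q hpq
  rw [Cochain.comp_v _ _ h m (m + n₁) m'' rfl (by omega),
    ι_tc_assoc L α p q m (m + n₁) (p + n₁) hpq rfl rfl,
    ι_tc L β (p + n₁) q (m + n₁) m'' (p + n₁₂) (by omega) (by omega) (by omega),
    ι_tc L (α.comp β h) p q m m'' (p + n₁₂) hpq hm rfl,
    Cochain.comp_v α β h p (p + n₁) (p + n₁₂) rfl (by omega), comp_whiskerRight, Category.assoc]

lemma tc_add {X Y : Cx A} {n : ℤ} (α β : Cochain X Y n) : tc L (α + β) = tc L α + tc L β := by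
  refine Cochain.ext _ _ (fun m m' hm => ?_)
  apply tensor_hom_ext
  intro p q hpq
  rw [Cochain.add_v, Preadditive.comp_add, ι_tc L _ p q m m' (p + n) hpq hm rfl,
    ι_tc L α p q m m' (p + n) hpq hm rfl, ι_tc L β p q m m' (p + n) hpq hm rfl, Cochain.add_v,
    MonoidalPreadditive.add_whiskerRight, Preadditive.add_comp]

lemma tc_zero {X Y : Cx A} {n : ℤ} : tc L (0 : Cochain X Y n) = 0 := by
  refine Cochain.ext _ _ (fun m m' hm => ?_)
  apply tensor_hom_ext
  intro p q hpq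
  rw [ι_tc L _ p q m m' (p + n) hpq hm rfl, Cochain.zero_v, Cochain.zero_v,
    MonoidalPreadditive.zero_whiskerRight, zero_comp, comp_zero]

lemma tc_neg {X Y : Cx A} {n : ℤ} (α : Cochain X Y n) : tc L (-α) = - tc L α :=
  eq_neg_of_add_eq_zero_left (by rw [← tc_add, neg_add_cancel, tc_zero])

lemma units_smul_whiskerRight (k : ℤˣ) {M N : ModuleCat.{u} A} (f : M ⟶ N) (Z : ModuleCat.{u} A) :
    (k • f) ▷ Z = k • (f ▷ Z) := by
  rw [Units.smul_def, Units.smul_def]
  exact (tensorRight Z).map_zsmul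

@[reassoc]
lemma ι_d {X : Cx A} (p q m m' p' q' : ℤ) (hpq : p + q = m) (hm : m + 1 = m') (hp : p + 1 = p')
    (hq : q + 1 = q') :
    ιTensorObj X L p q m hpq ≫ (X ⊗ L).d m m' =
      (X.d p p' ▷ L.X q) ≫ ιTensorObj X L p' q m' (by omega) +
      p.negOnePow • ((X.X p ◁ L.d q q') ≫ ιTensorObj X L p q' m' (by omega)) := by
  have h1 : ComplexShape.ε₁ (ComplexShape.up ℤ) (ComplexShape.up ℤ) (ComplexShape.up ℤ) (p, q) = 1 :=
    rfl
  have h2 : ComplexShape.ε₂ (ComplexShape.up ℤ) (ComplexShape.up ℤ) (ComplexShape.up ℤ) (p, q) =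
    p.negOnePow := rfl
  have e1 := mapBifunctor.d₁_eq X L (curriedTensor (ModuleCat.{u} A)) (ComplexShape.up ℤ)
    (show (ComplexShape.up ℤ).Rel p p' from hp) q m' (by show p' + q = m'; omega)
  have e2 := mapBifunctor.d₂_eq X L (curriedTensor (ModuleCat.{u} A)) (ComplexShape.up ℤ) p
    (show (ComplexShape.up ℤ).Rel q q' from hq) m' (by show p + q' = m'; omega)
  rw [h1, one_smul] at e1
  rw [h2] at e2
  have e3 : ιTensorObj X L p q m hpq ≫ (X ⊗ L).d m m' =
      mapBifunctor.d₁ X L (curriedTensor (ModuleCat.{u} A)) (ComplexShape.up ℤ) p q m' +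
      mapBifunctor.d₂ X L (curriedTensor (ModuleCat.{u} A)) (ComplexShape.up ℤ) p q m' := by
    have := mapBifunctor.d_eq X L (curriedTensor (ModuleCat.{u} A)) (ComplexShape.up ℤ) m m'
    change ιTensorObj X L p q m hpq ≫ (mapBifunctor X L (curriedTensor (ModuleCat.{u} A))
      (ComplexShape.up ℤ)).d m m' = _
    rw [this, Preadditive.comp_add, mapBifunctor.ι_D₁, mapBifunctor.ι_D₂]
  rw [e3, e1, e2]
  rfl

lemma δ_tc {X Y : Cx A} {n : ℤ} (α : Cochain X Y n) (n' : ℤ) (hnn' : n + 1 = n') :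
    δ n n' (tc L α) = tc L (δ n n' α) := by
  refine Cochain.ext _ _ (fun m m' hm => ?_)
  apply tensor_hom_ext
  intro p q hpq
  have hw := whisker_exchange (α.v p (p + n) rfl) (L.d q (q + 1))
  have hs : (p + n).negOnePow = p.negOnePow * n.negOnePow := Int.negOnePow_add p n
  have hs' : n'.negOnePow = - n.negOnePow := by rw [← hnn', Int.negOnePow_succ]
  rw [δ_v n n' hnn' (tc L α) m m' hm (m + n) (m + 1) (by omega) rfl,
    ι_tc L (δ n n' α) p q m m' (p + n') hpq hm rfl,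
    δ_v n n' hnn' α p (p + n') rfl (p + n) (p + 1) (by omega) rfl]
  rw [Preadditive.comp_add, Linear.comp_units_smul, ι_tc_assoc L α p q m (m + n) (p + n) hpq rfl rfl,
    ι_d L (p + n) q (m + n) m' (p + n') (q + 1) (by omega) (by omega) (by omega) rfl,
    ι_d_assoc L p q m (m + 1) (p + 1) (q + 1) hpq rfl rfl rfl]
  rw [Preadditive.add_comp, Category.assoc, Linear.units_smul_comp, Category.assoc,
    ι_tc L α (p + 1) q (m + 1) m' (p + n') (by omega) (by omega) (by omega),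
    ι_tc L α p (q + 1) (m + 1) m' (p + n) (by omega) (by omega) rfl]
  rw [MonoidalPreadditive.add_whiskerRight, comp_whiskerRight, units_smul_whiskerRight,
    comp_whiskerRight, Preadditive.add_comp, Linear.units_smul_comp, Category.assoc, Category.assoc,
    Preadditive.comp_add, Linear.comp_units_smul, smul_add, smul_smul, reassoc_of% hw, hs, hs',
    neg_mul, Units.neg_smul, mul_comm n.negOnePow p.negOnePow]
  simp only [Units.neg_smul]
  abel

lemma tc_v_comp_v {X Y Z : Cx A} {n₁ n₂ n₁₂ : ℤ} (α : Cochain X Y n₁) (β : Cochain Y Z n₂)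
    (h : n₁ + n₂ = n₁₂) (m m₁ m₂ : ℤ) (h₁ : m + n₁ = m₁) (h₂ : m₁ + n₂ = m₂) :
    (tc L α).v m m₁ h₁ ≫ (tc L β).v m₁ m₂ h₂ = (tc L (α.comp β h)).v m m₂ (by omega) := by
  rw [tc_comp, Cochain.comp_v _ _ h m m₁ m₂ h₁ h₂]

lemma tc_ofHom_v {X Y : Cx A} (φ : X ⟶ Y) (m : ℤ) :
    (tc L (Cochain.ofHom φ)).v m m (add_zero m) = (φ ▷ L).f m := by
  rw [tc_ofHom, Cochain.ofHom_v]

/-- the comparison map `Cone(φ) ⊗ L ⟶ Cone(φ ⊗ L)`. -/
noncomputable def coneTensorHom {X Y : Cx A} (φ : X ⟶ Y) :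
    mappingCone φ ⊗ L ⟶ mappingCone (φ ▷ L) :=
  mappingCone.lift (φ ▷ L)
    (Cocycle.mk (tc L (mappingCone.fst φ).1) 2 (by omega)
      (by rw [δ_tc L _ 2 (by omega), Cocycle.δ_eq_zero, tc_zero]))
    (tc L (mappingCone.snd φ))
    (by
      rw [δ_tc L _ 1 (zero_add 1), mappingCone.δ_snd, tc_neg, tc_comp, tc_ofHom]
      exact neg_add_cancel _)

/-- the comparison map `Cone(φ ⊗ L) ⟶ Cone(φ) ⊗ L`. -/
noncomputable def coneTensorInv {X Y : Cx A} (φ : X ⟶ Y) :
    mappingCone (φ ▷ L) ⟶ mappingCone φ ⊗ L :=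
  mappingCone.desc (φ ▷ L) (tc L (mappingCone.inl φ)) (mappingCone.inr φ ▷ L) (by
    rw [δ_tc L _ 0 (neg_add_cancel 1), mappingCone.δ_inl, tc_ofHom, comp_whiskerRight])

lemma coneTensor_hom_inv_id {X Y : Cx A} (φ : X ⟶ Y) :
    coneTensorHom L φ ≫ coneTensorInv L φ = 𝟙 _ := by
  refine HomologicalComplex.hom_ext _ _ (fun n => ?_)
  rw [HomologicalComplex.comp_f, HomologicalComplex.id_f]
  unfold coneTensorHom coneTensorInv
  rw [mappingCone.lift_desc_f _ _ _ _ _ _ _ n (n + 1) rfl, Cocycle.mk_coe, ← tc_ofHom_v,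
    tc_v_comp_v L _ _ (add_neg_cancel 1), tc_v_comp_v L _ _ (add_zero 0), ← Cochain.add_v, ← tc_add,
    mappingCone.id, tc_ofHom_v, id_whiskerRight, HomologicalComplex.id_f]

lemma coneTensor_inv_hom_id {X Y : Cx A} (φ : X ⟶ Y) :
    coneTensorInv L φ ≫ coneTensorHom L φ = 𝟙 _ := by
  refine HomologicalComplex.hom_ext _ _ (fun n => ?_)
  rw [HomologicalComplex.comp_f, HomologicalComplex.id_f]
  unfold coneTensorHom coneTensorInv
  rw [mappingCone.ext_from_iff (φ ▷ L) (n + 1) n rfl]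
  constructor
  · rw [mappingCone.inl_v_desc_f_assoc, Category.comp_id,
      mappingCone.ext_to_iff (φ ▷ L) n (n + 1) rfl]
    constructor
    · rw [Category.assoc, mappingCone.lift_f_fst_v, Cocycle.mk_coe,
        tc_v_comp_v L _ _ (neg_add_cancel 1), mappingCone.inl_fst, tc_ofHom_v, id_whiskerRight,
        HomologicalComplex.id_f, mappingCone.inl_v_fst_v]
    · rw [Category.assoc, mappingCone.lift_f_snd_v, tc_v_comp_v L _ _ (add_zero (-1)),
        mappingCone.inl_snd, tc_zero, Cochain.zero_v, mappingCone.inl_v_snd_v]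
  · rw [mappingCone.inr_f_desc_f_assoc, Category.comp_id,
      mappingCone.ext_to_iff (φ ▷ L) n (n + 1) rfl]
    constructor
    · rw [Category.assoc, mappingCone.lift_f_fst_v, Cocycle.mk_coe, ← tc_ofHom_v,
        tc_v_comp_v L _ _ (zero_add 1), mappingCone.inr_fst, tc_zero, Cochain.zero_v,
        mappingCone.inr_f_fst_v]
    · rw [Category.assoc, mappingCone.lift_f_snd_v, ← tc_ofHom_v,
        tc_v_comp_v L _ _ (zero_add 0), mappingCone.inr_snd, tc_ofHom_v, id_whiskerRight,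
        HomologicalComplex.id_f, mappingCone.inr_f_snd_v]

/-- **Tensoring with `L` commutes with mapping cones.** -/
noncomputable def coneTensorIso {X Y : Cx A} (φ : X ⟶ Y) :
    mappingCone φ ⊗ L ≅ mappingCone (φ ▷ L) where
  hom := coneTensorHom L φ
  inv := coneTensorInv L φ
  hom_inv_id := coneTensor_hom_inv_id L φ
  inv_hom_id := coneTensor_inv_hom_id L φ

lemma smul_id_whiskerRight (a : A) (K : Cx A) : (a • 𝟙 K) ▷ L = a • 𝟙 (K ⊗ L) := by
  refine HomologicalComplex.hom_ext _ _ (fun n => ?_)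
  apply tensor_hom_ext
  intro p q hpq
  rw [ι_whiskerRight, HomologicalComplex.smul_f_apply, HomologicalComplex.id_f,
    MonoidalLinear.smul_whiskerRight, id_whiskerRight, Linear.smul_comp, Category.id_comp,
    HomologicalComplex.smul_f_apply, HomologicalComplex.id_f, Linear.comp_smul]
  exact congrArg (a • ·) (Category.comp_id _).symm

lemma map_eq_id {K M : Cx A} (φ : K ⟶ M) (a : K ⟶ K) (b : M ⟶ M) (comm : φ ≫ b = a ≫ φ)
    (ha : a = 𝟙 K) (hb : b = 𝟙 M) : mappingCone.map φ φ a b comm = 𝟙 _ := by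
  subst ha hb
  exact mappingCone.map_id φ

/-- isomorphic squares have isomorphic cones. -/
noncomputable def coneIso {K₁ M₁ K₂ M₂ : Cx A} (φ₁ : K₁ ⟶ M₁) (φ₂ : K₂ ⟶ M₂) (a : K₁ ≅ K₂)
    (b : M₁ ≅ M₂) (comm : φ₁ ≫ b.hom = a.hom ≫ φ₂) : mappingCone φ₁ ≅ mappingCone φ₂ where
  hom := mappingCone.map φ₁ φ₂ a.hom b.hom comm
  inv := mappingCone.map φ₂ φ₁ a.inv b.inv (by
    rw [← cancel_mono b.hom, Category.assoc, Category.assoc, b.inv_hom_id, Category.comp_id, comm,
      a.inv_hom_id_assoc])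
  hom_inv_id := by
    rw [← mappingCone.map_comp]
    exact map_eq_id _ _ _ _ a.hom_inv_id b.hom_inv_id
  inv_hom_id := by
    rw [← mappingCone.map_comp]
    exact map_eq_id _ _ _ _ a.inv_hom_id b.inv_hom_id

/-- `K(f) ⊗ K(g) ≅ K(f ++ g)`. -/
theorem koszul_tensor (f g : List A) :
    Nonempty ((MonoidalCategoryStruct.tensorObj (C := Cx A) (Koszul.koszul A f) (Koszul.koszul A g)) ≅
      Koszul.koszul A (f ++ g)) := by
  induction f with
  | nil => exact ⟨λ_ (Koszul.koszul A g)⟩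
  | cons a l ih =>
    obtain ⟨e⟩ := ih
    refine ⟨coneTensorIso (Koszul.koszul A g) (a • 𝟙 (Koszul.koszul A l)) ≪≫ ?_⟩
    refine coneIso _ (a • 𝟙 (Koszul.koszul A (l ++ g))) e e ?_
    rw [smul_id_whiskerRight, Linear.smul_comp, Linear.comp_smul, Category.id_comp, Category.comp_id]

end Groth.Agent.H58.TensorCone
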