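import Mathlib

/-!
Extending a finite algebra over a principal localisation to a finite algebra over the base
(lemma `ext_finite` requested by helper38 for S7190).
-/

set_option autoImplicit false
universe u

namespace Groth.Agent.H58.ExtFinite

/-- If `A' = A[1/a]` (up to a quotient) and `C` is finite over `A'`, then every element of `C` has
a multiple by a power of `a` which is integral over `A`. -/
theorem exists_pow_mul_isIntegral {A A' C : Type u} [CommRing A] [CommRing A'] [CommRing C]
    (ρ : A →+* A') (ψ : A' →+* C) (a : A) (h1 : IsUnit (ρ a))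
    (h2 : ∀ x : A', ∃ (n : ℕ) (b : A), ρ a ^ n * x = ρ b) (hfin : ψ.Finite) (c : C) :
    ∃ n : ℕ, (ψ.comp ρ).IsIntegralElem ((ψ.comp ρ) a ^ n * c) := by
  have hlam : ∀ x : A, (IsLocalization.Away.lift (S := Localization.Away a) a h1)
      (algebraMap A (Localization.Away a) x) = ρ x :=
    fun x => IsLocalization.Away.lift_eq a h1 x
  have hsurj : Function.Surjective
      (IsLocalization.Away.lift (S := Localization.Away a) a h1) := by
    intro x
    obtain ⟨n, b, hb⟩ := h2 x
    refine ⟨IsLocalization.mk' (Localization.Away a) b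
      (⟨a ^ n, n, rfl⟩ : Submonoid.powers a), ?_⟩
    have h3 : (IsLocalization.Away.lift (S := Localization.Away a) a h1)
        (IsLocalization.mk' (Localization.Away a) b (⟨a ^ n, n, rfl⟩ : Submonoid.powers a)) *
          ρ a ^ n = ρ b := by
      have h4 := congrArg (IsLocalization.Away.lift (S := Localization.Away a) a h1)
        (IsLocalization.mk'_spec (Localization.Away a) b
          (⟨a ^ n, n, rfl⟩ : Submonoid.powers a))
      rw [map_mul, hlam, hlam] at h4
      rw [← map_pow]
      exact h4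
    have hu : IsUnit (ρ a ^ n) := h1.pow n
    apply hu.mul_left_cancel
    rw [hb, mul_comm, h3]
  have hfin' : (ψ.comp (IsLocalization.Away.lift (S := Localization.Away a) a h1)).Finite :=
    hfin.comp (RingHom.Finite.of_surjective _ hsurj)
  letI : Algebra A C := (ψ.comp ρ).toAlgebra
  letI : Algebra (Localization.Away a) C :=
    (ψ.comp (IsLocalization.Away.lift (S := Localization.Away a) a h1)).toAlgebra
  haveI : IsScalarTower A (Localization.Away a) C := IsScalarTower.of_algebraMap_eq (fun x => by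
    show (ψ.comp ρ) x = (ψ.comp (IsLocalization.Away.lift (S := Localization.Away a) a h1))
      (algebraMap A (Localization.Away a) x)
    rw [RingHom.comp_apply, RingHom.comp_apply, hlam])
  have hc : IsIntegral (Localization.Away a) c := hfin'.to_isIntegral c
  obtain ⟨m, hm⟩ := IsIntegral.exists_multiple_integral_of_isLocalization
    (Rₘ := Localization.Away a) (Submonoid.powers a) c hc
  obtain ⟨n, hn⟩ := (Submonoid.mem_powers_iff _ _).1 m.2
  refine ⟨n, ?_⟩
  have h5 : (m • c : C) = (ψ.comp ρ) a ^ n * c := by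
    rw [Submonoid.smul_def, ← hn, Algebra.smul_def, map_pow]
    rfl
  rw [← h5]
  exact hm

/-- A finite subalgebra `C'` of `C` over `A` with `C'[1/a] = C`. -/
theorem exists_subalgebra {A A' C : Type u} [CommRing A] [CommRing A'] [CommRing C]
    [Algebra A A'] [Algebra A' C] [Algebra A C] [IsScalarTower A A' C] [Module.Finite A' C]
    (a : A)
    (h2 : ∀ x : A', ∃ (n : ℕ) (b : A), algebraMap A A' a ^ n * x = algebraMap A A' b)
    (hint : ∀ c : C, ∃ n : ℕ, IsIntegral A (algebraMap A C a ^ n * c)) :
    ∃ C' : Subalgebra A C, Module.Finite A C' ∧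
      ∀ c : C, ∃ k : ℕ, algebraMap A C a ^ k * c ∈ C' := by
  classical
  obtain ⟨s, hs⟩ := (Module.Finite.fg_top : (⊤ : Submodule A' C).FG)
  choose n hn using hint
  have hDfin : ((fun c => algebraMap A C a ^ n c * c) '' (s : Set C)).Finite :=
    (Finset.finite_toSet s).image _
  have hDint : ∀ x ∈ ((fun c => algebraMap A C a ^ n c * c) '' (s : Set C)),
      IsIntegral A x := by
    rintro _ ⟨c, -, rfl⟩
    exact hn c
  refine ⟨Algebra.adjoin A ((fun c => algebraMap A C a ^ n c * c) '' (s : Set C)),
    Algebra.finite_adjoin_of_finite_of_isIntegral hDfin hDint, ?_⟩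
  generalize hC' : Algebra.adjoin A ((fun c => algebraMap A C a ^ n c * c) '' (s : Set C)) = C'
  have hφa : ∀ k : ℕ, algebraMap A C a ^ k ∈ C' := fun k => by
    rw [← map_pow]
    exact C'.algebraMap_mem _
  intro c
  have hc : c ∈ Submodule.span A' (s : Set C) := by rw [hs]; trivial
  induction hc using Submodule.span_induction with
  | mem x hx =>
    refine ⟨n x, ?_⟩
    rw [← hC']
    exact Algebra.subset_adjoin ⟨x, hx, rfl⟩
  | zero => exact ⟨0, by simp⟩
  | add x y _ _ hx hy =>
    obtain ⟨k₁, h₁⟩ := hx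
    obtain ⟨k₂, h₂⟩ := hy
    refine ⟨k₁ + k₂, ?_⟩
    have h6 : algebraMap A C a ^ (k₁ + k₂) * (x + y) =
        algebraMap A C a ^ k₂ * (algebraMap A C a ^ k₁ * x) +
          algebraMap A C a ^ k₁ * (algebraMap A C a ^ k₂ * y) := by ring
    rw [h6]
    exact C'.add_mem (C'.mul_mem (hφa k₂) h₁) (C'.mul_mem (hφa k₁) h₂)
  | smul r x _ hx =>
    obtain ⟨k, hk⟩ := hx
    obtain ⟨m, b, hb⟩ := h2 r
    refine ⟨m + k, ?_⟩
    have h7 : algebraMap A C a ^ (m + k) * (r • x) =
        algebraMap A C b * (algebraMap A C a ^ k * x) := by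
      have e1 : r • x = algebraMap A' C r * x := Algebra.smul_def r x
      have e2 : algebraMap A C b = algebraMap A C a ^ m * algebraMap A' C r := by
        rw [IsScalarTower.algebraMap_apply A A' C b, ← hb, map_mul, map_pow,
          ← IsScalarTower.algebraMap_apply A A' C a]
      rw [e1, e2]
      ring
    rw [h7]
    exact C'.mul_mem (C'.algebraMap_mem b) hk

/-- A criterion for the canonical map `R[1/x] → P` to be bijective. -/
theorem lift_bijective {R P : Type u} [CommRing R] [CommRing P] (x : R) (g : R →+* P)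
    (hu : IsUnit (g x)) (hker : ∀ q, g q = 0 → x * q = 0)
    (hsurj : ∀ c : P, ∃ (k : ℕ) (q : R), g q = g x ^ k * c) :
    Function.Bijective (IsLocalization.Away.lift (S := Localization.Away x) x hu) := by
  have hν : ∀ q : R, (IsLocalization.Away.lift (S := Localization.Away x) x hu)
      (algebraMap R (Localization.Away x) q) = g q :=
    fun q => IsLocalization.Away.lift_eq x hu q
  constructor
  · rw [injective_iff_map_eq_zero]
    intro z hz
    obtain ⟨q, s, rfl⟩ := IsLocalization.exists_mk'_eq (Submonoid.powers x) z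
    have h0 : g q = 0 := by
      have h' := congrArg (IsLocalization.Away.lift (S := Localization.Away x) x hu)
        (IsLocalization.mk'_spec (Localization.Away x) q s)
      rw [map_mul, hz, zero_mul, hν] at h'
      exact h'.symm
    rw [IsLocalization.mk'_eq_zero_iff]
    exact ⟨⟨x, Submonoid.mem_powers _⟩, hker q h0⟩
  · intro c
    obtain ⟨k, q, hq⟩ := hsurj c
    obtain ⟨u, hu'⟩ := IsLocalization.map_units (Localization.Away x)
      (⟨x, Submonoid.mem_powers _⟩ : Submonoid.powers x)
    have hu'' : (↑u : Localization.Away x) = algebraMap R (Localization.Away x) x := hu'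
    have hνu : (IsLocalization.Away.lift (S := Localization.Away x) x hu)
        (↑u⁻¹ : Localization.Away x) * g x = 1 := by
      rw [← hν x, ← map_mul, ← hu'', Units.inv_mul, map_one]
    refine ⟨(↑u⁻¹ : Localization.Away x) ^ k * algebraMap R (Localization.Away x) q, ?_⟩
    rw [map_mul, map_pow, hν, hq, ← mul_assoc, ← mul_pow, hνu, one_pow, one_mul]

section Q

variable {A C : Type u} [CommRing A] [CommRing C] [Algebra A C] (C' : Subalgebra A C) (a : A)

/-- The finite `A`-algebra `C' × A/(a)`. -/
abbrev Q : Type u := C' × (A ⧸ Ideal.span {a})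

/-- The map `C' × A/(a) → C`. -/
def θ : Q C' a →+* C := (C'.val : C' →+* C).comp (RingHom.fst C' (A ⧸ Ideal.span {a}))

theorem θ_apply (q : Q C' a) : θ C' a q = (q.1 : C) := rfl

theorem θ_alg (x : A) : θ C' a (algebraMap A (Q C' a) x) = algebraMap A C x := rfl

theorem χa_mul_eq_zero (q : Q C' a) (hq : θ C' a q = 0) :
    algebraMap A (Q C' a) a * q = 0 := by
  have hq1 : q.1 = 0 := Subtype.ext hq
  refine Prod.ext ?_ ?_
  · show algebraMap A C' a * q.1 = 0
    rw [hq1, mul_zero]
  · show algebraMap A (A ⧸ Ideal.span {a}) a * q.2 = 0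
    have h0 : algebraMap A (A ⧸ Ideal.span {a}) a = 0 :=
      Ideal.Quotient.eq_zero_iff_mem.2 (Ideal.mem_span_singleton_self a)
    rw [h0, zero_mul]

theorem comap_surjective
    (h3 : ∀ p : PrimeSpectrum A, a ∉ p.asIdeal →
      p ∈ Set.range (PrimeSpectrum.comap (algebraMap A C))) :
    Function.Surjective (PrimeSpectrum.comap (algebraMap A (Q C' a))) := by
  intro p
  by_cases ha : a ∈ p.asIdeal
  · have hp : p ∈ PrimeSpectrum.zeroLocus
        (RingHom.ker (Ideal.Quotient.mk (Ideal.span {a})) : Set A) := by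
      rw [Ideal.mk_ker, PrimeSpectrum.mem_zeroLocus]
      exact (Ideal.span_singleton_le_iff_mem _).2 ha
    rw [← range_comap_of_surjective _ _ Ideal.Quotient.mk_surjective] at hp
    obtain ⟨q, rfl⟩ := hp
    refine ⟨PrimeSpectrum.comap (RingHom.snd C' (A ⧸ Ideal.span {a})) q, ?_⟩
    apply PrimeSpectrum.ext
    ext x
    rfl
  · obtain ⟨q, rfl⟩ := h3 p ha
    refine ⟨PrimeSpectrum.comap (θ C' a) q, ?_⟩
    apply PrimeSpectrum.ext
    ext x
    rfl

end Q

/-- Lemma requested by helper38 (S7190). -/
theorem ext_finite {A A' C : Type u} [CommRing A] [CommRing A'] [CommRing C] (ρ : A →+* A')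
    (ψ : A' →+* C) (a : A) (h1 : IsUnit (ρ a))
    (h2 : ∀ x : A', ∃ (n : ℕ) (b : A), ρ a ^ n * x = ρ b)
    (h3 : ∀ p : PrimeSpectrum A, a ∉ p.asIdeal →
      p ∈ Set.range (PrimeSpectrum.comap (ψ.comp ρ)))
    (hfin : ψ.Finite) :
    ∃ (Q : Type u) (_ : CommRing Q) (χ : A →+* Q) (τ : C →+* Localization.Away (χ a)),
      χ.Finite ∧ Function.Surjective (PrimeSpectrum.comap χ) ∧
        τ.comp (ψ.comp ρ) = (algebraMap Q (Localization.Away (χ a))).comp χ := by
  letI algA' : Algebra A A' := ρ.toAlgebra
  letI algC' : Algebra A' C := ψ.toAlgebra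
  letI algC : Algebra A C := (ψ.comp ρ).toAlgebra
  haveI : IsScalarTower A A' C := IsScalarTower.of_algebraMap_eq (fun x => rfl)
  haveI : Module.Finite A' C := hfin
  obtain ⟨C', hC'fin, hmult⟩ := exists_subalgebra (A := A) (A' := A') (C := C) a h2
    (fun c => exists_pow_mul_isIntegral ρ ψ a h1 h2 hfin c)
  have hu : IsUnit (θ C' a (algebraMap A (Q C' a) a)) := h1.map ψ
  have hbij := lift_bijective (algebraMap A (Q C' a) a) (θ C' a) hu
    (fun q hq => χa_mul_eq_zero C' a q hq) (fun c => by
      obtain ⟨k, hk⟩ := hmult c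
      exact ⟨k, (⟨_, hk⟩, 0), rfl⟩)
  refine ⟨Q C' a, inferInstance, algebraMap A (Q C' a),
    ((RingEquiv.ofBijective _ hbij).symm : C →+* Localization.Away (algebraMap A (Q C' a) a)),
    ?_, ?_, ?_⟩
  · exact RingHom.finite_algebraMap.2 inferInstance
  · exact comap_surjective C' a h3
  · ext x
    show (RingEquiv.ofBijective _ hbij).symm ((ψ.comp ρ) x) =
      algebraMap (Q C' a) _ (algebraMap A (Q C' a) x)
    rw [RingEquiv.symm_apply_eq]
    show (ψ.comp ρ) x = IsLocalization.Away.lift (algebraMap A (Q C' a) a) hu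
      (algebraMap (Q C' a) _ (algebraMap A (Q C' a) x))
    rw [IsLocalization.Away.lift_eq]
    rfl

end Groth.Agent.H58.ExtFinite
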