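import Mathlib
import Groth.Prelude.Def_Red2
import Groth.Agent.H27.OverPullback

/-!
`D_S(M) → D_S(N)` is flat and surjective for an injective `N → M`
(lemma (FF) requested by helper43 for S5274/S5275/S5276/S16611).
Ring level: for an injective homomorphism of commutative groups `H → G`, `R[G]` is a free
`R[H]`-module (basis: coset representatives).
-/

set_option autoImplicit false
universe u

namespace Groth.Agent.H58.DSmapFF

open CategoryTheory AlgebraicGeometry MonoidAlgebra

section Alg
variable (R : Type u) [CommRing R] {H G : Type} [CommGroup H] [CommGroup G] (ι : H →* G)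
  (hι : Function.Injective ι)

/-- `(q, h) ↦ σ q * ι h` for a section `σ` of `G → G/ι(H)`. -/
noncomputable def mulMap : (G ⧸ ι.range) × H → G := fun p => Quotient.out p.1 * ι p.2

include hι in
theorem mulMap_bijective : Function.Bijective (mulMap ι) := by
  have h1 : ∀ (q : G ⧸ ι.range) (h : H), ((mulMap ι (q, h) : G) : G ⧸ ι.range) = q := by
    intro q h
    show ((Quotient.out q * ι h : G) : G ⧸ ι.range) = q
    rw [QuotientGroup.mk_mul_of_mem _ (MonoidHom.mem_range.2 ⟨h, rfl⟩)]
    exact QuotientGroup.out_eq' q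
  constructor
  · rintro ⟨q, h⟩ ⟨q', h'⟩ heq
    have hq : q = q' := by rw [← h1 q h, ← h1 q' h', heq]
    subst hq
    have : ι h = ι h' := mul_left_cancel heq
    rw [hι this]
  · intro g
    have hmem : (Quotient.out (g : G ⧸ ι.range))⁻¹ * g ∈ ι.range := by
      rw [← QuotientGroup.eq]; exact QuotientGroup.out_eq' _
    obtain ⟨h, hh⟩ := MonoidHom.mem_range.1 hmem
    refine ⟨((g : G ⧸ ι.range), h), ?_⟩
    show Quotient.out (g : G ⧸ ι.range) * ι h = g
    rw [hh, mul_inv_cancel_left]

/-- The bijection `G/ι(H) × H ≃ G`. -/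
noncomputable def E : (G ⧸ ι.range) × H ≃ G := Equiv.ofBijective (mulMap ι) (mulMap_bijective ι hι)

theorem E_mul (q : G ⧸ ι.range) (h' h : H) : E ι hι (q, h' * h) = ι h' * E ι hι (q, h) := by
  show Quotient.out q * ι (h' * h) = ι h' * (Quotient.out q * ι h)
  rw [map_mul, mul_left_comm]

theorem Esymm_mul (h : H) (g : G) :
    (E ι hι).symm (ι h * g) = (((E ι hι).symm g).1, h * ((E ι hι).symm g).2) := by
  rw [Equiv.symm_apply_eq, E_mul, Prod.mk.eta, Equiv.apply_symm_apply]

/-- The additive equivalence `R[G] ≃ ⊕_{G/H} R[H]`. -/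
noncomputable def Ψ₀ : MonoidAlgebra R G ≃+ ((G ⧸ ι.range) →₀ MonoidAlgebra R H) :=
  coeffAddEquiv.trans ((Finsupp.domCongr (E ι hι).symm).trans
    (Finsupp.curryAddEquiv.trans (Finsupp.mapRange.addEquiv coeffAddEquiv.symm)))

theorem Ψ₀_single (g : G) (s : R) :
    Ψ₀ R ι hι (single g s) =
      Finsupp.single ((E ι hι).symm g).1 (single ((E ι hι).symm g).2 s) := by
  simp [Ψ₀, Finsupp.domCongr_apply, Finsupp.equivMapDomain_single, Finsupp.curryAddEquiv]

theorem Ψ₀_smul (a : MonoidAlgebra R H) (x : MonoidAlgebra R G) :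
    Ψ₀ R ι hι (mapDomainAlgHom R R ι a * x) = a • Ψ₀ R ι hι x := by
  induction a using MonoidAlgebra.induction_linear with
  | zero => simp
  | add a b ha hb => rw [map_add, add_mul, map_add, ha, hb, add_smul]
  | single h r =>
    induction x using MonoidAlgebra.induction_linear with
    | zero => simp
    | add x y hx hy => rw [mul_add, map_add, hx, hy, map_add, smul_add]
    | single g s =>
      rw [mapDomainAlgHom_apply, mapDomain_single, single_mul_single, Ψ₀_single, Ψ₀_single,
        Esymm_mul, Finsupp.smul_single, smul_eq_mul, single_mul_single]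

include hι in
theorem free : letI := (mapDomainAlgHom R R ι).toRingHom.toAlgebra
    Module.Free (MonoidAlgebra R H) (MonoidAlgebra R G) := by
  letI : Algebra (MonoidAlgebra R H) (MonoidAlgebra R G) :=
    (mapDomainAlgHom R R ι).toRingHom.toAlgebra
  let Ψ : MonoidAlgebra R G ≃ₗ[MonoidAlgebra R H] ((G ⧸ ι.range) →₀ MonoidAlgebra R H) :=
    { Ψ₀ R ι hι with
      map_smul' := fun a x => by
        show Ψ₀ R ι hι (a • x) = a • Ψ₀ R ι hι x
        rw [Algebra.smul_def]
        exact Ψ₀_smul R ι hι a x }
  exact Module.Free.of_basis (Module.Basis.ofRepr Ψ)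

include hι in
theorem faithfullyFlat [Nontrivial R] :
    (mapDomainAlgHom R R ι).toRingHom.FaithfullyFlat := by
  letI : Algebra (MonoidAlgebra R H) (MonoidAlgebra R G) :=
    (mapDomainAlgHom R R ι).toRingHom.toAlgebra
  haveI : Module.Free (MonoidAlgebra R H) (MonoidAlgebra R G) := free R ι hι
  show Module.FaithfullyFlat (MonoidAlgebra R H) (MonoidAlgebra R G)
  infer_instance

end Alg

/-- (FF) requested by helper43. -/
theorem DSmap_flat_surjective (X : Scheme.{u}) {N M : Type} [AddCommGroup N] [AddCommGroup M]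
    (φ : N →+ M) (hφ : Function.Injective φ) :
    Flat (Red.DSmap X φ).left ∧ Surjective (Red.DSmap X φ).left := by
  have hinj : Function.Injective (AddMonoidHom.toMultiplicative φ) := fun a b h => hφ h
  have hff := faithfullyFlat (ULift.{u} ℤ) (AddMonoidHom.toMultiplicative φ) hinj
  have h := (flat_and_surjective_SpecMap_iff (CommRingCat.ofHom
    (MonoidAlgebra.mapDomainAlgHom (ULift.{u} ℤ) (ULift.{u} ℤ)
      (AddMonoidHom.toMultiplicative φ)).toRingHom)).2 hff
  constructor
  · exact Groth.Agent.H27.pullback_map_left_of_stable @Flat _ (Red.diagMap (ULift.{u} ℤ) φ) h.1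
  · exact Groth.Agent.H27.pullback_map_left_of_stable @Surjective _
      (Red.diagMap (ULift.{u} ℤ) φ) h.2

end Groth.Agent.H58.DSmapFF
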