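import Mathlib

/-! (C2) for S6063: on an affine open, the kernel of restriction to `X ×_A A/J` lies in `J·O_X`. -/

set_option autoImplicit false
universe u
open CategoryTheory CategoryTheory.Limits AlgebraicGeometry TensorProduct

namespace Groth.Agent.H58.SD_C2

theorem aux {R S : CommRingCat.{u}} (π : R ⟶ S) (W : (Spec R).Opens) (hW : W = ⊤)
    (i : W ⟶ ⊤) (x : R)
    (h : ((Spec.map π).app W).hom
      (((Spec R).presheaf.map i.op).hom ((Scheme.ΓSpecIso R).inv.hom x)) = 0) :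
    π.hom x = 0 := by
  subst hW
  obtain rfl : i = 𝟙 _ := Subsingleton.elim _ _
  have hnat := Scheme.ΓSpecIso_inv_naturality π
  have h1 : (Scheme.ΓSpecIso S).inv.hom (π.hom x) =
      ((Spec.map π).appTop).hom ((Scheme.ΓSpecIso R).inv.hom x) := by
    exact congrArg (fun f => (CommRingCat.Hom.hom f) x) hnat
  have h2 : (Scheme.ΓSpecIso S).inv.hom (π.hom x) = 0 := by
    rw [h1]
    change ((Spec.map π).app ⊤).hom _ = 0
    simpa using h
  have hinj : Function.Injective (Scheme.ΓSpecIso S).inv.hom :=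
    (ConcreteCategory.bijective_of_isIso (Scheme.ΓSpecIso S).inv).1
  exact hinj (h2.trans (map_zero _).symm)

theorem mem_map_of_fst_app_eq_zero {X : Scheme.{u}} (A : CommRingCat.{u}) (p : X ⟶ Spec A)
    (J : Ideal ↑A) (V : X.Opens) (hV : IsAffineOpen V) (b : Γ(X, V))
    (hb : (pullback.fst p (Spec.map (CommRingCat.ofHom (Ideal.Quotient.mk J)))).app V b = 0) :
    b ∈ J.map ((Scheme.ΓSpecIso A).inv ≫ p.appLE ⊤ V le_top).hom := by
  set φc : A ⟶ Γ(X, V) := (Scheme.ΓSpecIso A).inv ≫ p.appLE ⊤ V le_top with hφc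
  set K : Ideal Γ(X, V) := J.map φc.hom with hK
  let π : Γ(X, V) ⟶ CommRingCat.of (Γ(X, V) ⧸ K) := CommRingCat.ofHom (Ideal.Quotient.mk K)
  have hJK : J ≤ K.comap φc.hom := Ideal.le_comap_map
  let qm : CommRingCat.of (↑A ⧸ J) ⟶ CommRingCat.of (Γ(X, V) ⧸ K) :=
    CommRingCat.ofHom (Ideal.quotientMap K φc.hom hJK)
  have hfp : hV.fromSpec ≫ p = Spec.map φc := by
    have h1 := IsAffineOpen.SpecMap_appLE_fromSpec p (isAffineOpen_top (Spec A)) hV le_top
    rw [IsAffineOpen.fromSpec_top, Scheme.isoSpec_Spec_inv, ← Spec.map_comp] at h1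
    exact h1.symm
  have hcond : (Spec.map π ≫ hV.fromSpec) ≫ p =
      Spec.map qm ≫ Spec.map (CommRingCat.ofHom (Ideal.Quotient.mk J)) := by
    rw [Category.assoc, hfp, ← Spec.map_comp, ← Spec.map_comp]
    congr 1
  let ℓ := pullback.lift (Spec.map π ≫ hV.fromSpec) (Spec.map qm) hcond
  have hℓ : ℓ ≫ pullback.fst p (Spec.map (CommRingCat.ofHom (Ideal.Quotient.mk J))) =
      Spec.map π ≫ hV.fromSpec := pullback.lift_fst _ _ _
  have key : ∀ a' : Spec (CommRingCat.of (Γ(X, V) ⧸ K)) ⟶ X,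
      a' = ℓ ≫ pullback.fst p (Spec.map (CommRingCat.ofHom (Ideal.Quotient.mk J))) →
      (a'.app V).hom b = 0 := by
    rintro _ rfl
    rw [Scheme.Hom.comp_app]
    change (ℓ.app _).hom
      (((pullback.fst p (Spec.map (CommRingCat.ofHom (Ideal.Quotient.mk J)))).app V).hom b) = 0
    rw [show ((pullback.fst p (Spec.map (CommRingCat.ofHom (Ideal.Quotient.mk J)))).app V).hom b = 0
      from hb, map_zero]
  have h2 := key _ hℓ.symm
  rw [Scheme.Hom.comp_app, hV.fromSpec_app_self] at h2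
  have h3 : π.hom b = 0 := aux π _ hV.fromSpec_preimage_self _ b h2
  exact Ideal.Quotient.eq_zero_iff_mem.mp h3

end Groth.Agent.H58.SD_C2
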