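import Mathlib
import Groth.Prelude.Def_Wider
import Groth.Prelude.Def_CAlg
import Groth.Agent.H58.LCMod

set_option autoImplicit false
universe u
open IsLocalRing

namespace Groth.Agent.H58.HL_Q3

/-- (Q3) a submodule with vanishing `H^n` and `H^{n+1}` does not change `H^n`. -/
theorem H_equiv_quotient (R : Type u) [CommRing R] [IsNoetherianRing R] (I : Ideal R) (M : Type u)
    [AddCommGroup M] [Module R M] (N : Submodule R M) (n : ℕ)
    (h1 : Subsingleton (LocCoh.H I n N)) (h2 : Subsingleton (LocCoh.H I (n + 1) N)) :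
    Nonempty (LocCoh.H I n M ≃ₗ[R] LocCoh.H I n (M ⧸ N)) := by
  obtain ⟨δ, e1, e2, -, -⟩ := Groth.Agent.H58.LC.les_mod I N.subtype N.mkQ N.injective_subtype
    N.mkQ_surjective (LinearMap.exact_subtype_mkQ N) n
  refine ⟨LinearEquiv.ofBijective (Groth.Agent.H58.LC.Hmap I n N.mkQ) ⟨?_, ?_⟩⟩
  · rw [← LinearMap.ker_eq_bot, LinearMap.ker_eq_bot']
    intro y hy
    obtain ⟨z, rfl⟩ := (e1 y).1 hy
    rw [Subsingleton.elim z 0, map_zero]
  · intro y
    exact (e2 y).1 (Subsingleton.elim _ _)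

end Groth.Agent.H58.HL_Q3
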