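import Mathlib
import Groth.Prelude.Def_Wider
import Groth.Prelude.Def_CAlg

/-!
# (T4) for helper55's S17760 squad: `Ext^i(S/J, A)` has finite length when `A` is Artinian and
killed by an ideal `K` with `J + K` primary to the maximal ideal.
-/

set_option autoImplicit false
universe u
open IsLocalRing CategoryTheory Opposite

namespace Groth.Agent.H58.HLT

section general

variable {S : Type u} [CommRing S]

/-- scalars killing the source kill `Ext`. -/
theorem ext_smul_eq_zero_left {X Y : ModuleCat.{u} S} (i : ℕ) (a : S) (ha : ∀ x : X, a • x = 0)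
    (e : Abelian.Ext X Y i) : a • e = 0 := by
  have h1 : a • e = (a • Abelian.Ext.mk₀ (𝟙 X)).comp e (zero_add i) := by
    rw [Abelian.Ext.smul_comp, Abelian.Ext.mk₀_id_comp]
  have h2 : a • 𝟙 X = 0 := by
    apply ModuleCat.hom_ext
    apply LinearMap.ext
    intro x
    exact ha x
  rw [h1, ← Abelian.Ext.mk₀_smul, h2, Abelian.Ext.mk₀_zero, Abelian.Ext.zero_comp]

/-- scalars killing the target kill `Ext`. -/
theorem ext_smul_eq_zero_right {X Y : ModuleCat.{u} S} (i : ℕ) (a : S) (ha : ∀ y : Y, a • y = 0)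
    (e : Abelian.Ext X Y i) : a • e = 0 := by
  have h2 : a • 𝟙 Y = 0 := by
    apply ModuleCat.hom_ext
    apply LinearMap.ext
    intro y
    exact ha y
  rw [Abelian.Ext.smul_eq_comp_mk₀, h2, Abelian.Ext.mk₀_zero, Abelian.Ext.comp_zero]

/-- `Ext^i(N, A)` is Artinian for `N` finitely generated and `A` Artinian. -/
theorem isArtinian_ext [IsNoetherianRing S] (A : Type u) [AddCommGroup A] [Module S A]
    [IsArtinian S A] :
    ∀ (i : ℕ) (N : Type u) [AddCommGroup N] [Module S N] [Module.Finite S N],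
      IsArtinian S (Abelian.Ext (ModuleCat.of S N) (ModuleCat.of S A) i) := by
  intro i
  induction i with
  | zero =>
    intro N _ _ _
    obtain ⟨n, π, hπ⟩ := Module.Finite.exists_fin' S N
    let e₀ : Abelian.Ext (ModuleCat.of S N) (ModuleCat.of S A) 0 ≃ₗ[S]
        (ModuleCat.of S N ⟶ ModuleCat.of S A) := Abelian.Ext.linearEquiv₀
    let e₁ : (ModuleCat.of S N ⟶ ModuleCat.of S A) ≃ₗ[S] (N →ₗ[S] A) :=
      ModuleCat.homLinearEquiv (S := S)
    let c : (N →ₗ[S] A) →ₗ[S] ((Fin n → S) →ₗ[S] A) := LinearMap.lcomp S A π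
    have hc : Function.Injective c := fun f₁ f₂ h => (LinearMap.cancel_right hπ).mp h
    let e₂ : ((Fin n → S) →ₗ[S] A) ≃ₗ[S] (Fin n → A) :=
      ((Pi.basisFun S (Fin n)).constr S).symm
    let g : Abelian.Ext (ModuleCat.of S N) (ModuleCat.of S A) 0 →ₗ[S] (Fin n → A) :=
      e₂.toLinearMap ∘ₗ c ∘ₗ e₁.toLinearMap ∘ₗ e₀.toLinearMap
    have hg : Function.Injective g :=
      e₂.injective.comp (hc.comp (e₁.injective.comp e₀.injective))
    exact isArtinian_of_injective g hg
  | succ i ih =>
    intro N _ _ _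
    obtain ⟨n, π, hπ⟩ := Module.Finite.exists_fin' S N
    let K : Submodule S (Fin n → S) := LinearMap.ker π
    let T : ShortComplex (ModuleCat.{u} S) :=
      ModuleCat.shortComplexOfCompEqZero K.subtype π (LinearMap.comp_ker_subtype π)
    have hT : T.ShortExact := ModuleCat.shortComplex_shortExact T
      (LinearMap.exact_subtype_ker_map π) Subtype.val_injective hπ
    haveI : Projective T.X₂ :=
      (IsProjective.iff_projective (R := S) (Fin n → S)).mp inferInstance
    have hdeg : 1 + i = i + 1 := by omega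
    haveI : IsArtinian S (Abelian.Ext T.X₁ (ModuleCat.of S A) i) := ih K
    let δ : Abelian.Ext T.X₁ (ModuleCat.of S A) i →ₗ[S]
        Abelian.Ext T.X₃ (ModuleCat.of S A) (i + 1) :=
      Abelian.Ext.precompOfLinear hT.extClass S (ModuleCat.of S A) hdeg
    have hδ : Function.Surjective δ := by
      intro y
      have h0 : (Abelian.Ext.mk₀ T.g).comp y (zero_add (i + 1)) = 0 :=
        Abelian.Ext.eq_zero_of_projective _
      obtain ⟨x₁, hx₁⟩ := Abelian.Ext.contravariant_sequence_exact₃ hT _ y h0 hdeg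
      exact ⟨x₁, hx₁⟩
    exact isArtinian_of_surjective _ δ hδ

end general

section loc

variable {S : Type u} [CommRing S] [IsNoetherianRing S] [IsLocalRing S]

/-- Quotients by nonzero powers of the maximal ideal are Artinian rings. -/
theorem isArtinianRing_quot_pow (k : ℕ) (hk : k ≠ 0) :
    IsArtinianRing (S ⧸ maximalIdeal S ^ k) := by
  have hne : maximalIdeal S ^ k ≠ ⊤ := by
    intro h
    have h1 : (1 : S) ∈ maximalIdeal S ^ k := h ▸ Submodule.mem_top
    have h2 : (1 : S) ∈ maximalIdeal S := Ideal.pow_le_self hk h1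
    exact (Ideal.ne_top_iff_one _).mp (Ideal.IsMaximal.ne_top inferInstance) h2
  haveI : Nontrivial (S ⧸ maximalIdeal S ^ k) := Ideal.Quotient.nontrivial_iff.mpr hne
  haveI : IsLocalRing (S ⧸ maximalIdeal S ^ k) :=
    IsLocalRing.of_surjective' (Ideal.Quotient.mk _) Ideal.Quotient.mk_surjective
  rw [isArtinianRing_iff_isNilpotent_maximalIdeal]
  haveI := IsLocalHom.of_surjective (Ideal.Quotient.mk (maximalIdeal S ^ k))
    Ideal.Quotient.mk_surjective
  have hmap : (maximalIdeal S).map (Ideal.Quotient.mk (maximalIdeal S ^ k)) =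
      maximalIdeal (S ⧸ maximalIdeal S ^ k) := by
    ext x
    obtain ⟨x, rfl⟩ := Ideal.Quotient.mk_surjective x
    simp [sup_eq_left.mpr (le_maximalIdeal hne)]
  refine ⟨k, ?_⟩
  rw [← hmap, ← Ideal.map_pow, Ideal.zero_eq_bot, Ideal.map_eq_bot_iff_le_ker, Ideal.mk_ker]

/-- An Artinian module killed by a power of the maximal ideal has finite length. -/
theorem isFiniteLength_of_isArtinian_of_pow_le (E : Type u) [AddCommGroup E] [Module S E]
    [IsArtinian S E] (k : ℕ) (hk : k ≠ 0)
    (h : maximalIdeal S ^ k ≤ Module.annihilator S E) : IsFiniteLength S E := by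
  haveI := isArtinianRing_quot_pow (S := S) k hk
  have htors : Module.IsTorsionBySet S E ((maximalIdeal S ^ k : Ideal S) : Set S) := by
    rw [Module.isTorsionBySet_iff_subset_annihilator]
    exact h
  letI : Module (S ⧸ maximalIdeal S ^ k) E := htors.module
  haveI : IsScalarTower S (S ⧸ maximalIdeal S ^ k) E :=
    ⟨fun b d x => Quotient.inductionOn' d fun c => (smul_assoc b c x :)⟩
  haveI : IsArtinian (S ⧸ maximalIdeal S ^ k) E := isArtinian_of_tower S inferInstance
  have h20 : IsArtinian (S ⧸ maximalIdeal S ^ k) E ↔ Module.Finite (S ⧸ maximalIdeal S ^ k) E :=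
    (IsArtinianRing.tfae (S ⧸ maximalIdeal S ^ k) E).out 2 0
  have hfin' : Module.Finite (S ⧸ maximalIdeal S ^ k) E := h20.mp inferInstance
  haveI : Module.Finite S E := Module.Finite.trans (S ⧸ maximalIdeal S ^ k) E
  rw [isFiniteLength_iff_isNoetherian_isArtinian]
  exact ⟨isNoetherian_of_isNoetherianRing_of_finite S E, inferInstance⟩

/-- (T4) `Ext^i(S/J, A)` has finite length when `A` is Artinian and killed by an ideal `K` with
`J + K` primary to the maximal ideal. -/
theorem ext_finiteLength_of_artinian (S : Type u) [CommRing S] [IsNoetherianRing S]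
    [IsLocalRing S] (J : Ideal S) (A : Type u) [AddCommGroup A] [Module S A] [IsArtinian S A]
    (K : Ideal S) (hK : K ≤ Module.annihilator S A)
    (hrad : (J ⊔ K).radical = maximalIdeal S) (i : ℕ) :
    IsFiniteLength S (Abelian.Ext (ModuleCat.of S (S ⧸ J)) (ModuleCat.of S A) i) := by
  haveI : IsArtinian S (Abelian.Ext (ModuleCat.of S (S ⧸ J)) (ModuleCat.of S A) i) :=
    isArtinian_ext A i (S ⧸ J)
  have hJK : J ⊔ K ≤
      Module.annihilator S (Abelian.Ext (ModuleCat.of S (S ⧸ J)) (ModuleCat.of S A) i) := by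
    refine sup_le ?_ ?_
    · intro a ha
      rw [Module.mem_annihilator]
      intro e
      refine ext_smul_eq_zero_left i a ?_ e
      intro x
      obtain ⟨s, rfl⟩ := Ideal.Quotient.mk_surjective (I := J) x
      have h1 : a • (Ideal.Quotient.mk J s) = Ideal.Quotient.mk J (a * s) := rfl
      exact h1.trans (Ideal.Quotient.eq_zero_iff_mem.mpr (J.mul_mem_right s ha))
    · intro a ha
      rw [Module.mem_annihilator]
      intro e
      exact ext_smul_eq_zero_right i a (fun y => Module.mem_annihilator.mp (hK ha) y) e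
  obtain ⟨k, hk⟩ : ∃ k, maximalIdeal S ^ k ≤ J ⊔ K :=
    Ideal.exists_pow_le_of_le_radical_of_fg hrad.ge (IsNoetherian.noetherian _)
  have hk' : maximalIdeal S ^ (k + 1) ≤
      Module.annihilator S (Abelian.Ext (ModuleCat.of S (S ⧸ J)) (ModuleCat.of S A) i) :=
    (Ideal.pow_le_pow_right (Nat.le_succ k)).trans (hk.trans hJK)
  exact isFiniteLength_of_isArtinian_of_pow_le _ (k + 1) (Nat.succ_ne_zero k) hk'

end loc

end Groth.Agent.H58.HLT
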