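import Mathlib
import Groth.Prelude.Def_Wider
import Groth.Prelude.Def_CAlg
import Groth.Agent.H58.LCMod

/-!
# (T5) for helper55's S17760 squad: local cohomology of `M` is killed by the annihilator of `M`.
-/

set_option autoImplicit false
universe u
open IsLocalRing CategoryTheory Opposite

namespace Groth.Agent.H58.HLT

/-- (T5) local cohomology of `M` is killed by the annihilator of `M`. -/
theorem annihilator_le_annihilator_H (S : Type u) [CommRing S] (J : Ideal S) (n : ℕ) (M : Type u)
    [AddCommGroup M] [Module S M] :
    Module.annihilator S M ≤ Module.annihilator S (LocCoh.H J n M) := by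
  intro a ha
  rw [Module.mem_annihilator] at ha ⊢
  intro x
  have h0 : a • (LinearMap.id : M →ₗ[S] M) = 0 := by
    ext m
    simp [ha m]
  have h1 : Groth.Agent.H58.LC.Hmap J n (a • (LinearMap.id : M →ₗ[S] M)) = 0 := by
    rw [h0, Groth.Agent.H58.LC.Hmap_zero]
  rw [Groth.Agent.H58.LC.Hmap_smul, Groth.Agent.H58.LC.Hmap_id] at h1
  exact LinearMap.congr_fun h1 x

end Groth.Agent.H58.HLT
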