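import Mathlib
import Groth.Prelude.Def_Wider
import Groth.Prelude.Def_CAlg

/-!
# (T6) for helper55's S17760 squad: transport of finite length of `Ext` along an isomorphism of
the second argument, and the case of a zero second argument.
-/

set_option autoImplicit false
universe u
open IsLocalRing CategoryTheory Opposite

namespace Groth.Agent.H58.HLT

/-- (T6) transport of finite length of `Ext` along an isomorphism of the second argument, and the
case of a zero second argument. -/
theorem ext_finiteLength_congr (S : Type u) [CommRing S] (X : ModuleCat.{u} S) (A A' : Type u)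
    [AddCommGroup A] [Module S A] [AddCommGroup A'] [Module S A'] (i : ℕ) :
    ((A ≃ₗ[S] A') → IsFiniteLength S (Abelian.Ext X (ModuleCat.of S A') i) →
      IsFiniteLength S (Abelian.Ext X (ModuleCat.of S A) i)) ∧
    (Subsingleton A → IsFiniteLength S (Abelian.Ext X (ModuleCat.of S A) i)) := by
  constructor
  · intro e h
    let φ : ModuleCat.of S A ≅ ModuleCat.of S A' := e.toModuleIso
    let f : Abelian.Ext X (ModuleCat.of S A) i →ₗ[S] Abelian.Ext X (ModuleCat.of S A') i :=
      Abelian.Ext.postcompOfLinear (Abelian.Ext.mk₀ φ.hom) S X (add_zero i)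
    refine IsFiniteLength.of_injective (f := f) h ?_
    have key : ∀ z : Abelian.Ext X (ModuleCat.of S A) i,
        (f z).comp (Abelian.Ext.mk₀ φ.inv) (add_zero i) = z := by
      intro z
      show ((z.comp (Abelian.Ext.mk₀ φ.hom) (add_zero i)).comp (Abelian.Ext.mk₀ φ.inv)
        (add_zero i)) = z
      rw [Abelian.Ext.comp_assoc_of_third_deg_zero, Abelian.Ext.mk₀_comp_mk₀, φ.hom_inv_id,
        Abelian.Ext.comp_mk₀_id]
    intro x y hxy
    rw [← key x, ← key y, hxy]
  · intro hA
    have hz : Limits.IsZero (ModuleCat.of S A) := ModuleCat.isZero_of_subsingleton _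
    have h0 : ∀ z : Abelian.Ext X (ModuleCat.of S A) i, z = 0 := by
      intro z
      calc z = z.comp (Abelian.Ext.mk₀ (𝟙 _)) (add_zero i) := (Abelian.Ext.comp_mk₀_id z).symm
        _ = z.comp (Abelian.Ext.mk₀ 0) (add_zero i) := by rw [hz.eq_of_src (𝟙 _) 0]
        _ = 0 := by rw [Abelian.Ext.mk₀_zero, Abelian.Ext.comp_zero]
    have : Subsingleton (Abelian.Ext X (ModuleCat.of S A) i) :=
      ⟨fun x y => by rw [h0 x, h0 y]⟩
    exact IsFiniteLength.of_subsingleton
end Groth.Agent.H58.HLT
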