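import Mathlib
import Groth.Prelude.Def_AssocGr
import Groth.Prelude.Def_IdealRed
import Groth.Prelude.Def_Wider
import Groth.Agent.H55.AS.Defs
import Groth.Agent.H75.Rees

/-! (F5) for helper55's S16056 squad: the fibre cone is a quotient of the associated graded ring. -/

set_option autoImplicit false
universe u
open IsLocalRing Polynomial
open Groth.Agent.H55.AS

namespace Groth.Agent.H58.AS

variable (R : Type u) [CommRing R] [IsLocalRing R] (b : Ideal R)

/-- classes of monomials of positive degree lie in the irrelevant ideal of the fibre cone. -/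
theorem mkFC_monomial_succ_mem (m : ℕ) (z : R) (hz : z ∈ b ^ m * b)
    (h : monomial (m + 1) z ∈ reesAlgebra b) :
    mkFC R b ⟨monomial (m + 1) z, h⟩ ∈ fcIrr R b := by
  revert h
  refine Submodule.mul_induction_on'
    (C := fun z _ => ∀ h : monomial (m + 1) z ∈ reesAlgebra b,
      mkFC R b ⟨monomial (m + 1) z, h⟩ ∈ fcIrr R b) ?_ ?_ hz
  · intro x hx c hc h
    have hx' : monomial m x ∈ reesAlgebra b := reesAlgebra.monomial_mem.mpr hx
    have heq : (⟨monomial (m + 1) (x * c), h⟩ : reesAlgebra b) =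
        ⟨monomial m x, hx'⟩ * ⟨monomial 1 c, monomial_one_mem R b ⟨c, hc⟩⟩ := by
      apply Subtype.ext
      show monomial (m + 1) (x * c) = monomial m x * monomial 1 c
      rw [monomial_mul_monomial]
    rw [heq, map_mul]
    exact Ideal.mul_mem_left _ _ (Ideal.subset_span ⟨⟨c, hc⟩, rfl⟩)
  · intro x hx y hy ihx ihy h
    have hx' : monomial (m + 1) x ∈ reesAlgebra b :=
      reesAlgebra.monomial_mem.mpr (by rw [pow_succ]; exact hx)
    have hy' : monomial (m + 1) y ∈ reesAlgebra b :=
      reesAlgebra.monomial_mem.mpr (by rw [pow_succ]; exact hy)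
    have heq : (⟨monomial (m + 1) (x + y), h⟩ : reesAlgebra b) =
        ⟨monomial (m + 1) x, hx'⟩ + ⟨monomial (m + 1) y, hy'⟩ := by
      apply Subtype.ext
      show monomial (m + 1) (x + y) = monomial (m + 1) x + monomial (m + 1) y
      rw [map_add]
    rw [heq, map_add]
    exact Ideal.add_mem _ (ihx hx') (ihy hy')

/-- classes of homogeneous elements of positive degree lie in the irrelevant ideal. -/
theorem mkFC_mem_fcIrr_of_homogeneous (g : reesAlgebra b) (i : ℕ) (hi : 0 < i)
    (hg : ∀ m : ℕ, m ≠ i → (g : R[X]).coeff m = 0) : mkFC R b g ∈ fcIrr R b := by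
  obtain ⟨m, rfl⟩ : ∃ m, i = m + 1 := ⟨i - 1, by omega⟩
  have hz : (g : R[X]).coeff (m + 1) ∈ b ^ m * b := by
    rw [← pow_succ]; exact g.2 (m + 1)
  have hmon : monomial (m + 1) ((g : R[X]).coeff (m + 1)) ∈ reesAlgebra b :=
    reesAlgebra.monomial_mem.mpr (g.2 (m + 1))
  have heq : g = ⟨monomial (m + 1) ((g : R[X]).coeff (m + 1)), hmon⟩ := by
    apply Subtype.ext
    apply Polynomial.ext
    intro n
    show (g : R[X]).coeff n = (monomial (m + 1) ((g : R[X]).coeff (m + 1))).coeff n
    rw [coeff_monomial]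
    split_ifs with h
    · rw [h]
    · exact hg n (Ne.symm h)
  rw [heq]
  exact mkFC_monomial_succ_mem R b m _ hz hmon

/-- (F5) the fibre cone is a quotient of the associated graded ring, and the irrelevant ideal of
the latter generates the irrelevant ideal of the former. -/
theorem F5 (R : Type u) [CommRing R] [IsLocalRing R] (b : Ideal R) (hb : b ≠ ⊤) :
    ∃ π : AssocGr.GrRing (FiltBl.IdealFiltration.adic b) →+* FC R b,
      Function.Surjective π ∧
      Ideal.map π (HomogeneousIdeal.irrelevant (AssocGr.gr (FiltBl.IdealFiltration.adic b))).toIdeal =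
        fcIrr R b := by
  classical
  have hle : (FiltBl.IdealFiltration.adic b).rees ≤ reesAlgebra b := fun f hf n => hf n
  let ρ : ↥(FiltBl.IdealFiltration.adic b).rees →+* ↥(reesAlgebra b) :=
    (Subalgebra.inclusion hle).toRingHom
  have hρ : ∀ f : ↥(FiltBl.IdealFiltration.adic b).rees, ((ρ f : reesAlgebra b) : R[X]) = f :=
    fun f => rfl
  have hkill : ∀ f : ↥(FiltBl.IdealFiltration.adic b).rees,
      f ∈ AssocGr.succIdeal (FiltBl.IdealFiltration.adic b) →
      ((mkFC R b).comp ρ) f = 0 := by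
    intro f hf
    show mkFC R b (ρ f) = 0
    rw [mkFC_eq_zero_iff, Groth.Agent.H75.Rees.mem_map_iff]
    intro j
    have h1 : (f : R[X]).coeff j ∈ b ^ (j + 1) := hf j
    have h2 : b ^ (j + 1) ≤ maximalIdeal R * b ^ j := by
      rw [pow_succ']
      exact Ideal.mul_mono_left (le_maximalIdeal hb)
    exact h2 h1
  let π : AssocGr.GrRing (FiltBl.IdealFiltration.adic b) →+* FC R b :=
    Ideal.Quotient.lift (AssocGr.succIdeal (FiltBl.IdealFiltration.adic b))
      ((mkFC R b).comp ρ) hkill
  have hπ : ∀ f : ↥(FiltBl.IdealFiltration.adic b).rees,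
      π (AssocGr.mkG (FiltBl.IdealFiltration.adic b) f) = mkFC R b (ρ f) := fun f => rfl
  refine ⟨π, ?_, ?_⟩
  · intro x
    obtain ⟨g, rfl⟩ := mkFC_surjective R b x
    refine ⟨AssocGr.mkG (FiltBl.IdealFiltration.adic b) ⟨(g : R[X]), fun n => g.2 n⟩, ?_⟩
    rw [hπ]
    congr 1
  · apply le_antisymm
    · rw [Ideal.map_le_iff_le_comap, HomogeneousIdeal.toIdeal_irrelevant_le]
      intro i hi x hx
      have hx' : x ∈ AssocGr.gr (FiltBl.IdealFiltration.adic b) i := hx
      rw [AssocGr.mem_gr_iff] at hx'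
      obtain ⟨f, hf, rfl⟩ := hx'
      show π (AssocGr.mkG (FiltBl.IdealFiltration.adic b) f) ∈ fcIrr R b
      rw [hπ]
      refine mkFC_mem_fcIrr_of_homogeneous R b (ρ f) i hi ?_
      intro m hm
      rw [hρ]
      exact (Rees.mem_deg_iff _ i f).mp hf m hm
    · show fcIrr R b ≤ _
      unfold fcIrr
      rw [Ideal.span_le]
      rintro _ ⟨c, rfl⟩
      have hmem : monomial 1 (c : R) ∈ (FiltBl.IdealFiltration.adic b).rees :=
        fun n => monomial_one_mem R b c n
      have hx : xcl R b c = π (AssocGr.mkG (FiltBl.IdealFiltration.adic b)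
          ⟨monomial 1 (c : R), hmem⟩) := by
        rw [hπ]
        rfl
      rw [hx]
      refine Ideal.mem_map_of_mem π ?_
      refine HomogeneousIdeal.mem_irrelevant_of_mem _ (i := 1) Nat.one_pos ?_
      refine AssocGr.mkG_mem_gr _ ?_
      rw [Rees.mem_deg_iff]
      intro m hm
      show (monomial 1 (c : R)).coeff m = 0
      rw [coeff_monomial, if_neg (Ne.symm hm)]

end Groth.Agent.H58.AS
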