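import Mathlib
import Groth.Agent.H71.LD.Final
import Groth.Agent.S0299
import Groth.Agent.H58.LCMod

/-!
# S1720, pieces (P1) and (P4)

(P1): if `colim_n Hom_D(A/I^n, ω[0]) = 0` for a normalized dualizing complex `ω`, then the
pro-system `Γ_m(A/I^n)` (written as `HYI m (A/I^n)`) is pro-zero; uses helper71's natural
local-duality pairing `Θ`.
-/

set_option autoImplicit false
universe u v
open CategoryTheory CategoryTheory.Limits Opposite Pretriangulated
attribute [local instance] HasDerivedCategory.standard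

namespace Groth.Agent.H58.S1720

open Groth.Agent.H12.RGamHDI Groth.Agent.H12.DualDepth DerivedCategory IsLocalRing
  Groth.Agent.H71.LD

/-- (P1) -/
theorem mapH_tr_eq_zero (A : Type u) [CommRing A] [IsLocalRing A] [IsNoetherianRing A]
    (ω : Dual.D A) (hω : Dual.IsDualizing A ω) (hn : Dual.IsNormalized A ω) (I : Ideal A)
    (h0 : Subsingleton (HYI I (ω⟦(0 : ℤ)⟧))) (N : ℕ) :
    ∃ (N' : ℕ) (h : N ≤ N'), ∀ y : HYI (maximalIdeal A) ((QDI I).obj (op N')),
      (mapH (maximalIdeal A) (tr I h)).hom y = 0 := by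
  classical
  obtain ⟨E, _, _, f, hf⟩ := Groth.Agent.S0299.result A (IsLocalRing.ResidueField A)
  have hW : ∀ i : ℤ, i ≠ 0 → Van ω i (ModuleCat.of A (A ⧸ maximalIdeal A)) :=
    fun i hi => dualizing_hk ω hn i hi
  obtain ⟨n₀, h1, ⟨e0⟩⟩ := Groth.Agent.S0364.result A ω hω (maximalIdeal A)
  have hn₀ : n₀ = 0 := by
    by_contra hne
    haveI : Subsingleton (Dual.inD A (A ⧸ maximalIdeal A) ⟶ ω⟦n₀⟧) :=
      (van_iff_subsingleton _ _ _).1 (hW n₀ hne)
    haveI : Subsingleton (A ⧸ maximalIdeal A) := e0.symm.toEquiv.subsingleton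
    exact not_subsingleton (A ⧸ maximalIdeal A) inferInstance
  subst hn₀
  haveI hκs : IsSimpleModule A (A ⧸ maximalIdeal A) :=
    isSimpleModule_iff_quot_maximal.mpr ⟨maximalIdeal A, inferInstance, ⟨LinearEquiv.refl A _⟩⟩
  have hsimple : IsSimpleModule A
      (sM (ModuleCat.of A (A ⧸ maximalIdeal A)) ⟶ ω⟦(0 : ℤ)⟧) := IsSimpleModule.congr e0
  obtain ⟨e⟩ := Groth.Agent.H71.DKF.exists_equiv_HYI ω hW hsimple hf
  haveI : Module.Injective A E := hf.isInjective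
  have hE := Groth.Agent.S0311.result A E f hf
  have hres := base_case ω hω hn f hf e
  have hP := PM_all ω e.toLinearMap hω hE hres (A ⧸ I ^ N)
  have hbij0 : Function.Bijective (Θ (maximalIdeal A) (ω⟦(0 : ℤ)⟧) e.toLinearMap
      ((Dual.inD A (A ⧸ I ^ N))⟦(0 : ℤ)⟧)) := hP (0 : ℤ)
  let KN : Dual.D A := (QDI I).obj (op N)
  have hiso : (Dual.inD A (A ⧸ I ^ N))⟦(0 : ℤ)⟧ ≅ KN :=
    (shiftFunctorZero (Dual.D A) ℤ).app _
  have hbij : Function.Bijective (Θ (maximalIdeal A) (ω⟦(0 : ℤ)⟧) e.toLinearMap KN) :=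
    bij_iso (maximalIdeal A) (ω⟦(0 : ℤ)⟧) e.toLinearMap hiso hbij0
  haveI hfinN : Module.Finite A (KN ⟶ ω⟦(0 : ℤ)⟧) := by
    haveI := Groth.Agent.LDS.finite_hom A ω hω (A ⧸ I ^ N) (0 : ℤ)
    exact Module.Finite.equiv (Linear.homCongr A hiso (Iso.refl _))
  obtain ⟨s, hs⟩ := (Module.Finite.fg_top : (⊤ : Submodule A (KN ⟶ ω⟦(0 : ℤ)⟧)).FG)
  have hex : ∀ φ : KN ⟶ ω⟦(0 : ℤ)⟧, ∃ (m : ℕ) (h : N ≤ m), tr I h ≫ φ = 0 :=
    fun φ => exists_res_eq_zero I _ N φ (Subsingleton.elim _ _)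
  choose n hn' hzero using hex
  have htr : ∀ {a b c : ℕ} (h₁ : a ≤ b) (h₂ : b ≤ c),
      tr I (h₁.trans h₂) = tr I h₂ ≫ tr I h₁ := by
    intro a b c h₁ h₂
    show (QDI I).map _ = (QDI I).map _ ≫ (QDI I).map _
    rw [← Functor.map_comp]
    rfl
  refine ⟨s.sup n ⊔ N, le_sup_right, ?_⟩
  have hall : ∀ φ : KN ⟶ ω⟦(0 : ℤ)⟧,
      tr I (le_sup_right : N ≤ s.sup n ⊔ N) ≫ φ = 0 := by
    intro φ
    have hmem : φ ∈ Submodule.span A (s : Set (KN ⟶ ω⟦(0 : ℤ)⟧)) := by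
      rw [hs]; exact Submodule.mem_top
    induction hmem using Submodule.span_induction with
    | mem ψ hψ =>
      have hle : n ψ ≤ s.sup n ⊔ N := (Finset.le_sup hψ).trans le_sup_left
      have h2 : tr I (le_sup_right : N ≤ s.sup n ⊔ N) = tr I hle ≫ tr I (hn' ψ) :=
        htr (hn' ψ) hle
      rw [h2, Category.assoc, hzero ψ, comp_zero]
    | zero => exact comp_zero
    | add x y _ _ hx hy => rw [Preadditive.comp_add, hx, hy, add_zero]
    | smul a x _ hx => rw [Linear.comp_smul, hx, smul_zero]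
  intro y
  apply hbij.1
  rw [map_zero, Θ_nat]
  refine LinearMap.ext fun φ => ?_
  rw [Gmap_apply, hall φ, map_zero]
  rfl

/-- (P4) the trivial case. -/
theorem subsingleton_H_top (A : Type u) [CommRing A] (M : Type u) [AddCommGroup M] [Module A M]
    (i : ℕ) : Subsingleton (LocCoh.H (⊤ : Ideal A) i M) := by
  have hz : ∀ z : LocCoh.H (⊤ : Ideal A) i M, z = 0 := by
    intro z
    obtain ⟨k, hk⟩ := Groth.Agent.H58.LC.isPowerTorsion_H (⊤ : Ideal A) i (M := M) z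
    have h1 : (1 : A) • z = 0 := hk 1 (by rw [Ideal.top_pow]; exact Submodule.mem_top)
    rwa [one_smul] at h1
  exact ⟨fun x y => by rw [hz x, hz y]⟩

end Groth.Agent.H58.S1720
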