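import Mathlib
import Groth.Prelude.Def_Wider
import Groth.Agent.H55.CE.Defs

/-!
helper58: piece (C4) for helper55's S17775 squad: the top Čech quotient of the ring itself, in terms
of `Localization.Away`.
-/

set_option autoImplicit false
universe u
open Groth.Agent.H55.CE

namespace Groth.Agent.H58.CE_C4

variable {R : Type u} [CommRing R]

/-- `R_t` as a localized module is `Localization.Away t` -/
noncomputable def e (t : R) : LocalizedModule (Submonoid.powers t) R ≃ₗ[R] Localization.Away t :=
  IsLocalizedModule.iso (Submonoid.powers t) (Algebra.linearMap R (Localization.Away t))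

theorem e_mk (t : R) (r : R) (n : ℕ) :
    e t (LocalizedModule.mk r ⟨t ^ n, Submonoid.pow_mem _ (Submonoid.mem_powers _) n⟩) =
      algebraMap R (Localization.Away t) r * IsLocalization.Away.invSelf t ^ n := by
  have hmk : e t (LocalizedModule.mk r ⟨t ^ n, Submonoid.pow_mem _ (Submonoid.mem_powers _) n⟩) =
      IsLocalizedModule.mk' (Algebra.linearMap R (Localization.Away t)) r
        (⟨t ^ n, Submonoid.pow_mem _ (Submonoid.mem_powers _) n⟩ : Submonoid.powers t) := rfl
  have h1 : algebraMap R (Localization.Away t) (t ^ n) *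
      e t (LocalizedModule.mk r ⟨t ^ n, Submonoid.pow_mem _ (Submonoid.mem_powers _) n⟩) =
      algebraMap R (Localization.Away t) r := by
    have := IsLocalizedModule.mk'_cancel' (f := Algebra.linearMap R (Localization.Away t)) r
      (⟨t ^ n, Submonoid.pow_mem _ (Submonoid.mem_powers _) n⟩ : Submonoid.powers t)
    rw [Submonoid.smul_def, Algebra.smul_def, Algebra.linearMap_apply] at this
    rw [hmk]
    exact this
  have h2 : IsLocalization.Away.invSelf (S := Localization.Away t) t ^ n *
      algebraMap R (Localization.Away t) (t ^ n) = 1 := by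
    rw [map_pow, ← mul_pow, mul_comm, IsLocalization.Away.mul_invSelf, one_pow]
  calc e t (LocalizedModule.mk r ⟨t ^ n, Submonoid.pow_mem _ (Submonoid.mem_powers _) n⟩)
      = (IsLocalization.Away.invSelf (S := Localization.Away t) t ^ n *
          algebraMap R (Localization.Away t) (t ^ n)) *
          e t (LocalizedModule.mk r ⟨t ^ n, Submonoid.pow_mem _ (Submonoid.mem_powers _) n⟩) := by
        rw [h2, one_mul]
    _ = IsLocalization.Away.invSelf (S := Localization.Away t) t ^ n *
          (algebraMap R (Localization.Away t) (t ^ n) *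
          e t (LocalizedModule.mk r ⟨t ^ n, Submonoid.pow_mem _ (Submonoid.mem_powers _) n⟩)) := by
        rw [mul_assoc]
    _ = _ := by rw [h1, mul_comm]

/-- (C4) the Čech quotient of the ring itself, in terms of `Localization.Away`. -/
theorem C4 (R : Type u) [CommRing R] (d : ℕ) (x : Fin d → R) :
    Nonempty (cechTop x R ≃ₗ[R]
      (Localization.Away (∏ i, x i) ⧸ Submodule.span R {y : Localization.Away (∏ i, x i) |
        ∃ (i : Fin d) (n : ℕ), y = algebraMap R (Localization.Away (∏ i, x i)) (x i ^ n) *
          IsLocalization.Away.invSelf (∏ i, x i) ^ n})) := by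
  refine ⟨Submodule.Quotient.equiv (cechSub x R) _ (e (∏ i, x i)) ?_⟩
  unfold cechSub
  rw [Submodule.map_span]
  apply le_antisymm
  · rw [Submodule.span_le]
    rintro _ ⟨_, ⟨i, n, m, rfl⟩, rfl⟩
    rw [LinearEquiv.coe_coe, e_mk]
    have : algebraMap R (Localization.Away (∏ i, x i)) (x i ^ n • m) *
        IsLocalization.Away.invSelf (∏ i, x i) ^ n =
        m • (algebraMap R (Localization.Away (∏ i, x i)) (x i ^ n) *
          IsLocalization.Away.invSelf (∏ i, x i) ^ n) := by
      rw [smul_eq_mul, map_mul, Algebra.smul_def]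
      ring
    rw [this]
    exact Submodule.smul_mem _ _ (Submodule.subset_span ⟨i, n, rfl⟩)
  · rw [Submodule.span_le]
    rintro _ ⟨i, n, rfl⟩
    apply Submodule.subset_span
    refine ⟨LocalizedModule.mk (x i ^ n • (1 : R))
      ⟨(∏ u, x u) ^ n, Submonoid.pow_mem _ (Submonoid.mem_powers _) n⟩, ⟨i, n, 1, rfl⟩, ?_⟩
    rw [LinearEquiv.coe_coe, e_mk, smul_eq_mul, mul_one]

end Groth.Agent.H58.CE_C4
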