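import Mathlib
import Groth.Agent.H72.CanonLoc
import Groth.Agent.S7692
import Groth.Agent.S7693
import Groth.Agent.S14424
import Groth.Agent.S0342
import Groth.Agent.S11665
import Groth.Agent.H71.StalkLoc
import Groth.Agent.H58.LCBridge
import Groth.Agent.H58.LCMod

/-!
# The canonical module of a Cohen–Macaulay local domain is an ideal
-/

universe u

namespace Groth.Agent.H58.CanonIdeal

open IsLocalRing RingTheory.Sequence

section dimzero

/-- over a zero-dimensional local domain (a field), a canonical module is free of rank one -/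
theorem canon_dim_zero (F : Type u) [CommRing F] [IsDomain F] [IsLocalRing F]
    (hdim : ringKrullDim F = 0)
    (E : Type u) [AddCommGroup E] [Module F E] [Nontrivial E]
    (K : Type u) [AddCommGroup K] [Module F K] [Module.Finite F K]
    (eK : (K →ₗ[F] E) ≃ₗ[F] LocCoh.H (maximalIdeal F) 0 F) : Nonempty (K ≃ₗ[F] F) := by
  have hF : IsField F := by
    haveI : Ring.KrullDimLE 0 F := by
      rw [Ring.krullDimLE_iff]
      exact hdim.le
    exact Ring.KrullDimLE.isField_of_isDomain
  have hm : maximalIdeal F = ⊥ := IsLocalRing.isField_iff_maximalIdeal_eq.1 hF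
  letI := hF.toField
  have htop : DRing.torsionSub (maximalIdeal F) F = ⊤ := by
    rw [eq_top_iff]
    intro x _
    refine ⟨1, fun a ha => ?_⟩
    rw [pow_one, hm] at ha
    rw [(Submodule.mem_bot F).1 ha, zero_smul]
  let e0 : LocCoh.H (maximalIdeal F) 0 F ≃ₗ[F] F :=
    (Groth.Agent.H58.LC.H0equiv (maximalIdeal F) F).trans
      ((LinearEquiv.ofEq _ _ htop).trans Submodule.topEquiv)
  let b := Module.finBasis F K
  let e1 : (Fin (Module.finrank F K) → E) ≃ₗ[F] F := (b.constr F).trans (eK.trans e0)
  have hk : Module.finrank F K = 1 := by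
    by_contra hne
    rcases Nat.lt_or_gt_of_ne hne with hlt | hgt
    · have h0 : Module.finrank F K = 0 := by omega
      haveI : IsEmpty (Fin (Module.finrank F K)) := by rw [h0]; infer_instance
      have hs : Subsingleton F := e1.symm.toEquiv.subsingleton
      exact not_subsingleton F hs
    · obtain ⟨e, he⟩ := exists_ne (0 : E)
      let i0 : Fin (Module.finrank F K) := ⟨0, by omega⟩
      let i1 : Fin (Module.finrank F K) := ⟨1, hgt⟩
      have hi : i0 ≠ i1 := by
        intro h
        have := congrArg Fin.val h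
        simp [i0, i1] at this
      let v0 : Fin (Module.finrank F K) → E := Pi.single i0 e
      let v1 : Fin (Module.finrank F K) → E := Pi.single i1 e
      have hcomb : e1 (e1 v1 • v0 - e1 v0 • v1) = 0 := by
        rw [map_sub, map_smul, map_smul, smul_eq_mul, smul_eq_mul, mul_comm, sub_self]
      have h2 : e1 v1 • v0 = e1 v0 • v1 := by
        have := e1.injective (hcomb.trans (map_zero e1).symm)
        exact sub_eq_zero.1 this
      have h3 := congrFun h2 i0
      simp only [Pi.smul_apply, v0, v1, Pi.single_eq_same, Pi.single_eq_of_ne hi, smul_zero] at h3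
      have h4 : e1 v1 = 0 := (smul_eq_zero.1 h3).resolve_right he
      have h5 : v1 = 0 := e1.injective (h4.trans (map_zero e1).symm)
      have h6 := congrFun h5 i1
      simp only [v1, Pi.single_eq_same, Pi.zero_apply] at h6
      exact he h6
  exact ⟨b.equivFun.trans ((LinearEquiv.funCongrLeft F F (finCongr hk)).symm.trans
    (LinearEquiv.funUnique (Fin 1) F F))⟩

end dimzero

section sop

variable (A : Type u) [CommRing A] [IsNoetherianRing A] [IsLocalRing A]

/-- a regular sequence of length two in the maximal ideal extends to a system of parameters -/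
theorem sop_extension (d : ℕ) (hd : ringKrullDim A = d) (a₁ a₂ : A)
    (hreg : IsWeaklyRegular A [a₁, a₂]) (h₁ : a₁ ∈ maximalIdeal A) (h₂ : a₂ ∈ maximalIdeal A) :
    ∃ (h2 : 2 ≤ d) (a : Fin d → A), a ⟨0, by omega⟩ = a₁ ∧ a ⟨1, by omega⟩ = a₂ ∧
      (∀ i, a i ∈ maximalIdeal A) ∧
      maximalIdeal A ≤ (Ideal.span (Set.range a)).radical := by
  have hmem : ∀ r ∈ [a₁, a₂], r ∈ maximalIdeal A := by
    intro r hr
    simp only [List.mem_cons, List.not_mem_nil, or_false] at hr
    rcases hr with rfl | rfl
    · exact h₁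
    · exact h₂
  have hR : IsRegular A [a₁, a₂] :=
    RingTheory.Sequence.IsRegular.of_isWeaklyRegular_of_mem_maximalIdeal A hmem hreg
  have hdim := Module.supportDim_add_length_eq_supportDim_of_isRegular [a₁, a₂] hR
  set J : Ideal A := Ideal.ofList [a₁, a₂] with hJ
  have hJm : J ≤ maximalIdeal A := by
    rw [hJ, Ideal.ofList, Ideal.span_le]
    intro r hr
    exact hmem r hr
  have hJtop : J ≠ ⊤ := fun h => (maximalIdeal.isMaximal A).ne_top (top_le_iff.1 (h ▸ hJm))
  haveI : Nontrivial (A ⧸ J) := Ideal.Quotient.nontrivial_iff.2 hJtop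
  haveI : IsLocalRing (A ⧸ J) :=
    IsLocalRing.of_surjective' (Ideal.Quotient.mk J) Ideal.Quotient.mk_surjective
  have hsm : J • (⊤ : Submodule A A) = J := by
    rw [Ideal.smul_eq_mul, Ideal.mul_top]
  have hdim' : ringKrullDim (A ⧸ J) + 2 = ringKrullDim A := by
    rw [← Module.supportDim_self_eq_ringKrullDim (R := A), ← hdim,
      ← Module.supportDim_quotient_eq_ringKrullDim]
    congr 1
    exact (Module.supportDim_eq_of_equiv (Submodule.quotEquivOfEq _ _ hsm)).symm
  -- the dimension of the quotient is a natural number `e` with `e + 2 = d`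
  obtain ⟨s, hs, hcard⟩ :=
    Ideal.exists_finset_card_eq_height_of_isNoetherianRing (maximalIdeal (A ⧸ J))
  have hht : ((maximalIdeal (A ⧸ J)).height : WithBot ℕ∞) = ringKrullDim (A ⧸ J) :=
    IsLocalRing.maximalIdeal_height_eq_ringKrullDim
  have he : ((s.card : ℕ∞) : WithBot ℕ∞) + 2 = (d : WithBot ℕ∞) := by
    rw [hcard, hht, hdim', hd]
  have hed : s.card + 2 = d := by
    have h1 : ((s.card : ℕ∞) : WithBot ℕ∞) = ((s.card : ℕ) : WithBot ℕ∞) := rfl
    rw [h1] at he
    exact_mod_cast he
  subst hed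
  refine ⟨by omega, ?_⟩
  let g : Fin s.card → A := fun i => Function.surjInv Ideal.Quotient.mk_surjective
    ((s.equivFin.symm i : s) : A ⧸ J)
  have hg : ∀ i, Ideal.Quotient.mk J (g i) = ((s.equivFin.symm i : s) : A ⧸ J) := fun i =>
    Function.surjInv_eq Ideal.Quotient.mk_surjective _
  refine ⟨Fin.cons a₁ (Fin.cons a₂ g), rfl, rfl, ?_, ?_⟩
  · intro i
    refine Fin.cases ?_ (fun i => ?_) i
    · exact h₁
    · refine Fin.cases ?_ (fun i => ?_) i
      · exact h₂
      · simp only [Fin.cons_succ]
        by_contra hni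
        have hu : IsUnit (g i) := by
          by_contra hnu
          exact hni ((IsLocalRing.mem_maximalIdeal _).2 hnu)
        have hu' : IsUnit (Ideal.Quotient.mk J (g i)) := hu.map _
        rw [hg] at hu'
        have hin : ((s.equivFin.symm i : s) : A ⧸ J) ∈ maximalIdeal (A ⧸ J) :=
          hs.1.2 (Ideal.subset_span (s.equivFin.symm i).2)
        exact (IsLocalRing.mem_maximalIdeal _).1 hin hu'
  · rw [Ideal.radical_eq_sInf]
    refine le_sInf ?_
    rintro Q ⟨hQ, hQp⟩
    haveI := hQp
    have ha1 : a₁ ∈ Q := hQ (Ideal.subset_span ⟨0, rfl⟩)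
    have ha2 : a₂ ∈ Q := hQ (Ideal.subset_span ⟨1, rfl⟩)
    have hJQ : J ≤ Q := by
      rw [hJ, Ideal.ofList, Ideal.span_le]
      intro r hr
      simp only [List.mem_cons, List.not_mem_nil, or_false, Set.mem_setOf_eq] at hr
      rcases hr with rfl | rfl
      · exact ha1
      · exact ha2
    have hQ' : (Q.map (Ideal.Quotient.mk J)).IsPrime :=
      Ideal.map_isPrime_of_surjective Ideal.Quotient.mk_surjective (by rw [Ideal.mk_ker]; exact hJQ)
    have hsQ : Ideal.span (s : Set (A ⧸ J)) ≤ Q.map (Ideal.Quotient.mk J) := by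
      rw [Ideal.span_le]
      intro y hy
      have hy' : y ∈ s := hy
      obtain ⟨i, hi⟩ : ∃ i, (s.equivFin.symm i : s) = ⟨y, hy'⟩ :=
        ⟨s.equivFin ⟨y, hy'⟩, by simp⟩
      have : y = Ideal.Quotient.mk J (g i) := by rw [hg, hi]
      rw [this]
      refine Ideal.mem_map_of_mem _ (hQ (Ideal.subset_span ⟨i.succ.succ, ?_⟩))
      simp [Fin.cons_succ]
    have hle : maximalIdeal (A ⧸ J) ≤ Q.map (Ideal.Quotient.mk J) :=
      hs.2 ⟨hQ', hsQ⟩ (IsLocalRing.le_maximalIdeal hQ'.ne_top)
    intro y hy
    haveI : IsLocalHom (Ideal.Quotient.mk J) :=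
      IsLocalHom.of_surjective _ Ideal.Quotient.mk_surjective
    have hy' : Ideal.Quotient.mk J y ∈ maximalIdeal (A ⧸ J) := by
      rw [IsLocalRing.mem_maximalIdeal] at hy ⊢
      intro hu
      exact hy ((isUnit_map_iff (Ideal.Quotient.mk J) y).1 hu)
    have hy'' := hle hy'
    rw [Ideal.mem_map_iff_of_surjective _ Ideal.Quotient.mk_surjective] at hy''
    obtain ⟨z, hz, hzy⟩ := hy''
    have : y - z ∈ J := by
      rw [← Ideal.Quotient.eq, hzy]
    have : y = (y - z) + z := by ring
    rw [this]
    exact Q.add_mem (hJQ ‹y - z ∈ J›) hz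

end sop

section pair

/-- in a Cohen–Macaulay local ring, a prime of height at least two contains a regular sequence of
length two -/
theorem exists_regular_pair (A : Type u) [CommRing A] [hA : LocCoh.IsCohenMacaulayLocalRing A]
    (q : Ideal A) [hq' : q.IsPrime] (hq : 2 ≤ q.height) :
    ∃ a₁ ∈ q, ∃ a₂ ∈ q, IsWeaklyRegular A [a₁, a₂] := by
  have hCM : LocCoh.IsCohenMacaulayRing A :=
    { __ := (inferInstance : IsNoetherianRing A)
      isCohenMacaulayLocalRing_localization := fun p _ =>
        Groth.Agent.H71.StalkLoc.isCM_localization hA p }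
  have hdep := (Groth.Agent.S14424.result A).1 hCM q hq'.ne_top
  unfold LocCoh.idealDepth at hdep
  have hne : q • (⊤ : Submodule A A) ≠ ⊤ := by
    rw [Ideal.smul_eq_mul, Ideal.mul_top]
    exact hq'.ne_top
  rw [if_neg hne] at hdep
  have h1 : (1 : ℕ∞) < ⨆ (rs : List A) (_ : IsWeaklyRegular A rs ∧ ∀ r ∈ rs, r ∈ q),
      (rs.length : ℕ∞) := by
    rw [hdep]
    exact lt_of_lt_of_le (by norm_num) hq
  obtain ⟨rs, hrs⟩ := lt_iSup_iff.1 h1
  obtain ⟨⟨hw, hmem⟩, hlen⟩ := lt_iSup_iff.1 hrs
  have hl : 1 < rs.length := by exact_mod_cast hlen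
  match rs, hw, hmem, hl with
  | a₁ :: a₂ :: rest, hw, hmem, _ =>
    refine ⟨a₁, hmem a₁ (by simp), a₂, hmem a₂ (by simp), ?_⟩
    rw [isWeaklyRegular_cons_iff] at hw ⊢
    refine ⟨hw.1, ?_⟩
    have hw2 := hw.2
    rw [isWeaklyRegular_cons_iff] at hw2 ⊢
    exact ⟨hw2.1, IsWeaklyRegular.nil _ _⟩

end pair

section main

variable (R' A : Type u) [CommRing R'] [LocCoh.IsGorensteinLocalRing R'] [CommRing A] [IsDomain A]
  [hA : LocCoh.IsCohenMacaulayLocalRing A] [Algebra R' A]

set_option maxHeartbeats 800000 in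
/-- the canonical module of a Cohen–Macaulay local domain (a homomorphic image of a Gorenstein local
ring) is isomorphic to an ideal `I`, and `A/I` has only associated primes of height one -/
theorem canon_iso_ideal (hπ : Function.Surjective (algebraMap R' A)) (d : ℕ)
    (hd : ringKrullDim A = d) (E : Type u) [AddCommGroup E] [Module A E]
    (f : ResidueField A →ₗ[A] E) (hf : InjHull.IsInjectiveHull f)
    (K : Type u) [AddCommGroup K] [Module A K] [Module.Finite A K]
    (eK : (K →ₗ[A] E) ≃ₗ[A] LocCoh.H (maximalIdeal A) d A) :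
    ∃ I : Ideal A, Nonempty (K ≃ₗ[A] I) ∧
      ∀ q ∈ associatedPrimes A (A ⧸ I), q.height = 1 := by
  classical
  haveI : Nontrivial E := hf.injective.nontrivial
  rcases Nat.eq_zero_or_pos d with hd0 | hd0
  · subst hd0
    obtain ⟨e⟩ := canon_dim_zero A (by exact_mod_cast hd) E K eK
    refine ⟨⊤, ⟨e.trans Submodule.topEquiv.symm⟩, ?_⟩
    intro q hq
    haveI : Subsingleton (A ⧸ (⊤ : Ideal A)) := Ideal.Quotient.subsingleton_iff.2 rfl
    rw [associatedPrimes.eq_empty_of_subsingleton] at hq
    exact absurd hq (Set.notMem_empty _)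
  · have hbot : ringKrullDim (A ⧸ (⊥ : Ideal A)) = d := by
      rw [← hd]
      exact ringKrullDim_eq_of_ringEquiv (RingEquiv.quotientBot A)
    have hAss : associatedPrimes A K = {⊥} := by
      rw [Groth.Agent.S7692.result A d hd E f hf K eK hd0]
      ext p
      simp only [Set.mem_setOf_eq, Set.mem_singleton_iff]
      constructor
      · rintro ⟨hp, hpd⟩
        by_contra hne
        haveI := hp
        have h1 := Groth.Agent.H2.CanonMod.dim_quot_succ_le (R := A) (p := ⊥) (q := p) bot_le
          (Ne.symm hne)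
        rw [hpd, hbot] at h1
        have : (d + 1 : ℕ) ≤ d := by exact_mod_cast h1
        omega
      · rintro rfl
        exact ⟨Ideal.bot_prime, hbot⟩
    have hreg : ∀ a : A, a ≠ 0 → IsSMulRegular K a := by
      intro a ha
      by_contra hnr
      have h1 : a ∈ ⋃ p ∈ associatedPrimes A K, (p : Set A) := by
        rw [biUnion_associatedPrimes_eq_compl_regular]
        exact hnr
      rw [hAss] at h1
      simp only [Set.mem_singleton_iff, Set.iUnion_iUnion_eq_left, SetLike.mem_coe,
        Ideal.mem_bot] at h1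
      exact ha h1
    haveI hKnt : Nontrivial K := by
      by_contra hcon
      rw [not_nontrivial_iff_subsingleton] at hcon
      have := associatedPrimes.eq_empty_of_subsingleton (R := A) (M := K)
      rw [hAss] at this
      exact Set.singleton_ne_empty _ this
    -- localization at the zero ideal
    have hSle : (⊥ : Ideal A).primeCompl ≤ nonZeroDivisors A := by
      intro x hx
      exact mem_nonZeroDivisors_of_ne_zero (fun h => hx (by rw [h]; exact Submodule.zero_mem _))
    haveI : IsDomain (Localization.AtPrime (⊥ : Ideal A)) :=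
      IsLocalization.isDomain_localization hSle
    have hFdim : ringKrullDim (Localization.AtPrime (⊥ : Ideal A)) = 0 := by
      rw [IsLocalization.AtPrime.ringKrullDim_eq_height (⊥ : Ideal A)
        (Localization.AtPrime (⊥ : Ideal A)), Ideal.height_bot]
      rfl
    have hFfield : IsField (Localization.AtPrime (⊥ : Ideal A)) := by
      haveI : Ring.KrullDimLE 0 (Localization.AtPrime (⊥ : Ideal A)) := by
        rw [Ring.krullDimLE_iff]
        exact hFdim.le
      exact Ring.KrullDimLE.isField_of_isDomain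
    haveI : IsPrincipalIdealRing (Localization.AtPrime (⊥ : Ideal A)) :=
      hFfield.isPrincipalIdealRing
    haveI : IsRegularLocalRing (Localization.AtPrime (⊥ : Ideal A)) := inferInstance
    haveI : LocCoh.IsGorensteinLocalRing (Localization.AtPrime (⊥ : Ideal A)) :=
      Groth.Agent.S0342.result _
    obtain ⟨g, hg⟩ := Groth.Agent.S11665.result (Localization.AtPrime (⊥ : Ideal A)) 0
      (by exact_mod_cast hFdim)
    have hmkinj : Function.Injective
        (LocalizedModule.mkLinearMap (⊥ : Ideal A).primeCompl K) := by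
      intro x y hxy
      obtain ⟨c, hc⟩ := (IsLocalizedModule.eq_iff_exists (⊥ : Ideal A).primeCompl
        (LocalizedModule.mkLinearMap (⊥ : Ideal A).primeCompl K)).1 hxy
      exact hreg c.1 (fun h0 => c.2 (by rw [h0]; exact Submodule.zero_mem _)) hc
    have hK0 : Nontrivial (LocalizedModule (⊥ : Ideal A).primeCompl K) := hmkinj.nontrivial
    obtain ⟨eloc⟩ := Groth.Agent.H72.CanonLoc.canon_localization R' A hπ d hd E f hf K eK ⊥ hK0 0
      (by exact_mod_cast hFdim) _ g hg
    haveI : Nontrivial (LocCoh.H (maximalIdeal (Localization.AtPrime (⊥ : Ideal A))) 0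
        (Localization.AtPrime (⊥ : Ideal A))) := hg.injective.nontrivial
    obtain ⟨eF⟩ := canon_dim_zero (Localization.AtPrime (⊥ : Ideal A)) hFdim
      (LocCoh.H (maximalIdeal (Localization.AtPrime (⊥ : Ideal A))) 0
        (Localization.AtPrime (⊥ : Ideal A))) (LocalizedModule (⊥ : Ideal A).primeCompl K) eloc
    -- the embedding into the fraction field
    let j : K →ₗ[A] Localization.AtPrime (⊥ : Ideal A) :=
      (eF.restrictScalars A).toLinearMap ∘ₗ LocalizedModule.mkLinearMap (⊥ : Ideal A).primeCompl K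
    have hjinj : Function.Injective j := fun x y hxy => hmkinj (eF.injective hxy)
    obtain ⟨T, hT⟩ := (Module.Finite.fg_top : (⊤ : Submodule A K).FG)
    obtain ⟨b, hb⟩ := IsLocalization.exist_integer_multiples_of_finset
      (⊥ : Ideal A).primeCompl (T.image j)
    have hbj : ∀ x : K, ((b : A) • j) x ∈
        LinearMap.range (Algebra.linearMap A (Localization.AtPrime (⊥ : Ideal A))) := by
      intro x
      have hx : x ∈ Submodule.span A (T : Set K) := by rw [hT]; trivial
      induction hx using Submodule.span_induction with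
      | mem x hx =>
        obtain ⟨r, hr⟩ := hb (j x) (Finset.mem_image_of_mem j hx)
        exact ⟨r, hr⟩
      | zero => rw [map_zero]; exact Submodule.zero_mem _
      | add x y _ _ hx hy => rw [map_add]; exact Submodule.add_mem _ hx hy
      | smul a x _ hx => rw [map_smul]; exact Submodule.smul_mem _ a hx
    have hinjF : Function.Injective
        (Algebra.linearMap A (Localization.AtPrime (⊥ : Ideal A))) :=
      IsLocalization.injective (Localization.AtPrime (⊥ : Ideal A)) hSle
    let ι := LinearEquiv.ofInjective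
      (Algebra.linearMap A (Localization.AtPrime (⊥ : Ideal A))) hinjF
    let ψ0 : K →ₗ[A] LinearMap.range
        (Algebra.linearMap A (Localization.AtPrime (⊥ : Ideal A))) :=
      ((b : A) • j).codRestrict _ hbj
    let ψ : K →ₗ[A] A := ι.symm.toLinearMap ∘ₗ ψ0
    have hψ : Function.Injective ψ := by
      intro x y hxy
      have h1 : ψ0 x = ψ0 y := ι.symm.injective hxy
      have h2 : (b : A) • j x = (b : A) • j y := congrArg Subtype.val h1
      have hb0 : algebraMap A (Localization.AtPrime (⊥ : Ideal A)) (b : A) ≠ 0 :=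
        (IsLocalization.map_units (Localization.AtPrime (⊥ : Ideal A)) b).ne_zero
      rw [Algebra.smul_def, Algebra.smul_def] at h2
      exact hjinj (mul_left_cancel₀ hb0 h2)
    let I : Ideal A := LinearMap.range ψ
    let eI : K ≃ₗ[A] I := LinearEquiv.ofInjective ψ hψ
    refine ⟨I, ⟨eI⟩, ?_⟩
    intro q hq
    obtain ⟨hqp, xbar, hx⟩ := isAssociatedPrime_iff.1 hq
    haveI := hqp
    obtain ⟨x, rfl⟩ := Ideal.Quotient.mk_surjective xbar
    have hqmem : ∀ y : A, y ∈ q ↔ y * x ∈ I := by
      intro y
      rw [hx, Submodule.mem_colon_singleton, Submodule.mem_bot, ← Ideal.Quotient.eq_zero_iff_mem]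
      rfl
    have hxI : x ∉ I := by
      intro h
      have : (1 : A) ∈ q := (hqmem 1).2 (by rwa [one_mul])
      exact hqp.ne_top ((Ideal.eq_top_iff_one q).2 this)
    have hIq : I ≤ q := fun i hi => (hqmem i).2 (I.mul_mem_right x hi)
    have hIne : I ≠ ⊥ := by
      intro h
      obtain ⟨k1, hk1⟩ := exists_ne (0 : K)
      have h1 : ((eI k1 : I) : A) ∈ (⊥ : Ideal A) := h ▸ (eI k1).2
      have h2 : eI k1 = 0 := Subtype.ext ((Submodule.mem_bot A).1 h1)
      exact hk1 (eI.injective (h2.trans (map_zero eI).symm))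
    have hq0 : q ≠ ⊥ := fun h => hIne (le_bot_iff.1 (h ▸ hIq))
    have h1 : 1 ≤ q.height := by
      rw [Order.one_le_iff_ne_zero]
      intro h0
      exact hq0 (Ideal.height_eq_zero_iff_eq_bot.1 h0)
    by_contra hne
    have h2 : 2 ≤ q.height := by
      have : (1 : ℕ∞) < q.height := lt_of_le_of_ne h1 (Ne.symm hne)
      have := Order.add_one_le_of_lt this
      rwa [one_add_one_eq_two] at this
    obtain ⟨a₁, ha₁, a₂, ha₂, hw⟩ := exists_regular_pair A q h2
    have hqm : q ≤ maximalIdeal A := IsLocalRing.le_maximalIdeal hqp.ne_top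
    obtain ⟨hd2, a, ha0, ha1, ham, hsop⟩ :=
      sop_extension A d hd a₁ a₂ hw (hqm ha₁) (hqm ha₂)
    have hKreg := (Groth.Agent.S7693.result A d hd E f hf K eK hd0 a ham hsop).2 hd2
    rw [ha0, ha1] at hKreg
    have hIreg : IsWeaklyRegular I [a₁, a₂] :=
      (LinearEquiv.isWeaklyRegular_congr eI [a₁, a₂]).1 hKreg.toIsWeaklyRegular
    rw [isWeaklyRegular_cons_iff] at hIreg
    have hI2 := hIreg.2
    rw [isWeaklyRegular_cons_iff] at hI2
    have hI2' : IsSMulRegular (QuotSMulTop a₁ I) a₂ := hI2.1
    have hu : a₁ * x ∈ I := (hqmem a₁).1 ha₁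
    have hv : a₂ * x ∈ I := (hqmem a₂).1 ha₂
    have huv : a₂ • (⟨a₁ * x, hu⟩ : I) = a₁ • (⟨a₂ * x, hv⟩ : I) := by
      apply Subtype.ext
      show a₂ * (a₁ * x) = a₁ * (a₂ * x)
      ring
    have hzero : a₂ • (Submodule.Quotient.mk (⟨a₁ * x, hu⟩ : I) : QuotSMulTop a₁ I) =
        a₂ • (0 : QuotSMulTop a₁ I) := by
      rw [smul_zero, ← Submodule.Quotient.mk_smul, huv, Submodule.Quotient.mk_eq_zero]
      exact Submodule.smul_mem_pointwise_smul _ a₁ ⊤ trivial
    have hu0 : (Submodule.Quotient.mk (⟨a₁ * x, hu⟩ : I) : QuotSMulTop a₁ I) = 0 := hI2' hzero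
    rw [Submodule.Quotient.mk_eq_zero, Submodule.mem_smul_pointwise_iff_exists] at hu0
    obtain ⟨w, -, hw'⟩ := hu0
    have hxw : a₁ • x = a₁ • (w : A) := by
      have := congrArg Subtype.val hw'
      exact this.symm
    have hreg1 : IsSMulRegular A a₁ := by
      rw [isWeaklyRegular_cons_iff] at hw
      exact hw.1
    exact hxI ((hreg1 hxw) ▸ w.2)

end main

end Groth.Agent.H58.CanonIdeal
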