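import Mathlib
import Groth.Prelude.Def_Wider
import Groth.Agent.H12.DualDepth
import Groth.Agent.H71.DK.Defs

/-!
# S0364 squad, package (DK3): second-variable long exact sequence of a cone of `a • 𝟙`
-/

set_option autoImplicit false
universe u
open CategoryTheory CategoryTheory.Limits DerivedCategory Pretriangulated

namespace Groth.Agent.H58.DK3

attribute [local instance] HasDerivedCategory.standard

open Groth.Agent.H12.DualDepth DerivedCategory.TStructure Groth.Agent.H71.DK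

variable {A : Type u} [CommRing A]

/-- (DK3a) second variable, vanishing -/
theorem vanO_cone_right {Y Z : Dual.D A} (a : A) (g : Y ⟶ Z) (h : Z ⟶ Y⟦(1 : ℤ)⟧)
    (hT : Triangle.mk (a • 𝟙 Y) g h ∈ distTriang (Dual.D A)) (X : Dual.D A) (i j : ℤ)
    (hij : i + 1 = j) (h1 : VanO X Y i) (h2 : VanO X Y j) : VanO X Z i := by
  intro φ
  have hTi := Triangle.shift_distinguished _ hT i
  have hTi' : Triangle.mk
      (i.negOnePow • (a • 𝟙 Y)⟦i⟧') (i.negOnePow • g⟦i⟧')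
      (i.negOnePow • h⟦i⟧' ≫ (shiftFunctorComm (Dual.D A) 1 i).hom.app Y) ∈
      distTriang (Dual.D A) := hTi
  have h3 : φ ≫ (i.negOnePow • h⟦i⟧' ≫ (shiftFunctorComm (Dual.D A) 1 i).hom.app Y) = 0 := by
    rw [← cancel_mono ((shiftFunctorAdd' (Dual.D A) i 1 j hij).inv.app Y), zero_comp]
    exact h2 _
  obtain ⟨γ, hγ⟩ : ∃ γ : X ⟶ Y⟦i⟧, φ = γ ≫ (i.negOnePow • g⟦i⟧') :=
    Triangle.coyoneda_exact₃ _ hTi' φ h3
  rw [hγ, h1 γ, zero_comp]

/-- (DK3b) second variable, bottom degree: an `a`-torsion element of `Hom(X, Y[j])` gives a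
nonzero element of `Hom(X, Z[i])` -/
theorem not_vanO_cone_right {Y Z : Dual.D A} (a : A) (g : Y ⟶ Z) (h : Z ⟶ Y⟦(1 : ℤ)⟧)
    (hT : Triangle.mk (a • 𝟙 Y) g h ∈ distTriang (Dual.D A)) (X : Dual.D A) (i j : ℤ)
    (hij : i + 1 = j) (ψ : X ⟶ Y⟦j⟧) (hψ : ψ ≠ 0) (haψ : a • ψ = 0) : ¬ VanO X Z i := by
  intro hv
  apply hψ
  have hTi := Triangle.shift_distinguished _ hT i
  have hTi' : Triangle.mk
      (i.negOnePow • (a • 𝟙 Y)⟦i⟧') (i.negOnePow • g⟦i⟧')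
      (i.negOnePow • h⟦i⟧' ≫ (shiftFunctorComm (Dual.D A) 1 i).hom.app Y) ∈
      distTriang (Dual.D A) := hTi
  have haψ' : a • (ψ ≫ (shiftFunctorAdd' (Dual.D A) i 1 j hij).hom.app Y) = 0 := by
    rw [← Linear.smul_comp, haψ, zero_comp]
  have h1 : (ψ ≫ (shiftFunctorAdd' (Dual.D A) i 1 j hij).hom.app Y) ≫
      (i.negOnePow • (a • 𝟙 Y)⟦i⟧')⟦(1 : ℤ)⟧' = 0 := by
    rw [Functor.map_units_smul, Functor.map_smul, Functor.map_smul, CategoryTheory.Functor.map_id,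
      CategoryTheory.Functor.map_id, Linear.comp_units_smul, Linear.comp_smul]
    erw [Category.comp_id]
    rw [haψ', smul_zero]
  obtain ⟨γ, hγ⟩ : ∃ γ : X ⟶ Z⟦i⟧, ψ ≫ (shiftFunctorAdd' (Dual.D A) i 1 j hij).hom.app Y =
      γ ≫ (i.negOnePow • h⟦i⟧' ≫ (shiftFunctorComm (Dual.D A) 1 i).hom.app Y) :=
    Triangle.coyoneda_exact₁ _ hTi'
      (ψ ≫ (shiftFunctorAdd' (Dual.D A) i 1 j hij).hom.app Y) h1
  rw [hv γ, zero_comp] at hγ
  rw [← cancel_mono ((shiftFunctorAdd' (Dual.D A) i 1 j hij).hom.app Y), hγ, zero_comp]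

end Groth.Agent.H58.DK3
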