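import Groth.Prelude.Def_W4bk5brsh16IT
import Mathlib.Algebra.Category.ModuleCat.FilteredColimits
import Mathlib.CategoryTheory.Limits.ConcreteCategory.Basic
import Mathlib.CategoryTheory.Limits.FunctorCategory.Basic

/-!
Concrete description of the ideal transform `LocCoh.DT I M = colim_n Hom(I^n, M)`.
-/

set_option autoImplicit false
universe u
open CategoryTheory CategoryTheory.Limits Opposite

namespace Groth.Agent.H58

variable {R : Type u} [CommRing R] (I : Ideal R) (M : Type u) [AddCommGroup M] [Module R M]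

/-- the diagram `n ↦ Hom(I^n, M)` -/
noncomputable abbrev evDiag : ℕᵒᵖᵒᵖ ⥤ ModuleCat.{u} R :=
  LocCoh.transformDiagram I ⋙ (evaluation _ _).obj (ModuleCat.of R M)

theorem forget_pres : PreservesColimit (evDiag I M) (forget (ModuleCat.{u} R)) := by
  have := preservesSmallestFilteredColimits_of_preservesFilteredColimits
    (forget (ModuleCat.{u} R))
  infer_instance

/-- The comparison iso `D_I(M) ≅ colim_n Hom(I^n, M)`. -/
noncomputable def evIso :
    (LocCoh.idealTransform I).obj (ModuleCat.of R M) ≅ colimit (evDiag I M) :=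
  colimitObjIsoColimitCompEvaluation (LocCoh.transformDiagram I) (ModuleCat.of R M)

/-- The class in `D_I(M)` of a linear map `I^n → M`, as a linear map. -/
noncomputable def mkₗ (n : ℕ) : (↥(I ^ n) →ₗ[R] M) →ₗ[R] LocCoh.DT I M :=
  ((colimit.ι (LocCoh.transformDiagram I) (op (op n))).app (ModuleCat.of R M)).hom ∘ₗ
    (ModuleCat.homLinearEquiv (S := R) (M := ModuleCat.of R ↥(I ^ n))
      (N := ModuleCat.of R M)).symm.toLinearMap

/-- The class in `D_I(M)` of a linear map `I^n → M`. -/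
noncomputable def mk (n : ℕ) (f : ↥(I ^ n) →ₗ[R] M) : LocCoh.DT I M :=
  mkₗ I M n f

theorem mk_def (n : ℕ) (f : ↥(I ^ n) →ₗ[R] M) :
    mk I M n f = ((colimit.ι (LocCoh.transformDiagram I) (op (op n))).app
      (ModuleCat.of R M)).hom (ModuleCat.ofHom f) := rfl

theorem evIso_hom_mk (n : ℕ) (f : ↥(I ^ n) →ₗ[R] M) :
    (evIso I M).hom.hom (mk I M n f) =
      (colimit.ι (evDiag I M) (op (op n))).hom (ModuleCat.ofHom f) := by
  rw [mk_def]
  have := colimitObjIsoColimitCompEvaluation_ι_app_hom (LocCoh.transformDiagram I)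
    (op (op n)) (ModuleCat.of R M)
  exact congrArg (fun φ => φ.hom (ModuleCat.ofHom f)) this

theorem exists_rep (x : LocCoh.DT I M) : ∃ (n : ℕ) (f : ↥(I ^ n) →ₗ[R] M), mk I M n f = x := by
  have := forget_pres I M
  obtain ⟨j, y, hy⟩ := Concrete.colimit_exists_rep (evDiag I M) ((evIso I M).hom.hom x)
  refine ⟨j.unop.unop, y.hom, ?_⟩
  have hinj : Function.Injective (evIso I M).hom.hom :=
    (ConcreteCategory.bijective_of_isIso (evIso I M).hom).1
  apply hinj
  rw [evIso_hom_mk]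
  exact hy

/-- restriction of a map `I^n → M` to `I^k`, `n ≤ k`. -/
def res {n k : ℕ} (h : n ≤ k) (f : ↥(I ^ n) →ₗ[R] M) : ↥(I ^ k) →ₗ[R] M :=
  f ∘ₗ Submodule.inclusion (Ideal.pow_le_pow_right h)

@[simp] theorem res_apply {n k : ℕ} (h : n ≤ k) (f : ↥(I ^ n) →ₗ[R] M) (x : ↥(I ^ k)) :
    res I M h f x = f ⟨x.1, Ideal.pow_le_pow_right h x.2⟩ := rfl

/-- the morphism `op (op n) ⟶ op (op k)` of the index category for `n ≤ k`. -/
def idxHom {n k : ℕ} (h : n ≤ k) : (op (op n) : ℕᵒᵖᵒᵖ) ⟶ op (op k) :=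
  (homOfLE h).op.op

theorem evDiag_map_idxHom {n k : ℕ} (h : n ≤ k) (f : ↥(I ^ n) →ₗ[R] M) :
    ((evDiag I M).map (idxHom h)).hom (ModuleCat.ofHom f) = ModuleCat.ofHom (res I M h f) := rfl

theorem mk_res {n k : ℕ} (h : n ≤ k) (f : ↥(I ^ n) →ₗ[R] M) :
    mk I M k (res I M h f) = mk I M n f := by
  have hinj : Function.Injective (evIso I M).hom.hom :=
    (ConcreteCategory.bijective_of_isIso (evIso I M).hom).1
  apply hinj
  rw [evIso_hom_mk, evIso_hom_mk]
  have := colimit.w (evDiag I M) (idxHom h)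
  exact congrArg (fun φ => φ.hom (ModuleCat.ofHom f)) this

theorem mk_eq_mk_iff {n m : ℕ} (f : ↥(I ^ n) →ₗ[R] M) (g : ↥(I ^ m) →ₗ[R] M) :
    mk I M n f = mk I M m g ↔
      ∃ (k : ℕ) (hn : n ≤ k) (hm : m ≤ k), res I M hn f = res I M hm g := by
  constructor
  · intro h
    have := forget_pres I M
    have h2 : (colimit.ι (evDiag I M) (op (op n))).hom (ModuleCat.ofHom f) =
        (colimit.ι (evDiag I M) (op (op m))).hom (ModuleCat.ofHom g) := by
      rw [← evIso_hom_mk, ← evIso_hom_mk, h]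
    obtain ⟨k, a, b, hab⟩ := Concrete.colimit_exists_of_rep_eq (evDiag I M) _ _ h2
    have hn : n ≤ k.unop.unop := leOfHom a.unop.unop
    have hm : m ≤ k.unop.unop := leOfHom b.unop.unop
    refine ⟨k.unop.unop, hn, hm, ?_⟩
    have ha : a = idxHom hn := Subsingleton.elim _ _
    have hb : b = idxHom hm := Subsingleton.elim _ _
    rw [ha, hb] at hab
    have h3 : ModuleCat.ofHom (res I M hn f) = ModuleCat.ofHom (res I M hm g) := hab
    exact ModuleCat.hom_ext_iff.mp h3 |> fun h4 => by simpa using h4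
  · rintro ⟨k, hn, hm, h⟩
    rw [← mk_res I M hn f, ← mk_res I M hm g, h]

theorem mk_add (n : ℕ) (f g : ↥(I ^ n) →ₗ[R] M) : mk I M n (f + g) = mk I M n f + mk I M n g :=
  map_add (mkₗ I M n) f g

theorem mk_smul (n : ℕ) (r : R) (f : ↥(I ^ n) →ₗ[R] M) : mk I M n (r • f) = r • mk I M n f :=
  map_smul (mkₗ I M n) r f

theorem mk_zero (n : ℕ) : mk I M n 0 = 0 := map_zero (mkₗ I M n)

theorem mk_sub (n : ℕ) (f g : ↥(I ^ n) →ₗ[R] M) : mk I M n (f - g) = mk I M n f - mk I M n g :=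
  map_sub (mkₗ I M n) f g

theorem mk_neg (n : ℕ) (f : ↥(I ^ n) →ₗ[R] M) : mk I M n (-f) = -mk I M n f :=
  map_neg (mkₗ I M n) f

theorem res_zero {n k : ℕ} (h : n ≤ k) : res I M h (0 : ↥(I ^ n) →ₗ[R] M) = 0 := rfl

theorem mk_eq_zero_iff {n : ℕ} (f : ↥(I ^ n) →ₗ[R] M) :
    mk I M n f = 0 ↔ ∃ (k : ℕ) (hn : n ≤ k), res I M hn f = 0 := by
  rw [← mk_zero I M n, mk_eq_mk_iff]
  constructor
  · rintro ⟨k, hn, hm, h⟩
    exact ⟨k, hn, by rw [h, res_zero]⟩
  · rintro ⟨k, hn, h⟩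
    exact ⟨k, hn, hn, by rw [h, res_zero]⟩

/-- the map `I^n → M`, `r ↦ r • m`. -/
def smulMap (n : ℕ) (m : M) : ↥(I ^ n) →ₗ[R] M :=
  ((LinearMap.lsmul R M).domRestrict (I ^ n)).flip m

@[simp] theorem smulMap_apply (n : ℕ) (m : M) (r : ↥(I ^ n)) : smulMap I M n m r = (r : R) • m := rfl

theorem toDT_eq_mk_zero (m : M) : LocCoh.toDT I M m = mk I M 0 (smulMap I M 0 m) := rfl

theorem toDT_eq_mk (n : ℕ) (m : M) : LocCoh.toDT I M m = mk I M n (smulMap I M n m) := by
  rw [toDT_eq_mk_zero, ← mk_res I M (Nat.zero_le n)]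
  rfl

variable {M} in
theorem map_mk {N : Type u} [AddCommGroup N] [Module R N] (e : M →ₗ[R] N) (n : ℕ)
    (f : ↥(I ^ n) →ₗ[R] M) :
    ((LocCoh.idealTransform I).map (ModuleCat.ofHom e)).hom (mk I M n f) = mk I N n (e ∘ₗ f) := by
  rw [mk_def, mk_def]
  have := (colimit.ι (LocCoh.transformDiagram I) (op (op n))).naturality (ModuleCat.ofHom e)
  exact (congrArg (fun φ => φ.hom (ModuleCat.ofHom f)) this).symm

end Groth.Agent.H58
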