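import Groth.Agent.H58.DT
import Mathlib.RingTheory.Filtration
import Mathlib.RingTheory.Finiteness.Cardinality
import Mathlib.Algebra.Module.Projective

/-!
Lifting lemmas for the ideal transform over a Noetherian ring.
-/

set_option autoImplicit false
universe u
open CategoryTheory CategoryTheory.Limits Opposite

namespace Groth.Agent.H58

variable {R : Type u} [CommRing R] (I : Ideal R)

/-- A finitely generated submodule of power-torsion elements is killed by one power. -/
theorem exists_pow_smul_eq_zero_of_fg {P : Type*} [AddCommGroup P] [Module R P]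
    (N : Submodule R P) (hN : N.FG)
    (h : ∀ x ∈ N, ∃ n : ℕ, ∀ a ∈ I ^ n, a • x = 0) :
    ∃ t : ℕ, ∀ a ∈ I ^ t, ∀ x ∈ N, a • x = 0 := by
  classical
  obtain ⟨s, rfl⟩ := hN
  have h' : ∀ x : P, ∃ n : ℕ, x ∈ s → ∀ a ∈ I ^ n, a • x = 0 := by
    intro x
    by_cases hx : x ∈ s
    · obtain ⟨n, hn⟩ := h x (Submodule.subset_span hx)
      exact ⟨n, fun _ => hn⟩
    · exact ⟨0, fun hx' => absurd hx' hx⟩
  choose n hn using h'
  refine ⟨s.sup n, fun a ha x hx => ?_⟩
  induction hx using Submodule.span_induction with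
  | mem x hx =>
    exact hn x hx a (Ideal.pow_le_pow_right (Finset.le_sup hx) ha)
  | zero => exact smul_zero a
  | add x y _ _ hx hy => rw [smul_add, hx, hy, add_zero]
  | smul r x _ hx => rw [smul_comm, hx, smul_zero]

variable (M : Type u) [AddCommGroup M] [Module R M]

/-- If `I^t` kills the image of `f : I^n → M` then `f` vanishes on `I^(n+t)`. -/
theorem res_eq_zero_of_smul {n t : ℕ} (f : ↥(I ^ n) →ₗ[R] M)
    (h : ∀ a ∈ I ^ t, ∀ x : ↥(I ^ n), a • f x = 0) :
    res I M (Nat.le_add_right n t) f = 0 := by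
  refine LinearMap.ext fun y => ?_
  obtain ⟨y, hy⟩ := y
  have hy' : y ∈ I ^ t * I ^ n := by rwa [← pow_add, add_comm]
  have key : y ∈ I ^ n ∧ ∀ hy'' : y ∈ I ^ n, f ⟨y, hy''⟩ = 0 := by
    refine Submodule.mul_induction_on hy' ?_ ?_
    · intro a ha b hb
      refine ⟨Ideal.mul_mem_left _ _ hb, fun hab => ?_⟩
      have : (⟨a * b, hab⟩ : ↥(I ^ n)) = a • ⟨b, hb⟩ := rfl
      rw [this, map_smul]
      exact h a ha _
    · rintro x z ⟨hx, hx'⟩ ⟨hz, hz'⟩
      refine ⟨add_mem hx hz, fun hxz => ?_⟩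
      have : (⟨x + z, hxz⟩ : ↥(I ^ n)) = ⟨x, hx⟩ + ⟨z, hz⟩ := rfl
      rw [this, map_add, hx' hx, hz' hz, add_zero]
  simpa using key.2 key.1

/-- General factorisation: a map vanishing on the kernel of a surjection factors through it. -/
theorem exists_factor_of_surjective {N Y P : Type*} [AddCommGroup N] [Module R N]
    [AddCommGroup Y] [Module R Y] [AddCommGroup P] [Module R P]
    (π : N →ₗ[R] Y) (hπ : Function.Surjective π) (φ : N →ₗ[R] P)
    (h : LinearMap.ker π ≤ LinearMap.ker φ) : ∃ f : Y →ₗ[R] P, f ∘ₗ π = φ := by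
  refine ⟨(LinearMap.ker π).liftQ φ h ∘ₗ (π.quotKerEquivOfSurjective hπ).symm.toLinearMap, ?_⟩
  refine LinearMap.ext fun x => ?_
  simp [LinearMap.quotKerEquivOfSurjective_symm_apply]

/-- Lifting lemma: a map `I^k → M''` lifts along a surjection with power-torsion kernel,
after restriction to a higher power. -/
theorem exists_lift [IsNoetherianRing R] {M'' : Type u} [AddCommGroup M''] [Module R M'']
    (p : M →ₗ[R] M'') (hp : Function.Surjective p)
    (hK : ∀ m ∈ LinearMap.ker p, ∃ n : ℕ, ∀ a ∈ I ^ n, a • m = 0)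
    {k : ℕ} (g : ↥(I ^ k) →ₗ[R] M'') :
    ∃ (s : ℕ) (hs : k ≤ s) (f : ↥(I ^ s) →ₗ[R] M), p ∘ₗ f = res I M'' hs g := by
  obtain ⟨r, π, hπ⟩ := Module.Finite.exists_fin' R ↥(I ^ k)
  obtain ⟨φ, hφ⟩ := Module.projective_lifting_property p (g ∘ₗ π) hp
  set S := LinearMap.ker π with hS
  have hSfg : (S.map φ).FG := (IsNoetherian.noetherian S).map φ
  have hStors : ∀ x ∈ S.map φ, ∃ n : ℕ, ∀ a ∈ I ^ n, a • x = 0 := by
    rintro x ⟨s, hs, rfl⟩
    apply hK
    have h1 : p (φ s) = g (π s) := LinearMap.congr_fun hφ s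
    rw [LinearMap.mem_ker, h1, LinearMap.mem_ker.mp hs, map_zero]
  obtain ⟨t, ht⟩ := exists_pow_smul_eq_zero_of_fg I (S.map φ) hSfg hStors
  obtain ⟨c, hc⟩ := Ideal.exists_pow_inf_eq_pow_smul I S
  set n := t + c with hn
  set N : Submodule R (Fin r → R) := I ^ n • ⊤ with hN
  have hker : ∀ q ∈ N, π q = 0 → φ q = 0 := by
    intro q hq hπq
    have h1 : q ∈ I ^ n • ⊤ ⊓ S := ⟨hq, hπq⟩
    rw [hc n (Nat.le_add_left c t), hn, Nat.add_sub_cancel] at h1
    have h2 : q ∈ I ^ t • S := Submodule.smul_mono le_rfl inf_le_right h1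
    refine Submodule.smul_induction_on h2 ?_ ?_
    · intro a ha s hs
      rw [map_smul]; exact ht a ha _ (Submodule.mem_map_of_mem hs)
    · intro x y hx hy; rw [map_add, hx, hy, add_zero]
  have hmem : ∀ q ∈ N, ((π q : ↥(I ^ k)) : R) ∈ I ^ (k + n) := by
    intro q hq
    refine Submodule.smul_induction_on hq ?_ ?_
    · intro a ha x _
      rw [map_smul]
      show a * ((π x : ↥(I ^ k)) : R) ∈ I ^ (k + n)
      rw [pow_add, mul_comm (I ^ k)]
      exact Ideal.mul_mem_mul ha (π x).2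
    · intro x y hx hy
      rw [map_add]
      exact add_mem hx hy
  let π' : N →ₗ[R] ↥(I ^ (k + n)) :=
    LinearMap.codRestrict (I ^ (k + n)) ((Submodule.subtype (I ^ k)) ∘ₗ π ∘ₗ N.subtype)
      (fun q => hmem q.1 q.2)
  have hπ' : Function.Surjective π' := by
    rintro ⟨y, hy⟩
    have hy' : y ∈ I ^ n * I ^ k := by rwa [← pow_add, add_comm]
    have key : ∃ q : N, ((π q.1 : ↥(I ^ k)) : R) = y := by
      refine Submodule.mul_induction_on hy' ?_ ?_
      · intro a ha b hb
        obtain ⟨x, hx⟩ := hπ ⟨b, hb⟩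
        refine ⟨⟨a • x, Submodule.smul_mem_smul ha Submodule.mem_top⟩, ?_⟩
        rw [map_smul, hx]
        rfl
      · rintro x z ⟨q, hq⟩ ⟨q', hq'⟩
        refine ⟨q + q', ?_⟩
        rw [Submodule.coe_add, map_add, Submodule.coe_add, hq, hq']
    obtain ⟨q, hq⟩ := key
    exact ⟨q, Subtype.ext hq⟩
  have hle : LinearMap.ker π' ≤ LinearMap.ker (φ ∘ₗ N.subtype) := by
    intro q hq
    rw [LinearMap.mem_ker] at hq ⊢
    have h1 : ((π q.1 : ↥(I ^ k)) : R) = 0 := congrArg Subtype.val hq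
    exact hker q.1 q.2 (Subtype.ext h1)
  obtain ⟨f, hf⟩ := exists_factor_of_surjective π' hπ' (φ ∘ₗ N.subtype) hle
  refine ⟨k + n, Nat.le_add_right k n, f, ?_⟩
  refine LinearMap.ext fun y => ?_
  obtain ⟨q, rfl⟩ := hπ' y
  have h1 : f (π' q) = φ q.1 := LinearMap.congr_fun hf q
  have h2 : p (φ q.1) = g (π q.1) := LinearMap.congr_fun hφ q.1
  rw [LinearMap.comp_apply, h1, h2, res_apply]
  rfl

variable {M}
variable {M' : Type u} [AddCommGroup M'] [Module R M']

theorem fg_range_of_pow [IsNoetherianRing R] {P : Type*} [AddCommGroup P] [Module R P] {n : ℕ}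
    (f : ↥(I ^ n) →ₗ[R] P) : (LinearMap.range f).FG := by
  rw [LinearMap.range_eq_map]
  exact (IsNoetherian.noetherian (⊤ : Submodule R ↥(I ^ n))).map f

/-- Injectivity of `D_I(e)` when `ker e` is power torsion. -/
theorem map_injective_of_ker_torsion [IsNoetherianRing R] (e : M →ₗ[R] M')
    (hker : LinearMap.ker e ≤ DRing.torsionSub I M) :
    Function.Injective ((LocCoh.idealTransform I).map (ModuleCat.ofHom e)).hom := by
  rw [injective_iff_map_eq_zero]
  intro x hx
  obtain ⟨n, f, rfl⟩ := exists_rep I M x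
  rw [map_mk, mk_eq_zero_iff] at hx
  obtain ⟨k, hk, h⟩ := hx
  have hf' : ∀ y, res I M hk f y ∈ LinearMap.ker e := fun y => by
    have := LinearMap.congr_fun h y
    simpa using this
  obtain ⟨t, ht⟩ := exists_pow_smul_eq_zero_of_fg I (LinearMap.range (res I M hk f))
    (fg_range_of_pow I _) (by rintro _ ⟨y, rfl⟩; exact hker (hf' y))
  have h3 := res_eq_zero_of_smul I M (res I M hk f) (fun a ha y => ht a ha _ ⟨y, rfl⟩)
  rw [← mk_res I M hk f, ← mk_res I M (Nat.le_add_right k t) (res I M hk f), h3, mk_zero]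

/-- Surjectivity of `D_I(e)` when kernel and cokernel of `e` are power torsion. -/
theorem map_surjective_of_torsion [IsNoetherianRing R] (e : M →ₗ[R] M')
    (hker : LinearMap.ker e ≤ DRing.torsionSub I M)
    (hcoker : LocCoh.IsPowerTorsion I (M' ⧸ LinearMap.range e)) :
    Function.Surjective ((LocCoh.idealTransform I).map (ModuleCat.ofHom e)).hom := by
  intro x
  obtain ⟨n, g, rfl⟩ := exists_rep I M' x
  obtain ⟨t, ht⟩ := exists_pow_smul_eq_zero_of_fg I
    (LinearMap.range ((LinearMap.range e).mkQ ∘ₗ g)) (fg_range_of_pow I _)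
    (fun x _ => hcoker x)
  have h0 := res_eq_zero_of_smul I _ ((LinearMap.range e).mkQ ∘ₗ g)
    (fun a ha y => ht a ha _ ⟨y, rfl⟩)
  have hg' : ∀ y, res I M' (Nat.le_add_right n t) g y ∈ LinearMap.range e := fun y => by
    have := LinearMap.congr_fun h0 y
    rw [← Submodule.Quotient.mk_eq_zero]
    exact this
  obtain ⟨s, hs, f, hf⟩ := exists_lift I M e.rangeRestrict e.surjective_rangeRestrict
    (by
      intro m hm
      exact hker (by simpa [LinearMap.ker_rangeRestrict] using hm))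
    (LinearMap.codRestrict _ (res I M' (Nat.le_add_right n t) g) hg')
  refine ⟨mk I M s f, ?_⟩
  rw [map_mk]
  have h5 : e ∘ₗ f = res I M' hs (res I M' (Nat.le_add_right n t) g) := by
    refine LinearMap.ext fun y => ?_
    have := LinearMap.congr_fun hf y
    exact congrArg Subtype.val this
  rw [h5, mk_res, mk_res]

theorem map_bijective_of_torsion [IsNoetherianRing R] (e : M →ₗ[R] M')
    (hker : LinearMap.ker e ≤ DRing.torsionSub I M)
    (hcoker : LocCoh.IsPowerTorsion I (M' ⧸ LinearMap.range e)) :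
    Function.Bijective ((LocCoh.idealTransform I).map (ModuleCat.ofHom e)).hom :=
  ⟨map_injective_of_ker_torsion I e hker, map_surjective_of_torsion I e hker hcoker⟩

end Groth.Agent.H58
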