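import Groth.Agent.H58.DT3

/-!
Universal property of the ideal transform.
-/

set_option autoImplicit false
universe u
open CategoryTheory CategoryTheory.Limits Opposite

namespace Groth.Agent.H58

variable {R : Type u} [CommRing R] (I : Ideal R)
variable {M : Type u} [AddCommGroup M] [Module R M]
variable {M' : Type u} [AddCommGroup M'] [Module R M']
variable {K : Type u} [AddCommGroup K] [Module R K]

/-- Two maps into an ideal transform agreeing after a map with power-torsion cokernel are equal. -/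
theorem eq_of_comp_eq [IsNoetherianRing R] (e : M →ₗ[R] M')
    (hcoker : LocCoh.IsPowerTorsion I (M' ⧸ LinearMap.range e))
    (ψ₁ ψ₂ : M' →ₗ[R] LocCoh.DT I K) (h : ψ₁ ∘ₗ e = ψ₂ ∘ₗ e) : ψ₁ = ψ₂ := by
  refine LinearMap.ext fun m' => ?_
  rw [← sub_eq_zero, ← LinearMap.sub_apply]
  have hmem : (ψ₁ - ψ₂) m' ∈ DRing.torsionSub I (LocCoh.DT I K) := by
    obtain ⟨t, ht⟩ := hcoker (Submodule.Quotient.mk m')
    refine ⟨t, fun a ha => ?_⟩
    have h1 := ht a ha
    rw [← Submodule.Quotient.mk_smul, Submodule.Quotient.mk_eq_zero] at h1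
    obtain ⟨m, hm⟩ := h1
    rw [← map_smul, ← hm, LinearMap.sub_apply, sub_eq_zero]
    exact LinearMap.congr_fun h m
  rw [torsionSub_DT_eq_bot] at hmem
  exact hmem

/-- The induced equivalence on ideal transforms. -/
noncomputable def mapEquiv [IsNoetherianRing R] (e : M →ₗ[R] M')
    (hker : LinearMap.ker e ≤ DRing.torsionSub I M)
    (hcoker : LocCoh.IsPowerTorsion I (M' ⧸ LinearMap.range e)) :
    LocCoh.DT I M ≃ₗ[R] LocCoh.DT I M' :=
  LinearEquiv.ofBijective ((LocCoh.idealTransform I).map (ModuleCat.ofHom e)).hom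
    (map_bijective_of_torsion I e hker hcoker)

/-- The factorisation of `η_K ∘ ψ` through `e`. -/
noncomputable def factor [IsNoetherianRing R] (e : M →ₗ[R] M')
    (hker : LinearMap.ker e ≤ DRing.torsionSub I M)
    (hcoker : LocCoh.IsPowerTorsion I (M' ⧸ LinearMap.range e)) (ψ : M →ₗ[R] K) :
    M' →ₗ[R] LocCoh.DT I K :=
  ((LocCoh.idealTransform I).map (ModuleCat.ofHom ψ)).hom ∘ₗ
    (mapEquiv I e hker hcoker).symm.toLinearMap ∘ₗ LocCoh.toDT I M'

theorem factor_comp [IsNoetherianRing R] (e : M →ₗ[R] M')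
    (hker : LinearMap.ker e ≤ DRing.torsionSub I M)
    (hcoker : LocCoh.IsPowerTorsion I (M' ⧸ LinearMap.range e)) (ψ : M →ₗ[R] K) :
    factor I e hker hcoker ψ ∘ₗ e = LocCoh.toDT I K ∘ₗ ψ := by
  refine LinearMap.ext fun m => ?_
  have h1 : (mapEquiv I e hker hcoker).symm (LocCoh.toDT I M' (e m)) = LocCoh.toDT I M m := by
    rw [LinearEquiv.symm_apply_eq]
    exact (map_toDT I e m).symm
  simp only [factor, LinearMap.comp_apply, LinearEquiv.coe_coe]
  rw [h1]
  exact map_toDT I ψ m

end Groth.Agent.H58
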