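import Mathlib

/-!
# S18955 squad (DX3): extension and cancellation along scheme-theoretically dominant morphisms
into affine schemes (no quasi-compactness)
-/

set_option autoImplicit false
open CategoryTheory AlgebraicGeometry TensorProduct
universe u

namespace Groth.Agent.H58.DX3

/-- the ideal sheaf generated by a global section -/
noncomputable def principal (Y : Scheme.{u}) (s : Γ(Y, ⊤)) : Y.IdealSheafData where
  ideal V := Ideal.span {(Y.presheaf.map (homOfLE (le_top : V.1 ≤ ⊤)).op).hom s}
  map_ideal_basicOpen V f := by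
    rw [Ideal.map_span, Set.image_singleton]
    congr 2
    rw [← CommRingCat.comp_apply, ← Functor.map_comp]
    rfl

/-- global sections inject along a scheme-theoretically dominant morphism -/
theorem appTop_injective {U Y : Scheme.{u}} (d : U ⟶ Y) [IsSchemeTheoreticallyDominant d] :
    Function.Injective d.appTop := by
  rw [injective_iff_map_eq_zero]
  intro s hs
  have hle : principal Y s ≤ d.ker := by
    show principal Y s ≤ Scheme.IdealSheafData.ofIdeals _
    rw [Scheme.IdealSheafData.le_ofIdeals_iff]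
    intro V
    show Ideal.span _ ≤ _
    rw [Ideal.span_le, Set.singleton_subset_iff, SetLike.mem_coe, RingHom.mem_ker]
    have hnat := d.naturality (homOfLE (le_top : V.1 ≤ ⊤)).op
    have h1 := congrArg (fun φ => φ.hom s) hnat
    simp only [CommRingCat.hom_comp, RingHom.coe_comp, Function.comp_apply] at h1
    rw [h1]
    have hs' : (d.app ⊤).hom s = 0 := hs
    rw [hs', map_zero]
  rw [d.ker_eq_bot] at hle
  have hzero : ∀ V : Y.affineOpens,
      (Y.presheaf.map (homOfLE (le_top : V.1 ≤ ⊤)).op).hom s = 0 := by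
    intro V
    have h2 := hle V
    rw [Scheme.IdealSheafData.ideal_bot] at h2
    have h3 : (Y.presheaf.map (homOfLE (le_top : V.1 ≤ ⊤)).op).hom s ∈
        (principal Y s).ideal V := Ideal.subset_span rfl
    exact (Ideal.mem_bot).1 (h2 h3)
  refine Y.IsSheaf.section_ext fun x hx ↦ ?_
  obtain ⟨_, ⟨V, hV, rfl⟩, hxV, hVU : V ≤ ⊤⟩ :=
    Y.isBasis_affineOpens.exists_subset_of_mem_open hx (⊤ : Y.Opens).isOpen
  refine ⟨V, hVU, hxV, ?_⟩
  rw [map_zero]
  exact hzero ⟨V, hV⟩

theorem exists_ext_iff {U Y X : Scheme.{u}} [IsAffine X] (d : U ⟶ Y)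
    [IsSchemeTheoreticallyDominant d] (f : U ⟶ X) :
    (∃ φ : Y ⟶ X, d ≫ φ = f) ↔ ∀ b : Γ(X, ⊤), ∃ c : Γ(Y, ⊤), d.appTop c = f.appTop b := by
  constructor
  · rintro ⟨φ, rfl⟩ b
    exact ⟨φ.appTop b, by rw [Scheme.Hom.comp_appTop]; rfl⟩
  · intro h
    have hinj := appTop_injective d
    choose c hc using h
    let ψ : Γ(X, ⊤) →+* Γ(Y, ⊤) :=
      { toFun := c
        map_one' := hinj (by rw [hc, map_one, map_one])
        map_mul' := fun a b => hinj (by rw [hc, map_mul, map_mul, hc, hc])
        map_zero' := hinj (by rw [hc, map_zero, map_zero])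
        map_add' := fun a b => hinj (by rw [hc, map_add, map_add, hc, hc]) }
    have hψ : CommRingCat.ofHom ψ ≫ d.appTop = f.appTop := by
      ext b
      exact hc b
    refine ⟨Y.toSpecΓ ≫ Spec.map (CommRingCat.ofHom ψ) ≫ X.isoSpec.inv, ?_⟩
    rw [← Category.assoc, Scheme.toSpecΓ_naturality, Category.assoc, ← Spec.map_comp_assoc, hψ,
      ← Scheme.toSpecΓ_naturality_assoc]
    have : X.toSpecΓ = X.isoSpec.hom := rfl
    rw [this, Iso.hom_inv_id, Category.comp_id]

theorem cancel_dominant_affine {U Y W : Scheme.{u}} [IsAffine W] (d : U ⟶ Y)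
    [IsSchemeTheoreticallyDominant d] (p q : Y ⟶ W) (h : d ≫ p = d ≫ q) : p = q := by
  apply ext_of_isAffine
  have hinj := appTop_injective d
  have h1 : p.appTop ≫ d.appTop = q.appTop ≫ d.appTop := by
    rw [← Scheme.Hom.comp_appTop, ← Scheme.Hom.comp_appTop, h]
  ext b
  apply hinj
  exact congrArg (fun φ => φ.hom b) h1

end Groth.Agent.H58.DX3
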