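import Mathlib
import Groth.Prelude.Def_Wider
import Groth.Agent.H58.LCMod
import Groth.Agent.S11617

/-!
# Derivations act on local cohomology

For a derivation `θ` of a Noetherian ring `A`, the ring map `σ = id + εθ : A → A[ε]` and flat base
change give an additive operator `D` on `H^i_I(A)` with `D (a ξ) = θ a ξ + a D ξ`.
-/

set_option autoImplicit false
universe u

open TensorProduct

namespace Groth.Agent.H58.DerLC

variable {A : Type u} [CommRing A]

/-- `a ↦ a + ε δ(a)` -/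
def tau (δ : Derivation ℤ A A) : A →+* TrivSqZeroExt A A where
  toFun a := TrivSqZeroExt.inl a + TrivSqZeroExt.inr (δ a)
  map_one' := by
    apply TrivSqZeroExt.ext
    · simp
    · simp
  map_mul' a b := by
    apply TrivSqZeroExt.ext
    · simp
    · simp [Derivation.leibniz, mul_comm]
  map_zero' := by
    apply TrivSqZeroExt.ext
    · simp
    · simp
  map_add' a b := by
    apply TrivSqZeroExt.ext
    · simp
    · simp

@[simp] theorem fst_tau (δ : Derivation ℤ A A) (a : A) : (tau δ a).fst = a := by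
  simp [tau]

@[simp] theorem snd_tau (δ : Derivation ℤ A A) (a : A) : (tau δ a).snd = δ a := by
  simp [tau]

/-- the dual numbers as an `A`-algebra through `tau δ` -/
def BB (_δ : Derivation ℤ A A) : Type u := TrivSqZeroExt A A

noncomputable instance (δ : Derivation ℤ A A) : CommRing (BB δ) :=
  inferInstanceAs (CommRing (TrivSqZeroExt A A))

noncomputable instance (δ : Derivation ℤ A A) : Algebra A (BB δ) := (tau δ).toAlgebra

/-- the identity `A[ε] → BB δ` -/
def toBB (δ : Derivation ℤ A A) (x : TrivSqZeroExt A A) : BB δ := x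

/-- the identity `BB δ → A[ε]` -/
def ofBB {δ : Derivation ℤ A A} (x : BB δ) : TrivSqZeroExt A A := x

theorem algebraMap_eq (δ : Derivation ℤ A A) (a : A) :
    algebraMap A (BB δ) a = toBB δ (tau δ a) := rfl

/-- first coordinate -/
def fstB {δ : Derivation ℤ A A} (x : BB δ) : A := TrivSqZeroExt.fst (ofBB x)

/-- second coordinate -/
def sndB {δ : Derivation ℤ A A} (x : BB δ) : A := TrivSqZeroExt.snd (ofBB x)

/-- `ε` -/
def eps (δ : Derivation ℤ A A) : BB δ := toBB δ (TrivSqZeroExt.inr 1)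

section coords

variable (δ : Derivation ℤ A A)

theorem extB {x y : BB δ} (h1 : fstB x = fstB y) (h2 : sndB x = sndB y) : x = y :=
  TrivSqZeroExt.ext h1 h2

@[simp] theorem fstB_mul (x y : BB δ) : fstB (x * y) = fstB x * fstB y :=
  TrivSqZeroExt.fst_mul _ _

@[simp] theorem sndB_mul (x y : BB δ) : sndB (x * y) = fstB x * sndB y + fstB y * sndB x := by
  refine (TrivSqZeroExt.snd_mul (R := A) (M := A) (ofBB x) (ofBB y)).trans ?_
  simp only [smul_eq_mul, MulOpposite.smul_eq_mul_unop, MulOpposite.unop_op]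
  unfold fstB sndB
  ring

@[simp] theorem fstB_add (x y : BB δ) : fstB (x + y) = fstB x + fstB y :=
  TrivSqZeroExt.fst_add _ _

@[simp] theorem sndB_add (x y : BB δ) : sndB (x + y) = sndB x + sndB y :=
  TrivSqZeroExt.snd_add _ _

@[simp] theorem fstB_one : fstB (1 : BB δ) = 1 := TrivSqZeroExt.fst_one

@[simp] theorem sndB_one : sndB (1 : BB δ) = 0 := TrivSqZeroExt.snd_one

@[simp] theorem fstB_eps : fstB (eps δ) = 0 := TrivSqZeroExt.fst_inr _ _

@[simp] theorem sndB_eps : sndB (eps δ) = 1 := TrivSqZeroExt.snd_inr _ _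

@[simp] theorem fstB_algebraMap (a : A) : fstB (algebraMap A (BB δ) a) = a := fst_tau δ a

@[simp] theorem sndB_algebraMap (a : A) : sndB (algebraMap A (BB δ) a) = δ a := snd_tau δ a

@[simp] theorem fstB_smul (a : A) (x : BB δ) : fstB (a • x) = a * fstB x := by
  rw [Algebra.smul_def, fstB_mul, fstB_algebraMap]

@[simp] theorem sndB_smul (a : A) (x : BB δ) : sndB (a • x) = a * sndB x + fstB x * δ a := by
  rw [Algebra.smul_def, sndB_mul, fstB_algebraMap, sndB_algebraMap]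

/-- first coordinate, linear -/
def c0 : BB δ →ₗ[A] A where
  toFun x := fstB x
  map_add' x y := fstB_add δ x y
  map_smul' a x := by rw [fstB_smul]; rfl

/-- corrected second coordinate, linear -/
def c1 : BB δ →ₗ[A] A where
  toFun x := sndB x - δ (fstB x)
  map_add' x y := by rw [sndB_add, fstB_add, map_add]; ring
  map_smul' a x := by
    rw [sndB_smul, fstB_smul, Derivation.leibniz]
    simp only [smul_eq_mul, RingHom.id_apply]
    ring

@[simp] theorem c0_apply (x : BB δ) : c0 δ x = fstB x := rfl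

@[simp] theorem c1_apply (x : BB δ) : c1 δ x = sndB x - δ (fstB x) := rfl

theorem c1_mul (b c : BB δ) : c1 δ (b * c) = fstB b * c1 δ c + c1 δ b * fstB c := by
  simp only [c1_apply, sndB_mul, fstB_mul, Derivation.leibniz, smul_eq_mul]
  ring

theorem fstB_toBB (x : TrivSqZeroExt A A) : fstB (toBB δ x) = x.fst := rfl

theorem sndB_toBB (x : TrivSqZeroExt A A) : sndB (toBB δ x) = x.snd := rfl

/-- `BB δ` is free of rank two -/
noncomputable def eqv : BB δ ≃ₗ[A] A × A where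
  toFun x := (c0 δ x, c1 δ x)
  map_add' x y := by rw [map_add, map_add]; rfl
  map_smul' a x := by rw [map_smul, map_smul]; rfl
  invFun p := toBB δ (TrivSqZeroExt.inl p.1 + TrivSqZeroExt.inr (p.2 + δ p.1))
  left_inv x := by
    apply extB
    · show fstB (toBB δ (TrivSqZeroExt.inl (c0 δ x) +
        TrivSqZeroExt.inr (c1 δ x + δ (c0 δ x)))) = fstB x
      rw [fstB_toBB, TrivSqZeroExt.fst_add, TrivSqZeroExt.fst_inl, TrivSqZeroExt.fst_inr,
        add_zero, c0_apply]
    · show sndB (toBB δ (TrivSqZeroExt.inl (c0 δ x) +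
        TrivSqZeroExt.inr (c1 δ x + δ (c0 δ x)))) = sndB x
      rw [sndB_toBB, TrivSqZeroExt.snd_add, TrivSqZeroExt.snd_inl, TrivSqZeroExt.snd_inr,
        zero_add, c0_apply, c1_apply, sub_add_cancel]
  right_inv p := by
    apply Prod.ext
    · show fstB (toBB δ (TrivSqZeroExt.inl p.1 + TrivSqZeroExt.inr (p.2 + δ p.1))) = p.1
      rw [fstB_toBB, TrivSqZeroExt.fst_add, TrivSqZeroExt.fst_inl, TrivSqZeroExt.fst_inr,
        add_zero]
    · show sndB (toBB δ (TrivSqZeroExt.inl p.1 + TrivSqZeroExt.inr (p.2 + δ p.1))) -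
        δ (fstB (toBB δ (TrivSqZeroExt.inl p.1 + TrivSqZeroExt.inr (p.2 + δ p.1)))) = p.2
      rw [fstB_toBB, sndB_toBB, TrivSqZeroExt.fst_add, TrivSqZeroExt.fst_inl,
        TrivSqZeroExt.fst_inr, add_zero, TrivSqZeroExt.snd_add, TrivSqZeroExt.snd_inl,
        TrivSqZeroExt.snd_inr, zero_add, add_sub_cancel_right]

instance : Module.Free A (BB δ) := Module.Free.of_equiv (eqv δ).symm

instance : Module.Finite A (BB δ) := Module.Finite.equiv (eqv δ).symm

instance [IsNoetherianRing A] : IsNoetherianRing (BB δ) := IsNoetherianRing.of_finite A (BB δ)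

theorem decomp (c : BB δ) :
    c = algebraMap A (BB δ) (c0 δ c) + eps δ * algebraMap A (BB δ) (c1 δ c) := by
  apply extB
  · rw [fstB_add, fstB_mul, fstB_algebraMap, fstB_eps, zero_mul, add_zero, c0_apply]
  · rw [sndB_add, sndB_mul, sndB_algebraMap, fstB_eps, sndB_eps, fstB_algebraMap, c0_apply,
      c1_apply]
    ring

end coords

section proj

variable (δ : Derivation ℤ A A) (N : Type u) [AddCommGroup N] [Module A N]

/-- `b ⊗ n ↦ fst b • n` -/
noncomputable def P0 : BB δ ⊗[A] N →ₗ[A] N :=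
  TensorProduct.lift ((LinearMap.lsmul A N).comp (c0 δ))

/-- `b ⊗ n ↦ c1 b • n` -/
noncomputable def P1 : BB δ ⊗[A] N →ₗ[A] N :=
  TensorProduct.lift ((LinearMap.lsmul A N).comp (c1 δ))

@[simp] theorem P0_tmul (b : BB δ) (n : N) : P0 δ N (b ⊗ₜ n) = fstB b • n := by
  show TensorProduct.lift _ (b ⊗ₜ n) = _
  rw [TensorProduct.lift.tmul]
  rfl

@[simp] theorem P1_tmul (b : BB δ) (n : N) : P1 δ N (b ⊗ₜ n) = c1 δ b • n := by
  show TensorProduct.lift _ (b ⊗ₜ n) = _
  rw [TensorProduct.lift.tmul]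
  rfl

theorem P0_smul (b : BB δ) (z : BB δ ⊗[A] N) : P0 δ N (b • z) = fstB b • P0 δ N z := by
  induction z using TensorProduct.induction_on with
  | zero => simp
  | tmul c n =>
    rw [TensorProduct.smul_tmul', smul_eq_mul, P0_tmul, P0_tmul, fstB_mul, mul_smul]
  | add x y hx hy => rw [smul_add, map_add, map_add, hx, hy, smul_add]

theorem P1_smul (b : BB δ) (z : BB δ ⊗[A] N) :
    P1 δ N (b • z) = fstB b • P1 δ N z + c1 δ b • P0 δ N z := by
  induction z using TensorProduct.induction_on with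
  | zero => simp
  | tmul c n =>
    rw [TensorProduct.smul_tmul', smul_eq_mul, P1_tmul, P1_tmul, P0_tmul, c1_mul, add_smul,
      mul_smul, mul_smul]
  | add x y hx hy =>
    rw [smul_add, map_add, map_add, map_add, hx, hy, smul_add, smul_add]
    abel

theorem decomp_tensor (z : BB δ ⊗[A] N) :
    z = (1 : BB δ) ⊗ₜ[A] (P0 δ N z) + eps δ • ((1 : BB δ) ⊗ₜ[A] (P1 δ N z)) := by
  induction z using TensorProduct.induction_on with
  | zero => simp
  | tmul c n =>
    rw [P0_tmul, P1_tmul]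
    have h := decomp δ c
    have e1 : (algebraMap A (BB δ) (c0 δ c)) ⊗ₜ[A] n = (1 : BB δ) ⊗ₜ[A] (fstB c • n) := by
      rw [Algebra.algebraMap_eq_smul_one, TensorProduct.smul_tmul, c0_apply]
    have e2 : (eps δ * algebraMap A (BB δ) (c1 δ c)) ⊗ₜ[A] n =
        eps δ • ((1 : BB δ) ⊗ₜ[A] (c1 δ c • n)) := by
      rw [Algebra.algebraMap_eq_smul_one, ← smul_eq_mul, ← TensorProduct.smul_tmul',
        TensorProduct.smul_tmul]
    rw [← e1, ← e2, ← TensorProduct.add_tmul, ← h]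
  | add x y hx hy =>
    rw [map_add, map_add, TensorProduct.tmul_add, TensorProduct.tmul_add, smul_add]
    nth_rewrite 1 [hx, hy]
    abel

end proj

section main

variable [IsNoetherianRing A] (I : Ideal A) (i : ℕ)

/-- flat base change to the dual numbers -/
theorem exists_Phi (δ : Derivation ℤ A A) :
    Nonempty (BB δ ⊗[A] LocCoh.H I i A ≃ₗ[BB δ]
      LocCoh.H (I.map (algebraMap A (BB δ))) i (BB δ)) := by
  obtain ⟨e1⟩ := Groth.Agent.S11617.result A (BB δ) I A i
  exact ⟨e1.trans (Groth.Agent.H58.LC.Hcongr (I.map (algebraMap A (BB δ))) i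
    (TensorProduct.AlgebraTensorModule.rid A (BB δ) (BB δ)))⟩

omit [IsNoetherianRing A] in
theorem radical_eq (δ δ' : Derivation ℤ A A) :
    ((I.map (tau δ)).radical : Ideal (TrivSqZeroExt A A)) = (I.map (tau δ')).radical := by
  have key : ∀ δ₁ δ₂ : Derivation ℤ A A, I.map (tau δ₁) ≤ (I.map (tau δ₂)).radical := by
    intro δ₁ δ₂
    rw [Ideal.map_le_iff_le_comap]
    intro a ha
    rw [Ideal.mem_comap]
    have h1 : tau δ₁ a = tau δ₂ a + TrivSqZeroExt.inr (δ₁ a - δ₂ a) := by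
      apply TrivSqZeroExt.ext
      · simp
      · simp
    rw [h1]
    refine Ideal.add_mem _ (Ideal.le_radical (Ideal.mem_map_of_mem _ ha)) ⟨2, ?_⟩
    rw [pow_two, TrivSqZeroExt.inr_mul_inr]
    exact Ideal.zero_mem _
  apply le_antisymm
  · exact (Ideal.radical_le_radical_iff).2 (key δ δ')
  · exact (Ideal.radical_le_radical_iff).2 (key δ' δ)

/-- comparison of the two local cohomologies over the dual numbers -/
theorem exists_rho (δ δ' : Derivation ℤ A A) :
    ∃ ρ : LocCoh.H (I.map (algebraMap A (BB δ))) i (BB δ) ≃+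
        LocCoh.H (I.map (algebraMap A (BB δ'))) i (BB δ'),
      ∀ (b : TrivSqZeroExt A A) (x : LocCoh.H (I.map (algebraMap A (BB δ))) i (BB δ)),
        ρ (toBB δ b • x) = toBB δ' b • ρ x := by
  have : IsNoetherianRing (TrivSqZeroExt A A) :=
    (inferInstance : IsNoetherianRing (BB δ))
  let e := ((localCohomology.isoOfSameRadical (radical_eq I δ δ') i).app
    (ModuleCat.of (TrivSqZeroExt A A) (TrivSqZeroExt A A))).toLinearEquiv
  exact ⟨e.toAddEquiv, fun b x => e.map_smul b x⟩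

theorem exists_operator (θ : Derivation ℤ A A) :
    ∃ D : LocCoh.H I i A →+ LocCoh.H I i A, ∀ (a : A) (ξ : LocCoh.H I i A),
      D (a • ξ) = θ a • ξ + a • D ξ := by
  obtain ⟨Φθ⟩ := exists_Phi I i θ
  obtain ⟨Φ0⟩ := exists_Phi I i (0 : Derivation ℤ A A)
  obtain ⟨ρ, hρ⟩ := exists_rho I i θ (0 : Derivation ℤ A A)
  -- `Θ : H → BB 0 ⊗ H` and `Θ' : H → BB θ ⊗ H`
  let Λ : BB θ ⊗[A] LocCoh.H I i A →+ BB (0 : Derivation ℤ A A) ⊗[A] LocCoh.H I i A :=
    (Φ0.symm.toAddEquiv.toAddMonoidHom.comp ρ.toAddMonoidHom).comp Φθ.toAddEquiv.toAddMonoidHom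
  let Λ' : BB (0 : Derivation ℤ A A) ⊗[A] LocCoh.H I i A →+ BB θ ⊗[A] LocCoh.H I i A :=
    (Φθ.symm.toAddEquiv.toAddMonoidHom.comp ρ.symm.toAddMonoidHom).comp
      Φ0.toAddEquiv.toAddMonoidHom
  have hΛ : ∀ (b : TrivSqZeroExt A A) (z : BB θ ⊗[A] LocCoh.H I i A),
      Λ (toBB θ b • z) = toBB (0 : Derivation ℤ A A) b • Λ z := by
    intro b z
    show Φ0.symm (ρ (Φθ (toBB θ b • z))) = toBB (0 : Derivation ℤ A A) b • Φ0.symm (ρ (Φθ z))
    rw [map_smul, hρ, map_smul]
  have hΛ' : ∀ (b : TrivSqZeroExt A A) (z : BB (0 : Derivation ℤ A A) ⊗[A] LocCoh.H I i A),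
      Λ' (toBB (0 : Derivation ℤ A A) b • z) = toBB θ b • Λ' z := by
    intro b z
    show Φθ.symm (ρ.symm (Φ0 (toBB (0 : Derivation ℤ A A) b • z))) =
      toBB θ b • Φθ.symm (ρ.symm (Φ0 z))
    rw [map_smul]
    have h1 : ρ.symm (toBB (0 : Derivation ℤ A A) b • Φ0 z) = toBB θ b • ρ.symm (Φ0 z) := by
      apply ρ.injective
      rw [hρ, AddEquiv.apply_symm_apply, AddEquiv.apply_symm_apply]
    rw [h1, map_smul]
  have hΛΛ' : ∀ z, Λ (Λ' z) = z := by
    intro z
    show Φ0.symm (ρ (Φθ (Φθ.symm (ρ.symm (Φ0 z))))) = z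
    rw [LinearEquiv.apply_symm_apply, AddEquiv.apply_symm_apply, LinearEquiv.symm_apply_apply]
  -- the four maps
  let Θ : LocCoh.H I i A →+ BB (0 : Derivation ℤ A A) ⊗[A] LocCoh.H I i A :=
    Λ.comp (TensorProduct.mk A (BB θ) (LocCoh.H I i A) 1).toAddMonoidHom
  let Θ' : LocCoh.H I i A →+ BB θ ⊗[A] LocCoh.H I i A :=
    Λ'.comp (TensorProduct.mk A (BB (0 : Derivation ℤ A A)) (LocCoh.H I i A) 1).toAddMonoidHom
  have hΘ : ∀ (a : A) (ξ : LocCoh.H I i A),
      Θ (a • ξ) = toBB (0 : Derivation ℤ A A) (tau θ a) • Θ ξ := by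
    intro a ξ
    show Λ ((1 : BB θ) ⊗ₜ[A] (a • ξ)) = _ • Λ ((1 : BB θ) ⊗ₜ[A] ξ)
    rw [TensorProduct.tmul_smul, ← algebraMap_smul (BB θ) a ((1 : BB θ) ⊗ₜ[A] ξ)]
    exact hΛ (tau θ a) _
  have hΘ' : ∀ (a : A) (η : LocCoh.H I i A),
      Θ' (a • η) = toBB θ (tau (0 : Derivation ℤ A A) a) • Θ' η := by
    intro a η
    show Λ' ((1 : BB (0 : Derivation ℤ A A)) ⊗ₜ[A] (a • η)) =
      _ • Λ' ((1 : BB (0 : Derivation ℤ A A)) ⊗ₜ[A] η)
    rw [TensorProduct.tmul_smul, ← algebraMap_smul (BB (0 : Derivation ℤ A A)) a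
      ((1 : BB (0 : Derivation ℤ A A)) ⊗ₜ[A] η)]
    exact hΛ' (tau (0 : Derivation ℤ A A) a) _
  -- `v` and `u ∘ v = id`
  let v : LocCoh.H I i A →+ LocCoh.H I i A :=
    (P0 θ (LocCoh.H I i A)).toAddMonoidHom.comp Θ'
  have hv : ∀ (a : A) (η : LocCoh.H I i A), v (a • η) = a • v η := by
    intro a η
    show P0 θ _ (Θ' (a • η)) = a • P0 θ _ (Θ' η)
    rw [hΘ', P0_smul]
    congr 1
    exact fst_tau _ a
  have huv : ∀ η : LocCoh.H I i A, P0 (0 : Derivation ℤ A A) _ (Θ (v η)) = η := by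
    intro η
    have h1 := decomp_tensor θ (LocCoh.H I i A) (Θ' η)
    have h2 := congrArg Λ h1
    rw [map_add] at h2
    have h3 : Λ (Θ' η) = (1 : BB (0 : Derivation ℤ A A)) ⊗ₜ[A] η := hΛΛ' _
    have h4 : Λ (eps θ • ((1 : BB θ) ⊗ₜ[A] (P1 θ (LocCoh.H I i A) (Θ' η)))) =
        eps (0 : Derivation ℤ A A) • Λ ((1 : BB θ) ⊗ₜ[A] (P1 θ (LocCoh.H I i A) (Θ' η))) :=
      hΛ (TrivSqZeroExt.inr 1) _
    rw [h3, h4] at h2
    have h5 := congrArg (P0 (0 : Derivation ℤ A A) (LocCoh.H I i A)) h2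
    rw [map_add, P0_tmul, P0_smul, fstB_one, one_smul, fstB_eps, zero_smul, add_zero] at h5
    exact h5.symm
  -- the operator
  refine ⟨((P1 (0 : Derivation ℤ A A) (LocCoh.H I i A)).toAddMonoidHom.comp Θ).comp v, ?_⟩
  intro a ξ
  show P1 (0 : Derivation ℤ A A) _ (Θ (v (a • ξ))) =
    θ a • ξ + a • P1 (0 : Derivation ℤ A A) _ (Θ (v ξ))
  rw [hv, hΘ, P1_smul, huv, add_comm]
  congr 1
  · congr 1
    show sndB _ - (0 : Derivation ℤ A A) (fstB _) = θ a
    rw [Derivation.coe_zero, Pi.zero_apply, sub_zero]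
    exact snd_tau θ a
  · congr 1
    exact fst_tau θ a

end main

end Groth.Agent.H58.DerLC
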