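import Mathlib

/-!
# Ext commutes with localization (finite modules over a Noetherian ring)

Elementwise statement: the map `Ext^i_R(M, N) → Ext^i_{S⁻¹R}(S⁻¹M, S⁻¹N)` induced by the exact
localization functor is "a localization": surjective up to multiplying by elements of `S`, and its
kernel is the `S`-torsion. Proof by dimension shifting along a free presentation of `M`.
-/

set_option autoImplicit false
universe u
open CategoryTheory

namespace Groth.Agent.H58.ExtLoc

variable {R : Type u} [CommRing R] (S : Submonoid R)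

local notation "𝓛" => ModuleCat.localizedModuleFunctor S

lemma map_smul_id (N : ModuleCat.{u} R) (r : R) :
    (𝓛).map (r • 𝟙 N) = algebraMap R (Localization S) r • 𝟙 ((𝓛).obj N) := by
  have key : IsLocalizedModule.mapExtendScalars S (N.localizedModuleMkLinearMap S)
      (N.localizedModuleMkLinearMap S) (Localization S) (r • LinearMap.id) =
      algebraMap R (Localization S) r • LinearMap.id := by
    rw [map_smul]
    apply LinearMap.ext
    intro x
    rw [LinearMap.smul_apply, LinearMap.smul_apply,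
      IsLocalizedModule.mapExtendScalars_apply_apply, IsLocalizedModule.map_id,
      LinearMap.id_apply, LinearMap.id_apply, algebraMap_smul]
  apply ModuleCat.hom_ext
  exact key

lemma mapExt_smul {M N : ModuleCat.{u} R} {i : ℕ} (r : R) (e : Abelian.Ext M N i) :
    (r • e).mapExactFunctor (𝓛) =
      algebraMap R (Localization S) r • e.mapExactFunctor (𝓛) := by
  rw [Abelian.Ext.smul_eq_comp_mk₀, Abelian.Ext.mapExactFunctor_comp,
    Abelian.Ext.mapExactFunctor_mk₀, map_smul_id,
    Abelian.Ext.smul_eq_comp_mk₀ (e.mapExactFunctor _)]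

/-- Surjectivity up to `S`. -/
def SurjUpTo (N X : ModuleCat.{u} R) (i : ℕ) : Prop :=
  ∀ y : Abelian.Ext ((𝓛).obj X) ((𝓛).obj N) i,
    ∃ (e : Abelian.Ext X N i) (s : S),
      algebraMap R (Localization S) (s : R) • y = e.mapExactFunctor (𝓛)

/-- Kernel is `S`-torsion. -/
def InjUpTo (N X : ModuleCat.{u} R) (i : ℕ) : Prop :=
  ∀ e : Abelian.Ext X N i, e.mapExactFunctor (𝓛) = 0 → ∃ s : S, (s : R) • e = 0

lemma base [IsNoetherianRing R] (N X : ModuleCat.{u} R) [Module.Finite R X] :
    SurjUpTo S N X 0 ∧ InjUpTo S N X 0 := by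
  haveI : Module.FinitePresentation R X := Module.finitePresentation_of_finite R X
  let LM := IsLocalizedModule.mapExtendScalars S (X.localizedModuleMkLinearMap S)
      (N.localizedModuleMkLinearMap S) (Localization S)
  haveI : IsLocalizedModule S LM :=
    Module.FinitePresentation.isLocalizedModule_mapExtendScalars _ _ _ _
  refine ⟨fun y => ?_, fun e he => ?_⟩
  · obtain ⟨g, rfl⟩ := (Abelian.Ext.mk₀_bijective _ _).2 y
    obtain ⟨g', hg'⟩ : ∃ g' : ↑(X.localizedModule S) →ₗ[Localization S] ↑(N.localizedModule S),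
        g' = g.hom := ⟨_, rfl⟩
    obtain ⟨⟨f, s⟩, hfs⟩ := IsLocalizedModule.surj S LM g'
    change s • g' = LM f at hfs
    have hfs' : algebraMap R (Localization S) (s : R) • g' = LM f := by
      rw [← hfs]
      apply LinearMap.ext
      intro x
      rw [LinearMap.smul_apply, LinearMap.smul_apply, Submonoid.smul_def, algebraMap_smul]
    refine ⟨Abelian.Ext.mk₀ (ModuleCat.ofHom f), s, ?_⟩
    rw [Abelian.Ext.mapExactFunctor_mk₀, ← Abelian.Ext.mk₀_smul]
    congr 1
    apply ModuleCat.hom_ext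
    subst hg'
    exact hfs'
  · obtain ⟨f, rfl⟩ := (Abelian.Ext.mk₀_bijective _ _).2 e
    rw [Abelian.Ext.mapExactFunctor_mk₀] at he
    have h0 : (𝓛).map f = 0 :=
      (Abelian.Ext.mk₀_bijective _ _).1 (he.trans (Abelian.Ext.mk₀_zero _ _).symm)
    have h1 : LM f.hom = 0 := congrArg ModuleCat.Hom.hom h0
    obtain ⟨s, hs⟩ := (IsLocalizedModule.eq_zero_iff S LM).1 h1
    refine ⟨s, ?_⟩
    rw [← Abelian.Ext.mk₀_smul, ← Abelian.Ext.mk₀_zero]
    congr 1
    apply ModuleCat.hom_ext
    rw [ModuleCat.hom_smul, ModuleCat.hom_zero]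
    rw [Submonoid.smul_def] at hs
    exact hs

lemma step (N : ModuleCat.{u} R) {T : ShortComplex (ModuleCat.{u} R)} (hT : T.ShortExact)
    [Projective T.X₂] (i : ℕ)
    (sK : SurjUpTo S N T.X₁ i) (iK : InjUpTo S N T.X₁ i) (sP : SurjUpTo S N T.X₂ i) :
    SurjUpTo S N T.X₃ (i + 1) ∧ InjUpTo S N T.X₃ (i + 1) := by
  have hT' := hT.map_of_exact (𝓛)
  haveI : Projective (T.map (𝓛)).X₂ := (𝓛).projective_obj _
  have hcls : hT.extClass.mapExactFunctor (𝓛) = hT'.extClass :=
    Abelian.Ext.mapExactFunctor_extClass (𝓛) hT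
  have hdeg : 1 + i = i + 1 := by omega
  refine ⟨fun y => ?_, fun e he => ?_⟩
  · have h0 : (Abelian.Ext.mk₀ (T.map (𝓛)).g).comp y (zero_add (i + 1)) = 0 :=
      Abelian.Ext.eq_zero_of_projective _
    obtain ⟨x₁, hx₁⟩ : ∃ x₁ : Abelian.Ext ((𝓛).obj T.X₁) ((𝓛).obj N) i,
        hT'.extClass.comp x₁ hdeg = y :=
      Abelian.Ext.contravariant_sequence_exact₃ hT' _ y h0 hdeg
    obtain ⟨e₁, s, hs⟩ := sK x₁
    refine ⟨hT.extClass.comp e₁ hdeg, s, ?_⟩
    rw [Abelian.Ext.mapExactFunctor_comp, hcls, ← hs, ← hx₁]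
    exact (Abelian.Ext.comp_smul _ _ _ _).symm
  · have h0 : (Abelian.Ext.mk₀ T.g).comp e (zero_add (i + 1)) = 0 :=
      Abelian.Ext.eq_zero_of_projective _
    obtain ⟨z₀, hz₀⟩ := Abelian.Ext.contravariant_sequence_exact₃ hT _ e h0 hdeg
    have h1 : hT'.extClass.comp (z₀.mapExactFunctor (𝓛)) hdeg = 0 := by
      have h1' : (hT.extClass.comp z₀ hdeg).mapExactFunctor (𝓛) = 0 := by rw [hz₀, he]
      rw [Abelian.Ext.mapExactFunctor_comp, hcls] at h1'
      exact h1'
    obtain ⟨x₂, hx₂⟩ : ∃ x₂ : Abelian.Ext ((𝓛).obj T.X₂) ((𝓛).obj N) i,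
        (Abelian.Ext.mk₀ ((𝓛).map T.f)).comp x₂ (zero_add i) = z₀.mapExactFunctor (𝓛) :=
      Abelian.Ext.contravariant_sequence_exact₁ hT' _ (z₀.mapExactFunctor (𝓛)) hdeg h1
    obtain ⟨w₀, s, hs⟩ := sP x₂
    have h2 : ((s : R) • z₀ - (Abelian.Ext.mk₀ T.f).comp w₀ (zero_add i)).mapExactFunctor (𝓛)
        = 0 := by
      have hsub := ((𝓛).mapExtAddHom T.X₁ N i).map_sub ((s : R) • z₀)
        ((Abelian.Ext.mk₀ T.f).comp w₀ (zero_add i))
      simp only [Functor.mapExtAddHom_apply] at hsub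
      have hA : ((s : R) • z₀).mapExactFunctor (𝓛) =
          algebraMap R (Localization S) (s : R) • z₀.mapExactFunctor (𝓛) := mapExt_smul S _ _
      have hB : ((Abelian.Ext.mk₀ T.f).comp w₀ (zero_add i)).mapExactFunctor (𝓛) =
          algebraMap R (Localization S) (s : R) • z₀.mapExactFunctor (𝓛) := by
        rw [Abelian.Ext.mapExactFunctor_comp, Abelian.Ext.mapExactFunctor_mk₀, ← hs, ← hx₂]
        exact Abelian.Ext.comp_smul _ _ _ _
      rw [hsub, hA, hB, sub_self]
    obtain ⟨t, ht⟩ := iK _ h2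
    have h3 : (t : R) • ((s : R) • z₀) =
        (t : R) • (Abelian.Ext.mk₀ T.f).comp w₀ (zero_add i) := by
      rw [smul_sub, sub_eq_zero] at ht
      exact ht
    refine ⟨t * s, ?_⟩
    rw [← hz₀, Submonoid.coe_mul, mul_smul, ← Abelian.Ext.comp_smul, ← Abelian.Ext.comp_smul, h3,
      Abelian.Ext.comp_smul, hT.extClass_comp_assoc, smul_zero]

theorem key [IsNoetherianRing R] (N : ModuleCat.{u} R) :
    ∀ (i : ℕ) (M : Type u) [AddCommGroup M] [Module R M] [Module.Finite R M],
      SurjUpTo S N (ModuleCat.of R M) i ∧ InjUpTo S N (ModuleCat.of R M) i := by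
  intro i
  induction i with
  | zero =>
    intro M _ _ _
    exact base S N (ModuleCat.of R M)
  | succ i ih =>
    intro M _ _ _
    obtain ⟨n, π, hπ⟩ := Module.Finite.exists_fin' R M
    let K : Submodule R (Fin n → R) := LinearMap.ker π
    let T : ShortComplex (ModuleCat.{u} R) :=
      ModuleCat.shortComplexOfCompEqZero K.subtype π (LinearMap.comp_ker_subtype π)
    have hT : T.ShortExact := ModuleCat.shortComplex_shortExact T
      (LinearMap.exact_subtype_ker_map π) Subtype.val_injective hπ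
    haveI : Projective T.X₂ :=
      (IsProjective.iff_projective (R := R) (Fin n → R)).mp inferInstance
    exact step S N hT i (ih K).1 (ih K).2 (ih (Fin n → R)).1

theorem main [IsNoetherianRing R] (M N : ModuleCat.{u} R) [Module.Finite R M] (i : ℕ) :
    (∀ y : Abelian.Ext ((𝓛).obj M) ((𝓛).obj N) i,
        ∃ (e : Abelian.Ext M N i) (s : S),
          algebraMap R (Localization S) (s : R) • y = (𝓛).mapExtAddHom M N i e) ∧
      (∀ e : Abelian.Ext M N i,
        (𝓛).mapExtAddHom M N i e = 0 ↔ ∃ s : S, (s : R) • e = 0) := by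
  obtain ⟨h1, h2⟩ := key S N i (M : Type u)
  refine ⟨h1, fun e => ⟨h2 e, ?_⟩⟩
  rintro ⟨s, hs⟩
  have h := mapExt_smul S (s : R) e
  rw [hs, Abelian.Ext.mapExactFunctor_zero] at h
  exact (IsUnit.smul_eq_zero (IsLocalization.map_units (Localization S) s)).1 h.symm

end Groth.Agent.H58.ExtLoc
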