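import Mathlib

/-! (T3) for helper17's S0815 squad: strict drop of dimension. -/

set_option autoImplicit false
universe u

namespace Groth.Agent.H58.FC

theorem exists_nat_eq_of_ne_top_of_nonneg (y : WithBot ℕ∞) (h1 : y ≠ ⊤) (h2 : 0 ≤ y) :
    ∃ D : ℕ, y = ((D : ℕ) : WithBot ℕ∞) := by
  induction y using WithBot.recBotCoe with
  | bot => exact absurd h2 (by simp)
  | coe y =>
    induction y using ENat.recTopCoe with
    | top => exact absurd rfl h1
    | coe n => exact ⟨n, rfl⟩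

theorem dim_quotient_lt_of_forall_prime_lt (A : Type u) [CommRing A] [IsNoetherianRing A]
    [IsLocalRing A] (a K : Ideal A) (hK : K ≠ ⊤)
    (h : ∀ x : Ideal A, x.IsPrime → K ≤ x → ∃ q : Ideal A, q.IsPrime ∧ a ≤ q ∧ q < x) :
    ringKrullDim (A ⧸ K) < ringKrullDim (A ⧸ a) := by
  haveI : Nontrivial (A ⧸ K) := Ideal.Quotient.nontrivial_iff.mpr hK
  have h1 : ringKrullDim (A ⧸ K) < ⊤ :=
    lt_of_le_of_lt (ringKrullDim_quotient_le K) ringKrullDim_lt_top
  have h2 : 0 ≤ ringKrullDim (A ⧸ K) := ringKrullDim_nonneg_of_nontrivial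
  obtain ⟨D, hD⟩ := exists_nat_eq_of_ne_top_of_nonneg _ h1.ne h2
  have hD' : ((D : ℕ) : WithBot ℕ∞) ≤
      Order.krullDim ↥(PrimeSpectrum.zeroLocus (R := A) K) := by
    rw [← ringKrullDim_quotient, hD]
  obtain ⟨l, hl⟩ := Order.le_krullDim_iff.mp hD'
  have ha : ∀ x : ↥(PrimeSpectrum.zeroLocus (R := A) K),
      x.1 ∈ PrimeSpectrum.zeroLocus (R := A) a := by
    intro x
    obtain ⟨q, _, haq, hqx⟩ := h x.1.asIdeal x.1.isPrime
      (fun r hr => (PrimeSpectrum.mem_zeroLocus _ _).mp x.2 hr)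
    exact (PrimeSpectrum.mem_zeroLocus _ _).mpr (fun r hr => hqx.le (haq hr))
  let f : ↥(PrimeSpectrum.zeroLocus (R := A) K) → ↥(PrimeSpectrum.zeroLocus (R := A) a) :=
    fun x => ⟨x.1, ha x⟩
  have hf : StrictMono f := fun x y hxy => hxy
  obtain ⟨q, hq, haq, hqx⟩ := h l.head.1.asIdeal l.head.1.isPrime
    (fun r hr => (PrimeSpectrum.mem_zeroLocus _ _).mp l.head.2 hr)
  let q' : ↥(PrimeSpectrum.zeroLocus (R := A) a) :=
    ⟨⟨q, hq⟩, (PrimeSpectrum.mem_zeroLocus _ _).mpr (fun r hr => haq hr)⟩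
  have hrel : q' < (l.map f hf).head := by
    rw [LTSeries.head_map]
    exact hqx
  let l'' : LTSeries ↥(PrimeSpectrum.zeroLocus (R := A) a) := (l.map f hf).cons q' hrel
  have hlen : l''.length = D + 1 := by
    simp [l'', hl]
  have h3 := Order.LTSeries.length_le_krullDim l''
  rw [hD, ringKrullDim_quotient]
  refine lt_of_lt_of_le ?_ h3
  rw [hlen]
  exact_mod_cast Nat.lt_succ_self D

end Groth.Agent.H58.FC
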