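import Mathlib
import Groth.Prelude.Def_W4bk5brsh7111920
import Groth.Agent.H58.ConnDim2

/-! (T6a) for helper17's S0815 squad. -/

set_option autoImplicit false
universe u

namespace Groth.Agent.H58.FC

theorem add_one_le_of_lt_withBot (N : ℕ) (y : WithBot ℕ∞) (h : ((N : ℕ) : WithBot ℕ∞) < y) :
    ((N + 1 : ℕ) : WithBot ℕ∞) ≤ y := by
  induction y using WithBot.recBotCoe with
  | bot => exact absurd h not_lt_bot
  | coe y =>
    have h' : ((N : ℕ) : ℕ∞) < y := by exact_mod_cast h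
    have h'' : ((N + 1 : ℕ) : ℕ∞) ≤ y := by
      rw [Nat.cast_add, Nat.cast_one]
      exact Order.add_one_le_of_lt h'
    exact_mod_cast h''

theorem add_one_le_subdim (A : Type u) [CommRing A] [IsNoetherianRing A] [IsLocalRing A] (N : ℕ)
    (h : ∀ p ∈ minimalPrimes A, ((N : ℕ) : WithBot ℕ∞) < ringKrullDim (A ⧸ p)) :
    ((N + 1 : ℕ) : WithBot ℕ∞) ≤ LocCoh.subdim (PrimeSpectrum A) := by
  unfold LocCoh.subdim
  refine le_iInf₂ ?_
  intro Z hZ
  rw [← PrimeSpectrum.zeroLocus_minimalPrimes] at hZ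
  obtain ⟨p, hp, rfl⟩ := hZ
  have h1 := h p hp
  rw [← Groth.Agent.H58.ConnDim.dim_zeroLocus] at h1
  exact add_one_le_of_lt_withBot N _ h1

end Groth.Agent.H58.FC
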