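import Mathlib
import Groth.Agent.H72.LDLoc
import Groth.Agent.H58.LCRelCodim
import Groth.Agent.H58.LCDepth
import Groth.Agent.H29.CM4
import Groth.Agent.H71.StalkLoc
import Groth.Agent.H71.Catenary
import Groth.Agent.S0341
import Groth.Agent.S0603

/-!
# Generalized Cohen–Macaulay modules over images of Gorenstein local rings
-/

set_option autoImplicit false
universe u

open Groth.Agent.H71.CAT Groth.Agent.H58.LC Groth.Agent.H29.CM

namespace Groth.Agent.H58.GenCM

section cat

variable {A : Type u} [CommRing A] [IsNoetherianRing A]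

lemma sat_trans {x y z : PrimeSpectrum A} {a b : ℕ} (h1 : Sat x y a) (h2 : Sat y z b) :
    Sat x z (a + b) := by
  obtain ⟨t, ht1, ht2, ht3⟩ := h1
  obtain ⟨s, hs1, hs2, hs3⟩ := h2
  refine ⟨t.smash s (ht2.trans hs1.symm), ?_, ?_, ?_⟩
  · rw [RelSeries.head_smash]; exact ht1
  · rw [RelSeries.last_smash]; exact hs2
  · rw [RelSeries.smash_length, ht3, hs3]

variable [IsLocalRing A]

lemma dim_quot_le_height_add (hc : CAlg.IsCatenary A) (p₀ p : PrimeSpectrum A) (h : p₀ ≤ p) :
    ringKrullDim (A ⧸ p₀.asIdeal) ≤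
      ((Order.height (⟨p, h⟩ : Set.Ici p₀) : ℕ∞) : WithBot ℕ∞) +
        ringKrullDim (A ⧸ p.asIdeal) := by
  obtain ⟨a, ha⟩ := exists_sat_of_le h
  obtain ⟨b, hb⟩ := exists_sat p
  have hab := sat_trans ha hb
  rw [ringKrullDim_quotient_eq_coheight, ringKrullDim_quotient_eq_coheight,
    coheight_eq_of_sat hc hab, coheight_eq_of_sat hc hb]
  have h1 := sat_le_height ha h
  rw [← WithBot.coe_add, WithBot.coe_le_coe]
  push_cast
  exact add_le_add h1 le_rfl

end cat

lemma isCatenary_of_gorenstein_image (R' : Type u) [CommRing R'] [LocCoh.IsGorensteinLocalRing R']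
    (R : Type u) [CommRing R] (g : R' →+* R) (hg : Function.Surjective g) :
    CAlg.IsCatenary R := by
  have hCM : LocCoh.IsCohenMacaulayLocalRing R' := Groth.Agent.S0341.result R'
  haveI := hCM
  haveI : LocCoh.IsCohenMacaulayRing R' :=
    ⟨fun p hp => by
      haveI := hp
      exact Groth.Agent.H71.StalkLoc.isCM_localization hCM p⟩
  have h := Groth.Agent.S0603.result R'
  letI : Algebra R' R := g.toAlgebra
  exact h.2 R (RingHom.FiniteType.of_surjective g hg)

section main

variable (R : Type u) [CommRing R] [IsNoetherianRing R] [IsLocalRing R] (R' : Type u)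
  [CommRing R'] [LocCoh.IsGorensteinLocalRing R'] (g : R' →+* R) (hg : Function.Surjective g)
  (M : Type u) [AddCommGroup M] [Module R M] [Module.Finite R M] (n : ℕ)

include hg in
theorem step_A :
    (∀ i : ℕ, i < n → IsFiniteLength R (LocCoh.H (IsLocalRing.maximalIdeal R) i M)) ↔
      ∀ (p : Ideal R) [p.IsPrime], p ≠ IsLocalRing.maximalIdeal R → ∀ j e : ℕ,
        ringKrullDim (R ⧸ p) = (e : WithBot ℕ∞) → j + e < n →
        Subsingleton (LocCoh.H (IsLocalRing.maximalIdeal (Localization.AtPrime p)) j
          (LocalizedModule p.primeCompl M)) := by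
  letI : Algebra R' R := g.toAlgebra
  letI : Module R' M := Module.compHom M g
  haveI : IsScalarTower R' R M := IsScalarTower.of_algebraMap_smul (fun _ _ => rfl)
  constructor
  · intro h p hp hpm j e he hje
    have h1 := h (j + e) hje
    rw [Groth.Agent.H72.LDLoc.isFiniteLength_H_iff R M (j + e),
      Groth.Agent.H72.LDLoc.TBG R' R hg M (IsLocalRing.maximalIdeal R) (j + e)] at h1
    refine h1 p (fun hle => hpm ?_) j e he rfl
    exact ((IsLocalRing.maximalIdeal.isMaximal R).eq_of_le hp.ne_top hle).symm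
  · intro h i hi
    rw [Groth.Agent.H72.LDLoc.isFiniteLength_H_iff R M i,
      Groth.Agent.H72.LDLoc.TBG R' R hg M (IsLocalRing.maximalIdeal R) i]
    intro p hp hnle j e he hje
    exact h p (fun heq => hnle heq.ge) j e he (hje ▸ hi)

theorem step_B :
    (∀ (p : Ideal R) [p.IsPrime], p ≠ IsLocalRing.maximalIdeal R → ∀ j e : ℕ,
        ringKrullDim (R ⧸ p) = (e : WithBot ℕ∞) → j + e < n →
        Subsingleton (LocCoh.H (IsLocalRing.maximalIdeal (Localization.AtPrime p)) j
          (LocalizedModule p.primeCompl M))) ↔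
      ∀ (p : Ideal R) [p.IsPrime], p ≠ IsLocalRing.maximalIdeal R →
        Module.annihilator R M ≤ p → ∀ e : ℕ, ringKrullDim (R ⧸ p) = (e : WithBot ℕ∞) →
        (n : ℕ∞) ≤ LocCoh.depth (Localization.AtPrime p) (LocalizedModule p.primeCompl M) + e := by
  constructor
  · intro h p hp hpm hann e he
    haveI hnt : Nontrivial (LocalizedModule p.primeCompl M) := by
      rw [← Module.mem_support_iff (p := ⟨p, hp⟩), Module.mem_support_iff_of_finite]
      exact hann
    by_contra hlt
    rw [not_le] at hlt
    have hfin : LocCoh.depth (Localization.AtPrime p) (LocalizedModule p.primeCompl M) ≠ ⊤ := by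
      intro htop
      rw [htop, top_add] at hlt
      exact not_top_lt hlt
    obtain ⟨δ, hδ⟩ := ENat.ne_top_iff_exists.1 hfin
    rw [← hδ] at hlt
    have hlt' : δ + e < n := by exact_mod_cast hlt
    have hsub := h p hpm δ e he hlt'
    have hIM := Groth.Agent.H29.maximalIdeal_smul_top_ne_top (Localization.AtPrime p)
      (LocalizedModule p.primeCompl M)
    have hnt' := nontrivial_H_idealDepth (IsLocalRing.maximalIdeal (Localization.AtPrime p))
      (LocalizedModule p.primeCompl M) δ hδ.symm hIM
    exact (not_subsingleton_iff_nontrivial.2 hnt') hsub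
  · intro h p hp hpm j e he hje
    by_cases hsub : Subsingleton (LocalizedModule p.primeCompl M)
    · exact subsingleton_H_of_subsingleton _ j
    · haveI hnt : Nontrivial (LocalizedModule p.primeCompl M) :=
        not_subsingleton_iff_nontrivial.1 hsub
      have hann : Module.annihilator R M ≤ p := by
        have hs : (⟨p, hp⟩ : PrimeSpectrum R) ∈ Module.support R M := Module.mem_support_iff.2 hnt
        exact Module.mem_support_iff_of_finite.1 hs
      have h1 := h p hpm hann e he
      have hIM := Groth.Agent.H29.maximalIdeal_smul_top_ne_top (Localization.AtPrime p)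
        (LocalizedModule p.primeCompl M)
      refine subsingleton_H_of_lt_idealDepth _ _ (j + 1) ?_ hIM j (Nat.lt_succ_self j)
      by_contra hcon
      rw [not_le] at hcon
      have hcon' : LocCoh.depth (Localization.AtPrime p) (LocalizedModule p.primeCompl M) <
          (j : ℕ∞) + 1 := by exact_mod_cast hcon
      have h2 : LocCoh.depth (Localization.AtPrime p) (LocalizedModule p.primeCompl M) ≤ j :=
        Order.le_of_lt_add_one hcon'
      have h3 : (n : ℕ∞) ≤ (j : ℕ∞) + e := h1.trans (add_le_add h2 le_rfl)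
      have h4 : n ≤ j + e := by exact_mod_cast h3
      omega

include hg in
theorem step_C (hn : Module.supportDim R M = n) :
    (∀ (p : Ideal R) [p.IsPrime], p ≠ IsLocalRing.maximalIdeal R →
        Module.annihilator R M ≤ p → ∀ e : ℕ, ringKrullDim (R ⧸ p) = (e : WithBot ℕ∞) →
        (n : ℕ∞) ≤ LocCoh.depth (Localization.AtPrime p) (LocalizedModule p.primeCompl M) + e) ↔
      ((∀ p ∈ (Module.annihilator R M).minimalPrimes, ringKrullDim (R ⧸ p) = n) ∧
        ∀ (p : Ideal R) [p.IsPrime], p ≠ IsLocalRing.maximalIdeal R →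
          Module.annihilator R M ≤ p →
          LocCoh.IsCohenMacaulayModule (Localization.AtPrime p)
            (LocalizedModule p.primeCompl M)) := by
  have hcat : CAlg.IsCatenary R := isCatenary_of_gorenstein_image R' R g hg
  have hn' : Module.supportDim R M = ((n : ℕ∞) : WithBot ℕ∞) := by rw [hn]; rfl
  constructor
  · intro h
    constructor
    · intro p₀ hp₀
      haveI hp₀p : p₀.IsPrime := hp₀.1.1
      have hsupp : (⟨p₀, hp₀p⟩ : PrimeSpectrum R) ∈ Module.support R M :=
        Module.mem_support_iff_of_finite.2 hp₀.1.2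
      have hle : ringKrullDim (R ⧸ p₀) ≤ (n : WithBot ℕ∞) :=
        hn ▸ ringKrullDim_quotient_le_supportDim ⟨p₀, hp₀p⟩ hsupp
      apply le_antisymm hle
      by_cases hpm : p₀ = IsLocalRing.maximalIdeal R
      · have hsub : Subsingleton (Module.support R M) := by
          have key : ∀ q : Module.support R M, q.1.asIdeal = IsLocalRing.maximalIdeal R := by
            intro q
            have hq : Module.annihilator R M ≤ q.1.asIdeal :=
              Module.mem_support_iff_of_finite.1 q.2
            have hqm : q.1.asIdeal ≤ p₀ := hpm ▸ IsLocalRing.le_maximalIdeal q.1.2.ne_top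
            have := hp₀.2 ⟨q.1.2, hq⟩ hqm
            exact le_antisymm (hpm ▸ hqm) (hpm ▸ this)
          exact ⟨fun a b => Subtype.ext (PrimeSpectrum.ext ((key a).trans (key b).symm))⟩
        have hn0 : Module.supportDim R M ≤ 0 := Order.krullDim_nonpos_of_subsingleton
        rw [hn] at hn0
        exact hn0.trans ringKrullDim_nonneg_of_nontrivial
      · obtain ⟨e, he⟩ := exists_nat_ringKrullDim_quotient p₀
        have he' : ringKrullDim (R ⧸ p₀) = (e : WithBot ℕ∞) := by rw [he]; rfl
        have h1 := h p₀ hpm hp₀.1.2 e he'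
        have hass : p₀ ∈ associatedPrimes R M :=
          Module.associatedPrimes.minimalPrimes_annihilator_subset_associatedPrimes R M hp₀
        rw [depth_eq_zero_of_mem_associatedPrimes p₀ M hass, zero_add] at h1
        rw [he]
        exact_mod_cast h1
    · intro p hp hpm hann
      haveI hnt : Nontrivial (LocalizedModule p.primeCompl M) := by
        rw [← Module.mem_support_iff (p := ⟨p, hp⟩), Module.mem_support_iff_of_finite]
        exact hann
      have hsupp : (⟨p, hp⟩ : PrimeSpectrum R) ∈ Module.support R M :=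
        Module.mem_support_iff_of_finite.2 hann
      obtain ⟨e, he⟩ := exists_nat_ringKrullDim_quotient p
      have he' : ringKrullDim (R ⧸ p) = (e : WithBot ℕ∞) := by rw [he]; rfl
      have h1 := h p hpm hann e he'
      have hF1 := supportDim_atPrime_add_ringKrullDim_quotient_le (M := M) ⟨p, hp⟩ hsupp
      have hF2 := depth_le_supportDim (A := Localization.AtPrime p)
        (M := LocalizedModule p.primeCompl M)
      obtain ⟨d, hd⟩ := exists_nat_supportDim (A := Localization.AtPrime p)
        (M := LocalizedModule p.primeCompl M)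
      show Module.supportDim (Localization.AtPrime p) (LocalizedModule p.primeCompl M) = _
      have hF1' : ((d : ℕ∞) : WithBot ℕ∞) + ((e : ℕ∞) : WithBot ℕ∞) ≤
          ((n : ℕ∞) : WithBot ℕ∞) := by
        rw [← hd, ← he, ← hn']
        exact hF1
      rw [hd] at hF2 ⊢
      have hF2' : LocCoh.depth (Localization.AtPrime p) (LocalizedModule p.primeCompl M) ≤
          (d : ℕ∞) := WithBot.coe_le_coe.1 hF2
      obtain ⟨δ, hδ⟩ := ENat.ne_top_iff_exists.1
        (ne_top_of_le_ne_top (ENat.coe_ne_top d) hF2')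
      rw [← hδ] at h1 hF2' ⊢
      have a1 : δ ≤ d := by exact_mod_cast hF2'
      have a2 : d + e ≤ n := by exact_mod_cast hF1'
      have a3 : n ≤ δ + e := by exact_mod_cast h1
      have a4 : d = δ := by omega
      rw [a4]
  · rintro ⟨h2a, h2b⟩ p hp hpm hann e he
    have hcm : Module.supportDim (Localization.AtPrime p) (LocalizedModule p.primeCompl M) =
        ((LocCoh.depth (Localization.AtPrime p) (LocalizedModule p.primeCompl M) : ℕ∞) :
          WithBot ℕ∞) := h2b p hpm hann
    obtain ⟨P₀, hP₀min, hP₀p⟩ := Ideal.exists_minimalPrimes_le hann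
    haveI hP₀prime : P₀.IsPrime := hP₀min.1.1
    have hdim := h2a P₀ hP₀min
    have h1 := dim_quot_le_height_add hcat ⟨P₀, hP₀prime⟩ ⟨p, hp⟩ hP₀p
    have h2 := height_Ici_le_supportDim M ⟨P₀, hP₀prime⟩ ⟨p, hp⟩ hP₀min.1.2 hP₀p
    rw [hcm] at h2
    have h1' : ((n : ℕ∞) : WithBot ℕ∞) ≤
        ((Order.height (⟨⟨p, hp⟩, hP₀p⟩ : Set.Ici (⟨P₀, hP₀prime⟩ : PrimeSpectrum R)) : ℕ∞) :
          WithBot ℕ∞) + ((e : ℕ∞) : WithBot ℕ∞) := by
      have h3 : ringKrullDim (R ⧸ P₀) = ((n : ℕ∞) : WithBot ℕ∞) := by rw [hdim]; rfl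
      have h4 : ringKrullDim (R ⧸ p) = ((e : ℕ∞) : WithBot ℕ∞) := by rw [he]; rfl
      rw [← h3, ← h4]
      exact h1
    have h5 : ((n : ℕ∞) : WithBot ℕ∞) ≤
        ((LocCoh.depth (Localization.AtPrime p) (LocalizedModule p.primeCompl M) + (e : ℕ∞) : ℕ∞) :
          WithBot ℕ∞) := by
      rw [WithBot.coe_add]
      exact h1'.trans (add_le_add h2 le_rfl)
    exact WithBot.coe_le_coe.1 h5

end main

end Groth.Agent.H58.GenCM
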