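import Mathlib
import Groth.Agent.H82.TorFlat

/-!
# Graded freeness criterion

`S = k[x_i]`, `I = S₊ = ker constantCoeff`, `M` a finite `ℕ`-graded `S`-module.
If `M ⊗ I → M` is injective (e.g. `Tor₁(M, S/I) = 0`) then `M` has a homogeneous basis.
-/

set_option autoImplicit false
set_option linter.unusedSectionVars false
set_option linter.unusedVariables false
set_option linter.style.haveILetI false

universe u
open CategoryTheory TensorProduct

namespace Groth.Agent.H58.GrFree

section Tor

set_option backward.isDefEq.respectTransparency false in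
theorem lTensor_injective_of_tor (A : Type u) [CommRing A] (M : Type u) [AddCommGroup M]
    [Module A M] (I : Ideal A)
    (h : Limits.IsZero (((Tor (ModuleCat.{u} A) 1).obj (ModuleCat.of A M)).obj
      (ModuleCat.of A (A ⧸ I)))) :
    Function.Injective (I.subtype.lTensor M) := by
  have hS := Groth.Agent.H82.TorFlat.shortExact_of (A := A) I.subtype I.mkQ I.injective_subtype
    I.mkQ_surjective (LinearMap.exact_subtype_mkQ I)
  have hmono := Groth.Agent.H82.TorFlat.mono_whiskerLeft_of_isZero_tor_one (ModuleCat.of A M) _ hS h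
  rw [ModuleCat.mono_iff_injective] at hmono
  exact hmono

end Tor

variable {k : Type u} [Field k] {σ : Type*}
variable {M : Type u} [AddCommGroup M] [Module (MvPolynomial σ k) M]
  (ℳ : ℕ → AddSubgroup M) [SetLike.GradedSMul (MvPolynomial.homogeneousSubmodule σ k) ℳ]
  [DirectSum.Decomposition ℳ]

/-- The additive projection onto the degree-`e` part. -/
noncomputable def projHom (e : ℕ) : M →+ M :=
  (ℳ e).subtype.comp ((DFinsupp.evalAddMonoidHom e).comp
    (DirectSum.decomposeAddEquiv ℳ).toAddMonoidHom)

lemma projHom_apply (e : ℕ) (x : M) : projHom ℳ e x = ((DirectSum.decompose ℳ x) e : M) := rfl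

/-- degree-`e` component of `a • m` for `m` homogeneous of degree `d`. -/
lemma projHom_smul_of_mem (a : MvPolynomial σ k) {m : M} {d : ℕ} (hm : m ∈ ℳ d) (e : ℕ) :
    projHom ℳ e (a • m) =
      (if d ≤ e then MvPolynomial.homogeneousComponent (e - d) a else 0) • m := by
  classical
  have hterm : ∀ i, projHom ℳ e (MvPolynomial.homogeneousComponent i a • m) =
      if i + d = e then MvPolynomial.homogeneousComponent i a • m else 0 := by
    intro i
    have hmem : MvPolynomial.homogeneousComponent i a • m ∈ ℳ (i + d) := by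
      have := SetLike.GradedSMul.smul_mem (A := MvPolynomial.homogeneousSubmodule σ k) (B := ℳ)
        (MvPolynomial.homogeneousComponent_mem i a) hm
      simpa using this
    rw [projHom_apply]
    split_ifs with h
    · subst h
      exact DirectSum.decompose_of_mem_same ℳ hmem
    · exact DirectSum.decompose_of_mem_ne ℳ hmem h
  conv_lhs => rw [← MvPolynomial.sum_homogeneousComponent a, Finset.sum_smul, map_sum]
  simp only [hterm]
  split_ifs with hde
  · rw [Finset.sum_eq_single (e - d)]
    · rw [if_pos (by omega)]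
    · intro i _ hi
      rw [if_neg (by omega)]
    · intro hnot
      rw [if_pos (by omega)]
      have h0 : MvPolynomial.homogeneousComponent (e - d) a = 0 :=
        MvPolynomial.homogeneousComponent_eq_zero _ _ (by
          simp only [Finset.mem_range, not_lt] at hnot
          omega)
      rw [h0, zero_smul]
  · rw [zero_smul]
    apply Finset.sum_eq_zero
    intro i _
    rw [if_neg (by omega)]

lemma span_homogeneous_eq_top :
    Submodule.span (MvPolynomial σ k) {x : M | SetLike.IsHomogeneousElem ℳ x} = ⊤ := by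
  classical
  rw [eq_top_iff]
  intro x _
  rw [← DirectSum.sum_support_decompose ℳ x]
  apply Submodule.sum_mem
  intro i _
  apply Submodule.subset_span
  exact ⟨i, (DirectSum.decompose ℳ x i).2⟩

/-- A relation with a nonzero constant coefficient at `j₀` lets us drop `j₀`. -/
lemma mem_span_erase [DecidableEq M] (s : Finset M) (hs : ∀ x ∈ s, SetLike.IsHomogeneousElem ℳ x)
    (κ : ↥s → MvPolynomial σ k) (hκ : ∑ j : ↥s, κ j • (j : M) = 0) (j₀ : ↥s)
    (h0 : MvPolynomial.constantCoeff (κ j₀) ≠ 0) :
    (j₀ : M) ∈ Submodule.span (MvPolynomial σ k) (↑(s.erase (j₀ : M)) : Set M) := by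
  classical
  choose d hd using fun j : ↥s => hs j.1 j.2
  set e := d j₀ with he
  set c : ↥s → MvPolynomial σ k := fun j =>
    if d j ≤ e then MvPolynomial.homogeneousComponent (e - d j) (κ j) else 0 with hc
  have hsum : ∑ j : ↥s, c j • (j : M) = 0 := by
    have h1 := congrArg (projHom ℳ e) hκ
    rw [map_sum, map_zero] at h1
    rw [← h1]
    apply Finset.sum_congr rfl
    intro j _
    rw [projHom_smul_of_mem ℳ (κ j) (hd j) e]
  set u : k := MvPolynomial.constantCoeff (κ j₀) with hu
  have hcj : c j₀ = MvPolynomial.C u := by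
    simp only [hc, he, le_refl, if_true, Nat.sub_self]
    rw [MvPolynomial.homogeneousComponent_zero, hu, MvPolynomial.constantCoeff_eq]
  rw [← Finset.add_sum_erase Finset.univ _ (Finset.mem_univ j₀), hcj] at hsum
  have h2 : MvPolynomial.C u • (j₀ : M) = - ∑ j ∈ Finset.univ.erase j₀, c j • (j : M) :=
    eq_neg_of_add_eq_zero_left hsum
  have h3 : (j₀ : M) = - (MvPolynomial.C (σ := σ) u⁻¹ •
      ∑ j ∈ Finset.univ.erase j₀, c j • (j : M)) := by
    calc (j₀ : M) = (MvPolynomial.C (σ := σ) u⁻¹ * MvPolynomial.C u) • (j₀ : M) := by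
          rw [← MvPolynomial.C_mul, inv_mul_cancel₀ h0, MvPolynomial.C_1, one_smul]
      _ = _ := by rw [mul_smul, h2, smul_neg]
  have key : - (MvPolynomial.C (σ := σ) u⁻¹ • ∑ j ∈ Finset.univ.erase j₀, c j • (j : M)) ∈
      Submodule.span (MvPolynomial σ k) (↑(s.erase (j₀ : M)) : Set M) := by
    apply Submodule.neg_mem
    apply Submodule.smul_mem
    apply Submodule.sum_mem
    intro j hj
    apply Submodule.smul_mem
    apply Submodule.subset_span
    exact Finset.mem_coe.2 (Finset.mem_erase.2
      ⟨fun h => (Finset.mem_erase.1 hj).1 (Subtype.ext h), j.2⟩)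
  rw [← h3] at key
  exact key

/-- Main algebraic step: relations among a minimal homogeneous generating set lie in `I • K`. -/
lemma ker_le_smul_ker [DecidableEq M] (s : Finset M)
    (hinj : Function.Injective
      ((RingHom.ker (MvPolynomial.constantCoeff : MvPolynomial σ k →+* k)).subtype.lTensor M))
    (hsurj : Function.Surjective
      (Fintype.linearCombination (MvPolynomial σ k) (fun j : ↥s => (j : M))))
    (hB : ∀ κ : ↥s → MvPolynomial σ k, ∑ j : ↥s, κ j • (j : M) = 0 →
      ∀ j, MvPolynomial.constantCoeff (κ j) = 0) :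
    LinearMap.ker (Fintype.linearCombination (MvPolynomial σ k) (fun j : ↥s => (j : M))) ≤
      (RingHom.ker (MvPolynomial.constantCoeff : MvPolynomial σ k →+* k)) •
        LinearMap.ker (Fintype.linearCombination (MvPolynomial σ k) (fun j : ↥s => (j : M))) := by
  classical
  set S := MvPolynomial σ k
  set I : Ideal S := RingHom.ker (MvPolynomial.constantCoeff : MvPolynomial σ k →+* k) with hI
  set π : (↥s → S) →ₗ[S] M := Fintype.linearCombination S (fun j : ↥s => (j : M)) with hπ
  set K := LinearMap.ker π with hK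
  intro κ hκ
  have hκ0 : ∑ j : ↥s, κ j • (j : M) = 0 := by
    have : π κ = 0 := hκ
    rwa [hπ, Fintype.linearCombination_apply] at this
  have hκI : ∀ j, κ j ∈ I := fun j => (RingHom.mem_ker).2 (hB κ hκ0 j)
  -- the multiplication maps
  let μ : (↥s → S) ⊗[S] ↥I →ₗ[S] (↥s → S) :=
    (TensorProduct.rid S (↥s → S)).toLinearMap ∘ₗ (I.subtype.lTensor (↥s → S))
  let ν : M ⊗[S] ↥I →ₗ[S] M := (TensorProduct.rid S M).toLinearMap ∘ₗ (I.subtype.lTensor M)
  have hμ : ∀ (c : ↥s → S) (b : ↥I), μ (c ⊗ₜ[S] b) = (b : S) • c := by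
    intro c b
    simp [μ]
  have hν : ∀ (m : M) (b : ↥I), ν (m ⊗ₜ[S] b) = (b : S) • m := by
    intro m b
    simp [ν]
  have hνinj : Function.Injective ν := by
    intro x y hxy
    exact hinj ((TensorProduct.rid S M).injective hxy)
  have hcomm : ν ∘ₗ (π.rTensor ↥I) = π ∘ₗ μ := by
    apply TensorProduct.ext'
    intro c b
    simp only [LinearMap.comp_apply, LinearMap.rTensor_tmul, hμ, hν, map_smul]
  let ξ : (↥s → S) ⊗[S] ↥I := ∑ j : ↥s, (Pi.single j (1 : S) : ↥s → S) ⊗ₜ[S] (⟨κ j, hκI j⟩ : ↥I)
  have hμξ : μ ξ = κ := by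
    simp only [ξ, map_sum, hμ]
    funext i
    simp [Finset.sum_apply, Pi.single_apply]
  have hζ : (π.rTensor ↥I) ξ = 0 := by
    apply hνinj
    have := LinearMap.congr_fun hcomm ξ
    simp only [LinearMap.comp_apply] at this
    rw [this, hμξ, map_zero]
    exact hκ
  have hex := rTensor_exact (↥I) (LinearMap.exact_subtype_ker_map π) hsurj
  obtain ⟨η, hη⟩ := (hex ξ).1 hζ
  have hmem : ∀ η : ↥K ⊗[S] ↥I, μ ((K.subtype.rTensor ↥I) η) ∈ I • K := by
    intro η
    induction η using TensorProduct.induction_on with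
    | zero => simp
    | tmul x b =>
      rw [LinearMap.rTensor_tmul, hμ]
      exact Submodule.smul_mem_smul b.2 x.2
    | add x y hx hy =>
      rw [map_add, map_add]
      exact Submodule.add_mem _ hx hy
  rw [← hμξ, ← hη]
  exact hmem η

theorem exists_homogeneous_basis [Finite σ] [Module.Finite (MvPolynomial σ k) M]
    (hinj : Function.Injective
      ((RingHom.ker (MvPolynomial.constantCoeff : MvPolynomial σ k →+* k)).subtype.lTensor M)) :
    ∃ (ι : Type u) (b : Module.Basis ι (MvPolynomial σ k) M),
      ∀ i, SetLike.IsHomogeneousElem ℳ (b i) := by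
  classical
  set S := MvPolynomial σ k
  set I : Ideal S := RingHom.ker (MvPolynomial.constantCoeff : MvPolynomial σ k →+* k) with hI
  -- a finite homogeneous generating set
  have h1 : (Submodule.span S {x : M | SetLike.IsHomogeneousElem ℳ x}).FG := by
    rw [span_homogeneous_eq_top]
    exact Module.Finite.fg_top
  obtain ⟨t, ht, hts⟩ := (Submodule.fg_span_iff_fg_span_finset_subset _).1 h1
  rw [span_homogeneous_eq_top] at hts
  -- a minimal one
  let P : ℕ → Prop := fun n => ∃ s : Finset M, s.card = n ∧
    (∀ x ∈ s, SetLike.IsHomogeneousElem ℳ x) ∧ Submodule.span S (↑s : Set M) = ⊤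
  have hP : ∃ n, P n := ⟨t.card, t, rfl, fun x hx => ht hx, hts.symm⟩
  obtain ⟨s, hscard, hshom, hsspan⟩ := Nat.find_spec hP
  have hmin : ∀ s' : Finset M, (∀ x ∈ s', SetLike.IsHomogeneousElem ℳ x) →
      Submodule.span S (↑s' : Set M) = ⊤ → s.card ≤ s'.card := by
    intro s' h1 h2
    rw [hscard]
    exact Nat.find_min' hP ⟨s', rfl, h1, h2⟩
  -- relations have no constant coefficients
  have hB : ∀ κ : ↥s → S, ∑ j : ↥s, κ j • (j : M) = 0 →
      ∀ j, MvPolynomial.constantCoeff (κ j) = 0 := by
    intro κ hκ j₀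
    by_contra h0
    have hmem := mem_span_erase ℳ s hshom κ hκ j₀ h0
    have hle : Submodule.span S (↑s : Set M) ≤ Submodule.span S (↑(s.erase (j₀ : M)) : Set M) := by
      rw [Submodule.span_le]
      intro x hx
      by_cases hxj : x = (j₀ : M)
      · rw [hxj]
        exact hmem
      · exact Submodule.subset_span (Finset.mem_coe.2 (Finset.mem_erase.2 ⟨hxj, hx⟩))
    have hspan' : Submodule.span S (↑(s.erase (j₀ : M)) : Set M) = ⊤ := by
      rw [eq_top_iff, ← hsspan]
      exact hle
    have := hmin (s.erase (j₀ : M)) (fun x hx => hshom x (Finset.mem_of_mem_erase hx)) hspan'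
    have hlt := Finset.card_erase_lt_of_mem j₀.2
    omega
  set π : (↥s → S) →ₗ[S] M := Fintype.linearCombination S (fun j : ↥s => (j : M)) with hπ
  have hrange : Set.range (fun j : ↥s => (j : M)) = (↑s : Set M) := by
    ext x
    simp
  have hsurj : Function.Surjective π := by
    rw [← LinearMap.range_eq_top, hπ, Fintype.range_linearCombination, hrange, hsspan]
  have hle := ker_le_smul_ker s hinj hsurj hB
  haveI : IsNoetherianRing S := inferInstance
  haveI : IsNoetherian S (↥s → S) := inferInstance
  have hfg : (LinearMap.ker π).FG := IsNoetherian.noetherian _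
  obtain ⟨r, hr1, hr2⟩ :=
    Submodule.exists_sub_one_mem_and_smul_eq_zero_of_fg_of_le_smul I (LinearMap.ker π) hfg hle
  have hr0 : r ≠ 0 := by
    intro h
    rw [h, zero_sub] at hr1
    have h1 : (1 : S) ∈ I := by
      have := I.neg_mem hr1
      rwa [neg_neg] at this
    rw [hI, RingHom.mem_ker, map_one] at h1
    exact one_ne_zero h1
  have hli : LinearIndependent S (fun j : ↥s => (j : M)) := by
    rw [Fintype.linearIndependent_iff]
    intro κ hκ j
    have hκK : κ ∈ LinearMap.ker π := by
      rw [LinearMap.mem_ker, hπ, Fintype.linearCombination_apply]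
      exact hκ
    have := congrFun (hr2 κ hκK) j
    simp only [Pi.smul_apply, smul_eq_mul, Pi.zero_apply, mul_eq_zero] at this
    exact this.resolve_left hr0
  have hsp : ⊤ ≤ Submodule.span S (Set.range (fun j : ↥s => (j : M))) := by
    rw [hrange, hsspan]
  refine ⟨↥s, Module.Basis.mk hli hsp, fun i => ?_⟩
  rw [Module.Basis.mk_apply]
  exact hshom i.1 i.2

end Groth.Agent.H58.GrFree
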