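import Mathlib

/-!
# S8161 squad (A1): convergence of `a n / p^(d n)` from the Hilbert–Kunz recursion
-/

set_option autoImplicit false
universe u
open Filter Topology

namespace Groth.Agent.H58.HK_A1

lemma eps_le (P : ℝ) (hP : 2 ≤ P) (C : ℝ) (hC : 0 ≤ C) (d n : ℕ) :
    C / (P ^ d * P ^ n) ≤ C * (1 / 2) ^ n := by
  have hP1 : (1 : ℝ) ≤ P := by linarith
  have h1 : (1 : ℝ) ≤ P ^ d := one_le_pow₀ hP1
  have h2 : (2 : ℝ) ^ n ≤ P ^ n := pow_le_pow_left₀ (by norm_num) hP n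
  have h3 : (0 : ℝ) < 2 ^ n := by positivity
  have h4 : (2 : ℝ) ^ n ≤ P ^ d * P ^ n := by nlinarith
  calc C / (P ^ d * P ^ n) ≤ C / 2 ^ n := div_le_div_of_nonneg_left hC h3 h4
    _ = C * (1 / 2) ^ n := by rw [one_div, inv_pow, div_eq_mul_inv]

lemma aux (A' A r C X Y Z : ℝ) (hX : 0 < X) (hY : 0 < Y) (hZ : 0 < Z)
    (h : A' * Z ≤ r * A * Z + C * X) : A' / (X * Y) ≤ (r / Y) * (A / X) + C / (Y * Z) := by
  have key : (r / Y) * (A / X) + C / (Y * Z) - A' / (X * Y) =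
      (r * A * Z + C * X - A' * Z) / (X * Y * Z) := by
    field_simp
  have h0 : 0 ≤ (r * A * Z + C * X - A' * Z) / (X * Y * Z) :=
    div_nonneg (sub_nonneg.2 h) (by positivity)
  linarith

lemma aux' (A' A r C X Y Z : ℝ) (hX : 0 < X) (hY : 0 < Y) (hZ : 0 < Z)
    (h : r * A * Z ≤ A' * Z + C * X) : (r / Y) * (A / X) ≤ A' / (X * Y) + C / (Y * Z) := by
  have key : A' / (X * Y) + C / (Y * Z) - (r / Y) * (A / X) =
      (A' * Z + C * X - r * A * Z) / (X * Y * Z) := by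
    field_simp
  have h0 : 0 ≤ (A' * Z + C * X - r * A * Z) / (X * Y * Z) :=
    div_nonneg (sub_nonneg.2 h) (by positivity)
  linarith

/-- the normalised form of the two recursion inequalities -/
lemma step (p d C r : ℕ) (hp : 2 ≤ p) (a : ℕ → ℕ) (n : ℕ)
    (h1 : a (n + 1) * p ^ n ≤ r * a n * p ^ n + C * p ^ (n * d))
    (h2 : r * a n * p ^ n ≤ a (n + 1) * p ^ n + C * p ^ (n * d)) :
    (a (n + 1) : ℝ) / (p : ℝ) ^ ((n + 1) * d) ≤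
        ((r : ℝ) / (p : ℝ) ^ d) * ((a n : ℝ) / (p : ℝ) ^ (n * d)) +
          (C : ℝ) / ((p : ℝ) ^ d * (p : ℝ) ^ n) ∧
      ((r : ℝ) / (p : ℝ) ^ d) * ((a n : ℝ) / (p : ℝ) ^ (n * d)) ≤
        (a (n + 1) : ℝ) / (p : ℝ) ^ ((n + 1) * d) + (C : ℝ) / ((p : ℝ) ^ d * (p : ℝ) ^ n) := by
  have hPpos : (0 : ℝ) < (p : ℝ) := by
    have : (0 : ℕ) < p := by omega
    exact_mod_cast this
  have h1' : (a (n + 1) : ℝ) * (p : ℝ) ^ n ≤
      (r : ℝ) * a n * (p : ℝ) ^ n + C * (p : ℝ) ^ (n * d) := by exact_mod_cast h1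
  have h2' : (r : ℝ) * a n * (p : ℝ) ^ n ≤
      (a (n + 1) : ℝ) * (p : ℝ) ^ n + C * (p : ℝ) ^ (n * d) := by exact_mod_cast h2
  have hexp : (p : ℝ) ^ ((n + 1) * d) = (p : ℝ) ^ (n * d) * (p : ℝ) ^ d := by
    rw [add_mul, one_mul, pow_add]
  rw [hexp]
  exact ⟨aux _ _ _ _ _ _ _ (pow_pos hPpos _) (pow_pos hPpos _) (pow_pos hPpos _) h1',
    aux' _ _ _ _ _ _ _ (pow_pos hPpos _) (pow_pos hPpos _) (pow_pos hPpos _) h2'⟩

lemma exists_eps_small (C δ : ℝ) (hC : 0 ≤ C) (hδ : 0 < δ) :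
    ∃ n0 : ℕ, ∀ n, n0 ≤ n → C * (1 / 2) ^ n ≤ δ := by
  have h1 : 0 < δ / (C + 1) := div_pos hδ (by linarith)
  obtain ⟨n0, hn0⟩ := exists_pow_lt_of_lt_one h1 (show (1 / 2 : ℝ) < 1 by norm_num)
  refine ⟨n0, fun n hn => ?_⟩
  have h2 : (1 / 2 : ℝ) ^ n ≤ (1 / 2) ^ n0 :=
    pow_le_pow_of_le_one (by norm_num) (by norm_num) hn
  have h3 : C * (1 / 2 : ℝ) ^ n ≤ C * (δ / (C + 1)) :=
    mul_le_mul_of_nonneg_left (h2.trans hn0.le) hC
  have h4 : C * (δ / (C + 1)) ≤ δ := by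
    rw [mul_div_assoc', div_le_iff₀ (by linarith)]
    nlinarith
  linarith

/-- (A1) analysis: convergence from the recursion. -/
theorem tendsto_of_rec (p d C : ℕ) (hp : 2 ≤ p) (a : ℕ → ℕ)
    (h1 : ∀ n, a (n + 1) * p ^ n ≤ p ^ d * a n * p ^ n + C * p ^ (n * d))
    (h2 : ∀ n, p ^ d * a n * p ^ n ≤ a (n + 1) * p ^ n + C * p ^ (n * d)) :
    ∃ L : ℝ, Tendsto (fun n : ℕ => (a n : ℝ) / (p : ℝ) ^ (d * n)) atTop (𝓝 L) := by
  have hP : (2 : ℝ) ≤ (p : ℝ) := by exact_mod_cast hp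
  have hPpos : (0 : ℝ) < (p : ℝ) := by linarith
  have hC : (0 : ℝ) ≤ (C : ℝ) := Nat.cast_nonneg C
  have hρ : ((p ^ d : ℕ) : ℝ) / (p : ℝ) ^ d = 1 := by
    rw [Nat.cast_pow, div_self (pow_pos hPpos d).ne']
  have hcauchy : CauchySeq (fun n : ℕ => (a n : ℝ) / (p : ℝ) ^ (d * n)) := by
    apply cauchySeq_of_le_geometric (1 / 2 : ℝ) (C : ℝ) (by norm_num)
    intro n
    obtain ⟨s1, s2⟩ := step p d C (p ^ d) hp a n (h1 n) (h2 n)
    rw [hρ, one_mul] at s1 s2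
    have he := eps_le (p : ℝ) hP (C : ℝ) hC d n
    rw [Real.dist_eq, mul_comm d n, mul_comm d (n + 1), abs_le]
    constructor <;> linarith
  exact cauchySeq_tendsto_of_complete hcauchy

end Groth.Agent.H58.HK_A1
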