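import Mathlib
import Groth.Agent.H58.HK_A1

/-!
# S8161 squad (A2): the growth rate from the Hilbert–Kunz recursion
-/

set_option autoImplicit false
universe u
open Filter Topology

namespace Groth.Agent.H58.HK_A2

open Groth.Agent.H58.HK_A1

/-- (A2) analysis: the growth rate from the recursion. -/
theorem eq_pow_of_rec (p d C r : ℕ) (hp : 2 ≤ p) (a : ℕ → ℕ) (c : ℝ) (hc : 0 < c)
    (hlow : ∀ n, c * (p : ℝ) ^ (n * d) ≤ (a n : ℝ)) (hup : ∀ n, a n ≤ C * p ^ (n * d))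
    (h1 : ∀ n, a (n + 1) * p ^ n ≤ r * a n * p ^ n + C * p ^ (n * d))
    (h2 : ∀ n, r * a n * p ^ n ≤ a (n + 1) * p ^ n + C * p ^ (n * d)) :
    r = p ^ d := by
  have hP : (2 : ℝ) ≤ (p : ℝ) := by exact_mod_cast hp
  have hPpos : (0 : ℝ) < (p : ℝ) := by linarith
  have hC : (0 : ℝ) ≤ (C : ℝ) := Nat.cast_nonneg C
  set b : ℕ → ℝ := fun n => (a n : ℝ) / (p : ℝ) ^ (n * d) with hb
  set ρ : ℝ := (r : ℝ) / (p : ℝ) ^ d with hρ
  have hρ0 : 0 ≤ ρ := div_nonneg (Nat.cast_nonneg r) (pow_pos hPpos d).le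
  have F1 : ∀ n, c ≤ b n := fun n => (le_div_iff₀ (pow_pos hPpos _)).2 (hlow n)
  have F2 : ∀ n, b n ≤ C := fun n => by
    show (a n : ℝ) / (p : ℝ) ^ (n * d) ≤ C
    rw [div_le_iff₀ (pow_pos hPpos _)]
    exact_mod_cast hup n
  have F3 : ∀ n, b (n + 1) ≤ ρ * b n + (C : ℝ) * (1 / 2) ^ n := fun n => by
    have s1 := (step p d C r hp a n (h1 n) (h2 n)).1
    have he := eps_le (p : ℝ) hP (C : ℝ) hC d n
    show (a (n + 1) : ℝ) / (p : ℝ) ^ ((n + 1) * d) ≤
      (r : ℝ) / (p : ℝ) ^ d * ((a n : ℝ) / (p : ℝ) ^ (n * d)) + (C : ℝ) * (1 / 2) ^ n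
    linarith
  have F4 : ∀ n, ρ * b n ≤ b (n + 1) + (C : ℝ) * (1 / 2) ^ n := fun n => by
    have s2 := (step p d C r hp a n (h1 n) (h2 n)).2
    have he := eps_le (p : ℝ) hP (C : ℝ) hC d n
    show (r : ℝ) / (p : ℝ) ^ d * ((a n : ℝ) / (p : ℝ) ^ (n * d)) ≤
      (a (n + 1) : ℝ) / (p : ℝ) ^ ((n + 1) * d) + (C : ℝ) * (1 / 2) ^ n
    linarith
  suffices hρ1 : ρ = 1 by
    have h3 : (r : ℝ) = (p : ℝ) ^ d := by
      rw [hρ, div_eq_one_iff_eq (pow_pos hPpos d).ne'] at hρ1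
      exact hρ1
    exact_mod_cast h3
  rcases lt_trichotomy ρ 1 with hlt | heq | hgt
  · exfalso
    set q : ℝ := (1 + ρ) / 2 with hq
    have hq1 : q < 1 := by rw [hq]; linarith
    have hq0 : 0 ≤ q := by rw [hq]; linarith
    have hδ : 0 < (1 - ρ) * c / 2 := by
      have := mul_pos (sub_pos.2 hlt) hc
      linarith
    obtain ⟨n0, hn0⟩ := exists_eps_small (C : ℝ) ((1 - ρ) * c / 2) hC hδ
    have hstep : ∀ n, n0 ≤ n → b (n + 1) ≤ q * b n := by
      intro n hn
      have h5 := F3 n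
      have h6 := hn0 n hn
      have h7 := mul_nonneg (sub_nonneg.2 hlt.le) (sub_nonneg.2 (F1 n))
      rw [hq]
      nlinarith
    have hind : ∀ k, b (n0 + k) ≤ q ^ k * b n0 := by
      intro k
      induction k with
      | zero => simp
      | succ k ih =>
        calc b (n0 + (k + 1)) = b (n0 + k + 1) := by rw [add_assoc]
          _ ≤ q * b (n0 + k) := hstep _ (Nat.le_add_right _ _)
          _ ≤ q * (q ^ k * b n0) := mul_le_mul_of_nonneg_left ih hq0
          _ = q ^ (k + 1) * b n0 := by ring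
    have hcC : 0 < c / ((C : ℝ) + 1) := div_pos hc (by linarith)
    obtain ⟨k, hk⟩ := exists_pow_lt_of_lt_one hcC hq1
    have h8 := hind k
    have h9 := F1 (n0 + k)
    have h10 := F2 n0
    have h11 : q ^ k * b n0 ≤ q ^ k * C := mul_le_mul_of_nonneg_left h10 (pow_nonneg hq0 k)
    have h12 : q ^ k * (C : ℝ) < c := by
      have h14 : q ^ k * (C : ℝ) ≤ c / ((C : ℝ) + 1) * C := mul_le_mul_of_nonneg_right hk.le hC
      have h13 : c / ((C : ℝ) + 1) * C < c := by
        rw [div_mul_eq_mul_div, div_lt_iff₀ (by linarith)]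
        nlinarith
      linarith
    linarith
  · exact heq
  · exfalso
    set q : ℝ := (1 + ρ) / 2 with hq
    have hq1 : 1 < q := by rw [hq]; linarith
    have hδ : 0 < (ρ - 1) * c / 2 := by
      have := mul_pos (sub_pos.2 hgt) hc
      linarith
    obtain ⟨n0, hn0⟩ := exists_eps_small (C : ℝ) ((ρ - 1) * c / 2) hC hδ
    have hstep : ∀ n, n0 ≤ n → q * b n ≤ b (n + 1) := by
      intro n hn
      have h5 := F4 n
      have h6 := hn0 n hn
      have h7 := mul_nonneg (sub_nonneg.2 hgt.le) (sub_nonneg.2 (F1 n))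
      rw [hq]
      nlinarith
    have hind : ∀ k, q ^ k * b n0 ≤ b (n0 + k) := by
      intro k
      induction k with
      | zero => simp
      | succ k ih =>
        calc q ^ (k + 1) * b n0 = q * (q ^ k * b n0) := by ring
          _ ≤ q * b (n0 + k) := mul_le_mul_of_nonneg_left ih (by linarith)
          _ ≤ b (n0 + k + 1) := hstep _ (Nat.le_add_right _ _)
          _ = b (n0 + (k + 1)) := by rw [add_assoc]
    obtain ⟨k, hk⟩ := pow_unbounded_of_one_lt ((C : ℝ) / c) hq1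
    have h8 := hind k
    have h9 := F2 (n0 + k)
    have h10 := F1 n0
    have h11 : q ^ k * c ≤ q ^ k * b n0 :=
      mul_le_mul_of_nonneg_left h10 (pow_nonneg (by linarith) k)
    have h12 : (C : ℝ) < q ^ k * c := by
      rw [div_lt_iff₀ hc] at hk
      exact hk
    linarith

end Groth.Agent.H58.HK_A2
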