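import Mathlib
import Groth.Prelude.Def_Wider
import Groth.Agent.H58.IH
import Groth.Agent.H2.Matlis2
import Groth.Agent.S0299

/-!
Flat base change of the injective hull of the residue field (closed fibre a field).
-/

set_option autoImplicit false
universe u
open InjHull IsLocalRing TensorProduct

namespace Groth.Agent.H58.IHFlat

section tors

variable {R : Type u} [CommRing R] (I : Ideal R) (E : Type u) [AddCommGroup E] [Module R E]

/-- `Hom(R/I, E) → E[I]`, evaluation at one. -/
noncomputable def homToTors : ((R ⧸ I) →ₗ[R] E) →ₗ[R] LocCoh.torsionBy I E where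
  toFun φ := ⟨φ 1, by
    rw [Submodule.mem_torsionBySet_iff]
    rintro ⟨a, ha⟩
    show a • φ 1 = 0
    rw [← map_smul, Algebra.smul_def, mul_one, Ideal.Quotient.algebraMap_eq,
      Ideal.Quotient.eq_zero_iff_mem.2 ha, map_zero]⟩
  map_add' _ _ := Subtype.ext rfl
  map_smul' _ _ := Subtype.ext rfl

theorem homToTors_bijective : Function.Bijective (homToTors I E) := by
  constructor
  · intro φ ψ h
    have h1 : φ 1 = ψ 1 := congrArg Subtype.val h
    apply LinearMap.ext
    intro x
    obtain ⟨a, rfl⟩ := Ideal.Quotient.mk_surjective x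
    have h2 : (Ideal.Quotient.mk I a) = a • (1 : R ⧸ I) := by
      rw [Algebra.smul_def, mul_one]
      rfl
    rw [h2, map_smul, map_smul, h1]
  · rintro ⟨e, he⟩
    rw [Submodule.mem_torsionBySet_iff] at he
    refine ⟨Submodule.liftQ I (LinearMap.toSpanSingleton R E e) ?_, ?_⟩
    · intro a ha
      rw [LinearMap.mem_ker, LinearMap.toSpanSingleton_apply]
      exact he ⟨a, ha⟩
    · apply Subtype.ext
      show Submodule.liftQ I (LinearMap.toSpanSingleton R E e) _ (Submodule.Quotient.mk 1) = e
      rw [Submodule.liftQ_apply, LinearMap.toSpanSingleton_apply, one_smul]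

theorem length_tors : Module.length R (LocCoh.torsionBy I E) =
    Module.length R ((R ⧸ I) →ₗ[R] E) :=
  (LinearEquiv.ofBijective _ (homToTors_bijective I E)).length_eq.symm

end tors

section hullLength

variable {R : Type u} [CommRing R] [IsLocalRing R] [IsNoetherianRing R]
  {E : Type u} [AddCommGroup E] [Module R E]

theorem length_tors_hull (f : ResidueField R →ₗ[R] E) (hf : IsInjectiveHull f) (N : ℕ) :
    Module.length R (LocCoh.torsionBy (maximalIdeal R ^ N) E) =
      Module.length R (R ⧸ maximalIdeal R ^ N) := by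
  rw [length_tors, Groth.Agent.H2.Matlis.length_dual hf _
    (Groth.Agent.H2.Matlis.isFiniteLength_quotient_pow R N)]

end hullLength

variable {A : Type u} [CommRing A] [IsLocalRing A] [IsNoetherianRing A] {B : Type u} [CommRing B]
  [IsLocalRing B] [IsNoetherianRing B] [Algebra A B] [IsLocalHom (algebraMap A B)]
  [Module.Flat A B]
  {E : Type u} [AddCommGroup E] [Module A E]

omit [IsLocalRing A] [IsNoetherianRing A] [IsLocalRing B] [IsNoetherianRing B]
  [IsLocalHom (algebraMap A B)] [Module.Flat A B] in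
theorem smul_tmul_eq_zero (I : Ideal A) (e : E) (he : ∀ a ∈ I, a • e = 0) (β : B)
    (hβ : β ∈ I.map (algebraMap A B)) (b : B) : β • (b ⊗ₜ[A] e) = 0 := by
  refine Submodule.span_induction (p := fun β _ => β • (b ⊗ₜ[A] e) = 0) ?_ ?_ ?_ ?_ hβ
  · rintro x ⟨a, ha, rfl⟩
    rw [TensorProduct.smul_tmul', smul_eq_mul, ← Algebra.smul_def, TensorProduct.smul_tmul,
      he a ha, TensorProduct.tmul_zero]
  · exact zero_smul _ _
  · intro x y _ _ hx hy
    rw [add_smul, hx, hy, add_zero]
  · intro c x _ hx
    rw [smul_eq_mul, mul_smul, hx, smul_zero]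

omit [IsLocalRing A] [IsNoetherianRing A] [IsLocalRing B] [IsNoetherianRing B]
  [IsLocalHom (algebraMap A B)] [Module.Flat A B] in
theorem smul_baseChange_eq_zero (I : Ideal A) (β : B) (hβ : β ∈ I.map (algebraMap A B))
    (z : B ⊗[A] E) (hz : z ∈ (LocCoh.torsionBy I E).baseChange B) : β • z = 0 := by
  obtain ⟨w, rfl⟩ := hz
  induction w using TensorProduct.induction_on with
  | zero => rw [map_zero, smul_zero]
  | tmul b e =>
    rw [LinearMap.baseChange_tmul]
    exact smul_tmul_eq_zero I e.1
      (fun a ha => (Submodule.mem_torsionBySet_iff _ _).1 e.2 ⟨a, ha⟩) β hβ b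
  | add x y hx hy => rw [map_add, smul_add, hx, hy, add_zero]

omit [IsNoetherianRing A] [IsLocalRing B] [IsNoetherianRing B]
  [IsLocalHom (algebraMap A B)] [Module.Flat A B] in
theorem exists_mem_baseChange (hE : LocCoh.IsPowerTorsion (maximalIdeal A) E) (z : B ⊗[A] E) :
    ∃ N : ℕ, z ∈ (LocCoh.torsionBy (maximalIdeal A ^ N) E).baseChange B := by
  induction z using TensorProduct.induction_on with
  | zero => exact ⟨0, zero_mem _⟩
  | tmul b e =>
    obtain ⟨N, hN⟩ := hE e
    exact ⟨N, Submodule.tmul_mem_baseChange_of_mem b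
      ((Submodule.mem_torsionBySet_iff _ _).2 fun a => hN a.1 a.2)⟩
  | add x y hx hy =>
    obtain ⟨N, hN⟩ := hx
    obtain ⟨N', hN'⟩ := hy
    refine ⟨max N N', add_mem (Submodule.baseChange_mono B ?_ hN)
      (Submodule.baseChange_mono B ?_ hN')⟩
    · exact Submodule.torsionBySet_le_torsionBySet_of_subset
        (fun a ha => Ideal.pow_le_pow_right (le_max_left _ _) ha)
    · exact Submodule.torsionBySet_le_torsionBySet_of_subset
        (fun a ha => Ideal.pow_le_pow_right (le_max_right _ _) ha)

omit [IsNoetherianRing A] [IsNoetherianRing B] [IsLocalHom (algebraMap A B)] [Module.Flat A B] in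
theorem isPowerTorsion_tensor (hm : (maximalIdeal A).map (algebraMap A B) = maximalIdeal B)
    (hE : LocCoh.IsPowerTorsion (maximalIdeal A) E) :
    LocCoh.IsPowerTorsion (maximalIdeal B) (B ⊗[A] E) := by
  intro z
  obtain ⟨N, hN⟩ := exists_mem_baseChange hE z
  refine ⟨N, fun β hβ => smul_baseChange_eq_zero (maximalIdeal A ^ N) β ?_ z hN⟩
  rw [Ideal.map_pow, hm]
  exact hβ

omit [IsNoetherianRing B] [IsLocalRing B] [IsLocalHom (algebraMap A B)] in
theorem socle_tensor (f : ResidueField A →ₗ[A] E) (hf : IsInjectiveHull f) (z : B ⊗[A] E)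
    (hz : ∀ a ∈ maximalIdeal A, a • z = 0) : z ∈ LinearMap.range (f.lTensor B) := by
  classical
  obtain ⟨s, hs⟩ : (maximalIdeal A).FG := IsNoetherian.noetherian _
  have hsm : ∀ i : s, (i : A) ∈ maximalIdeal A := fun i => hs ▸ Submodule.subset_span i.2
  let T : E →ₗ[A] (s → E) := LinearMap.pi (fun i => (i : A) • LinearMap.id)
  have hex : Function.Exact f T := by
    intro e
    constructor
    · intro he
      apply Groth.Agent.H2.Matlis.socle hf e
      intro a ha
      rw [← hs] at ha
      refine Submodule.span_induction (p := fun a _ => a • e = 0) ?_ ?_ ?_ ?_ ha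
      · intro x hx
        exact congrFun he ⟨x, hx⟩
      · exact zero_smul _ _
      · intro x y _ _ hx hy
        rw [add_smul, hx, hy, add_zero]
      · intro c x _ hx
        rw [smul_eq_mul, mul_smul, hx, smul_zero]
    · rintro ⟨c, rfl⟩
      ext i
      show (i : A) • f c = 0
      exact Groth.Agent.H2.Matlis.maximalIdeal_smul_f f (hsm i) c
  have hex' := Module.Flat.lTensor_exact B hex
  apply (hex' z).1
  apply (TensorProduct.piRight A A B (fun _ : s => E)).injective
  rw [map_zero]
  have key : ∀ (w : B ⊗[A] E) (i : s),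
      TensorProduct.piRight A A B (fun _ : s => E) (T.lTensor B w) i = (i : A) • w := by
    intro w i
    induction w using TensorProduct.induction_on with
    | zero => simp
    | tmul b e =>
      rw [LinearMap.lTensor_tmul, TensorProduct.piRight_apply, TensorProduct.piRightHom_tmul,
        TensorProduct.smul_tmul', TensorProduct.smul_tmul]
      rfl
    | add x y hx hy => simp only [map_add, Pi.add_apply, hx, hy, smul_add]
  ext i
  rw [key]
  exact hz i (hsm i)

omit [IsNoetherianRing A] [IsLocalRing B] [IsNoetherianRing B] [IsLocalHom (algebraMap A B)]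
  [Module.Flat A B] in
theorem exists_tmul_one (w : B ⊗[A] ResidueField A) :
    ∃ b : B, w = b ⊗ₜ[A] (1 : ResidueField A) := by
  induction w using TensorProduct.induction_on with
  | zero => exact ⟨0, (TensorProduct.zero_tmul _ _).symm⟩
  | tmul b c =>
    obtain ⟨a, rfl⟩ := residue_surjective c
    refine ⟨a • b, ?_⟩
    rw [TensorProduct.smul_tmul]
    congr 1
    rw [Algebra.smul_def, mul_one]
    rfl
  | add x y hx hy =>
    obtain ⟨b, rfl⟩ := hx
    obtain ⟨b', rfl⟩ := hy
    exact ⟨b + b', (TensorProduct.add_tmul _ _ _).symm⟩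

omit [IsNoetherianRing A] [IsNoetherianRing B] [IsLocalHom (algebraMap A B)] [Module.Flat A B] in
theorem one_tmul_one_ne_zero (hm : (maximalIdeal A).map (algebraMap A B) = maximalIdeal B) :
    (1 : B) ⊗ₜ[A] (1 : ResidueField A) ≠ 0 := by
  have hne : (maximalIdeal A).map (algebraMap A B) ≠ ⊤ := by
    rw [hm]
    exact Ideal.IsMaximal.ne_top inferInstance
  haveI : Nontrivial (B ⧸ (maximalIdeal A).map (algebraMap A B)) :=
    Ideal.Quotient.nontrivial_iff.2 hne
  haveI : Nontrivial (B ⊗[A] (A ⧸ maximalIdeal A)) :=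
    (Algebra.TensorProduct.quotIdealMapEquivTensorQuot B (maximalIdeal A)).symm.toEquiv.nontrivial
  have h1 : ((1 : B) ⊗ₜ[A] (1 : A ⧸ maximalIdeal A) : B ⊗[A] (A ⧸ maximalIdeal A)) ≠ 0 := by
    rw [← Algebra.TensorProduct.one_def]
    exact one_ne_zero
  exact h1

omit [IsNoetherianRing A] [IsNoetherianRing B] [IsLocalHom (algebraMap A B)] [Module.Flat A B] in
theorem exists_sigma (hm : (maximalIdeal A).map (algebraMap A B) = maximalIdeal B)
    (f : ResidueField A →ₗ[A] E) :
    ∃ σ : ResidueField B →ₗ[B] B ⊗[A] E,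
      ∀ b : B, σ (residue B b) = b • ((1 : B) ⊗ₜ[A] f 1) := by
  have hle : maximalIdeal B ≤
      LinearMap.ker (LinearMap.toSpanSingleton B (B ⊗[A] E) ((1 : B) ⊗ₜ[A] f 1)) := by
    intro β hβ
    rw [LinearMap.mem_ker, LinearMap.toSpanSingleton_apply]
    rw [← hm] at hβ
    exact smul_tmul_eq_zero (maximalIdeal A) (f 1)
      (fun a ha => Groth.Agent.H2.Matlis.maximalIdeal_smul_f f ha 1) β hβ 1
  exact ⟨Submodule.liftQ (maximalIdeal B) _ hle, fun b => rfl⟩

theorem length_baseChange_tors (hm : (maximalIdeal A).map (algebraMap A B) = maximalIdeal B)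
    (f : ResidueField A →ₗ[A] E) (hf : IsInjectiveHull f) (N : ℕ) :
    Module.length B ((LocCoh.torsionBy (maximalIdeal A ^ N) E).baseChange B) =
      Module.length A (A ⧸ maximalIdeal A ^ N) := by
  have hone : Module.length B (B ⧸ (maximalIdeal A).map (algebraMap A B)) = 1 := by
    rw [hm, Module.length_eq_one_iff]
    exact isSimpleModule_iff_quot_maximal.2 ⟨maximalIdeal B, inferInstance, ⟨LinearEquiv.refl B _⟩⟩
  rw [← (Submodule.toBaseChange.toLinearEquiv B
    (LocCoh.torsionBy (maximalIdeal A ^ N) E)).length_eq, IsLocalRing.length_baseChange A B,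
    hone, mul_one, length_tors_hull f hf N]

omit [IsNoetherianRing A] [IsNoetherianRing B] in
theorem length_quot_pow (hm : (maximalIdeal A).map (algebraMap A B) = maximalIdeal B) (N : ℕ) :
    Module.length B (B ⧸ maximalIdeal B ^ N) = Module.length A (A ⧸ maximalIdeal A ^ N) := by
  have hone : Module.length B (B ⧸ (maximalIdeal A).map (algebraMap A B)) = 1 := by
    rw [hm, Module.length_eq_one_iff]
    exact isSimpleModule_iff_quot_maximal.2 ⟨maximalIdeal B, inferInstance, ⟨LinearEquiv.refl B _⟩⟩
  have hpow : (maximalIdeal A ^ N).map (algebraMap A B) = maximalIdeal B ^ N := by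
    rw [Ideal.map_pow, hm]
  rw [← hpow, (Algebra.TensorProduct.quotIdealMapEquivTensorQuot B
    (maximalIdeal A ^ N)).toLinearEquiv.length_eq, IsLocalRing.length_baseChange A B, hone, mul_one]

theorem main (hm : (maximalIdeal A).map (algebraMap A B) = maximalIdeal B)
    (f : ResidueField A →ₗ[A] E) (hf : IsInjectiveHull f) :
    ∃ g : ResidueField B →ₗ[B] B ⊗[A] E, IsInjectiveHull g := by
  classical
  obtain ⟨EB, _, _, fB, hfB⟩ := Groth.Agent.S0299.result B (ResidueField B)
  haveI := hfB.isInjective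
  have hE := Groth.Agent.S0311.result A E f hf
  have hEB := Groth.Agent.S0311.result B EB fB hfB
  have hX : LocCoh.IsPowerTorsion (maximalIdeal B) (B ⊗[A] E) := isPowerTorsion_tensor hm hE
  obtain ⟨σ, hσ⟩ := exists_sigma hm f
  have hfl : Function.Injective (f.lTensor B) :=
    Module.Flat.lTensor_preserves_injective_linearMap f hf.injective
  have hz₀0 : ((1 : B) ⊗ₜ[A] f 1 : B ⊗[A] E) ≠ 0 := by
    intro h0
    have h1 : f.lTensor B ((1 : B) ⊗ₜ[A] (1 : ResidueField A)) = 0 := by
      rw [LinearMap.lTensor_tmul]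
      exact h0
    exact one_tmul_one_ne_zero hm (hfl (h1.trans (map_zero _).symm))
  have hσinj : Function.Injective σ := by
    rw [← LinearMap.ker_eq_bot, LinearMap.ker_eq_bot']
    intro c hc
    obtain ⟨b, rfl⟩ := residue_surjective c
    by_contra hne
    have hb : IsUnit b := by
      by_contra hnu
      exact hne ((residue_eq_zero_iff b).2
        (Groth.Agent.H2.Matlis.mem_maximalIdeal_of_not_isUnit hnu))
    rw [hσ] at hc
    exact hz₀0 (Groth.Agent.H2.Matlis.unit_smul_cancel hb hc)
  obtain ⟨j, hj⟩ := Module.Injective.extension_property B EB (ResidueField B) (B ⊗[A] E) σ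
    hσinj fB
  have hjσ : ∀ c, j (σ c) = fB c := fun c => LinearMap.congr_fun hj c
  have hsoc : ∀ z : B ⊗[A] E, (∀ β ∈ maximalIdeal B, β • z = 0) → z ∈ LinearMap.range σ := by
    intro z hz
    have h1 : z ∈ LinearMap.range (f.lTensor B) := socle_tensor f hf z (fun a ha => by
      rw [← algebraMap_smul B a z]
      exact hz _ (hm ▸ Ideal.mem_map_of_mem _ ha))
    obtain ⟨w, rfl⟩ := h1
    obtain ⟨b, rfl⟩ := exists_tmul_one w
    refine ⟨residue B b, ?_⟩
    rw [hσ, LinearMap.lTensor_tmul, TensorProduct.smul_tmul', smul_eq_mul, mul_one]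
  have hjinj : Function.Injective j := by
    rw [← LinearMap.ker_eq_bot, LinearMap.ker_eq_bot']
    intro z hz
    by_contra hz0
    obtain ⟨β, hβ0, hβ⟩ := Groth.Agent.H2.Matlis.exists_smul_ne_zero_killed hX z hz0
    obtain ⟨c, hc⟩ := hsoc (β • z) hβ
    have h1 : fB c = 0 := by rw [← hjσ, hc, map_smul, hz, smul_zero]
    have hc0 : c = 0 := hfB.injective (h1.trans (map_zero fB).symm)
    rw [hc0, map_zero] at hc
    exact hβ0 hc.symm
  have hjsurj : Function.Surjective j := by
    intro y
    obtain ⟨N, hN⟩ := hEB y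
    have hmap : ∀ z ∈ (LocCoh.torsionBy (maximalIdeal A ^ N) E).baseChange B,
        j z ∈ LocCoh.torsionBy (maximalIdeal B ^ N) EB := by
      intro z hz
      rw [Submodule.mem_torsionBySet_iff]
      rintro ⟨β, hβ⟩
      show β • j z = 0
      rw [← map_smul, smul_baseChange_eq_zero (maximalIdeal A ^ N) β
        (by rw [Ideal.map_pow, hm]; exact hβ) z hz, map_zero]
    have hjN : Function.Injective (j.restrict hmap) := fun a b h =>
      Subtype.ext (hjinj (congrArg Subtype.val h))
    have hlen : Module.length B (LocCoh.torsionBy (maximalIdeal B ^ N) EB) =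
        Module.length B ((LocCoh.torsionBy (maximalIdeal A ^ N) E).baseChange B) := by
      rw [length_tors_hull fB hfB N, length_quot_pow hm N, length_baseChange_tors hm f hf N]
    have hfin : Module.length B ((LocCoh.torsionBy (maximalIdeal A ^ N) E).baseChange B) ≠ ⊤ := by
      rw [length_baseChange_tors hm f hf N]
      exact Module.length_ne_top_iff.2 (Groth.Agent.H2.Matlis.isFiniteLength_quotient_pow A N)
    obtain ⟨x, hx⟩ := Groth.Agent.H2.Matlis.surjective_of_injective_of_length_eq
      (j.restrict hmap) hjN hfin hlen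
      ⟨y, (Submodule.mem_torsionBySet_iff _ _).2 fun a => hN a.1 a.2⟩
    exact ⟨x.1, congrArg Subtype.val hx⟩
  let e : (B ⊗[A] E) ≃ₗ[B] EB := LinearEquiv.ofBijective j ⟨hjinj, hjsurj⟩
  have he : ∀ x, e x = j x := fun x => rfl
  obtain ⟨-, hess, -⟩ := (Groth.Agent.H58.IH.isInjectiveHull_iff fB).1 hfB
  refine ⟨e.symm.toLinearMap ∘ₗ fB, (Groth.Agent.H58.IH.isInjectiveHull_iff _).2 ⟨?_, ?_, ?_⟩⟩
  · exact e.symm.injective.comp hfB.injective
  · intro x hx
    have hex : e x ≠ 0 := fun h0 => hx (e.injective (h0.trans (map_zero e).symm))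
    obtain ⟨r, ⟨c, hc⟩, hr0⟩ := hess (e x) hex
    refine ⟨r, ⟨c, ?_⟩, ?_⟩
    · show e.symm (fB c) = r • x
      rw [hc, ← map_smul, LinearEquiv.symm_apply_apply]
    · intro h0
      apply hr0
      rw [← map_smul, h0, map_zero]
  · exact Module.Baer.injective (Module.Baer.of_equiv e.symm (Module.Baer.of_injective inferInstance))

end Groth.Agent.H58.IHFlat
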