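import Mathlib
import Groth.Agent.H58.SecFin2
import Groth.Agent.S2725

/-!
# Kollár-type finiteness of `H^1_J(B)` for a Noetherian domain from the completions of the local
rings at the primes containing `J`
-/

set_option autoImplicit false
universe u

namespace Groth.Agent.H58.KollarFin

open Groth.Agent.H58.LC Groth.Agent.H58.SecFin IsLocalRing

/-- all associated primes of the completion have coheight ≥ 2 -/
def Good (R : Type u) [CommRing R] [IsLocalRing R] : Prop :=
  ∀ P ∈ associatedPrimes (EGA4.Cpl R) (EGA4.Cpl R),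
    (2 : WithBot ℕ∞) ≤ ringKrullDim (EGA4.Cpl R ⧸ P)

section vanish

variable {R : Type u} [CommRing R] (J : Ideal R) (M : Type u) [AddCommGroup M] [Module R M]

lemma H_eq_zero_of_bijective (c : R) (hc : c ∈ J)
    (hbij : Function.Bijective (LinearMap.lsmul R M c)) (i : ℕ) (y : LocCoh.H J i M) : y = 0 := by
  let e : M ≃ₗ[R] M := LinearEquiv.ofBijective _ hbij
  have h1 : Hmap J i (LinearMap.lsmul R M c) =
      c • (LinearMap.id : LocCoh.H J i M →ₗ[R] LocCoh.H J i M) := by
    have h0 : LinearMap.lsmul R M c = c • (LinearMap.id : M →ₗ[R] M) := by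
      ext x
      rfl
    rw [h0, Hmap_smul, Hmap_id]
  have hinj : Function.Injective (Hmap J i (LinearMap.lsmul R M c)) :=
    (Hcongr J i e).injective
  obtain ⟨n, hn⟩ := isPowerTorsion_H J i y
  have h2 : c ^ n • y = 0 := hn _ (Ideal.pow_mem_pow hc n)
  have h3 : ∀ m : ℕ, c ^ m • y = 0 → y = 0 := by
    intro m
    induction m with
    | zero =>
      intro h
      rwa [pow_zero, one_smul] at h
    | succ m ih =>
      intro h
      apply ih
      apply hinj
      rw [h1, LinearMap.smul_apply, LinearMap.id_apply, LinearMap.smul_apply, LinearMap.id_apply,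
        smul_zero, smul_smul, ← pow_succ']
      exact h
  exact h3 n h2

end vanish

section Dn

variable {B : Type u} [CommRing B] [IsDomain B]

/-- `(B :_K J^n)` -/
def Dn (J : Ideal B) (n : ℕ) : Submodule B (FractionRing B) where
  carrier := {x | ∀ r ∈ J ^ n, ∃ b : B,
    algebraMap B (FractionRing B) b = algebraMap B (FractionRing B) r * x}
  add_mem' := by
    intro x y hx hy r hr
    obtain ⟨a, ha⟩ := hx r hr
    obtain ⟨b, hb⟩ := hy r hr
    exact ⟨a + b, by rw [map_add, ha, hb, mul_add]⟩
  zero_mem' := fun r _ => ⟨0, by rw [map_zero, mul_zero]⟩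
  smul_mem' := by
    intro c x hx r hr
    obtain ⟨a, ha⟩ := hx r hr
    exact ⟨c * a, by rw [map_mul, ha, Algebra.smul_def]; ring⟩

lemma Dn_mono (J : Ideal B) {n k : ℕ} (h : n ≤ k) : Dn J n ≤ Dn J k :=
  fun _ hx r hr => hx r (Ideal.pow_le_pow_right h hr)

/-- the ideal of denominators of `x` -/
def denomI (x : FractionRing B) : Ideal B where
  carrier := {s | ∃ b : B,
    algebraMap B (FractionRing B) b = algebraMap B (FractionRing B) s * x}
  add_mem' := by
    rintro s t ⟨a, ha⟩ ⟨b, hb⟩
    exact ⟨a + b, by rw [map_add, map_add, add_mul, ha, hb]⟩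
  zero_mem' := ⟨0, by rw [map_zero, zero_mul]⟩
  smul_mem' := by
    rintro c s ⟨a, ha⟩
    exact ⟨c * a, by rw [smul_eq_mul, map_mul, map_mul, mul_assoc, ha]⟩

lemma mem_Dn_succ (J : Ideal B) (n : ℕ) (x : FractionRing B) :
    x ∈ Dn J (n + 1) ↔ ∀ r ∈ J, r • x ∈ Dn J n := by
  constructor
  · intro hx r hr t ht
    obtain ⟨b, hb⟩ := hx (t * r) (by rw [pow_succ]; exact Ideal.mul_mem_mul ht hr)
    exact ⟨b, by rw [hb, map_mul, Algebra.smul_def, mul_assoc]⟩
  · intro h
    have hle : J ^ (n + 1) ≤ denomI x := by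
      rw [pow_succ]
      refine Ideal.mul_le.2 (fun t ht r hr => ?_)
      obtain ⟨b, hb⟩ := h r hr t ht
      exact ⟨b, by rw [hb, map_mul, Algebra.smul_def, mul_assoc]⟩
    exact fun r hr => hle hr

lemma Dn_fg [IsNoetherianRing B] (J : Ideal B) (hJ : J ≠ ⊥) (n : ℕ) : (Dn J n).FG := by
  obtain ⟨c, hc, hc0⟩ := Submodule.exists_mem_ne_zero_of_ne_bot hJ
  have hc0' : algebraMap B (FractionRing B) (c ^ n) ≠ 0 := fun h =>
    pow_ne_zero n hc0 (IsFractionRing.injective B (FractionRing B) (by rw [h, map_zero]))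
  set F : Submodule B (FractionRing B) :=
    Submodule.span B {(algebraMap B (FractionRing B) (c ^ n))⁻¹} with hF
  have hle : Dn J n ≤ F := by
    intro x hx
    obtain ⟨b, hb⟩ := hx (c ^ n) (Ideal.pow_mem_pow hc n)
    rw [hF, Submodule.mem_span_singleton]
    refine ⟨b, ?_⟩
    rw [Algebra.smul_def, hb, mul_comm, ← mul_assoc, inv_mul_cancel₀ hc0', one_mul]
  haveI : IsNoetherian B F := isNoetherian_of_fg_of_noetherian F (Submodule.fg_span_singleton _)
  have h1 := (IsNoetherian.noetherian ((Dn J n).comap F.subtype)).map F.subtype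
  rwa [Submodule.map_comap_subtype, inf_eq_right.2 hle] at h1

/-- the ideal of `b` with `b • D_{n+1} ⊆ D_n` -/
def bI (J : Ideal B) (n : ℕ) : Ideal B where
  carrier := {b | ∀ x ∈ Dn J (n + 1), b • x ∈ Dn J n}
  add_mem' := fun ha hb x hx => by
    rw [add_smul]; exact (Dn J n).add_mem (ha x hx) (hb x hx)
  zero_mem' := fun x _ => by rw [zero_smul]; exact (Dn J n).zero_mem
  smul_mem' := fun c b hb x hx => by
    rw [smul_eq_mul, mul_smul]; exact (Dn J n).smul_mem c (hb x hx)

lemma bI_mono (J : Ideal B) (n : ℕ) : bI J n ≤ bI J (n + 1) := by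
  intro b hb x hx
  rw [mem_Dn_succ]
  intro r hr
  rw [smul_comm]
  exact hb _ ((mem_Dn_succ J (n + 1) x).1 hx r hr)

lemma le_bI (J : Ideal B) (n : ℕ) : J ≤ bI J n :=
  fun r hr x hx => (mem_Dn_succ J n x).1 hx r hr

lemma bI_pow (J : Ideal B) (n₀ : ℕ) (hstab : ∀ k, n₀ ≤ k → bI J n₀ = bI J k) (j : ℕ) :
    ∀ x ∈ Dn J (n₀ + j), ∀ t ∈ (bI J n₀) ^ j, t • x ∈ Dn J n₀ := by
  induction j with
  | zero =>
    intro x hx t _
    exact (Dn J n₀).smul_mem t hx
  | succ j ih =>
    intro x hx
    have hle : (bI J n₀) ^ (j + 1) ≤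
        (Dn J n₀).comap (LinearMap.toSpanSingleton B (FractionRing B) x) := by
      rw [pow_succ]
      refine Ideal.mul_le.2 (fun a ha b hb => ?_)
      show LinearMap.toSpanSingleton B (FractionRing B) x (a * b) ∈ Dn J n₀
      rw [LinearMap.toSpanSingleton_apply, mul_smul]
      refine ih (b • x) ?_ a ha
      have hb' : b ∈ bI J (n₀ + j) := hstab (n₀ + j) (Nat.le_add_right _ _) ▸ hb
      exact hb' x hx
    intro t ht
    have := hle ht
    rwa [Submodule.mem_comap, LinearMap.toSpanSingleton_apply] at this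

end Dn

section localLemma

open TensorProduct

variable (R : Type u) [CommRing R] [IsDomain R] [IsNoetherianRing R] [IsLocalRing R]
  (K : Type u) [Field K] [Algebra R K]

set_option maxHeartbeats 1000000 in
theorem chain_stabilizes (hGood : Good R) (hm : maximalIdeal R ≠ ⊥)
    (hinj : Function.Injective (algebraMap R K))
    (G : ℕ → Submodule R K) (hmono : Monotone G) (hfg : (G 0).FG) (c : R) (hc : c ≠ 0)
    (hcG : ∀ x ∈ G 0, ∃ r : R, algebraMap R K r = algebraMap R K c * x)
    (htors : ∀ j, ∀ x ∈ G j, ∃ N : ℕ, ∀ t ∈ maximalIdeal R ^ N, t • x ∈ G 0) :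
    ∃ j, G (j + 1) ≤ G j := by
  haveI : Module.Finite R (G 0) := Module.Finite.iff_fg.2 hfg
  haveI : IsNoetherianRing (EGA4.Cpl R) :=
    Groth.Agent.Lead.isNoetherianRing_adicCompletion (maximalIdeal R)
      (maximalIdeal R).fg_of_isNoetherianRing
  haveI : Module.FaithfullyFlat R (EGA4.Cpl R) := Groth.Agent.H34.ComplQuot.faithfullyFlat_cpl R
  have hc' : algebraMap R K c ≠ 0 := fun h => hc (hinj (by rw [h, map_zero]))
  -- embedding of `G 0` into `R`
  let ι : R →ₗ[R] K := Algebra.linearMap R K
  let e₀ : R ≃ₗ[R] LinearMap.range ι := LinearEquiv.ofInjective ι hinj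
  let μ : G 0 →ₗ[R] K := (LinearMap.lsmul R K c) ∘ₗ (G 0).subtype
  have hμ : ∀ x, μ x ∈ LinearMap.range ι := by
    intro x
    obtain ⟨r, hr⟩ := hcG x.1 x.2
    exact ⟨r, by
      show algebraMap R K r = c • (x : K)
      rw [hr, Algebra.smul_def]⟩
  let φ : G 0 →ₗ[R] R := e₀.symm.toLinearMap ∘ₗ μ.codRestrict (LinearMap.range ι) hμ
  have hφ : ∀ x : G 0, algebraMap R K (φ x) = c • (x : K) := by
    intro x
    have h1 : e₀ (φ x) = μ.codRestrict (LinearMap.range ι) hμ x := e₀.apply_symm_apply _
    exact congrArg Subtype.val h1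
  have hφinj : Function.Injective φ := by
    intro x y hxy
    have h1 : c • (x : K) = c • (y : K) := by rw [← hφ, ← hφ, hxy]
    rw [Algebra.smul_def, Algebra.smul_def] at h1
    exact Subtype.ext (mul_left_cancel₀ hc' h1)
  -- finiteness of `H^1_m(G 0)`
  have hH1 : Module.Finite R (LocCoh.H (maximalIdeal R) 1 (G 0)) := by
    rw [← Groth.Agent.H2.CohPush.isCoherentPushCompl_iff_finite_H1, Groth.Agent.S2725.result R (G 0)]
    intro p' hp' _
    apply hGood p'
    let ψ : EGA4.Cpl R ⊗[R] (G 0) →ₗ[EGA4.Cpl R] EGA4.Cpl R ⊗[R] R := φ.baseChange (EGA4.Cpl R)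
    have hψ : Function.Injective ψ := by
      have h1 := Module.Flat.lTensor_preserves_injective_linearMap (M := EGA4.Cpl R) φ hφinj
      intro a b hab
      apply h1
      exact hab
    let e : EGA4.Cpl R ⊗[R] R ≃ₗ[EGA4.Cpl R] EGA4.Cpl R :=
      TensorProduct.AlgebraTensorModule.rid R (EGA4.Cpl R) (EGA4.Cpl R)
    exact associatedPrimes.subset_of_injective (f := e.toLinearMap ∘ₗ ψ)
      (e.injective.comp hψ) hp'
  -- the connecting map
  let f : G 0 →ₗ[R] K := (G 0).subtype
  let g : K →ₗ[R] K ⧸ G 0 := (G 0).mkQ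
  obtain ⟨δ, -, h2, -, -⟩ := les_mod (maximalIdeal R) f g (G 0).injective_subtype
    (Submodule.mkQ_surjective _) (LinearMap.exact_subtype_mkQ (G 0)) 0
  obtain ⟨c₁, hc₁, hc₁0⟩ := Submodule.exists_mem_ne_zero_of_ne_bot hm
  have hc₁' : algebraMap R K c₁ ≠ 0 := fun h => hc₁0 (hinj (by rw [h, map_zero]))
  have hbij : Function.Bijective (LinearMap.lsmul R K c₁) := by
    constructor
    · intro a b h
      have h' : c₁ • a = c₁ • b := h
      rw [Algebra.smul_def, Algebra.smul_def] at h'
      exact mul_left_cancel₀ hc₁' h'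
    · intro b
      refine ⟨(algebraMap R K c₁)⁻¹ * b, ?_⟩
      show c₁ • ((algebraMap R K c₁)⁻¹ * b) = b
      rw [Algebra.smul_def, ← mul_assoc, mul_inv_cancel₀ hc₁', one_mul]
  have hδ : Function.Injective δ := by
    rw [injective_iff_map_eq_zero]
    intro y hy
    obtain ⟨z, hz⟩ := (h2 y).1 hy
    rw [← hz, H_eq_zero_of_bijective (maximalIdeal R) K c₁ hc₁ hbij 0 z, map_zero]
  set W : Submodule R (K ⧸ G 0) := DRing.torsionSub (maximalIdeal R) (K ⧸ G 0) with hW
  haveI : Module.Finite R W :=
    Module.Finite.of_injective (δ ∘ₗ (H0equiv (maximalIdeal R) (K ⧸ G 0)).symm.toLinearMap)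
      (hδ.comp (H0equiv (maximalIdeal R) (K ⧸ G 0)).symm.injective)
  haveI : IsNoetherian R W := isNoetherian_of_isNoetherianRing_of_finite R W
  let T : ℕ →o Submodule R W :=
    ⟨fun j => ((G j).map g).comap W.subtype, fun i j hij =>
      Submodule.comap_mono (Submodule.map_mono (hmono hij))⟩
  obtain ⟨j, hj⟩ := monotone_stabilizes_iff_noetherian.2 inferInstance T
  refine ⟨j, fun x hx => ?_⟩
  have hgx : g x ∈ W := by
    obtain ⟨N, hN⟩ := htors (j + 1) x hx
    refine ⟨N, fun t ht => ?_⟩
    rw [← map_smul]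
    exact (Submodule.Quotient.mk_eq_zero _).2 (hN t ht)
  have h1 : (⟨g x, hgx⟩ : W) ∈ T (j + 1) := by
    show g x ∈ (G (j + 1)).map g
    exact Submodule.mem_map_of_mem hx
  rw [← hj (j + 1) (Nat.le_succ j)] at h1
  obtain ⟨y, hy, hyx⟩ := h1
  have h3 : x - y ∈ G 0 := by
    rw [← Submodule.Quotient.mk_eq_zero, Submodule.Quotient.mk_sub]
    have : g y = g x := hyx
    show g x - g y = 0
    rw [this, sub_self]
  have h4 : x = (x - y) + y := by ring
  rw [h4]
  exact (G j).add_mem (hmono (Nat.zero_le j) h3) hy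

end localLemma

section main

variable (B : Type u) [CommRing B] [IsDomain B] [IsNoetherianRing B]

/-- elements of the `B_q`-span of a `B`-submodule `N` of `K` are multiplied into `N` by some
`s ∉ q` -/
lemma exists_smul_mem_of_mem_span (q : Ideal B) [q.IsPrime] (N : Submodule B (FractionRing B))
    (x : FractionRing B)
    (hx : x ∈ Submodule.span (Localization.AtPrime q) (N : Set (FractionRing B))) :
    ∃ s : B, s ∉ q ∧ s • x ∈ N := by
  induction hx using Submodule.span_induction with
  | mem x hx => exact ⟨1, fun h => ‹q.IsPrime›.ne_top ((Ideal.eq_top_iff_one q).2 h), by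
      rw [one_smul]; exact hx⟩
  | zero => exact ⟨1, fun h => ‹q.IsPrime›.ne_top ((Ideal.eq_top_iff_one q).2 h), by
      rw [smul_zero]; exact N.zero_mem⟩
  | add x y _ _ hx hy =>
    obtain ⟨s, hs, hsx⟩ := hx
    obtain ⟨t, ht, hty⟩ := hy
    refine ⟨s * t, fun h => (‹q.IsPrime›.mem_or_mem h).elim hs ht, ?_⟩
    rw [smul_add]
    refine N.add_mem ?_ ?_
    · rw [mul_comm, mul_smul]; exact N.smul_mem t hsx
    · rw [mul_smul]; exact N.smul_mem s hty
  | smul a x _ hx =>
    obtain ⟨s, hs, hsx⟩ := hx
    obtain ⟨⟨b, t⟩, hbt⟩ := IsLocalization.surj q.primeCompl a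
    refine ⟨(t : B) * s, fun h => (‹q.IsPrime›.mem_or_mem h).elim t.2 hs, ?_⟩
    have h1 : ((t : B) * s) • (a • x) = b • (s • x) := by
      have h2 : (t : B) • (a • x) = b • x := by
        rw [← algebraMap_smul (Localization.AtPrime q) (t : B) (a • x), smul_smul,
          mul_comm, hbt, algebraMap_smul]
      rw [mul_comm, mul_smul, h2, smul_comm]
    rw [h1]
    exact N.smul_mem b hsx

set_option maxHeartbeats 1000000 in
theorem finite_H1_of_good (J : Ideal B) (hJ : J ≠ ⊥)
    (h : ∀ (q : Ideal B) [q.IsPrime], J ≤ q → Good (Localization.AtPrime q)) :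
    Module.Finite B (LocCoh.H J 1 B) := by
  obtain ⟨n₀, hn₀⟩ := monotone_stabilizes_iff_noetherian.2 (inferInstance : IsNoetherian B B)
    ⟨bI J, monotone_nat_of_le_succ (bI_mono J)⟩
  have hstab : ∀ k, n₀ ≤ k → bI J n₀ = bI J k := hn₀
  by_cases htop : bI J n₀ = ⊤
  · have hD : ∀ k, n₀ ≤ k → Dn J k ≤ Dn J n₀ := by
      intro k hk
      induction k, hk using Nat.le_induction with
      | base => exact le_rfl
      | succ k hk ih =>
        refine le_trans (fun x hx => ?_) ih
        have h1 : (1 : B) ∈ bI J k := by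
          rw [← hstab k hk, htop]; exact Submodule.mem_top
        have := h1 x hx
        rwa [one_smul] at this
    apply finite_H1_of_fg B J hJ (Dn J n₀) (Dn_fg J hJ n₀)
    intro x hx
    obtain ⟨k, hk⟩ := exists_pow_of_mem_Dset J x hx
    by_cases hkn : n₀ ≤ k
    · exact hD k hkn hk
    · exact Dn_mono J (le_of_not_ge hkn) hk
  · exfalso
    obtain ⟨⟨q, hq⟩⟩ := Ideal.nonempty_minimalPrimes htop
    haveI hqp : q.IsPrime := hq.1.1
    have hJq : J ≤ q := (le_bI J n₀).trans hq.1.2
    have hGood := h q hJq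
    obtain ⟨c₀, hc₀, hc₀0⟩ := Submodule.exists_mem_ne_zero_of_ne_bot hJ
    have hinjK : Function.Injective (algebraMap (Localization.AtPrime q) (FractionRing B)) :=
      IsFractionRing.injective _ _
    have hinjB : Function.Injective (algebraMap B (Localization.AtPrime q)) := by
      intro a b hab
      apply IsFractionRing.injective B (FractionRing B)
      rw [IsScalarTower.algebraMap_apply B (Localization.AtPrime q) (FractionRing B), hab,
        ← IsScalarTower.algebraMap_apply]
    have hmq : Ideal.map (algebraMap B (Localization.AtPrime q)) q =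
        maximalIdeal (Localization.AtPrime q) := Localization.AtPrime.map_eq_maximalIdeal
    have hm : maximalIdeal (Localization.AtPrime q) ≠ ⊥ := by
      intro h0
      have h1 : algebraMap B (Localization.AtPrime q) c₀ ∈
          maximalIdeal (Localization.AtPrime q) := by
        rw [← hmq]; exact Ideal.mem_map_of_mem _ (hJq hc₀)
      rw [h0, Ideal.mem_bot] at h1
      exact hc₀0 (hinjB (by rw [h1, map_zero]))
    -- `m^N₀ ≤ 𝔟 R`
    have hrad : maximalIdeal (Localization.AtPrime q) ≤
        (Ideal.map (algebraMap B (Localization.AtPrime q)) (bI J n₀)).radical := by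
      rw [Ideal.radical_eq_sInf]
      refine le_sInf ?_
      rintro P' ⟨hP'le, hP'⟩
      haveI := hP'
      have h1 : bI J n₀ ≤ P'.comap (algebraMap B (Localization.AtPrime q)) :=
        Ideal.map_le_iff_le_comap.1 hP'le
      have h2 : P'.comap (algebraMap B (Localization.AtPrime q)) ≤ q := by
        have h3 : P' ≤ maximalIdeal (Localization.AtPrime q) :=
          IsLocalRing.le_maximalIdeal hP'.ne_top
        have h4 := Ideal.comap_mono (f := algebraMap B (Localization.AtPrime q)) h3
        exact h4.trans (le_of_eq (IsLocalization.AtPrime.comap_maximalIdeal (Localization.AtPrime q) q))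
      have h5 : q ≤ P'.comap (algebraMap B (Localization.AtPrime q)) :=
        hq.2 ⟨Ideal.comap_isPrime _ P', h1⟩ h2
      rw [← hmq]
      exact Ideal.map_le_iff_le_comap.2 h5
    obtain ⟨N₀, hN₀⟩ := Ideal.exists_pow_le_of_le_radical_of_fg hrad
      (IsNoetherian.noetherian (maximalIdeal (Localization.AtPrime q)))
    let G : ℕ → Submodule (Localization.AtPrime q) (FractionRing B) := fun j =>
      Submodule.span (Localization.AtPrime q) (Dn J (n₀ + j) : Set (FractionRing B))
    have hGmono : Monotone G := fun i j hij =>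
      Submodule.span_mono (Dn_mono J (Nat.add_le_add_left hij n₀))
    have hGfg : (G 0).FG := by
      obtain ⟨S, hS⟩ := Dn_fg J hJ n₀
      have h1 : G 0 = Submodule.span (Localization.AtPrime q) (S : Set (FractionRing B)) := by
        show Submodule.span (Localization.AtPrime q) (Dn J (n₀ + 0) : Set (FractionRing B)) = _
        rw [Nat.add_zero, ← hS, Submodule.span_span_of_tower]
      rw [h1]
      exact Submodule.fg_span S.finite_toSet
    have hcG : ∀ x ∈ G 0, ∃ r : Localization.AtPrime q,
        algebraMap (Localization.AtPrime q) (FractionRing B) r =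
          algebraMap (Localization.AtPrime q) (FractionRing B)
            (algebraMap B (Localization.AtPrime q) (c₀ ^ n₀)) * x := by
      intro x hx
      induction hx using Submodule.span_induction with
      | mem x hx =>
        obtain ⟨b, hb⟩ := hx (c₀ ^ n₀) (Ideal.pow_mem_pow hc₀ _)
        refine ⟨algebraMap B (Localization.AtPrime q) b, ?_⟩
        rw [← IsScalarTower.algebraMap_apply, ← IsScalarTower.algebraMap_apply, hb]
      | zero => exact ⟨0, by rw [map_zero, mul_zero]⟩
      | add x y _ _ hx hy =>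
        obtain ⟨r, hr⟩ := hx
        obtain ⟨r', hr'⟩ := hy
        exact ⟨r + r', by rw [map_add, hr, hr', mul_add]⟩
      | smul a x _ hx =>
        obtain ⟨r, hr⟩ := hx
        exact ⟨a * r, by rw [map_mul, hr, Algebra.smul_def]; ring⟩
    have htors : ∀ j, ∀ x ∈ G j, ∃ N : ℕ, ∀ t ∈ maximalIdeal (Localization.AtPrime q) ^ N,
        t • x ∈ G 0 := by
      intro j x hx
      refine ⟨N₀ * j, ?_⟩
      have hle : maximalIdeal (Localization.AtPrime q) ^ (N₀ * j) ≤
          (G 0).comap (LinearMap.toSpanSingleton (Localization.AtPrime q) (FractionRing B) x) := by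
        rw [pow_mul]
        refine (Ideal.pow_right_mono hN₀ j).trans ?_
        rw [← Ideal.map_pow, Ideal.map_le_iff_le_comap]
        intro b hb
        show LinearMap.toSpanSingleton (Localization.AtPrime q) (FractionRing B) x
          (algebraMap B (Localization.AtPrime q) b) ∈ G 0
        rw [LinearMap.toSpanSingleton_apply, algebraMap_smul]
        induction hx using Submodule.span_induction with
        | mem x hx =>
          have := bI_pow J n₀ hstab j x hx b hb
          exact Submodule.subset_span (by rw [Nat.add_zero]; exact this)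
        | zero => rw [smul_zero]; exact (G 0).zero_mem
        | add x y _ _ hx hy => rw [smul_add]; exact (G 0).add_mem hx hy
        | smul a x _ hx => rw [smul_comm]; exact (G 0).smul_mem a hx
      intro t ht
      have := hle ht
      rwa [Submodule.mem_comap, LinearMap.toSpanSingleton_apply] at this
    obtain ⟨j, hj⟩ := chain_stabilizes (Localization.AtPrime q) (FractionRing B) hGood hm hinjK G
      hGmono hGfg (algebraMap B (Localization.AtPrime q) (c₀ ^ n₀))
      (fun h0 => pow_ne_zero n₀ hc₀0 (hinjB (by rw [h0, map_zero]))) hcG htors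
    -- a common denominator outside `q`
    obtain ⟨S, hS⟩ := Dn_fg J hJ (n₀ + j + 1)
    have hS' : ∀ x ∈ S, ∃ s : B, s ∉ q ∧ s • x ∈ Dn J (n₀ + j) := by
      intro x hxS
      apply exists_smul_mem_of_mem_span B q (Dn J (n₀ + j)) x
      apply hj
      apply Submodule.subset_span
      show x ∈ Dn J (n₀ + (j + 1))
      have : x ∈ Submodule.span B (S : Set (FractionRing B)) := Submodule.subset_span hxS
      rw [hS] at this
      exact this
    have hcommon : ∀ S' : Finset (FractionRing B), (∀ x ∈ S', ∃ s : B, s ∉ q ∧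
        s • x ∈ Dn J (n₀ + j)) → ∃ s : B, s ∉ q ∧ ∀ x ∈ S', s • x ∈ Dn J (n₀ + j) := by
      classical
      intro S'
      induction S' using Finset.induction_on with
      | empty => exact fun _ => ⟨1, fun h => hqp.ne_top ((Ideal.eq_top_iff_one q).2 h),
          fun x hx => absurd hx (Finset.notMem_empty x)⟩
      | insert a S' _ ih =>
        intro hall
        obtain ⟨s, hs, hsS⟩ := ih (fun x hx => hall x (Finset.mem_insert_of_mem hx))
        obtain ⟨t, ht, hta⟩ := hall a (Finset.mem_insert_self a S')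
        refine ⟨s * t, fun h => (hqp.mem_or_mem h).elim hs ht, fun x hx => ?_⟩
        rcases Finset.mem_insert.1 hx with rfl | hx
        · rw [mul_smul]; exact (Dn J (n₀ + j)).smul_mem s hta
        · rw [mul_comm, mul_smul]; exact (Dn J (n₀ + j)).smul_mem t (hsS x hx)
    obtain ⟨s, hs, hsS⟩ := hcommon S hS'
    have hsb : s ∈ bI J (n₀ + j) := by
      intro x hx
      rw [← hS] at hx
      induction hx using Submodule.span_induction with
      | mem x hx => exact hsS x hx
      | zero => rw [smul_zero]; exact (Dn J (n₀ + j)).zero_mem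
      | add x y _ _ hx hy => rw [smul_add]; exact (Dn J (n₀ + j)).add_mem hx hy
      | smul a x _ hx => rw [smul_comm]; exact (Dn J (n₀ + j)).smul_mem a hx
    rw [← hstab (n₀ + j) (Nat.le_add_right _ _)] at hsb
    exact hs (hq.1.2 hsb)

end main

end Groth.Agent.H58.KollarFin
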