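import Mathlib
import Groth.Agent.H58.KollarFin
import Groth.Agent.H15.FormEq

/-!
# Transfer of the condition `Good` along ring isomorphisms; localization of a quotient
-/

set_option autoImplicit false
universe u

namespace Groth.Agent.H58.KollarFin

open IsLocalRing

/-- Localization commutes with quotients (same argument as helper59's `isLocalization_quot_loc`). -/
theorem isLocalization_quot_loc' {C : Type u} [CommRing C] (I : Ideal C) (Pb : Ideal (C ⧸ I))
    [Pb.IsPrime] :
    IsLocalization.AtPrime
      (Localization.AtPrime (Pb.comap (Ideal.Quotient.mk I)) ⧸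
        I.map (algebraMap C (Localization.AtPrime (Pb.comap (Ideal.Quotient.mk I))))) Pb := by
  set P : Ideal C := Pb.comap (Ideal.Quotient.mk I) with hP
  set J := I.map (algebraMap C (Localization.AtPrime P)) with hJ
  have hloc : IsLocalization (P.primeCompl.map (Ideal.Quotient.mk I))
      (Localization.AtPrime P ⧸ J) := by
    refine IsLocalization.of_surjective (M := P.primeCompl) (S := Localization.AtPrime P)
      (Ideal.Quotient.mk I) Ideal.Quotient.mk_surjective
      (Ideal.Quotient.mk J) Ideal.Quotient.mk_surjective ?_ ?_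
    · ext x
      rfl
    · rw [Ideal.mk_ker, Ideal.mk_ker]
  have hM : P.primeCompl.map (Ideal.Quotient.mk I) = Pb.primeCompl := by
    ext y
    constructor
    · rintro ⟨x, hx, rfl⟩
      exact hx
    · intro hy
      obtain ⟨x, rfl⟩ := Ideal.Quotient.mk_surjective y
      exact ⟨x, hy, rfl⟩
  rw [hM] at hloc
  exact hloc

lemma assPrime_comap_ringEquiv {R S : Type u} [CommRing R] [CommRing S] (σ : R ≃+* S)
    (P' : Ideal S) (h : P' ∈ associatedPrimes S S) :
    P'.comap (σ : R →+* S) ∈ associatedPrimes R R := by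
  obtain ⟨hP, x, hx⟩ := h
  haveI : P'.IsPrime := hP
  refine ⟨Ideal.comap_isPrime _ P', σ.symm x, ?_⟩
  ext r
  rw [Ideal.mem_comap, hx]
  constructor
  · rintro ⟨n, hn⟩
    refine ⟨n, ?_⟩
    rw [Submodule.mem_colon_singleton, Submodule.mem_bot, smul_eq_mul] at hn ⊢
    apply σ.injective
    rw [map_mul, map_pow, map_zero, RingEquiv.apply_symm_apply]
    exact hn
  · rintro ⟨n, hn⟩
    refine ⟨n, ?_⟩
    rw [Submodule.mem_colon_singleton, Submodule.mem_bot, smul_eq_mul] at hn ⊢
    have := congrArg σ hn
    rwa [map_mul, map_pow, map_zero, RingEquiv.apply_symm_apply] at this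

theorem good_of_ringEquiv {T T' : Type u} [CommRing T] [CommRing T'] [IsLocalRing T]
    [IsLocalRing T'] (ε : T ≃+* T') (h : Good T) : Good T' := by
  obtain ⟨σ⟩ := Groth.Agent.H15.FormEq.nonempty_cplEquiv ε
  intro P' hP'
  have h1 := h _ (assPrime_comap_ringEquiv σ P' hP')
  have e' : (EGA4.Cpl T ⧸ P'.comap (σ : EGA4.Cpl T →+* EGA4.Cpl T')) ≃+* (EGA4.Cpl T' ⧸ P') :=
    Ideal.quotientEquiv _ _ σ
      (Ideal.map_comap_of_surjective (σ : EGA4.Cpl T →+* EGA4.Cpl T') σ.surjective P').symm
  rwa [ringKrullDim_eq_of_ringEquiv e'] at h1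

theorem good_of_eq (T : Type u) [CommRing T] [IsLocalRing T] (𝔪' : Ideal T)
    (h𝔪 : 𝔪' = maximalIdeal T)
    (h : ∀ P ∈ associatedPrimes (AdicCompletion 𝔪' T) (AdicCompletion 𝔪' T),
      (2 : WithBot ℕ∞) ≤ ringKrullDim (AdicCompletion 𝔪' T ⧸ P)) : Good T := by
  subst h𝔪
  exact h

theorem good_locQuot {A : Type u} [CommRing A] (p : Ideal A) (Q : Ideal (A ⧸ p)) [Q.IsPrime]
    (h : ∀ P ∈ associatedPrimes
        (AdicCompletion ((maximalIdeal (Localization.AtPrime (Q.comap (Ideal.Quotient.mk p)))).map
          (Ideal.Quotient.mk (p.map (algebraMap A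
            (Localization.AtPrime (Q.comap (Ideal.Quotient.mk p)))))))
          (Localization.AtPrime (Q.comap (Ideal.Quotient.mk p)) ⧸
            p.map (algebraMap A (Localization.AtPrime (Q.comap (Ideal.Quotient.mk p))))))
        (AdicCompletion ((maximalIdeal (Localization.AtPrime (Q.comap (Ideal.Quotient.mk p)))).map
          (Ideal.Quotient.mk (p.map (algebraMap A
            (Localization.AtPrime (Q.comap (Ideal.Quotient.mk p)))))))
          (Localization.AtPrime (Q.comap (Ideal.Quotient.mk p)) ⧸
            p.map (algebraMap A (Localization.AtPrime (Q.comap (Ideal.Quotient.mk p)))))),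
      (2 : WithBot ℕ∞) ≤ ringKrullDim
        (AdicCompletion ((maximalIdeal (Localization.AtPrime (Q.comap (Ideal.Quotient.mk p)))).map
          (Ideal.Quotient.mk (p.map (algebraMap A
            (Localization.AtPrime (Q.comap (Ideal.Quotient.mk p)))))))
          (Localization.AtPrime (Q.comap (Ideal.Quotient.mk p)) ⧸
            p.map (algebraMap A (Localization.AtPrime (Q.comap (Ideal.Quotient.mk p))))) ⧸ P)) :
    Good (Localization.AtPrime Q) := by
  haveI hloc := isLocalization_quot_loc' p Q
  let e₁ : (Localization.AtPrime (Q.comap (Ideal.Quotient.mk p)) ⧸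
      p.map (algebraMap A (Localization.AtPrime (Q.comap (Ideal.Quotient.mk p))))) ≃ₐ[A ⧸ p]
      Localization.AtPrime Q := IsLocalization.algEquiv Q.primeCompl _ _
  haveI : IsLocalRing (Localization.AtPrime (Q.comap (Ideal.Quotient.mk p)) ⧸
      p.map (algebraMap A (Localization.AtPrime (Q.comap (Ideal.Quotient.mk p))))) :=
    e₁.toRingEquiv.symm.isLocalRing
  refine good_of_ringEquiv e₁.toRingEquiv (good_of_eq _ _ ?_ h)
  exact IsLocalRing.map_maximalIdeal_of_surjective _ Ideal.Quotient.mk_surjective

end Groth.Agent.H58.KollarFin
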