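import Mathlib
import Groth.Agent.H58.SecFin2
import Groth.Agent.S2724

/-!
# Height of `I(A/p)` from heights in `Set.Ici p`; finiteness of `H^1_I(M)`
-/

set_option autoImplicit false
universe u

namespace Groth.Agent.H58.SecFin

lemma le_height_map_of_forall_Ici {A : Type u} [CommRing A] (I p : Ideal A) [hp : p.IsPrime]
    (n : ℕ∞)
    (h : ∀ (q : PrimeSpectrum A) (hpq : (⟨p, hp⟩ : PrimeSpectrum A) ≤ q), I ≤ q.asIdeal →
      n ≤ Order.height (⟨q, hpq⟩ : Set.Ici (⟨p, hp⟩ : PrimeSpectrum A))) :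
    n ≤ (I.map (Ideal.Quotient.mk p)).height := by
  unfold Ideal.height
  refine le_iInf₂ fun Q hQ => ?_
  haveI hQp : Q.IsPrime := hQ.1.1
  let P : PrimeSpectrum A := ⟨p, hp⟩
  let q : PrimeSpectrum A := ⟨Q.comap (Ideal.Quotient.mk p), inferInstance⟩
  have hpq : P ≤ q := by
    show p ≤ Q.comap (Ideal.Quotient.mk p)
    intro a ha
    show Ideal.Quotient.mk p a ∈ Q
    rw [Ideal.Quotient.eq_zero_iff_mem.2 ha]
    exact Q.zero_mem
  have hIq : I ≤ q.asIdeal := by
    intro a ha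
    show Ideal.Quotient.mk p a ∈ Q
    exact hQ.1.2 (Ideal.mem_map_of_mem _ ha)
  refine (h q hpq hIq).trans ?_
  have hprime : ∀ r : Set.Ici P, (r.1.asIdeal.map (Ideal.Quotient.mk p)).IsPrime := fun r =>
    Ideal.map_isPrime_of_surjective Ideal.Quotient.mk_surjective
      (by rw [Ideal.mk_ker]; exact r.2)
  let φ : Set.Ici P → PrimeSpectrum (A ⧸ p) := fun r =>
    ⟨r.1.asIdeal.map (Ideal.Quotient.mk p), hprime r⟩
  have hφ : StrictMono φ := by
    intro r r' hrr'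
    have hle : r.1.asIdeal ≤ r'.1.asIdeal := hrr'.le
    have hne : ¬ r'.1.asIdeal ≤ r.1.asIdeal := fun h' => hrr'.not_ge h'
    show r.1.asIdeal.map (Ideal.Quotient.mk p) < r'.1.asIdeal.map (Ideal.Quotient.mk p)
    rw [lt_iff_le_not_ge]
    refine ⟨Ideal.map_mono hle, fun hge => hne ?_⟩
    intro x hx
    have hpr : p ≤ r.1.asIdeal := r.2
    exact (Ideal.mem_quotient_iff_mem hpr).1 (hge (Ideal.mem_map_of_mem _ hx))
  have h1 := Order.height_le_height_apply_of_strictMono φ hφ ⟨q, hpq⟩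
  have h2 : φ ⟨q, hpq⟩ = ⟨Q, hQp⟩ := by
    apply PrimeSpectrum.ext
    show (Q.comap (Ideal.Quotient.mk p)).map (Ideal.Quotient.mk p) = Q
    exact Ideal.map_comap_of_surjective _ Ideal.Quotient.mk_surjective Q
  rw [h2] at h1
  exact h1

end Groth.Agent.H58.SecFin
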