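import Mathlib
import Groth.Agent.H58.KollarFin2
import Groth.Agent.H58.Ratliff
import Groth.Agent.H58.SecFin3
import Groth.Agent.H15.FibreSk
import Groth.Agent.H15.FibQuot
import Groth.Agent.H15.SkAt
import Groth.Agent.H15.FamCyc
import Groth.Agent.H15.FlatQuot
import Groth.Agent.H34.ComplQuot
import Groth.Agent.H34.FormalEquidim
import Groth.Agent.S9126
import Groth.Agent.S0602

/-!
# The condition `Good` from `(S_1)` formal fibres, universal catenarity and dimension `≥ 2`
-/

set_option autoImplicit false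
set_option maxHeartbeats 400000
universe u

namespace Groth.Agent.H58.KollarFin

open IsLocalRing

attribute [local instance] Groth.Agent.H15.FlatLoc.isLocalRing_fibLocRing

/-- A universally catenary Noetherian local domain of dimension `≥ 2` whose completion is `(S_1)`
satisfies `Good`. -/
theorem good_of_hasSk_one (T : Type u) [CommRing T] [IsDomain T] [IsNoetherianRing T]
    [IsLocalRing T] (hUC : CAlg.IsUniversallyCatenary T)
    (hS1 : LocCoh.HasSk 1 (EGA4.Cpl T) (EGA4.Cpl T))
    (hdim : (2 : WithBot ℕ∞) ≤ ringKrullDim T) : Good T := by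
  intro P hP
  have hNE := Groth.Agent.H15.FamCyc.NE_bot hS1
  obtain ⟨hPp, x, hx⟩ := (isAssociatedPrime_iff (R := EGA4.Cpl T)).1 hP
  have hmin : P ∈ minimalPrimes (EGA4.Cpl T) := by
    apply hNE x P hPp
    intro s
    constructor
    · intro hs
      rw [hx, Submodule.mem_colon_singleton] at hs
      exact hs
    · intro hs
      rw [hx, Submodule.mem_colon_singleton]
      exact hs
  rw [Groth.Agent.H58.Ratliff.isEquidim_cpl T hUC P hmin,
    Groth.Agent.H34.FormalEquidim.ringKrullDim_cpl]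
  exact hdim

/-- If the formal fibres of `L` are `(S_1)` and `pL` is a prime of `L`, the completion of `L ⧸ pL`
is `(S_1)`. -/
theorem hasSk_one_cpl_quot (L : Type u) [CommRing L] [IsLocalRing L] [IsNoetherianRing L]
    (hF : EGA4.HasSnFormalFibres 1 L) (pL : Ideal L) [pL.IsPrime] :
    LocCoh.HasSk 1 (EGA4.Cpl (L ⧸ pL)) (EGA4.Cpl (L ⧸ pL)) := by
  have hne : pL ≠ ⊤ := Ideal.IsPrime.ne_top inferInstance
  obtain ⟨h1, h2, h3, h4⟩ :=
    Groth.Agent.H15.FlatQuot.quotient_flat_local (A := L) (B := EGA4.Cpl L) pL hne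
  haveI := h3
  have hT1 : LocCoh.HasSk 1 (L ⧸ pL) (L ⧸ pL) :=
    ((Groth.Agent.S0602.result (L ⧸ pL)).1 inferInstance).2
  have hfib : ∀ (r : Ideal (EGA4.Cpl L ⧸ pL.map (algebraMap L (EGA4.Cpl L)))) [r.IsPrime],
      Groth.Agent.H15.FibreSk.SkFib (L ⧸ pL)
        (EGA4.Cpl L ⧸ pL.map (algebraMap L (EGA4.Cpl L))) 1 r := by
    intro r _
    have h5 := (Groth.Agent.H15.FibreSk.hasSk_fiber_iff L (EGA4.Cpl L) 1
      ((r.comap (Ideal.Quotient.mk (pL.map (algebraMap L (EGA4.Cpl L))))).comap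
        (algebraMap L (EGA4.Cpl L)))).1 (hF _)
      (r.comap (Ideal.Quotient.mk (pL.map (algebraMap L (EGA4.Cpl L))))) rfl
    unfold Groth.Agent.H15.FibreSk.SkFib at h5
    exact Groth.Agent.H15.FibreSk.skFib_of_equiv
      (Groth.Agent.H15.FibQuot.fibEquiv L (EGA4.Cpl L) pL r).symm h5
  have hS' : LocCoh.HasSk 1 (EGA4.Cpl L ⧸ pL.map (algebraMap L (EGA4.Cpl L)))
      (EGA4.Cpl L ⧸ pL.map (algebraMap L (EGA4.Cpl L))) :=
    Groth.Agent.H15.FibreSk.hasSk_of_flat (L ⧸ pL)
      (EGA4.Cpl L ⧸ pL.map (algebraMap L (EGA4.Cpl L))) 1 hT1 hfib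
  exact Groth.Agent.H15.SkAt.hasSk_self_of_ringEquiv
    (Groth.Agent.H34.ComplQuot.cplQuotEquiv L pL).toRingEquiv.symm 1 hS'

/-- **Lemma G.** Over a universally catenary Noetherian ring, if the formal fibres of `A_q` are
`(S_1)` and `dim (A/p)_q ≥ 2`, then `(A/p)_q` satisfies `Good`. -/
theorem good_locQuot_of_formalFibres {A : Type u} [CommRing A]
    (hA : CAlg.IsUniversallyCatenary A) (p : Ideal A) [p.IsPrime] (Q : Ideal (A ⧸ p)) [Q.IsPrime]
    (hF : EGA4.HasSnFormalFibres 1 (Localization.AtPrime (Q.comap (Ideal.Quotient.mk p))))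
    (hht : 2 ≤ Q.height) : Good (Localization.AtPrime Q) := by
  haveI := hA.1
  haveI hloc := isLocalization_quot_loc' p Q
  haveI hdom : IsDomain (Localization.AtPrime (Q.comap (Ideal.Quotient.mk p)) ⧸
      p.map (algebraMap A (Localization.AtPrime (Q.comap (Ideal.Quotient.mk p))))) :=
    IsLocalization.isDomain_of_atPrime _ Q
  haveI hprime : (p.map (algebraMap A
      (Localization.AtPrime (Q.comap (Ideal.Quotient.mk p))))).IsPrime :=
    (Ideal.Quotient.isDomain_iff_prime _).1 hdom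
  haveI hlocal : IsLocalRing (Localization.AtPrime (Q.comap (Ideal.Quotient.mk p)) ⧸
      p.map (algebraMap A (Localization.AtPrime (Q.comap (Ideal.Quotient.mk p))))) :=
    IsLocalization.AtPrime.isLocalRing _ Q
  let e₁ : (Localization.AtPrime (Q.comap (Ideal.Quotient.mk p)) ⧸
      p.map (algebraMap A (Localization.AtPrime (Q.comap (Ideal.Quotient.mk p))))) ≃ₐ[A ⧸ p]
      Localization.AtPrime Q := IsLocalization.algEquiv Q.primeCompl _ _
  have hUC : CAlg.IsUniversallyCatenary (Localization.AtPrime (Q.comap (Ideal.Quotient.mk p)) ⧸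
      p.map (algebraMap A (Localization.AtPrime (Q.comap (Ideal.Quotient.mk p))))) :=
    Groth.Agent.S9126.result A _ hA
  have hdim : ringKrullDim (Localization.AtPrime (Q.comap (Ideal.Quotient.mk p)) ⧸
      p.map (algebraMap A (Localization.AtPrime (Q.comap (Ideal.Quotient.mk p))))) = Q.height :=
    IsLocalization.AtPrime.ringKrullDim_eq_height Q _
  have hS1 := hasSk_one_cpl_quot (Localization.AtPrime (Q.comap (Ideal.Quotient.mk p))) hF
    (p.map (algebraMap A (Localization.AtPrime (Q.comap (Ideal.Quotient.mk p)))))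
  refine good_of_ringEquiv e₁.toRingEquiv (good_of_hasSk_one _ hUC hS1 ?_)
  rw [hdim]
  have h2 : ((2 : ℕ∞) : WithBot ℕ∞) ≤ (Q.height : WithBot ℕ∞) := WithBot.coe_le_coe.2 hht
  exact h2

end Groth.Agent.H58.KollarFin
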