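import Mathlib
import Groth.Prelude.Def_Wider
import Groth.Agent.H58.LCAnn

/-!
# Annihilators of local cohomology for modules locally projective away from `V(I)`
-/

open CategoryTheory
universe u

namespace Groth.Agent.H58.LC

variable {R : Type u} [CommRing R]

section general

variable {M F : Type u} [AddCommGroup M] [Module R M] [AddCommGroup F] [Module R F]

/-- if `a` kills `H^i_I(R)` it kills `H^i_I(R^ι)` -/
theorem smul_H_pi_eq_zero {ι : Type u} [Fintype ι] [DecidableEq ι] (I : Ideal R) (i : ℕ) (a : R)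
    (ha : ∀ x : LocCoh.H I i R, a • x = 0) (z : LocCoh.H I i (ι → R)) : a • z = 0 := by
  have hid : (∑ j : ι, (LinearMap.single R (fun _ : ι => R) j) ∘ₗ
      (LinearMap.proj j : (ι → R) →ₗ[R] R)) = LinearMap.id := by
    refine LinearMap.ext fun x => ?_
    rw [LinearMap.sum_apply]
    simp only [LinearMap.comp_apply, LinearMap.proj_apply, LinearMap.coe_single,
      LinearMap.id_apply]
    exact Finset.univ_sum_single x
  have hz : Hmap I i (LinearMap.id : (ι → R) →ₗ[R] (ι → R)) z = z := by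
    rw [Hmap_id]; rfl
  rw [← hz, ← hid, Hmap_sum, LinearMap.sum_apply, Finset.smul_sum]
  refine Finset.sum_eq_zero fun j _ => ?_
  rw [Hmap_comp_apply, ← map_smul, ha, map_zero]

/-- if `s • id_M` factors through `F` and `a` kills `H^i_I(F)` then `a * s` kills `H^i_I(M)` -/
theorem mul_smul_H_eq_zero_of_factor (I : Ideal R) (i : ℕ) (u : M →ₗ[R] F) (v : F →ₗ[R] M)
    (s : R) (h : v ∘ₗ u = s • LinearMap.id) (a : R) (ha : ∀ z : LocCoh.H I i F, a • z = 0)
    (x : LocCoh.H I i M) : (a * s) • x = 0 := by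
  have h1 : Hmap I i (v ∘ₗ u) x = s • x := by
    rw [h, Hmap_smul, Hmap_id]
    rfl
  rw [mul_smul, ← h1, Hmap_comp_apply, ← map_smul, ha, map_zero]

end general

section proj

variable [IsNoetherianRing R] (M : Type u) [AddCommGroup M] [Module R M] [Module.Finite R M]

/-- if `S⁻¹M` is projective then `s • id_M` factors through a finite free module, `s ∈ S` -/
theorem exists_factor_of_projective_localization (S : Submonoid R)
    [Module.Projective (Localization S) (LocalizedModule S M)] :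
    ∃ (ι : Type u) (_ : Fintype ι) (_ : DecidableEq ι) (u : M →ₗ[R] (ι → R))
      (v : (ι → R) →ₗ[R] M) (s : R), s ∈ S ∧ v ∘ₗ u = s • LinearMap.id := by
  classical
  let Rs := Localization S
  let Ms := LocalizedModule S M
  haveI : Module.FinitePresentation R M := Module.finitePresentation_of_finite R M
  obtain ⟨n, f₀, hf₀⟩ := Module.Finite.exists_fin' Rs Ms
  let ι := ULift.{u} (Fin n)
  let π' : (ι → Rs) →ₗ[Rs] Ms :=
    f₀ ∘ₗ ((LinearEquiv.funCongrLeft Rs Rs (Equiv.ulift : ι ≃ Fin n)).symm : (ι → Rs) →ₗ[Rs] _)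
  have hπ' : Function.Surjective π' := hf₀.comp (LinearEquiv.surjective _)
  obtain ⟨σ', hσ'⟩ := Module.projective_lifting_property π' (LinearMap.id : Ms →ₗ[Rs] Ms) hπ'
  let π : (ι → Rs) →ₗ[R] Ms := π'.restrictScalars R
  let σ : Ms →ₗ[R] (ι → Rs) := σ'.restrictScalars R
  have hπσ : ∀ y, π (σ y) = y := fun y => LinearMap.congr_fun hσ' y
  let gM : M →ₗ[R] Ms := LocalizedModule.mkLinearMap S M
  let gF : (ι → R) →ₗ[R] (ι → Rs) :=
    LinearMap.pi fun j => (Algebra.linearMap R Rs) ∘ₗ (LinearMap.proj j)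
  haveI : IsLocalizedModule S gF := IsLocalizedModule.pi S (fun _ : ι => Algebra.linearMap R Rs)
  obtain ⟨u, su, Hu⟩ := Module.FinitePresentation.exists_lift_of_isLocalizedModule S gF
    (σ ∘ₗ gM)
  obtain ⟨v, sv, Hv⟩ := Module.FinitePresentation.exists_lift_of_isLocalizedModule S gM
    (π ∘ₗ gF)
  have H3 : gM ∘ₗ (v ∘ₗ u) = gM ∘ₗ (((sv : R) * (su : R)) • LinearMap.id) := by
    refine LinearMap.ext fun x => ?_
    show gM (v (u x)) = gM (((sv : R) * (su : R)) • x)
    have h1 : gM (v (u x)) = (sv : R) • π (gF (u x)) := LinearMap.congr_fun Hv (u x)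
    have h2 : gF (u x) = (su : R) • σ (gM x) := LinearMap.congr_fun Hu x
    rw [h1, h2, map_smul, map_smul, hπσ, mul_smul]
  obtain ⟨t, ht⟩ := Module.Finite.exists_smul_of_comp_eq_of_isLocalizedModule S gM _ _ H3
  refine ⟨ι, inferInstance, inferInstance, u, (t : R) • v, (t : R) * ((sv : R) * (su : R)),
    ?_, ?_⟩
  · exact mul_mem t.2 (mul_mem sv.2 su.2)
  · rw [LinearMap.smul_comp, mul_smul]
    exact ht

end proj

end Groth.Agent.H58.LC
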