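import Mathlib
import Groth.Prelude.Def_Wider
import Groth.Prelude.Def_DRing3
import Groth.Prelude.Def_DualLC
import Groth.Agent.H58.LCLocS

/-!
# Comparison maps `H^i_{I'}(M) → H^i_I(M)`: functoriality, local criteria for surjectivity
and injectivity
-/

open CategoryTheory Limits Abelian
universe u

namespace Groth.Agent.H58.LC

variable {R : Type u} [CommRing R]

section functoriality

variable {I₁ I₂ I₃ : Ideal R}

lemma qLE_comp (h₁₂ : I₁ ≤ I₂) (h₂₃ : I₂ ≤ I₃) (n : ℕ) :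
    qLE h₁₂ n ≫ qLE h₂₃ n = qLE (h₁₂.trans h₂₃) n := by
  refine ModuleCat.hom_ext (LinearMap.ext fun x => ?_)
  obtain ⟨r, rfl⟩ := Ideal.Quotient.mk_surjective x
  rfl

lemma qLE_refl (I : Ideal R) (n : ℕ) : qLE (le_refl I) n = 𝟙 (Q I n) := by
  refine ModuleCat.hom_ext (LinearMap.ext fun x => ?_)
  obtain ⟨r, rfl⟩ := Ideal.Quotient.mk_surjective x
  rfl

theorem HmapOfLE_comp_apply (h₁₂ : I₁ ≤ I₂) (h₂₃ : I₂ ≤ I₃) (i : ℕ) (M : ModuleCat.{u} R)
    (x : (localCohomology I₃ i).obj M) :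
    ((Dual2.HmapOfLE h₁₂ i).app M).hom (((Dual2.HmapOfLE h₂₃ i).app M).hom x) =
      ((Dual2.HmapOfLE (h₁₂.trans h₂₃) i).app M).hom x := by
  obtain ⟨n, ξ, rfl⟩ := exists_rep I₃ i M x
  rw [HmapOfLE_ι, HmapOfLE_ι, HmapOfLE_ι]
  congr 1
  rw [← Ext.comp_assoc (Ext.mk₀ (qLE h₁₂ n)) (Ext.mk₀ (qLE h₂₃ n)) ξ (zero_add 0) (zero_add i)
    (show 0 + 0 + i = i by omega), Ext.mk₀_comp_mk₀, qLE_comp]

theorem HmapOfLE_refl_apply (I : Ideal R) (h : I ≤ I) (i : ℕ) (M : ModuleCat.{u} R)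
    (x : (localCohomology I i).obj M) :
    ((Dual2.HmapOfLE h i).app M).hom x = x := by
  obtain ⟨n, ξ, rfl⟩ := exists_rep I i M x
  rw [HmapOfLE_ι]
  have : qLE h n = 𝟙 (Q I n) := qLE_refl I n
  rw [this, Ext.mk₀_id_comp]

end functoriality

section noeth

variable [IsNoetherianRing R]

/-- if `s·L ⊆ √K` then a power of `s` maps `H^i_K(M)` into the image of `H^i_L(M)` -/
theorem exists_pow_smul_mem_range (i : ℕ) (M : Type u) [AddCommGroup M] [Module R M] (s : R) :
    ∀ (t : Finset R) (K L : Ideal R) (hKL : K ≤ L), L = K ⊔ Ideal.span (t : Set R) →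
      (∀ h ∈ t, s * h ∈ K.radical) → ∀ ξ : LocCoh.H K i M,
      ∃ N : ℕ, s ^ N • ξ ∈
        LinearMap.range ((Dual2.HmapOfLE hKL i).app (ModuleCat.of R M)).hom := by
  classical
  intro t
  induction t using Finset.induction_on with
  | empty =>
    intro K L hKL hL _ ξ
    have hLK : L = K := by rw [hL]; simp
    subst hLK
    exact ⟨0, ξ, by rw [pow_zero, one_smul]; exact HmapOfLE_refl_apply _ hKL i _ ξ⟩
  | insert b t hb ih =>
    intro K L hKL hL hrad ξ
    have hL' : L = (K ⊔ Ideal.span {b}) ⊔ Ideal.span (t : Set R) := by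
      rw [hL, span_insert_eq, sup_assoc, sup_comm (Ideal.span {b})]
    have h2 : K ⊔ Ideal.span {b} ≤ L := by rw [hL']; exact le_sup_left
    obtain ⟨k, hk⟩ := isPowerTorsion_H K i (M := M) ξ
    obtain ⟨N, hN⟩ := hrad b (Finset.mem_insert_self b t)
    have h0 : b ^ (N * k) • (s ^ (N * k) • ξ) = 0 := by
      rw [smul_smul, ← mul_pow, mul_comm b s, pow_mul]
      exact hk _ (Ideal.pow_mem_pow hN k)
    obtain ⟨ξ₁, hξ₁⟩ := (mem_range_HmapOfLE_iff K b (ModuleCat.of R M) i (s ^ (N * k) • ξ)).2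
      ⟨N * k, h0⟩
    obtain ⟨N', ζ, hζ⟩ := ih (K ⊔ Ideal.span {b}) L h2 hL'
      (fun h hh => Ideal.radical_mono (le_sup_left : K ≤ K ⊔ Ideal.span {b})
        (hrad h (Finset.mem_insert_of_mem hh))) ξ₁
    refine ⟨N' + N * k, ζ, ?_⟩
    have hc := HmapOfLE_comp_apply (le_sup_left : K ≤ K ⊔ Ideal.span {b}) h2 i
      (ModuleCat.of R M) ζ
    rw [hζ, map_smul, hξ₁, smul_smul, ← pow_add] at hc
    exact hc.symm

lemma exists_notMem_mul_mem_radical (K p : Ideal R) (hp : p ∈ K.minimalPrimes) (x : R)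
    (hx : x ∈ p) : ∃ y ∉ p, x * y ∈ K.radical := by
  haveI := hp.1.1
  have h1 := IsLocalization.AtPrime.radical_map_of_mem_minimalPrimes
    (A := Localization.AtPrime p) p K hp
  have h2 : algebraMap R (Localization.AtPrime p) x ∈
      (K.map (algebraMap R (Localization.AtPrime p))).radical := by
    rw [h1]; exact Ideal.mem_map_of_mem _ hx
  obtain ⟨n, hn⟩ := h2
  rw [IsLocalization.mem_map_algebraMap_iff (M := p.primeCompl)] at hn
  obtain ⟨⟨a, b⟩, hn⟩ := hn
  rw [← map_pow, ← map_mul, IsLocalization.eq_iff_exists p.primeCompl] at hn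
  obtain ⟨t, ht⟩ := hn
  refine ⟨t.1 * b.1, fun h => (t * b).2 h, n + 1, ?_⟩
  simp only at ht
  have : (x * (t.1 * b.1)) ^ (n + 1) = (t.1 ^ n * b.1 ^ n * x * t.1) * a := by
    rw [mul_assoc, ← ht]; ring
  rw [this]
  exact K.mul_mem_left _ a.2

lemma exists_notMem_forall_mul_mem_radical (K p : Ideal R) (hp : p ∈ K.minimalPrimes)
    (t : Finset R) (ht : ∀ x ∈ t, x ∈ p) : ∃ s ∉ p, ∀ x ∈ t, s * x ∈ K.radical := by
  classical
  induction t using Finset.induction_on with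
  | empty => exact ⟨1, (Ideal.ne_top_iff_one p).1 hp.1.1.ne_top, by simp⟩
  | insert a t ha ih =>
    obtain ⟨s, hs, hst⟩ := ih (fun x hx => ht x (Finset.mem_insert_of_mem hx))
    obtain ⟨y, hy, hya⟩ := exists_notMem_mul_mem_radical K p hp a
      (ht a (Finset.mem_insert_self a t))
    refine ⟨s * y, fun h => (hp.1.1.mem_or_mem h).elim hs hy, fun x hx => ?_⟩
    rcases Finset.mem_insert.1 hx with rfl | hx
    · rw [show s * y * x = s * (x * y) by ring]; exact Ideal.mul_mem_left _ _ hya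
    · rw [show s * y * x = y * (s * x) by ring]; exact Ideal.mul_mem_left _ _ (hst x hx)

/-- **Local criterion for surjectivity of the comparison map.** -/
theorem surjective_HmapOfLE_of_local (i : ℕ) (M : Type u) [AddCommGroup M] [Module R M]
    {J J' : Ideal R} (hJ : J ≤ J')
    (hP : ∀ p : Ideal R, p.IsPrime → J ≤ p → ¬ J' ≤ p →
      ∀ ζ : LocCoh.H p i M, ∃ g ∉ p, g • ζ = 0) :
    Function.Surjective ((Dual2.HmapOfLE hJ i).app (ModuleCat.of R M)).hom := by
  intro ξ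
  have hne : {K : Ideal R | ∃ h1 : J ≤ K, K ≤ J' ∧
      ξ ∈ LinearMap.range ((Dual2.HmapOfLE h1 i).app (ModuleCat.of R M)).hom}.Nonempty :=
    ⟨J, le_rfl, hJ, ξ, HmapOfLE_refl_apply J le_rfl i _ ξ⟩
  obtain ⟨K, hKmem, hKmax⟩ := set_has_maximal_iff_noetherian.2
    (inferInstance : IsNoetherian R R) _ hne
  obtain ⟨h1, hKJ', ξ', hξ'⟩ := hKmem
  by_cases hcase : ∃ p ∈ Ideal.minimalPrimes K, ¬ J' ≤ p
  · exfalso
    obtain ⟨p, hp, hpJ'⟩ := hcase
    haveI hpp : p.IsPrime := hp.1.1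
    have hKp : K ≤ p := hp.1.2
    obtain ⟨t, ht⟩ := (isNoetherianRing_iff_ideal_fg R).1 inferInstance p
    obtain ⟨s₀, hs₀, hs₀t⟩ := exists_notMem_forall_mul_mem_radical K p hp t
      (fun x hx => ht ▸ Ideal.subset_span (Finset.mem_coe.2 hx))
    obtain ⟨N, ζ, hζ⟩ := exists_pow_smul_mem_range i M s₀ t K p hKp
      (by rw [ht]; exact (sup_eq_right.2 hKp).symm) hs₀t ξ'
    obtain ⟨g, hg, hgζ⟩ := hP p hpp (h1.trans hKp) hpJ' ζ
    obtain ⟨h, hhJ', hhp⟩ := SetLike.not_le_iff_exists.1 hpJ'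
    have hf0 : (g * s₀ ^ N * h) • ξ' = 0 := by
      rw [mul_comm (g * s₀ ^ N) h, mul_smul, mul_smul, ← hζ, ← map_smul, hgζ, map_zero,
        smul_zero]
    have hfp : g * s₀ ^ N * h ∉ p := fun hmem =>
      (hpp.mem_or_mem hmem).elim
        (fun h' => (hpp.mem_or_mem h').elim hg (fun h'' => hs₀ (hpp.mem_of_pow_mem N h''))) hhp
    have hfJ' : g * s₀ ^ N * h ∈ J' := Ideal.mul_mem_left _ _ hhJ'
    obtain ⟨ξ'', hξ''⟩ := (mem_range_HmapOfLE_iff K (g * s₀ ^ N * h) (ModuleCat.of R M) i ξ').2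
      ⟨1, by rw [pow_one]; exact hf0⟩
    have hK' : K ⊔ Ideal.span {g * s₀ ^ N * h} ∈ {K : Ideal R | ∃ h1 : J ≤ K, K ≤ J' ∧
        ξ ∈ LinearMap.range ((Dual2.HmapOfLE h1 i).app (ModuleCat.of R M)).hom} :=
      ⟨h1.trans le_sup_left, sup_le hKJ' ((Ideal.span_singleton_le_iff_mem _).2 hfJ'), ξ'', by
        rw [← HmapOfLE_comp_apply h1 le_sup_left i _ ξ'', hξ'', hξ']⟩
    refine hKmax _ hK' (lt_of_le_of_ne le_sup_left (fun heq => hfp (hKp ?_)))
    rw [heq]
    exact Ideal.mem_sup_right (Ideal.mem_span_singleton_self _)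
  · push Not at hcase
    have hrad : J' ≤ Ideal.radical K := by
      rw [← Ideal.sInf_minimalPrimes]; exact le_sInf hcase
    obtain ⟨t, ht⟩ := (isNoetherianRing_iff_ideal_fg R).1 inferInstance J'
    obtain ⟨N, ζ, hζ⟩ := exists_pow_smul_mem_range i M 1 t K J' hKJ'
      (by rw [ht]; exact (sup_eq_right.2 hKJ').symm)
      (fun h hh => by
        rw [one_mul]; exact hrad (ht ▸ Ideal.subset_span (Finset.mem_coe.2 hh))) ξ'
    refine ⟨ζ, ?_⟩
    rw [one_pow, one_smul] at hζ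
    rw [← hξ', ← hζ]
    exact (HmapOfLE_comp_apply h1 hKJ' i _ ζ).symm

/-- local criterion for `H^j_K(M)` to be `f`-power torsion -/
theorem bTors_H_of_local (j : ℕ) (M : Type u) [AddCommGroup M] [Module R M] (K : Ideal R) (f : R)
    (hP : ∀ q : Ideal R, q.IsPrime → K ≤ q → f ∉ q →
      ∀ ζ : LocCoh.H q j M, ∃ g ∉ q, g • ζ = 0) :
    BTors f (LocCoh.H K j M) := by
  intro ξ
  have hsurj := surjective_HmapOfLE_of_local j M (le_sup_left : K ≤ K ⊔ Ideal.span {f})
    (fun p hpp hKp hnp ζ => hP p hpp hKp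
      (fun hfp => hnp (sup_le hKp ((Ideal.span_singleton_le_iff_mem _).2 hfp))) ζ)
  obtain ⟨n, hn⟩ := (mem_range_HmapOfLE_iff K f (ModuleCat.of R M) j ξ).1 (hsurj ξ)
  exact ⟨n, hn⟩

/-- one step of injectivity -/
theorem HmapOfLE_injective_of_bTors_H (K : Ideal R) (b : R) (M : Type u) [AddCommGroup M]
    [Module R M] (n : ℕ) (h : ∀ m, m + 1 = n → BTors b (LocCoh.H K m M)) :
    Function.Injective
      ((Dual2.HmapOfLE (le_sup_left : K ≤ K ⊔ Ideal.span {b}) n).app (ModuleCat.of R M)).hom := by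
  rcases n with _ | m
  · exact HmapOfLE_zero_injective _ M
  · obtain ⟨e⟩ := ker_HmapOfLE_equiv K b (ModuleCat.of R M) m
    haveI : Subsingleton (LocalizedModule (Submonoid.powers b) (LocCoh.H K m M)) :=
      LocalizedModule.subsingleton_iff.2 (fun x => by
        obtain ⟨k, hk⟩ := h m rfl x
        exact ⟨b ^ k, ⟨k, rfl⟩, hk⟩)
    haveI : Subsingleton (LinearMap.ker ((Dual2.HmapOfLE
        (le_sup_left : K ≤ K ⊔ Ideal.span {b}) (m + 1)).app (ModuleCat.of R M)).hom) :=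
      e.symm.injective.subsingleton
    rw [← LinearMap.ker_eq_bot]
    exact Submodule.subsingleton_iff_eq_bot.1 inferInstance

/-- **Local criterion for injectivity of the comparison map.** -/
theorem injective_HmapOfLE_of_local (i : ℕ) (M : Type u) [AddCommGroup M] [Module R M] :
    ∀ (t : Finset R) (K L : Ideal R) (hKL : K ≤ L), L = K ⊔ Ideal.span (t : Set R) →
      (∀ q : Ideal R, q.IsPrime → K ≤ q → ¬ L ≤ q → ∀ j, j + 1 = i →
        ∀ ζ : LocCoh.H q j M, ∃ g ∉ q, g • ζ = 0) →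
      Function.Injective ((Dual2.HmapOfLE hKL i).app (ModuleCat.of R M)).hom := by
  classical
  intro t
  induction t using Finset.induction_on with
  | empty =>
    intro K L hKL hL _
    have hLK : L = K := by rw [hL]; simp
    subst hLK
    intro x y hxy
    rwa [HmapOfLE_refl_apply, HmapOfLE_refl_apply] at hxy
  | insert b t hb ih =>
    intro K L hKL hL hP
    have hL' : L = (K ⊔ Ideal.span {b}) ⊔ Ideal.span (t : Set R) := by
      rw [hL, span_insert_eq, sup_assoc, sup_comm (Ideal.span {b})]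
    have h2 : K ⊔ Ideal.span {b} ≤ L := by rw [hL']; exact le_sup_left
    have hbL : b ∈ L := h2 (Ideal.mem_sup_right (Ideal.mem_span_singleton_self b))
    have inj2 := ih (K ⊔ Ideal.span {b}) L h2 hL'
      (fun q hqq hKq hLq j hj ζ => hP q hqq (le_sup_left.trans hKq) hLq j hj ζ)
    have inj1 := HmapOfLE_injective_of_bTors_H K b M i (fun m hm =>
      bTors_H_of_local m M K b (fun q hqq hKq hbq ζ =>
        hP q hqq hKq (fun hLq => hbq (hLq hbL)) m hm ζ))
    intro x y hxy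
    apply inj2
    apply inj1
    rw [HmapOfLE_comp_apply (le_sup_left : K ≤ K ⊔ Ideal.span {b}) h2 i (ModuleCat.of R M) x,
      HmapOfLE_comp_apply (le_sup_left : K ≤ K ⊔ Ideal.span {b}) h2 i (ModuleCat.of R M) y]
    exact hxy

/-- from vanishing over the local ring `R_p` to torsion of `H^j_p(M)` -/
theorem exists_smul_eq_zero_of_subsingleton_local (p : Ideal R) [p.IsPrime] (j : ℕ)
    (M : Type u) [AddCommGroup M] [Module R M]
    (h : Subsingleton (LocCoh.H (IsLocalRing.maximalIdeal (Localization.AtPrime p)) j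
      (LocalizedModule p.primeCompl M)))
    (ζ : LocCoh.H p j M) : ∃ g ∉ p, g • ζ = 0 := by
  haveI : IsNoetherianRing (Localization.AtPrime p) :=
    IsLocalization.isNoetherianRing p.primeCompl _ inferInstance
  haveI := isLocalizedModule_Hmap_mkLinearMap_of_submonoid p.primeCompl p M j
  obtain ⟨φ, -⟩ := semiEq_H R (Localization.AtPrime p) p j (LocalizedModule p.primeCompl M)
  haveI h' : Subsingleton (LocCoh.H (p.map (algebraMap R (Localization.AtPrime p))) j
      (LocalizedModule p.primeCompl M)) := by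
    rw [Localization.AtPrime.map_eq_maximalIdeal]; exact h
  haveI : Subsingleton (LocCoh.H p j (LocalizedModule p.primeCompl M)) :=
    φ.symm.injective.subsingleton
  obtain ⟨⟨s, hs⟩, hsz⟩ := (IsLocalizedModule.eq_zero_iff p.primeCompl
    (Hmap p j (LocalizedModule.mkLinearMap p.primeCompl M)) (m := ζ)).1 (Subsingleton.elim _ _)
  exact ⟨s, hs, hsz⟩

end noeth

end Groth.Agent.H58.LC
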