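import Mathlib
import Groth.Prelude.Def_Wider
import Groth.Prelude.Def_DRing3
import Groth.Agent.H58.LCDT

/-!
# Uniform vanishing of the transition maps of `Ext^i(R/I^n, -)` above the cohomological dimension
-/

open CategoryTheory Abelian Limits
universe u

namespace Groth.Agent.H58.LC

variable {R : Type u} [CommRing R]

lemma exists_ses_projective (X : ModuleCat.{u} R) :
    ∃ (K P : ModuleCat.{u} R) (f : K ⟶ P) (g : P ⟶ X) (w : f ≫ g = 0),
      Projective P ∧ (ShortComplex.mk f g w).ShortExact :=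
  ⟨kernel (Projective.π X), Projective.over X, kernel.ι (Projective.π X), Projective.π X,
    kernel.condition _, inferInstance,
    { exact := ShortComplex.exact_kernel (Projective.π X)
      mono_f := by
        show Mono (kernel.ι (Projective.π X))
        infer_instance
      epi_g := by
        show Epi (Projective.π X)
        infer_instance }⟩

lemma exists_ses_injective (N : ModuleCat.{u} R) :
    ∃ (E C : ModuleCat.{u} R) (f : N ⟶ E) (g : E ⟶ C) (w : f ≫ g = 0),
      Injective E ∧ (ShortComplex.mk f g w).ShortExact :=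
  ⟨Injective.under N, cokernel (Injective.ι N), Injective.ι N, cokernel.π (Injective.ι N),
    cokernel.condition _, inferInstance,
    { exact := ShortComplex.exact_cokernel (Injective.ι N)
      mono_f := by
        show Mono (Injective.ι N)
        infer_instance
      epi_g := by
        show Epi (cokernel.π (Injective.ι N))
        infer_instance }⟩

/-- universal `Ext`-classes (via syzygies) -/
theorem exists_universal_ext (j : ℕ) : ∀ X : ModuleCat.{u} R,
    ∃ (K : ModuleCat.{u} R) (u : Ext X K j), ∀ (N : ModuleCat.{u} R) (x : Ext X N j),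
      ∃ φ : K ⟶ N, x = u.comp (Ext.mk₀ φ) (add_zero j) := by
  induction j with
  | zero =>
    intro X
    refine ⟨X, Ext.mk₀ (𝟙 X), fun N x => ?_⟩
    obtain ⟨φ, rfl⟩ := exists_mk₀ x
    exact ⟨φ, by rw [Ext.mk₀_comp_mk₀, Category.id_comp]⟩
  | succ j ih =>
    intro X
    obtain ⟨K₁, P, f, g, w, hP, hS⟩ := exists_ses_projective X
    haveI := hP
    obtain ⟨K, u₁, hu₁⟩ := ih K₁
    refine ⟨K, hS.extClass.comp u₁ (show 1 + j = j + 1 by omega), fun N x => ?_⟩
    have h0 : (Ext.mk₀ g).comp x (zero_add (j + 1)) = 0 := Ext.eq_zero_of_projective (P := P) _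
    obtain ⟨y, hy⟩ := Ext.contravariant_sequence_exact₃ hS N x h0 (show 1 + j = j + 1 by omega)
    obtain ⟨φ, rfl⟩ := hu₁ N y
    refine ⟨φ, ?_⟩
    rw [← hy, Ext.comp_assoc hS.extClass u₁ (Ext.mk₀ φ) (show 1 + j = j + 1 by omega) (add_zero j)
      (show 1 + j + 0 = j + 1 by omega)]

lemma π_comp (I : Ideal R) {n m k : ℕ} (h₁ : n ≤ m) (h₂ : m ≤ k) :
    π I h₂ ≫ π I h₁ = π I (h₁.trans h₂) := by
  refine ModuleCat.hom_ext (LinearMap.ext fun q => ?_)
  obtain ⟨r, rfl⟩ := Ideal.Quotient.mk_surjective q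
  rfl

/-- **uniform vanishing of transition maps above the cohomological dimension** -/
theorem exists_transition_zero (I : Ideal R) (e : ℕ) (he : LocCoh.CdLE R I e) (n : ℕ) :
    ∃ (m : ℕ) (hm : n < m), ∀ (N : ModuleCat.{u} R) (i : ℕ), e < i → ∀ x : Ext (Q I n) N i,
      (Ext.mk₀ (π I (le_of_lt hm))).comp x (zero_add i) = 0 := by
  obtain ⟨K, u, hu⟩ := exists_universal_ext (e + 1) (Q I n)
  haveI : Subsingleton ((localCohomology I (e + 1)).obj K) := he K (e + 1) (Nat.lt_succ_self e)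
  obtain ⟨m₀, h₀, hm₀⟩ := exists_of_ι_eq_zero I (e + 1) K n u (Subsingleton.elim _ _)
  have hlt : n < m₀ + 1 := Nat.lt_succ_of_le h₀
  have hstep : (Ext.mk₀ (π I (le_of_lt hlt))).comp u (zero_add (e + 1)) = 0 := by
    rw [← π_comp I h₀ (Nat.le_succ m₀), ← Ext.mk₀_comp_mk₀,
      Ext.comp_assoc (Ext.mk₀ (π I (Nat.le_succ m₀))) (Ext.mk₀ (π I h₀)) u (zero_add 0)
        (zero_add (e + 1)) (show 0 + 0 + (e + 1) = e + 1 by omega), hm₀, Ext.comp_zero]
  refine ⟨m₀ + 1, hlt, ?_⟩
  have key : ∀ k : ℕ, ∀ (N : ModuleCat.{u} R) (x : Ext (Q I n) N (e + 1 + k)),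
      (Ext.mk₀ (π I (le_of_lt hlt))).comp x (zero_add _) = 0 := by
    intro k
    induction k with
    | zero =>
      intro N x
      obtain ⟨φ, rfl⟩ := hu N x
      rw [← Ext.comp_assoc (Ext.mk₀ (π I (le_of_lt hlt))) u (Ext.mk₀ φ) (zero_add (e + 1))
        (add_zero (e + 1)) (show 0 + (e + 1) + 0 = e + 1 by omega), hstep, Ext.zero_comp]
    | succ k ih =>
      intro N x
      obtain ⟨E, C, f, g, w, hE, hS⟩ := exists_ses_injective N
      haveI := hE
      have hx0 : x.comp (Ext.mk₀ f) (add_zero (e + 1 + k + 1)) = 0 :=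
        Ext.eq_zero_of_injective (I := E) _
      obtain ⟨y, hy⟩ := Ext.covariant_sequence_exact₁ _ hS x hx0 (n₀ := e + 1 + k) rfl
      rw [← hy, ← Ext.comp_assoc (Ext.mk₀ (π I (le_of_lt hlt))) y hS.extClass
        (zero_add (e + 1 + k)) rfl (show 0 + (e + 1 + k) + 1 = e + 1 + k + 1 by omega),
        ih C y, Ext.zero_comp]
  intro N i hi x
  obtain ⟨k, rfl⟩ := Nat.exists_eq_add_of_le (Nat.succ_le_of_lt hi)
  exact key k N x

end Groth.Agent.H58.LC
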