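import Mathlib
import Groth.Prelude.Def_Wider
import Groth.Agent.H12.RGamHDI_A
import Groth.Agent.H58.LCLes

/-!
# LD-B: bridge between Mathlib's local cohomology `LocCoh.H I i M` and `HYI I (M[i])`
(helper58 for helper71's local-duality squad; modelled on helper12's `HTBridge`).
-/

set_option autoImplicit false
universe u
open CategoryTheory CategoryTheory.Limits Opposite
attribute [local instance] HasDerivedCategory.standard

namespace Groth.Agent.H58.LDB

open DerivedCategory
open Groth.Agent.H12.RGamHDI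
open Groth.Agent.H58

variable {A : Type u} [CommRing A]

lemma mk₀_comp_hom {X X' Y : ModuleCat.{u} A} (f : X' ⟶ X) {n : ℕ} (e : Abelian.Ext.{u} X Y n) :
    ((Abelian.Ext.mk₀ f).comp e (zero_add n)).hom =
      (singleFunctor (ModuleCat.{u} A) 0).map f ≫ e.hom := by
  rw [Abelian.Ext.comp_hom, Abelian.Ext.mk₀_hom, ShiftedHom.mk₀_comp]

variable (I : Ideal A) (i : ℕ) (M : ModuleCat.{u} A)

/-- `M[i]` -/
noncomputable abbrev SM : Dual.D A := ((singleFunctor (ModuleCat.{u} A) 0).obj M)⟦(i : ℤ)⟧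

/-- `A/I^n` exactly as it appears in `QDI` -/
noncomputable abbrev QM (n : ℕ) : ModuleCat.{u} A :=
  (localCohomology.ringModIdeals (localCohomology.idealPowersDiagram I)).obj (op n)

/-- the transition map exactly as it appears in `QDI` -/
noncomputable abbrev πM {n m : ℕ} (h : n ≤ m) : QM I m ⟶ QM I n :=
  (localCohomology.ringModIdeals (localCohomology.idealPowersDiagram I)).map (homOfLE h).op

/-- `LC.ι` retyped -/
noncomputable def ιQ (n : ℕ) : Abelian.Ext.{u} (QM I n) M i →ₗ[A] (localCohomology I i).obj M :=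
  LC.ι I i M n

theorem ιQ_comp_π {n m : ℕ} (h : n ≤ m) (x : Abelian.Ext.{u} (QM I n) M i) :
    ιQ I i M m ((Abelian.Ext.mk₀ (πM I h)).comp x (zero_add i)) = ιQ I i M n x :=
  LC.ι_comp_π I i M h x

theorem exists_repQ (y : (localCohomology I i).obj M) :
    ∃ (n : ℕ) (x : Abelian.Ext.{u} (QM I n) M i), ιQ I i M n x = y :=
  LC.exists_rep I i M y

theorem exists_of_ιQ_eq_zero (n : ℕ) (x : Abelian.Ext.{u} (QM I n) M i)
    (hx : ιQ I i M n x = 0) :
    ∃ m, ∃ h : n ≤ m, (Abelian.Ext.mk₀ (πM I h)).comp x (zero_add i) = 0 :=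
  LC.exists_of_ι_eq_zero I i M n x hx

lemma hom_symm (n : ℕ) (y : (QDI I).obj (op n) ⟶ SM i M) :
    ((Abelian.Ext.homLinearEquiv (R := A) (X := QM I n) (Y := M) (n := i)).symm y).hom = y :=
  (Abelian.Ext.homLinearEquiv (R := A) (X := QM I n) (Y := M) (n := i)).apply_symm_apply y

lemma symm_res {n m : ℕ} (h : n ≤ m) (y : (QDI I).obj (op n) ⟶ SM i M) :
    (Abelian.Ext.homLinearEquiv (R := A) (X := QM I m) (Y := M) (n := i)).symm (tr I h ≫ y) =
    (Abelian.Ext.mk₀ (πM I h)).comp
      ((Abelian.Ext.homLinearEquiv (R := A) (X := QM I n) (Y := M) (n := i)).symm y)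
      (zero_add i) := by
  apply Abelian.Ext.ext
  rw [hom_symm, mk₀_comp_hom, hom_symm]
  rfl

/-- the components of the comparison cocone -/
noncomputable def compJ (n : ℕ) :
    ((QDI I).obj (op n) ⟶ SM i M) →ₗ[A] ULift.{u + 1} ((localCohomology I i).obj M) :=
  (ULift.moduleEquiv (R := A) (M := (localCohomology I i).obj M)).symm.toLinearMap ∘ₗ
    ιQ I i M n ∘ₗ
    (Abelian.Ext.homLinearEquiv (R := A) (X := QM I n) (Y := M) (n := i)).symm.toLinearMap

lemma compJ_apply (n : ℕ) (y : (QDI I).obj (op n) ⟶ SM i M) :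
    (compJ I i M n y).down = ιQ I i M n
      ((Abelian.Ext.homLinearEquiv (R := A) (X := QM I n) (Y := M) (n := i)).symm y) := rfl

/-- the comparison cocone -/
noncomputable def compCocone : Cocone (FDI I (SM i M)) where
  pt := ModuleCat.of A (ULift.{u + 1} ((localCohomology I i).obj M))
  ι :=
    { app := fun j => ModuleCat.ofHom (compJ I i M j.unop.unop)
      naturality := by
        intro j k f
        refine ModuleCat.hom_ext (LinearMap.ext fun y => ?_)
        have hle : j.unop.unop ≤ k.unop.unop := leOfHom f.unop.unop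
        have hf : f = (homOfLE hle).op.op := Subsingleton.elim _ _
        subst hf
        apply ULift.ext
        exact (congrArg (ιQ I i M k.unop.unop) (symm_res I i M hle y)).trans
          (ιQ_comp_π I i M hle _) }

/-- the comparison map -/
noncomputable def Ψ : HYI I (SM i M) →ₗ[A] (localCohomology I i).obj M :=
  (ULift.moduleEquiv (R := A) (M := (localCohomology I i).obj M)).toLinearMap ∘ₗ
    (colimit.desc (FDI I (SM i M)) (compCocone I i M)).hom

lemma Ψ_ι (n : ℕ) (y : (QDI I).obj (op n) ⟶ SM i M) :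
    Ψ I i M (ι I _ n y) = ιQ I i M n
      ((Abelian.Ext.homLinearEquiv (R := A) (X := QM I n) (Y := M) (n := i)).symm y) := by
  have h := colimit.ι_desc (compCocone I i M) (op (op n))
  have h' := congrArg (fun t => (t.hom y).down) h
  exact h'

theorem Ψ_bijective : Function.Bijective (Ψ I i M) := by
  constructor
  · rw [← LinearMap.ker_eq_bot, LinearMap.ker_eq_bot']
    intro x hx
    obtain ⟨n, y, rfl⟩ := exists_rep I _ x
    rw [Ψ_ι] at hx
    obtain ⟨m, h, h0⟩ := exists_of_ιQ_eq_zero I i M n _ hx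
    have h1 := congrArg Abelian.Ext.hom h0
    rw [mk₀_comp_hom, hom_symm] at h1
    have h2 : tr I h ≫ y = 0 := h1.trans (Abelian.Ext.zero_hom _ _ _)
    rw [← ι_res I _ h y, h2, map_zero]
  · intro z
    obtain ⟨n, e, rfl⟩ := exists_repQ I i M z
    refine ⟨ι I _ n e.hom, ?_⟩
    rw [Ψ_ι]
    congr 1
    exact (Abelian.Ext.homLinearEquiv (R := A) (X := QM I n) (Y := M) (n := i)).symm_apply_apply e

/-- `H_I(M[i]) ≃ H^i_I(M)` -/
noncomputable def equivHI : HYI I (SM i M) ≃ₗ[A] (localCohomology I i).obj M :=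
  LinearEquiv.ofBijective (Ψ I i M) (Ψ_bijective I i M)

theorem bridge (A : Type u) [CommRing A] (I : Ideal A) (M : Type u) [AddCommGroup M] [Module A M]
    (i : ℕ) :
    Nonempty (LocCoh.H I i M ≃ₗ[A]
      ↑(Groth.Agent.H12.RGamHDI.HYI I ((Dual.inD A M)⟦(i : ℤ)⟧))) :=
  ⟨(equivHI I i (ModuleCat.of A M)).symm⟩

end Groth.Agent.H58.LDB
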