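import Mathlib
import Groth.Agent.H69.DirColim
import Groth.Agent.H15.NilPair.Base
import Groth.Agent.H15.NilPair.Defs
import Groth.Agent.H15.NilPair.Sys

/-!
helper58: piece (M3) for helper15's S18016 squad: `phi j` is integral when `f` is.
-/

set_option autoImplicit false
universe u
open CategoryTheory MvPolynomial Limits
open Groth.Agent.H69 Groth.Agent.H15.NilPair
open scoped Classical

namespace Groth.Agent.H58.NilPair_M3

variable {R B D D' P : Type u} [CommRing R] [CommRing B] [CommRing D] [CommRing D'] [CommRing P]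
  [Algebra R B] [Algebra R D] [Algebra R D'] [Algebra R P]
variable {f : B →ₐ[R] D} {i : D' →ₐ[R] D} {q₁ : P →ₐ[R] B} {q₂ : P →ₐ[R] D'}

/-- the subalgebra of elements integral over `phi j` -/
noncomputable def G (j : J f i q₁ q₂) : Subalgebra R (FD j) where
  carrier := {z | (phi j).toRingHom.IsIntegralElem z}
  mul_mem' := fun ha hb => RingHom.IsIntegralElem.mul _ ha hb
  add_mem' := fun ha hb => RingHom.IsIntegralElem.add _ ha hb
  algebraMap_mem' := fun r => by
    have h : algebraMap R (FD j) r = (phi j).toRingHom (algebraMap R (FB j) r) :=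
      ((phi j).commutes r).symm
    show (phi j).toRingHom.IsIntegralElem _
    rw [h]
    exact RingHom.isIntegralElem_map _

theorem mem_G (j : J f i q₁ q₂) (z : FD j) : z ∈ G j ↔ (phi j).toRingHom.IsIntegralElem z :=
  Iff.rfl

/-- (M3) -/
theorem phi_integral (hint : f.toRingHom.IsIntegral) (j : J f i q₁ q₂) :
    (phi j).toRingHom.IsIntegral := by
  have htop : G j = ⊤ := by
    apply gen_top
    intro b hb
    rcases Finset.mem_disjSum.mp hb with ⟨p, hp, rfl⟩ | ⟨s, hs, rfl⟩
    · rw [mem_G]
      have h : mkq j.1.WD j.1.TD ⟨X (Sum.inl p), X_mem_PS hb⟩ =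
          (phi j).toRingHom (mkq j.1.WB j.1.TB
            ⟨X (Sum.inl p), X_mem_PS (Finset.inl_mem_disjSum.mpr hp)⟩) := rfl
      rw [h]
      exact RingHom.isIntegralElem_map _
    · rw [mem_G]
      exact j.2.2.2.2.2.2.2 hint s hs
  intro z
  have hz : z ∈ G j := by rw [htop]; trivial
  exact (mem_G j z).mp hz

end Groth.Agent.H58.NilPair_M3
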