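import Groth.Statements.S17737

/-!
# Uniqueness of the thickness ideal of a formal node (helper58)

For a Noetherian local ring `R` with completion `Ŝ`, an isomorphism
`Ŝ[[x,y]]/(xy - b) ≃ Ŝ[[x,y]]/(xy - a)` compatible with the constants from `R` forces `b ∈ aR`.
Proof: transport the weight derivation `x∂_x - y∂_y`; any `R`-derivation of `Ŝ[[x,y]]/(xy-a)` has image in
`(x, y, a, 𝔪^n)` for all `n`; conclude by Krull's intersection theorem.
-/

set_option autoImplicit false
universe u

namespace Groth.Agent.H58.NodeThick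

open MvPowerSeries

section PS

variable {S : Type u} [CommRing S]

/-- The ring `S[[x,y]]/(xy - s)`. -/
abbrev NR (S : Type u) [CommRing S] (s : S) : Type u :=
  MvPowerSeries (Fin 2) S ⧸ Ideal.span {(X 0 * X 1 - C s : MvPowerSeries (Fin 2) S)}

/-- weight of a monomial: `x` has weight `1`, `y` weight `-1`. -/
def wt (m : Fin 2 →₀ ℕ) : ℤ := (m 0 : ℤ) - (m 1 : ℤ)

lemma wt_add (p q : Fin 2 →₀ ℕ) : wt (p + q) = wt p + wt q := by
  simp only [wt, Finsupp.coe_add, Pi.add_apply, Nat.cast_add]; ring

/-- the weight derivation `x∂_x - y∂_y`. -/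
def W (f : MvPowerSeries (Fin 2) S) : MvPowerSeries (Fin 2) S := fun m => wt m • coeff m f

lemma coeff_W (m : Fin 2 →₀ ℕ) (f : MvPowerSeries (Fin 2) S) : coeff m (W f) = wt m • coeff m f := rfl

lemma W_add (f g : MvPowerSeries (Fin 2) S) : W (f + g) = W f + W g := by
  ext m; simp only [coeff_W, map_add, smul_add]

lemma W_sub (f g : MvPowerSeries (Fin 2) S) : W (f - g) = W f - W g := by
  ext m; simp only [coeff_W, map_sub, smul_sub]

lemma W_mul (f g : MvPowerSeries (Fin 2) S) : W (f * g) = W f * g + f * W g := by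
  classical
  ext m
  rw [coeff_W, map_add, coeff_mul, coeff_mul, coeff_mul, Finset.smul_sum, ← Finset.sum_add_distrib]
  refine Finset.sum_congr rfl fun p hp => ?_
  rw [Finset.mem_antidiagonal] at hp
  rw [coeff_W, coeff_W, ← hp, wt_add, add_smul, smul_mul_assoc, mul_smul_comm]

lemma W_X0 : W (X 0 : MvPowerSeries (Fin 2) S) = X 0 := by
  classical
  ext m
  rw [coeff_W, coeff_X]
  split_ifs with h
  · subst h; simp [wt]
  · simp

lemma W_X1 : W (X 1 : MvPowerSeries (Fin 2) S) = - X 1 := by
  classical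
  ext m
  rw [coeff_W, map_neg, coeff_X]
  split_ifs with h
  · subst h; simp [wt]
  · simp

lemma W_C (s : S) : W (C s : MvPowerSeries (Fin 2) S) = 0 := by
  classical
  ext m
  rw [coeff_W, coeff_C]
  split_ifs with h
  · subst h; simp [wt]
  · simp

lemma W_rel (s : S) : W (X 0 * X 1 - C s : MvPowerSeries (Fin 2) S) = 0 := by
  rw [W_sub, W_mul, W_X0, W_X1, W_C]; ring

lemma W_mem (s : S) {f : MvPowerSeries (Fin 2) S}
    (hf : f ∈ Ideal.span {(X 0 * X 1 - C s : MvPowerSeries (Fin 2) S)}) :
    W f ∈ Ideal.span {(X 0 * X 1 - C s : MvPowerSeries (Fin 2) S)} := by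
  obtain ⟨g, rfl⟩ := Ideal.mem_span_singleton'.1 hf
  rw [W_mul, W_rel, mul_zero, add_zero]
  exact Ideal.mul_mem_left _ _ (Ideal.mem_span_singleton_self _)

/-- The weight derivation on the quotient `S[[x,y]]/(xy - s)`. -/
noncomputable def Wbar (s : S) (c : NR S s) : NR S s :=
  Ideal.Quotient.mk _ (W (Function.surjInv Ideal.Quotient.mk_surjective c))

lemma Wbar_mk (s : S) (f : MvPowerSeries (Fin 2) S) :
    Wbar s (Ideal.Quotient.mk _ f) = Ideal.Quotient.mk _ (W f) := by
  unfold Wbar
  rw [Ideal.Quotient.eq, ← W_sub]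
  apply W_mem
  rw [← Ideal.Quotient.eq]
  exact Function.surjInv_eq _ _

lemma Wbar_add (s : S) (x y : NR S s) : Wbar s (x + y) = Wbar s x + Wbar s y := by
  obtain ⟨f, rfl⟩ := Ideal.Quotient.mk_surjective x
  obtain ⟨g, rfl⟩ := Ideal.Quotient.mk_surjective y
  rw [← map_add, Wbar_mk, Wbar_mk, Wbar_mk, W_add, map_add]

lemma Wbar_mul (s : S) (x y : NR S s) : Wbar s (x * y) = Wbar s x * y + x * Wbar s y := by
  obtain ⟨f, rfl⟩ := Ideal.Quotient.mk_surjective x
  obtain ⟨g, rfl⟩ := Ideal.Quotient.mk_surjective y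
  rw [← map_mul, Wbar_mk, Wbar_mk, Wbar_mk, W_mul, map_add, map_mul, map_mul]

lemma coeff_single_X_mul_same (i : Fin 2) (f : MvPowerSeries (Fin 2) S) :
    coeff (Finsupp.single i 1) (X i * f) = constantCoeff f := by
  rw [X_def, coeff_monomial_mul, if_pos le_rfl, tsub_self, one_mul, coeff_zero_eq_constantCoeff_apply]

lemma coeff_single_X_mul_ne (i j : Fin 2) (hij : i ≠ j) (f : MvPowerSeries (Fin 2) S) :
    coeff (Finsupp.single i 1) (X j * f) = 0 := by
  rw [X_def, coeff_monomial_mul, if_neg]
  intro hle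
  have := Finsupp.le_def.1 hle j
  simp [hij.symm] at this

lemma key_coeff (s : S) (p q h : MvPowerSeries (Fin 2) S)
    (H : X 0 * q + X 1 * p = h * (X 0 * X 1 - C s)) :
    constantCoeff q = - (s * coeff (Finsupp.single 0 1) h) ∧
      constantCoeff p = - (s * coeff (Finsupp.single 1 1) h) := by
  constructor
  · have H' : X 0 * q + X 1 * p = X 1 * (X 0 * h) - C s * h := by rw [H]; ring
    have := congrArg (coeff (Finsupp.single (0 : Fin 2) 1)) H'
    rw [map_add, map_sub, coeff_single_X_mul_same, coeff_single_X_mul_ne 0 1 (by decide),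
      coeff_single_X_mul_ne 0 1 (by decide), coeff_C_mul, add_zero, zero_sub] at this
    exact this
  · have H' : X 0 * q + X 1 * p = X 0 * (X 1 * h) - C s * h := by rw [H]; ring
    have := congrArg (coeff (Finsupp.single (1 : Fin 2) 1)) H'
    rw [map_add, map_sub, coeff_single_X_mul_same, coeff_single_X_mul_ne 1 0 (by decide),
      coeff_single_X_mul_ne 1 0 (by decide), coeff_C_mul, zero_add, zero_sub] at this
    exact this

lemma decomp (f : MvPowerSeries (Fin 2) S) :
    ∃ g h : MvPowerSeries (Fin 2) S, f = C (constantCoeff f) + X 0 * g + X 1 * h := by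
  classical
  set f' := f - C (constantCoeff f) with hf'
  let A : MvPowerSeries (Fin 2) S := fun m => if m 0 = 0 then 0 else coeff m f'
  let B : MvPowerSeries (Fin 2) S := fun m => if m 0 = 0 then coeff m f' else 0
  have hAB : f' = A + B := by
    ext m
    rw [map_add, coeff_apply A, coeff_apply B]
    by_cases hm : m 0 = 0
    · simp [A, B, hm]
    · simp [A, B, hm]
  have hA : (X 0 : MvPowerSeries (Fin 2) S) ∣ A := by
    rw [X_dvd_iff]
    intro m hm
    rw [coeff_apply]
    simp [A, hm]
  have hB : (X 1 : MvPowerSeries (Fin 2) S) ∣ B := by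
    rw [X_dvd_iff]
    intro m hm
    rw [coeff_apply]
    by_cases hm0 : m 0 = 0
    · have hm00 : m = 0 := by
        ext i; fin_cases i
        · simpa using hm0
        · simpa using hm
      subst hm00
      simp [B, hf', coeff_zero_eq_constantCoeff_apply]
    · simp [B, hm0]
  obtain ⟨g, hg⟩ := hA
  obtain ⟨h, hh⟩ := hB
  refine ⟨g, h, ?_⟩
  rw [← hg, ← hh, add_assoc, ← hAB, hf']; ring

end PS

section Main

open IsLocalRing

variable (R : Type u) [CommRing R] [IsLocalRing R] [IsNoetherianRing R]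

/-- `Ŝ → R/(𝔪^n + (a))`. -/
noncomputable def thetaC (a : R) (n : ℕ) :
    AdicCompletion (maximalIdeal R) R →+* R ⧸ ((maximalIdeal R) ^ n ⊔ Ideal.span {a}) :=
  (Ideal.Quotient.factor (le_sup_left : (maximalIdeal R) ^ n ≤ (maximalIdeal R) ^ n ⊔ Ideal.span {a})).comp
    (AdicCompletion.evalₐ (maximalIdeal R) n).toRingHom

lemma thetaC_algebraMap (a : R) (n : ℕ) (r : R) :
    thetaC R a n (algebraMap R (AdicCompletion (maximalIdeal R) R) r) = Ideal.Quotient.mk _ r := by
  simp only [thetaC, RingHom.coe_comp, Function.comp_apply, AlgHom.toRingHom_eq_coe, RingHom.coe_coe,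
    AlgHom.commutes]
  rfl

lemma thetaC_a (a : R) (n : ℕ) :
    thetaC R a n (algebraMap R (AdicCompletion (maximalIdeal R) R) a) = 0 := by
  rw [thetaC_algebraMap, Ideal.Quotient.eq_zero_iff_mem]
  exact Ideal.mem_sup_right (Ideal.mem_span_singleton_self a)

lemma thetaC_pow (a : R) (n : ℕ) (t : R) (ht : t ∈ (maximalIdeal R) ^ n) :
    thetaC R a n (algebraMap R (AdicCompletion (maximalIdeal R) R) t) = 0 := by
  rw [thetaC_algebraMap, Ideal.Quotient.eq_zero_iff_mem]
  exact Ideal.mem_sup_left ht

/-- `Ŝ[[x,y]] → R/(𝔪^n + (a))`. -/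
noncomputable def theta (a : R) (n : ℕ) :
    MvPowerSeries (Fin 2) (AdicCompletion (maximalIdeal R) R) →+*
      R ⧸ ((maximalIdeal R) ^ n ⊔ Ideal.span {a}) :=
  (thetaC R a n).comp constantCoeff

lemma theta_apply (a : R) (n : ℕ) (f : MvPowerSeries (Fin 2) (AdicCompletion (maximalIdeal R) R)) :
    theta R a n f = thetaC R a n (constantCoeff f) := rfl

lemma theta_rel (a : R) (n : ℕ) :
    theta R a n (X 0 * X 1 - C (algebraMap R (AdicCompletion (maximalIdeal R) R) a)) = 0 := by
  rw [theta_apply, map_sub, map_mul, constantCoeff_X, constantCoeff_C, zero_mul, zero_sub, map_neg,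
    thetaC_a, neg_zero]

/-- `Ŝ[[x,y]]/(xy - a) → R/(𝔪^n + (a))`. -/
noncomputable def eps (a : R) (n : ℕ) :
    NR (AdicCompletion (maximalIdeal R) R) (algebraMap R (AdicCompletion (maximalIdeal R) R) a) →+*
      R ⧸ ((maximalIdeal R) ^ n ⊔ Ideal.span {a}) :=
  Ideal.Quotient.lift _ (theta R a n) (by
    intro x hx
    obtain ⟨g, rfl⟩ := Ideal.mem_span_singleton'.1 hx
    rw [map_mul, theta_rel, mul_zero])

lemma eps_mk (a : R) (n : ℕ) (f : MvPowerSeries (Fin 2) (AdicCompletion (maximalIdeal R) R)) :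
    eps R a n (Ideal.Quotient.mk _ f) = theta R a n f := Ideal.Quotient.lift_mk _ _ _

theorem eps_D_eq_zero (a : R) (n : ℕ)
    (D : NR (AdicCompletion (maximalIdeal R) R) (algebraMap R (AdicCompletion (maximalIdeal R) R) a) →
      NR (AdicCompletion (maximalIdeal R) R) (algebraMap R (AdicCompletion (maximalIdeal R) R) a))
    (hadd : ∀ x y, D (x + y) = D x + D y)
    (hmul : ∀ x y, D (x * y) = D x * y + x * D y)
    (hR : ∀ r : R, D (Ideal.Quotient.mk _ (C (algebraMap R (AdicCompletion (maximalIdeal R) R) r))) = 0)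
    (c : NR (AdicCompletion (maximalIdeal R) R) (algebraMap R (AdicCompletion (maximalIdeal R) R) a)) :
    eps R a n (D c) = 0 := by
  -- step 1: `D x̄`, `D ȳ`
  have hXY : eps R a n (D (Ideal.Quotient.mk _ (X 0))) = 0 ∧
      eps R a n (D (Ideal.Quotient.mk _ (X 1))) = 0 := by
    obtain ⟨p, hp⟩ := Ideal.Quotient.mk_surjective (D (Ideal.Quotient.mk _ (X 0)))
    obtain ⟨q, hq⟩ := Ideal.Quotient.mk_surjective (D (Ideal.Quotient.mk _ (X 1)))
    have h0 : D (Ideal.Quotient.mk _ (X 0) * Ideal.Quotient.mk _ (X 1)) = 0 := by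
      rw [← map_mul]
      have : (Ideal.Quotient.mk (Ideal.span {(X 0 * X 1 -
          C (algebraMap R (AdicCompletion (maximalIdeal R) R) a) :
            MvPowerSeries (Fin 2) (AdicCompletion (maximalIdeal R) R))})) (X 0 * X 1) =
          Ideal.Quotient.mk _ (C (algebraMap R (AdicCompletion (maximalIdeal R) R) a)) := by
        rw [Ideal.Quotient.eq]; exact Ideal.mem_span_singleton_self _
      rw [this]; exact hR a
    rw [hmul, ← hp, ← hq, ← map_mul, ← map_mul, ← map_add, Ideal.Quotient.eq_zero_iff_mem,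
      Ideal.mem_span_singleton'] at h0
    obtain ⟨h, hh⟩ := h0
    have H : X 0 * q + X 1 * p = h * (X 0 * X 1 -
        C (algebraMap R (AdicCompletion (maximalIdeal R) R) a)) := by rw [hh]; ring
    obtain ⟨h1, h2⟩ := key_coeff _ p q h H
    constructor
    · rw [← hp, eps_mk, theta_apply, h2, map_neg, map_mul, thetaC_a, zero_mul, neg_zero]
    · rw [← hq, eps_mk, theta_apply, h1, map_neg, map_mul, thetaC_a, zero_mul, neg_zero]
  -- step 2: constants
  have hC : ∀ s : AdicCompletion (maximalIdeal R) R, eps R a n (D (Ideal.Quotient.mk _ (C s))) = 0 := by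
    intro s
    obtain ⟨r, hr⟩ := Ideal.Quotient.mk_surjective (AdicCompletion.evalₐ (maximalIdeal R) n s)
    have hzero : AdicCompletion.evalₐ (maximalIdeal R) n
        (s - algebraMap R (AdicCompletion (maximalIdeal R) R) r) = 0 := by
      rw [map_sub, AlgHom.commutes, ← hr]; exact sub_self _
    have hker : s - algebraMap R (AdicCompletion (maximalIdeal R) R) r ∈
        ((maximalIdeal R) ^ n • ⊤ : Submodule R (AdicCompletion (maximalIdeal R) R)) := by
      rw [AdicCompletion.pow_smul_top_eq_ker_eval (IsNoetherian.noetherian _), LinearMap.mem_ker]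
      have hle : (maximalIdeal R) ^ n ≤ ((maximalIdeal R) ^ n • ⊤ : Ideal R) := by
        rw [smul_eq_mul, Ideal.mul_top]
      have := AdicCompletion.factor_evalₐ_eq_eval (I := maximalIdeal R) (n := n)
        (s - algebraMap R (AdicCompletion (maximalIdeal R) R) r) hle
      rw [← this, hzero, map_zero]
    have key : ∀ k ∈ ((maximalIdeal R) ^ n • ⊤ : Submodule R (AdicCompletion (maximalIdeal R) R)),
        eps R a n (D (Ideal.Quotient.mk _ (C k))) = 0 := by
      intro k hk
      refine Submodule.smul_induction_on hk ?_ ?_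
      · intro t ht s' _
        rw [Algebra.smul_def, map_mul, map_mul, hmul, hR, zero_mul, zero_add, map_mul, eps_mk,
          theta_apply, constantCoeff_C, thetaC_pow R a n t ht, zero_mul]
      · intro x y hx hy
        rw [map_add, map_add, hadd, map_add, hx, hy, add_zero]
    have hs : s = (s - algebraMap R (AdicCompletion (maximalIdeal R) R) r) +
        algebraMap R (AdicCompletion (maximalIdeal R) R) r := by ring
    rw [hs, map_add, map_add, hadd, map_add, key _ hker, hR, map_zero, add_zero]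
  -- step 3: general element
  obtain ⟨f, rfl⟩ := Ideal.Quotient.mk_surjective c
  obtain ⟨g, h, hf⟩ := decomp f
  rw [hf, map_add, map_add, map_mul, map_mul, hadd, hadd, hmul, hmul]
  simp only [map_add, map_mul, hC, hXY.1, hXY.2, eps_mk, theta_apply, constantCoeff_X, map_zero,
    zero_mul, mul_zero, add_zero]

theorem mem_span_of_equiv (a b : R)
    (ψ : NR (AdicCompletion (maximalIdeal R) R) (algebraMap R (AdicCompletion (maximalIdeal R) R) b) ≃+*
      NR (AdicCompletion (maximalIdeal R) R) (algebraMap R (AdicCompletion (maximalIdeal R) R) a))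
    (hψ : ∀ r : R, ψ (Ideal.Quotient.mk _ (C (algebraMap R (AdicCompletion (maximalIdeal R) R) r))) =
      Ideal.Quotient.mk _ (C (algebraMap R (AdicCompletion (maximalIdeal R) R) r))) :
    b ∈ Ideal.span {a} := by
  have hn : ∀ n : ℕ, b ∈ (maximalIdeal R) ^ n ⊔ Ideal.span {a} := by
    intro n
    let D : NR (AdicCompletion (maximalIdeal R) R) (algebraMap R (AdicCompletion (maximalIdeal R) R) a) →
      NR (AdicCompletion (maximalIdeal R) R) (algebraMap R (AdicCompletion (maximalIdeal R) R) a) :=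
      fun c => ψ (Wbar _ (ψ.symm c))
    have hadd : ∀ x y, D (x + y) = D x + D y := by
      intro x y; simp only [D, map_add, Wbar_add]
    have hmul : ∀ x y, D (x * y) = D x * y + x * D y := by
      intro x y; simp only [D, map_mul, Wbar_mul, map_add, RingEquiv.apply_symm_apply]
    have hR : ∀ r : R, D (Ideal.Quotient.mk _
        (C (algebraMap R (AdicCompletion (maximalIdeal R) R) r))) = 0 := by
      intro r
      have : ψ.symm (Ideal.Quotient.mk _ (C (algebraMap R (AdicCompletion (maximalIdeal R) R) r))) =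
          Ideal.Quotient.mk _ (C (algebraMap R (AdicCompletion (maximalIdeal R) R) r)) := by
        rw [RingEquiv.symm_apply_eq, hψ]
      simp only [D, this, Wbar_mk, W_C, map_zero]
    have h1 := eps_D_eq_zero R a n D hadd hmul hR (ψ (Ideal.Quotient.mk _ (X 0)))
    have h2 : D (ψ (Ideal.Quotient.mk _ (X 0))) = ψ (Ideal.Quotient.mk _ (X 0)) := by
      simp only [D, RingEquiv.symm_apply_apply, Wbar_mk, W_X0]
    rw [h2] at h1
    have h3 : (Ideal.Quotient.mk (Ideal.span {(X 0 * X 1 -
          C (algebraMap R (AdicCompletion (maximalIdeal R) R) b) :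
            MvPowerSeries (Fin 2) (AdicCompletion (maximalIdeal R) R))}))
          (C (algebraMap R (AdicCompletion (maximalIdeal R) R) b)) =
        Ideal.Quotient.mk _ (X 0) * Ideal.Quotient.mk _ (X 1) := by
      rw [← map_mul, eq_comm, Ideal.Quotient.eq]; exact Ideal.mem_span_singleton_self _
    have h4 := congrArg (fun z => eps R a n (ψ z)) h3
    simp only [map_mul, hψ, h1, zero_mul, eps_mk, theta_apply, constantCoeff_C,
      thetaC_algebraMap] at h4
    exact Ideal.Quotient.eq_zero_iff_mem.1 h4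
  have hK := Ideal.iInf_pow_smul_eq_bot_of_isLocalRing (R := R) (M := R ⧸ Ideal.span {a})
    (maximalIdeal R) (Ideal.IsPrime.ne_top inferInstance)
  have hmem : (Ideal.Quotient.mk (Ideal.span {a}) b) ∈
      (⨅ i : ℕ, (maximalIdeal R) ^ i • ⊤ : Submodule R (R ⧸ Ideal.span {a})) := by
    rw [Submodule.mem_iInf]; intro n
    obtain ⟨u, hu, v, hv, huv⟩ := Submodule.mem_sup.1 (hn n)
    have : Ideal.Quotient.mk (Ideal.span {a}) b = u • (1 : R ⧸ Ideal.span {a}) := by
      rw [← huv, map_add, Ideal.Quotient.eq_zero_iff_mem.2 hv, add_zero, Algebra.smul_def, mul_one]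
      rfl
    rw [this]; exact Submodule.smul_mem_smul hu Submodule.mem_top
  rw [hK, Submodule.mem_bot] at hmem
  exact Ideal.Quotient.eq_zero_iff_mem.1 hmem

end Main

end Groth.Agent.H58.NodeThick
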