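import Mathlib

/-!
# The degree-zero part of the homogeneous localization `T⁻¹A`

`A` an `ℕ`-graded ring, `p` a prime ideal, `W` the submonoid of homogeneous elements outside `p`,
`H = HomogeneousLocalization 𝒜 W` (isomorphic to `A_(p)`), `R = Localization W`.
We construct the `H`-linear retraction `piL : R → H` ("degree zero part") of `val : H → R`,
deduce cyclic purity `(I R) ∩ H = I` and that `H` is Noetherian when `A` is.
-/

set_option autoImplicit false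
universe u

namespace Groth.Agent.H58.ProjDeg0

open HomogeneousLocalization DirectSum

variable {A : Type u} [CommRing A] (𝒜 : ℕ → AddSubgroup A) [GradedRing 𝒜]
  (p : Ideal A) [p.IsPrime]

/-- Homogeneous elements outside `p`. -/
def W : Submonoid A where
  carrier := {s | (∃ n, s ∈ 𝒜 n) ∧ s ∉ p}
  one_mem' := ⟨⟨0, SetLike.one_mem_graded 𝒜⟩, p.primeCompl.one_mem⟩
  mul_mem' := by
    rintro a b ⟨⟨n, ha⟩, hap⟩ ⟨⟨m, hb⟩, hbp⟩
    exact ⟨⟨n + m, SetLike.mul_mem_graded ha hb⟩, p.primeCompl.mul_mem hap hbp⟩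

theorem W_le : W 𝒜 p ≤ p.primeCompl := fun _ hs => hs.2

theorem mem_W {s : A} {n : ℕ} (hs : s ∈ 𝒜 n) (hsp : s ∉ p) : s ∈ W 𝒜 p := ⟨⟨n, hs⟩, hsp⟩

/-- the degree of an element of `W` -/
noncomputable def dg (s : W 𝒜 p) : ℕ := s.2.1.choose

theorem dg_spec (s : W 𝒜 p) : (s : A) ∈ 𝒜 (dg 𝒜 p s) := s.2.1.choose_spec

theorem W_ne_zero (s : W 𝒜 p) : (s : A) ≠ 0 := fun h => s.2.2 (h ▸ p.zero_mem)

theorem dg_eq (s : W 𝒜 p) {n : ℕ} (h : (s : A) ∈ 𝒜 n) : dg 𝒜 p s = n :=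
  DirectSum.degree_eq_of_mem_mem 𝒜 (dg_spec 𝒜 p s) h (W_ne_zero 𝒜 p s)

theorem proj_mul_left {i : ℕ} {a : A} (ha : a ∈ 𝒜 i) (b : A) (j n : ℕ) (h : n = i + j) :
    GradedRing.proj 𝒜 n (a * b) = a * GradedRing.proj 𝒜 j b := by
  subst h
  simp only [GradedRing.proj_apply]
  exact DirectSum.coe_decompose_mul_add_of_left_mem 𝒜 ha

theorem proj_mem (n : ℕ) (a : A) : GradedRing.proj 𝒜 n a ∈ 𝒜 n := by
  rw [GradedRing.proj_apply]
  exact SetLike.coe_mem _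

theorem proj_same {n : ℕ} {a : A} (ha : a ∈ 𝒜 n) : GradedRing.proj 𝒜 n a = a := by
  rw [GradedRing.proj_apply]
  exact DirectSum.decompose_of_mem_same 𝒜 ha

/-- the degree zero part, on fractions -/
noncomputable def piFun (a : A) (s : W 𝒜 p) : HomogeneousLocalization 𝒜 (W 𝒜 p) :=
  HomogeneousLocalization.mk
    ⟨dg 𝒜 p s, ⟨GradedRing.proj 𝒜 (dg 𝒜 p s) a, proj_mem 𝒜 _ a⟩, ⟨s, dg_spec 𝒜 p s⟩, s.2⟩

theorem val_piFun (a : A) (s : W 𝒜 p) :
    (piFun 𝒜 p a s).val = Localization.mk (GradedRing.proj 𝒜 (dg 𝒜 p s) a) s := rfl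

theorem piFun_wd {a b : A} {s t : W 𝒜 p} (h : Localization.r (W 𝒜 p) (a, s) (b, t)) :
    piFun 𝒜 p a s = piFun 𝒜 p b t := by
  apply HomogeneousLocalization.val_injective
  rw [val_piFun, val_piFun, Localization.mk_eq_mk_iff, Localization.r_iff_exists]
  obtain ⟨c, hc⟩ := Localization.r_iff_exists.1 h
  refine ⟨c, ?_⟩
  dsimp only at hc ⊢
  have h1 : GradedRing.proj 𝒜 (dg 𝒜 p c + (dg 𝒜 p t + dg 𝒜 p s)) ((c : A) * ((t : A) * a)) =
      (c : A) * ((t : A) * GradedRing.proj 𝒜 (dg 𝒜 p s) a) := by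
    rw [proj_mul_left 𝒜 (dg_spec 𝒜 p c) _ _ _ rfl, proj_mul_left 𝒜 (dg_spec 𝒜 p t) _ _ _ rfl]
  have h2 : GradedRing.proj 𝒜 (dg 𝒜 p c + (dg 𝒜 p t + dg 𝒜 p s)) ((c : A) * ((s : A) * b)) =
      (c : A) * ((s : A) * GradedRing.proj 𝒜 (dg 𝒜 p t) b) := by
    rw [proj_mul_left 𝒜 (dg_spec 𝒜 p c) _ _ _ rfl,
      proj_mul_left 𝒜 (dg_spec 𝒜 p s) _ _ _ (add_comm _ _)]
  rw [← h1, ← h2, hc]

/-- the degree zero part -/
noncomputable def piF (x : Localization (W 𝒜 p)) : HomogeneousLocalization 𝒜 (W 𝒜 p) :=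
  Localization.liftOn x (piFun 𝒜 p) (fun h => piFun_wd 𝒜 p h)

theorem piF_mk (a : A) (s : W 𝒜 p) : piF 𝒜 p (Localization.mk a s) = piFun 𝒜 p a s :=
  Localization.liftOn_mk _ _ a s

theorem val_piF_mk (a : A) (s : W 𝒜 p) {n : ℕ} (hn : (s : A) ∈ 𝒜 n) :
    (piF 𝒜 p (Localization.mk a s)).val = Localization.mk (GradedRing.proj 𝒜 n a) s := by
  rw [piF_mk, val_piFun, dg_eq 𝒜 p s hn]

theorem piF_val (z : HomogeneousLocalization 𝒜 (W 𝒜 p)) : piF 𝒜 p z.val = z := by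
  obtain ⟨⟨m, ⟨b, hb⟩, ⟨t, ht⟩, htW⟩, rfl⟩ := HomogeneousLocalization.mk_surjective z
  apply HomogeneousLocalization.val_injective
  rw [HomogeneousLocalization.val_mk]
  dsimp only
  rw [val_piF_mk 𝒜 p b ⟨t, htW⟩ (n := m) ht, proj_same 𝒜 hb]

theorem piF_add (x y : Localization (W 𝒜 p)) : piF 𝒜 p (x + y) = piF 𝒜 p x + piF 𝒜 p y := by
  induction x using Localization.induction_on with
  | H x =>
  induction y using Localization.induction_on with
  | H y =>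
  obtain ⟨a, s⟩ := x
  obtain ⟨b, t⟩ := y
  apply HomogeneousLocalization.val_injective
  rw [HomogeneousLocalization.val_add, Localization.add_mk]
  have hst : ((s * t : W 𝒜 p) : A) ∈ 𝒜 (dg 𝒜 p s + dg 𝒜 p t) := by
    rw [Submonoid.coe_mul]
    exact SetLike.mul_mem_graded (dg_spec 𝒜 p s) (dg_spec 𝒜 p t)
  rw [val_piF_mk 𝒜 p _ (s * t) hst, val_piF_mk 𝒜 p a s (dg_spec 𝒜 p s),
    val_piF_mk 𝒜 p b t (dg_spec 𝒜 p t), Localization.add_mk, map_add,
    proj_mul_left 𝒜 (dg_spec 𝒜 p s) _ _ _ rfl,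
    proj_mul_left 𝒜 (dg_spec 𝒜 p t) _ _ _ (add_comm _ _)]

theorem piF_val_mul (z : HomogeneousLocalization 𝒜 (W 𝒜 p)) (x : Localization (W 𝒜 p)) :
    piF 𝒜 p (z.val * x) = z * piF 𝒜 p x := by
  obtain ⟨⟨m, ⟨b, hb⟩, ⟨t, ht⟩, htW⟩, rfl⟩ := HomogeneousLocalization.mk_surjective z
  induction x using Localization.induction_on with
  | H x =>
  obtain ⟨a, s⟩ := x
  apply HomogeneousLocalization.val_injective
  rw [HomogeneousLocalization.val_mul, HomogeneousLocalization.val_mk]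
  dsimp only
  rw [Localization.mk_mul]
  have hts : (((⟨t, htW⟩ : W 𝒜 p) * s : W 𝒜 p) : A) ∈ 𝒜 (m + dg 𝒜 p s) := by
    rw [Submonoid.coe_mul]
    exact SetLike.mul_mem_graded ht (dg_spec 𝒜 p s)
  rw [val_piF_mk 𝒜 p _ _ hts, val_piF_mk 𝒜 p a s (dg_spec 𝒜 p s), Localization.mk_mul,
    proj_mul_left 𝒜 hb _ _ _ rfl]

/-- the degree zero part as a linear retraction -/
noncomputable def piL :
    Localization (W 𝒜 p) →ₗ[HomogeneousLocalization 𝒜 (W 𝒜 p)]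
      HomogeneousLocalization 𝒜 (W 𝒜 p) where
  toFun := piF 𝒜 p
  map_add' := piF_add 𝒜 p
  map_smul' z x := by
    rw [Algebra.smul_def, HomogeneousLocalization.algebraMap_apply, RingHom.id_apply, smul_eq_mul]
    exact piF_val_mul 𝒜 p z x

theorem piL_algebraMap (z : HomogeneousLocalization 𝒜 (W 𝒜 p)) :
    piL 𝒜 p (algebraMap _ (Localization (W 𝒜 p)) z) = z := by
  rw [HomogeneousLocalization.algebraMap_apply]
  exact piF_val 𝒜 p z

/-- cyclic purity of `H → R` -/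
theorem comap_map_eq (I : Ideal (HomogeneousLocalization 𝒜 (W 𝒜 p))) :
    (I.map (algebraMap _ (Localization (W 𝒜 p)))).comap
      (algebraMap _ (Localization (W 𝒜 p))) = I := by
  apply le_antisymm _ Ideal.le_comap_map
  intro z hz
  rw [Ideal.mem_comap] at hz
  have key : ∀ x ∈ I.map (algebraMap _ (Localization (W 𝒜 p))),
      ∀ r : Localization (W 𝒜 p), piL 𝒜 p (r * x) ∈ I := by
    intro x hx
    refine Submodule.span_induction (p := fun x _ => ∀ r : Localization (W 𝒜 p),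
      piL 𝒜 p (r * x) ∈ I) ?_ ?_ ?_ ?_ hx
    · rintro _ ⟨i, hi, rfl⟩ r
      rw [mul_comm, ← Algebra.smul_def, map_smul, smul_eq_mul]
      exact I.mul_mem_right _ hi
    · intro r
      rw [mul_zero, map_zero]
      exact I.zero_mem
    · intro x y _ _ hx hy r
      rw [mul_add, map_add]
      exact I.add_mem (hx r) (hy r)
    · intro a x _ hx r
      rw [smul_eq_mul, ← mul_assoc]
      exact hx (r * a)
  have := key _ hz 1
  rwa [one_mul, piL_algebraMap] at this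

theorem isNoetherianRing [IsNoetherianRing A] :
    IsNoetherianRing (HomogeneousLocalization 𝒜 (W 𝒜 p)) := by
  have : IsNoetherianRing (Localization (W 𝒜 p)) :=
    IsLocalization.isNoetherianRing (W 𝒜 p) _ inferInstance
  have hmono : StrictMono (fun I : Ideal (HomogeneousLocalization 𝒜 (W 𝒜 p)) =>
      I.map (algebraMap _ (Localization (W 𝒜 p)))) := by
    intro I J hIJ
    refine lt_of_le_of_ne (Ideal.map_mono hIJ.le) (fun heq => hIJ.ne ?_)
    have := congrArg (Ideal.comap (algebraMap (HomogeneousLocalization 𝒜 (W 𝒜 p))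
      (Localization (W 𝒜 p)))) heq
    rwa [comap_map_eq, comap_map_eq] at this
  rw [isNoetherianRing_iff, isNoetherian_iff']
  exact hmono.wellFoundedGT


section Fr

local notation "HH" => HomogeneousLocalization 𝒜 (W 𝒜 p)
local notation "RR" => Localization (W 𝒜 p)

/-- homogeneous fractions -/
noncomputable def frac (d : ℕ) (x y : A) (hx : x ∈ 𝒜 d) (hy : y ∈ 𝒜 d) (hyW : y ∈ W 𝒜 p) :
    HomogeneousLocalization 𝒜 (W 𝒜 p) :=
  HomogeneousLocalization.mk ⟨d, ⟨x, hx⟩, ⟨y, hy⟩, hyW⟩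

theorem frac_spec (d : ℕ) (x y : A) (hx : x ∈ 𝒜 d) (hy : y ∈ 𝒜 d) (hyW : y ∈ W 𝒜 p) :
    (frac 𝒜 p d x y hx hy hyW).val * algebraMap A (Localization (W 𝒜 p)) y =
      algebraMap A (Localization (W 𝒜 p)) x := by
  have : (frac 𝒜 p d x y hx hy hyW).val = Localization.mk x ⟨y, hyW⟩ := rfl
  rw [this, Localization.mk_eq_mk']
  exact IsLocalization.mk'_spec _ x ⟨y, hyW⟩

theorem isUnit_algebraMap {y : A} (hyW : y ∈ W 𝒜 p) :
    IsUnit (algebraMap A (Localization (W 𝒜 p)) y) :=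
  IsLocalization.map_units (Localization (W 𝒜 p)) (⟨y, hyW⟩ : W 𝒜 p)

theorem eq_of_val_mul (z z' : HomogeneousLocalization 𝒜 (W 𝒜 p)) {y : A} (hyW : y ∈ W 𝒜 p)
    (h : z.val * algebraMap A (Localization (W 𝒜 p)) y =
      z'.val * algebraMap A (Localization (W 𝒜 p)) y) : z = z' :=
  HomogeneousLocalization.val_injective _ ((isUnit_algebraMap 𝒜 p hyW).mul_right_cancel h)

theorem exists_frac (z : HomogeneousLocalization 𝒜 (W 𝒜 p)) :
    ∃ (d : ℕ) (x y : A) (hx : x ∈ 𝒜 d) (hy : y ∈ 𝒜 d) (hyW : y ∈ W 𝒜 p),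
      z = frac 𝒜 p d x y hx hy hyW := by
  obtain ⟨⟨m, ⟨b, hb⟩, ⟨t, ht⟩, htW⟩, rfl⟩ := HomogeneousLocalization.mk_surjective z
  exact ⟨m, b, t, hb, ht, htW, rfl⟩

variable {𝒜 p}
variable {e : ℕ} {f : A} (hf : f ∈ 𝒜 e) (hfp : f ∉ p)

include hf hfp in
theorem pow_mem_W (n : ℕ) : f ^ n ∈ W 𝒜 p :=
  mem_W 𝒜 p (SetLike.pow_mem_graded n hf)
    (fun h => hfp (Ideal.IsPrime.mem_of_pow_mem inferInstance n h))

include hf in
theorem pow_f_mem (n : ℕ) : f ^ n ∈ 𝒜 (n * e) := by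
  have h := SetLike.pow_mem_graded n hf
  rwa [smul_eq_mul] at h

omit [p.IsPrime] in
theorem pow_e_mem {n : ℕ} {a : A} (ha : a ∈ 𝒜 n) (e : ℕ) : a ^ e ∈ 𝒜 (n * e) := by
  have h := SetLike.pow_mem_graded e ha
  rwa [smul_eq_mul, mul_comm] at h

/-- `a ↦ a^e / f^n` for `a` homogeneous of degree `n` -/
noncomputable def fr (n : ℕ) (a : A) (ha : a ∈ 𝒜 n) : HomogeneousLocalization 𝒜 (W 𝒜 p) :=
  frac 𝒜 p (n * e) (a ^ e) (f ^ n) (pow_e_mem ha e) (pow_f_mem hf n) (pow_mem_W hf hfp n)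

theorem fr_spec (n : ℕ) (a : A) (ha : a ∈ 𝒜 n) :
    (fr hf hfp n a ha).val * algebraMap A (Localization (W 𝒜 p)) (f ^ n) =
      algebraMap A (Localization (W 𝒜 p)) (a ^ e) :=
  frac_spec 𝒜 p _ _ _ _ _ _

theorem fr_unique (n : ℕ) (a : A) (ha : a ∈ 𝒜 n) (z : HomogeneousLocalization 𝒜 (W 𝒜 p))
    (h : z.val * algebraMap A (Localization (W 𝒜 p)) (f ^ n) =
      algebraMap A (Localization (W 𝒜 p)) (a ^ e)) : z = fr hf hfp n a ha :=
  eq_of_val_mul 𝒜 p _ _ (pow_mem_W hf hfp n) (h.trans (fr_spec hf hfp n a ha).symm)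

theorem fr_mul (n m : ℕ) (a b : A) (ha : a ∈ 𝒜 n) (hb : b ∈ 𝒜 m) :
    fr hf hfp (n + m) (a * b) (SetLike.mul_mem_graded ha hb) =
      fr hf hfp n a ha * fr hf hfp m b hb := by
  symm
  apply fr_unique
  rw [HomogeneousLocalization.val_mul, pow_add, map_mul, mul_pow, map_mul,
    ← fr_spec hf hfp n a ha, ← fr_spec hf hfp m b hb]
  ring

theorem fr_one : fr hf hfp 0 1 (SetLike.one_mem_graded 𝒜) = 1 := by
  symm
  apply fr_unique
  rw [HomogeneousLocalization.val_one, pow_zero, one_pow, map_one, mul_one]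

/-- generators of the contracted prime -/
def gens (q : Ideal (HomogeneousLocalization 𝒜 (W 𝒜 p))) : Set A :=
  {a | ∃ (n : ℕ) (ha : a ∈ 𝒜 n), fr hf hfp n a ha ∈ q}

/-- the homogeneous prime of `A` attached to a prime of `A_(p)` -/
def QA (q : Ideal (HomogeneousLocalization 𝒜 (W 𝒜 p))) : Ideal A :=
  (Ideal.span (gens hf hfp q)).radical

theorem mem_QA_of_fr (q : Ideal (HomogeneousLocalization 𝒜 (W 𝒜 p))) (n : ℕ) (a : A)
    (ha : a ∈ 𝒜 n) (h : fr hf hfp n a ha ∈ q) : a ∈ QA hf hfp q :=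
  Ideal.le_radical (Ideal.subset_span ⟨n, ha, h⟩)

theorem QA_isHomogeneous (q : Ideal (HomogeneousLocalization 𝒜 (W 𝒜 p))) :
    (QA hf hfp q).IsHomogeneous 𝒜 :=
  (Ideal.homogeneous_span 𝒜 _ (fun x hx => by
    obtain ⟨n, hn, -⟩ := hx
    exact ⟨n, hn⟩)).radical

theorem QA_mono {q q' : Ideal (HomogeneousLocalization 𝒜 (W 𝒜 p))} (h : q ≤ q') :
    QA hf hfp q ≤ QA hf hfp q' :=
  Ideal.radical_mono (Ideal.span_mono (fun _ ⟨n, ha, hq⟩ => ⟨n, ha, h hq⟩))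

theorem algebraMap_pow_e_mem (q : Ideal (HomogeneousLocalization 𝒜 (W 𝒜 p))) (m : ℕ) (b : A)
    (hb : b ∈ 𝒜 m) (hq : fr hf hfp m b hb ∈ q)
    (J : Ideal (Localization (W 𝒜 p)))
    (hJ : q.map (algebraMap (HomogeneousLocalization 𝒜 (W 𝒜 p)) (Localization (W 𝒜 p))) ≤ J) :
    (algebraMap A (Localization (W 𝒜 p)) b) ^ e ∈ J := by
  rw [← map_pow, ← fr_spec hf hfp m b hb]
  apply J.mul_mem_right
  apply hJ
  have := Ideal.mem_map_of_mem
    (algebraMap (HomogeneousLocalization 𝒜 (W 𝒜 p)) (Localization (W 𝒜 p))) hq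
  rwa [HomogeneousLocalization.algebraMap_apply] at this

theorem QA_le_comap (he : 0 < e) (q : Ideal (HomogeneousLocalization 𝒜 (W 𝒜 p)))
    (P : Ideal (Localization (W 𝒜 p))) [hP : P.IsPrime]
    (hqP : q.map (algebraMap (HomogeneousLocalization 𝒜 (W 𝒜 p)) (Localization (W 𝒜 p))) ≤ P) :
    QA hf hfp q ≤ P.comap (algebraMap A (Localization (W 𝒜 p))) := by
  have hc : (P.comap (algebraMap A (Localization (W 𝒜 p)))).IsPrime := inferInstance
  rw [QA, hc.radical_le_iff, Ideal.span_le]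
  rintro b ⟨m, hb, hq⟩
  exact hP.mem_of_pow_mem e (algebraMap_pow_e_mem hf hfp q m b hb hq P hqP)

theorem algebraMap_mem_radical (q : Ideal (HomogeneousLocalization 𝒜 (W 𝒜 p))) (a : A)
    (ha : a ∈ QA hf hfp q) :
    algebraMap A (Localization (W 𝒜 p)) a ∈
      (q.map (algebraMap (HomogeneousLocalization 𝒜 (W 𝒜 p)) (Localization (W 𝒜 p)))).radical := by
  obtain ⟨N, hN⟩ := ha
  have hle : Ideal.span (gens hf hfp q) ≤
      ((q.map (algebraMap (HomogeneousLocalization 𝒜 (W 𝒜 p))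
        (Localization (W 𝒜 p)))).radical).comap (algebraMap A (Localization (W 𝒜 p))) := by
    rw [Ideal.span_le]
    rintro b ⟨m, hb, hq⟩
    exact ⟨e, algebraMap_pow_e_mem hf hfp q m b hb hq _ le_rfl⟩
  have h1 := hle hN
  rw [Ideal.mem_comap, map_pow] at h1
  exact Ideal.radical_isRadical _ ⟨N, h1⟩

theorem fr_mem_of_mem_QA (he : 0 < e) (q : Ideal (HomogeneousLocalization 𝒜 (W 𝒜 p)))
    [hq : q.IsPrime] (n : ℕ) (a : A) (ha : a ∈ 𝒜 n) (h : a ∈ QA hf hfp q) :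
    fr hf hfp n a ha ∈ q := by
  obtain ⟨M, hM⟩ := algebraMap_mem_radical hf hfp q a h
  have h1 : (fr hf hfp n a ha).val ^ M * (algebraMap A (Localization (W 𝒜 p)) (f ^ n)) ^ M =
      ((algebraMap A (Localization (W 𝒜 p)) a) ^ M) ^ e := by
    rw [← mul_pow, fr_spec hf hfp n a ha, map_pow, ← pow_mul, ← pow_mul, mul_comm]
  have h2 : (fr hf hfp n a ha).val ^ M ∈
      q.map (algebraMap (HomogeneousLocalization 𝒜 (W 𝒜 p)) (Localization (W 𝒜 p))) := by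
    rw [← Ideal.mul_unit_mem_iff_mem _ ((isUnit_algebraMap 𝒜 p (pow_mem_W hf hfp n)).pow M), h1]
    exact Ideal.pow_mem_of_mem _ hM e he
  have h3 : (fr hf hfp n a ha) ^ M ∈ q := by
    rw [← comap_map_eq 𝒜 p q, Ideal.mem_comap, HomogeneousLocalization.algebraMap_apply,
      HomogeneousLocalization.val_pow]
    exact h2
  exact hq.mem_of_pow_mem M h3

theorem QA_isPrime (he : 0 < e) (q : Ideal (HomogeneousLocalization 𝒜 (W 𝒜 p)))
    [hq : q.IsPrime] : (QA hf hfp q).IsPrime := by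
  apply (QA_isHomogeneous hf hfp q).isPrime_of_homogeneous_mem_or_mem
  · intro htop
    have h1 : (1 : A) ∈ QA hf hfp q := htop ▸ Submodule.mem_top
    have h2 := fr_mem_of_mem_QA hf hfp he q 0 1 (SetLike.one_mem_graded 𝒜) h1
    rw [fr_one] at h2
    exact hq.ne_top ((Ideal.eq_top_iff_one _).2 h2)
  · rintro x y ⟨n, hx⟩ ⟨m, hy⟩ hxy
    have h2 := fr_mem_of_mem_QA hf hfp he q (n + m) (x * y) (SetLike.mul_mem_graded hx hy) hxy
    rw [fr_mul hf hfp n m x y hx hy] at h2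
    rcases hq.mem_or_mem h2 with h | h
    · exact Or.inl (mem_QA_of_fr hf hfp q n x hx h)
    · exact Or.inr (mem_QA_of_fr hf hfp q m y hy h)

theorem QA_lt (he : 0 < e) {q q' : Ideal (HomogeneousLocalization 𝒜 (W 𝒜 p))}
    [hq : q.IsPrime] [hq' : q'.IsPrime] (hlt : q < q') : QA hf hfp q < QA hf hfp q' := by
  refine lt_of_le_of_ne (QA_mono hf hfp hlt.le) (fun heq => ?_)
  obtain ⟨z, hz', hz⟩ := Set.exists_of_ssubset hlt
  obtain ⟨k, a, s, ha, hs, hsW, rfl⟩ := exists_frac 𝒜 p z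
  have hzs := frac_spec 𝒜 p k a s ha hs hsW
  have hseW : s ^ e ∈ W 𝒜 p := (W 𝒜 p).pow_mem hsW e
  -- (i) fr k a = z^e * fr k s
  have hi : (frac 𝒜 p k a s ha hs hsW) ^ e * fr hf hfp k s hs = fr hf hfp k a ha := by
    apply fr_unique
    rw [HomogeneousLocalization.val_mul, HomogeneousLocalization.val_pow, mul_assoc,
      fr_spec hf hfp k s hs, map_pow, ← mul_pow, hzs, map_pow]
  -- (ii) z^e = fr k a * u
  have hii : (frac 𝒜 p k a s ha hs hsW) ^ e =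
      fr hf hfp k a ha * frac 𝒜 p (k * e) (f ^ k) (s ^ e) (pow_f_mem hf k) (pow_e_mem hs e) hseW := by
    apply eq_of_val_mul 𝒜 p _ _ hseW
    rw [HomogeneousLocalization.val_mul, HomogeneousLocalization.val_pow, mul_assoc,
      frac_spec, fr_spec hf hfp k a ha, map_pow, ← mul_pow, hzs, map_pow]
  have h1 : fr hf hfp k a ha ∈ q' := by
    rw [← hi]
    exact q'.mul_mem_right _ (Ideal.pow_mem_of_mem _ hz' e he)
  have h2 : a ∈ QA hf hfp q := heq ▸ mem_QA_of_fr hf hfp q' k a ha h1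
  have h3 := fr_mem_of_mem_QA hf hfp he q k a ha h2
  apply hz
  apply hq.mem_of_pow_mem e
  rw [hii]
  exact q.mul_mem_right _ h3

end Fr

end Groth.Agent.H58.ProjDeg0
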