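import Mathlib
import Groth.Prelude.Def_CAlg
import Groth.Prelude.Def_Wider
import Groth.Agent.H58.ProjDeg0
import Groth.Agent.H58.LCDepth
import Groth.Agent.H58.LCIndep
import Groth.Agent.H29.DepthFinite
import Groth.Agent.H29.FlatCM
import Groth.Agent.H29.SkNoEmb
import Groth.Agent.H15.FibreCM
import Groth.Agent.H15.FamCyc
import Groth.Agent.H15.SkAt
import Groth.Agent.H15.DepthSpread2
import Groth.Agent.H71.CMField
import Groth.Agent.S2659

/-!
# Local rings of `Proj A`: Cohen–Macaulay and `(S_1)` descend from `A`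

`H = HomogeneousLocalization 𝒜 W ≅ A_(p)`, `R = T⁻¹A = Localization W`.  `H` is a direct summand of
`R` as an `H`-module (degree zero part), primes of `H` lift to homogeneous primes of `A`
strictly monotonically, hence `ht q ≤ ht P` for every prime `P ⊇ qR`.  Local cohomology
`H^i_m(H)` is a retract of `H^i_m(R) = H^i_{mR}(R)` which vanishes for `i < ht m` when `R` is CM.
-/

set_option autoImplicit false
universe u

namespace Groth.Agent.H58.ProjStalk

open HomogeneousLocalization Groth.Agent.H58.ProjDeg0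

variable {A : Type u} [CommRing A] (𝒜 : ℕ → AddSubgroup A) [GradedRing 𝒜]
  (p : Ideal A) [p.IsPrime]

section Equiv

/-- the comparison map `A_(W) → A_(p)` -/
noncomputable def toAtPrime :
    HomogeneousLocalization 𝒜 (W 𝒜 p) →+* HomogeneousLocalization.AtPrime 𝒜 p :=
  HomogeneousLocalization.mapId 𝒜 (W_le 𝒜 p)

theorem val_toAtPrime_frac (d : ℕ) (x y : A) (hx : x ∈ 𝒜 d) (hy : y ∈ 𝒜 d) (hyW : y ∈ W 𝒜 p) :
    (toAtPrime 𝒜 p (frac 𝒜 p d x y hx hy hyW)).val =
      Localization.mk x ⟨y, W_le 𝒜 p hyW⟩ := rfl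

theorem exists_hom_kill (s : A) (hs : s ∉ p) {i : ℕ} (y : A) (hy : y ∈ 𝒜 i)
    (h : s * y = 0) : ∃ c : W 𝒜 p, (c : A) * y = 0 := by
  classical
  have hex : ∃ j, (DirectSum.decompose 𝒜 s j : A) ∉ p := by
    by_contra hcon
    push Not at hcon
    apply hs
    rw [← DirectSum.sum_support_decompose 𝒜 s]
    exact Ideal.sum_mem _ (fun j _ => hcon j)
  obtain ⟨j, hj⟩ := hex
  refine ⟨⟨(DirectSum.decompose 𝒜 s j : A), ⟨j, SetLike.coe_mem _⟩, hj⟩, ?_⟩
  show (DirectSum.decompose 𝒜 s j : A) * y = 0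
  rw [← DirectSum.coe_decompose_mul_add_of_right_mem 𝒜 hy, h, DirectSum.decompose_zero]
  rfl

theorem toAtPrime_injective : Function.Injective (toAtPrime 𝒜 p) := by
  rw [injective_iff_map_eq_zero]
  intro z hz
  obtain ⟨d, b, t, hb, ht, htW, rfl⟩ := exists_frac 𝒜 p z
  have h1 : (toAtPrime 𝒜 p (frac 𝒜 p d b t hb ht htW)).val = 0 := by
    rw [hz, HomogeneousLocalization.val_zero]
  rw [val_toAtPrime_frac, Localization.mk_eq_mk', IsLocalization.mk'_eq_zero_iff] at h1
  obtain ⟨m, hm⟩ := h1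
  obtain ⟨c, hc⟩ := exists_hom_kill 𝒜 p m.1 m.2 b hb hm
  apply HomogeneousLocalization.val_injective
  rw [HomogeneousLocalization.val_zero]
  show Localization.mk b ⟨t, htW⟩ = 0
  rw [Localization.mk_eq_mk', IsLocalization.mk'_eq_zero_iff]
  exact ⟨c, hc⟩

theorem toAtPrime_surjective : Function.Surjective (toAtPrime 𝒜 p) := by
  intro z
  obtain ⟨⟨d, ⟨b, hb⟩, ⟨t, ht⟩, htp⟩, rfl⟩ := HomogeneousLocalization.mk_surjective z
  refine ⟨frac 𝒜 p d b t hb ht (mem_W 𝒜 p ht htp), ?_⟩
  apply HomogeneousLocalization.val_injective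
  rw [val_toAtPrime_frac]
  rfl

/-- `A_(W) ≃ A_(p)` -/
noncomputable def equivAtPrime :
    HomogeneousLocalization 𝒜 (W 𝒜 p) ≃+* HomogeneousLocalization.AtPrime 𝒜 p :=
  RingEquiv.ofBijective (toAtPrime 𝒜 p) ⟨toAtPrime_injective 𝒜 p, toAtPrime_surjective 𝒜 p⟩

theorem isLocalRing : IsLocalRing (HomogeneousLocalization 𝒜 (W 𝒜 p)) :=
  (equivAtPrime 𝒜 p).symm.isLocalRing

end Equiv

section Height

local notation "HH" => HomogeneousLocalization 𝒜 (W 𝒜 p)
local notation "RR" => Localization (W 𝒜 p)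

variable {𝒜 p}
variable {e : ℕ} {f : A} (hf : f ∈ 𝒜 e) (hfp : f ∉ p) (he : 0 < e)

include hf hfp he in
theorem height_le (q : Ideal HH) [q.IsPrime] (P : Ideal RR) [P.IsPrime]
    (hqP : q.map (algebraMap HH RR) ≤ P) : q.height ≤ P.height := by
  let φ : PrimeSpectrum HH → PrimeSpectrum A := fun q' =>
    ⟨QA hf hfp q'.asIdeal, QA_isPrime hf hfp he q'.asIdeal⟩
  have hφ : StrictMono φ := by
    intro q₁ q₂ h
    show (φ q₁).asIdeal < (φ q₂).asIdeal
    exact QA_lt hf hfp he (show q₁.asIdeal < q₂.asIdeal from h)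
  have h1 := Order.height_le_height_apply_of_strictMono φ hφ ⟨q, inferInstance⟩
  have h2 : φ ⟨q, inferInstance⟩ ≤
      (⟨P.comap (algebraMap A RR), inferInstance⟩ : PrimeSpectrum A) := by
    show (φ ⟨q, inferInstance⟩).asIdeal ≤ P.comap (algebraMap A RR)
    exact QA_le_comap hf hfp he q P hqP
  calc q.height = Order.height (⟨q, inferInstance⟩ : PrimeSpectrum HH) :=
        PrimeSpectrum.height_eq_orderHeight ⟨q, inferInstance⟩
    _ ≤ Order.height (φ ⟨q, inferInstance⟩) := h1
    _ ≤ Order.height (⟨P.comap (algebraMap A RR), inferInstance⟩ : PrimeSpectrum A) :=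
        Order.height_mono h2
    _ = (P.comap (algebraMap A RR)).height :=
        (PrimeSpectrum.height_eq_orderHeight
          (⟨P.comap (algebraMap A RR), inferInstance⟩ : PrimeSpectrum A)).symm
    _ = P.height := IsLocalization.height_under (W 𝒜 p) P

include hf hfp he in
/-- `A_(p)` is Cohen–Macaulay when `A` is -/
theorem isCM_HH (hA : LocCoh.IsCohenMacaulayRing A) : LocCoh.IsCohenMacaulayLocalRing HH := by
  haveI := hA
  haveI hN : IsNoetherianRing HH := ProjDeg0.isNoetherianRing 𝒜 p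
  haveI hL : IsLocalRing HH := isLocalRing 𝒜 p
  haveI hNR : IsNoetherianRing RR := IsLocalization.isNoetherianRing (W 𝒜 p) _ inferInstance
  haveI hRcm : LocCoh.IsCohenMacaulayRing RR :=
    Groth.Agent.H71.CMField.isCMRing_of_isLocalization (W 𝒜 p) hA
  obtain ⟨k, hk⟩ := Groth.Agent.H29.CM.exists_nat_depth (A := HH) (M := HH)
  have hmtop : IsLocalRing.maximalIdeal HH ≠ ⊤ := (IsLocalRing.maximalIdeal.isMaximal HH).ne_top
  have hJtop : (IsLocalRing.maximalIdeal HH).map (algebraMap HH RR) ≠ ⊤ := by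
    intro h
    have h1 := comap_map_eq 𝒜 p (IsLocalRing.maximalIdeal HH)
    rw [h, Ideal.comap_top] at h1
    exact hmtop h1.symm
  have hJM : ((IsLocalRing.maximalIdeal HH).map (algebraMap HH RR)) • (⊤ : Submodule RR RR) ≠ ⊤ := by
    rw [smul_eq_mul, Ideal.mul_top]; exact hJtop
  have hmM : (IsLocalRing.maximalIdeal HH) • (⊤ : Submodule HH HH) ≠ ⊤ := by
    rw [smul_eq_mul, Ideal.mul_top]; exact hmtop
  have hle : (IsLocalRing.maximalIdeal HH).height ≤ (k : ℕ∞) := by
    by_contra hcon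
    rw [not_le] at hcon
    have hk1 : ((k + 1 : ℕ) : ℕ∞) ≤ (IsLocalRing.maximalIdeal HH).height := by
      rw [Nat.cast_succ]; exact Order.add_one_le_of_lt hcon
    have hdepth : ((k + 1 : ℕ) : ℕ∞) ≤
        LocCoh.idealDepth ((IsLocalRing.maximalIdeal HH).map (algebraMap HH RR)) RR := by
      rw [Groth.Agent.H29.LocQuot.idealDepth_eq_iInf]
      refine le_iInf₂ (fun P hP => ?_)
      have hcm : LocCoh.IsCohenMacaulayLocalRing (Localization.AtPrime P.asIdeal) :=
        LocCoh.IsCohenMacaulayRing.isCohenMacaulayLocalRing_localization P.asIdeal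
      have h1 := (Groth.Agent.H15.FibreCM.isCM_iff_height_eq_depth
        (Localization.AtPrime P.asIdeal)).1 hcm
      have h2 : LocCoh.depth (Localization.AtPrime P.asIdeal)
          (LocalizedModule P.asIdeal.primeCompl RR) =
          LocCoh.depth (Localization.AtPrime P.asIdeal) (Localization.AtPrime P.asIdeal) :=
        Groth.Agent.H29.CM.idealDepth_congr
          (Groth.Agent.H29.DepthFinite.selfEquiv P.asIdeal.primeCompl)
      rw [h2, ← h1]
      have h3 := IsLocalization.AtPrime.ringKrullDim_eq_height P.asIdeal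
        (Localization.AtPrime P.asIdeal)
      have h4 := IsLocalRing.maximalIdeal_height_eq_ringKrullDim
        (R := Localization.AtPrime P.asIdeal)
      rw [← h4] at h3
      have h5 : (IsLocalRing.maximalIdeal (Localization.AtPrime P.asIdeal)).height =
          P.asIdeal.height := WithBot.coe_injective h3
      rw [h5]
      exact hk1.trans (height_le hf hfp he (IsLocalRing.maximalIdeal HH) P.asIdeal hP)
    have hv : Subsingleton (LocCoh.H ((IsLocalRing.maximalIdeal HH).map (algebraMap HH RR)) k RR) :=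
      Groth.Agent.H58.LC.subsingleton_H_of_lt_idealDepth _ RR (k + 1) hdepth hJM k
        (Nat.lt_succ_self k)
    obtain ⟨ψ, -⟩ := Groth.Agent.H58.LC.semiEq_H HH RR (IsLocalRing.maximalIdeal HH) k RR
    have hv' : Subsingleton (LocCoh.H (IsLocalRing.maximalIdeal HH) k RR) :=
      ψ.symm.toEquiv.subsingleton
    have hnt : Nontrivial (LocCoh.H (IsLocalRing.maximalIdeal HH) k HH) :=
      ((Groth.Agent.H58.LC.idealDepth_eq_iff (IsLocalRing.maximalIdeal HH) HH hmM k).1 hk).2
    have hcomp : (piL 𝒜 p) ∘ₗ (Algebra.linearMap HH RR) = LinearMap.id := by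
      apply LinearMap.ext
      intro z
      rw [LinearMap.comp_apply, Algebra.linearMap_apply, piL_algebraMap, LinearMap.id_apply]
    have key : ∀ y : LocCoh.H (IsLocalRing.maximalIdeal HH) k HH, y = 0 := by
      intro y
      have h1 := Groth.Agent.H58.LC.Hmap_comp_apply (IsLocalRing.maximalIdeal HH) k (piL 𝒜 p)
        (Algebra.linearMap HH RR) y
      rw [hcomp, Groth.Agent.H58.LC.Hmap_id, LinearMap.id_apply] at h1
      rw [h1, Subsingleton.elim (Groth.Agent.H58.LC.Hmap (IsLocalRing.maximalIdeal HH) k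
        (Algebra.linearMap HH RR) y) 0, map_zero]
    obtain ⟨a, b, hab⟩ := hnt
    exact hab ((key a).trans (key b).symm)
  have hge : LocCoh.depth HH HH ≤ (IsLocalRing.maximalIdeal HH).height := by
    have h := Groth.Agent.H29.CM.depth_le_supportDim (A := HH) (M := HH)
    rw [Module.supportDim_self_eq_ringKrullDim,
      ← IsLocalRing.maximalIdeal_height_eq_ringKrullDim, WithBot.coe_le_coe] at h
    exact h
  exact (Groth.Agent.H15.FibreCM.isCM_iff_height_eq_depth HH).2
    (le_antisymm (hk ▸ hle) hge)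

include hf hfp he in
/-- `A_(p)` satisfies `(S_1)` when `A` does -/
theorem hasS1_HH [IsNoetherianRing A] (hA : LocCoh.HasSk 1 A A) : LocCoh.HasSk 1 HH HH := by
  haveI hN : IsNoetherianRing HH := ProjDeg0.isNoetherianRing 𝒜 p
  haveI hNR : IsNoetherianRing RR := IsLocalization.isNoetherianRing (W 𝒜 p) _ inferInstance
  have hRS1 : LocCoh.HasSk 1 RR RR :=
    Groth.Agent.H15.SkAt.hasSk_congr (Groth.Agent.H29.DepthFinite.selfEquiv (W 𝒜 p)) 1
      (Groth.Agent.H29.SkNoEmb.hasSk_localization (W 𝒜 p) A 1 hA)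
  have hNE := Groth.Agent.H15.FamCyc.NE_bot hRS1
  rw [Groth.Agent.S2659.hasSk_self_iff]
  intro q hq
  by_cases hd : LocCoh.depth (Localization.AtPrime q) (LocalizedModule q.primeCompl HH) = 0
  · have hass := Groth.Agent.H15.DepthSpread.mem_associatedPrimes_of_depth_eq_zero q HH hd
    obtain ⟨-, z, hz⟩ := (isAssociatedPrime_iff).1 hass
    have hz0 : z ≠ 0 := by
      rintro rfl
      apply hq.ne_top
      rw [hz, Ideal.eq_top_iff_one, Submodule.mem_colon_singleton, smul_zero]
      exact Submodule.zero_mem _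
    have hvz : (algebraMap HH RR z) ≠ 0 := by
      intro h0
      apply hz0
      have := piL_algebraMap 𝒜 p z
      rw [h0, map_zero] at this
      exact this.symm
    obtain ⟨Q, hQ, hle⟩ := exists_le_isAssociatedPrime_of_isNoetherianRing (R := RR) (M := RR)
      (algebraMap HH RR z) hvz
    obtain ⟨hQp, y, hy⟩ := (isAssociatedPrime_iff).1 hQ
    have hQmin : Q ∈ minimalPrimes RR := hNE y Q hQp (fun s => by
      rw [hy, Submodule.mem_colon_singleton, smul_eq_mul, Submodule.mem_bot])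
    haveI := hQp
    have hQh : Q.height = 0 := Ideal.height_eq_zero_iff.2 hQmin
    have h1 : (Q.comap (algebraMap HH RR)).height ≤ Q.height :=
      height_le hf hfp he _ Q Ideal.map_comap_le
    have hqle : q ≤ Q.comap (algebraMap HH RR) := by
      intro s hs
      rw [Ideal.mem_comap]
      apply hle
      rw [Submodule.mem_colon_singleton, smul_eq_mul, Submodule.mem_bot, ← map_mul]
      have : s * z = 0 := by
        rw [hz, Submodule.mem_colon_singleton, smul_eq_mul, Submodule.mem_bot] at hs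
        exact hs
      rw [this, map_zero]
    have h2 : q.height = 0 :=
      le_antisymm ((Ideal.height_mono hqle).trans (h1.trans hQh.le)) zero_le
    rw [h2, hd]
    exact min_le_right _ _
  · refine (min_le_left _ _).trans ?_
    rw [Nat.cast_one]
    exact Order.one_le_iff_ne_zero.2 hd

end Height

section Proj

open AlgebraicGeometry

theorem exists_pos_deg (x : Proj 𝒜) :
    ∃ (h : A) (e : ℕ), h ∈ 𝒜 e ∧ 0 < e ∧ h ∉ x.asHomogeneousIdeal.toIdeal := by
  classical
  by_contra hcon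
  push Not at hcon
  refine x.not_irrelevant_le fun z hz ↦ ?_
  rw [← DirectSum.sum_support_decompose 𝒜 z]
  refine x.asHomogeneousIdeal.toIdeal.sum_mem fun k hk ↦ ?_
  by_cases hk0 : k = 0
  · subst hk0
    have h0 := (HomogeneousIdeal.mem_irrelevant_iff 𝒜 z).mp hz
    rw [GradedRing.proj_apply] at h0
    rw [h0]
    exact Ideal.zero_mem _
  · exact hcon _ k (SetLike.coe_mem _) (Nat.pos_of_ne_zero hk0)

/-- the local rings of `Proj A` are Cohen–Macaulay when `A` is -/
theorem isCM_stalk [hA : LocCoh.IsCohenMacaulayRing A] (x : Proj 𝒜) :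
    LocCoh.IsCohenMacaulayLocalRing ((Proj 𝒜).presheaf.stalk x) := by
  have hprime : (x.asHomogeneousIdeal.toIdeal).IsPrime := x.isPrime
  obtain ⟨h, e, hh, he, hhp⟩ := exists_pos_deg 𝒜 x
  have h1 := isCM_HH hh hhp he hA
  have := isLocalRing 𝒜 x.asHomogeneousIdeal.toIdeal
  have h2 := Groth.Agent.H29.FlatCM.isCM_ringEquiv (equivAtPrime 𝒜 x.asHomogeneousIdeal.toIdeal) h1
  exact Groth.Agent.H29.FlatCM.isCM_ringEquiv
    (Proj.stalkIso 𝒜 x).commRingCatIsoToRingEquiv.symm h2

/-- the local rings of `Proj A` satisfy `(S_1)` when `A` does -/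
theorem hasS1_stalk [IsNoetherianRing A] (hA : LocCoh.HasSk 1 A A) (x : Proj 𝒜) :
    LocCoh.HasSk 1 ((Proj 𝒜).presheaf.stalk x) ((Proj 𝒜).presheaf.stalk x) := by
  have hprime : (x.asHomogeneousIdeal.toIdeal).IsPrime := x.isPrime
  obtain ⟨h, e, hh, he, hhp⟩ := exists_pos_deg 𝒜 x
  have h1 := hasS1_HH hh hhp he hA
  have h2 := Groth.Agent.H15.SkAt.hasSk_self_of_ringEquiv
    (equivAtPrime 𝒜 x.asHomogeneousIdeal.toIdeal) 1 h1
  exact Groth.Agent.H15.SkAt.hasSk_self_of_ringEquiv
    (Proj.stalkIso 𝒜 x).commRingCatIsoToRingEquiv.symm 1 h2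

end Proj

end Groth.Agent.H58.ProjStalk
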