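import Groth.Agent.H8.LocFreeSections
import Groth.Agent.H8.LocFree
import Groth.Agent.H8.QCohPush
import Groth.Agent.H90.QCohHom
import Groth.Prelude.Def_Mor2
import Mathlib

/-!
The direct image of a finite locally free module along a finite locally free morphism is finite
locally free.  (Lemma (b) requested by helper53 for S1063.)
Also: transitivity of projectivity of modules along a ring map.
-/

set_option autoImplicit false
set_option linter.style.haveILetI false
universe u
open CategoryTheory CategoryTheory.Limits AlgebraicGeometry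

namespace Groth.Agent.H58.PushFLF

/-- Transitivity of projectivity: if `S` is a projective `R`-module and `M` is a projective
`S`-module, then `M` is a projective `R`-module. -/
theorem projective_trans (R S M : Type*) [CommRing R] [CommRing S] [Algebra R S]
    [AddCommGroup M] [Module R M] [Module S M] [IsScalarTower R S M]
    [Module.Projective R S] [Module.Projective S M] : Module.Projective R M := by
  classical
  obtain ⟨s, hs⟩ := Module.projective_def'.mp (inferInstance : Module.Projective S M)
  haveI : Module.Projective R (M →₀ S) :=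
    Module.Projective.of_equiv (finsuppLequivDFinsupp R).symm
  refine Module.Projective.of_split (s.restrictScalars R)
    ((Finsupp.linearCombination S (id : M → M)).restrictScalars R) ?_
  ext m
  exact LinearMap.congr_fun hs m

section Push

variable {X S : Scheme.{u}} (f : X ⟶ S)

set_option backward.isDefEq.respectTransparency false in
/-- Sections of `f_* E` over `V`, as a `Γ(S, V)`-module, are `Γ(E, f⁻¹ V)` with the module
structure coming from `f.app V`. -/
noncomputable def pushEquiv (E : X.Modules) (V : S.Opens) :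
    letI : Module Γ(S, V) Γ(E, f ⁻¹ᵁ V) := Module.compHom _ (f.app V).hom
    Γ((Scheme.Modules.pushforward f).obj E, V) ≃ₗ[Γ(S, V)] Γ(E, f ⁻¹ᵁ V) :=
  letI : Module Γ(S, V) Γ(E, f ⁻¹ᵁ V) := Module.compHom _ (f.app V).hom
  { toFun := fun y => y
    invFun := fun y => y
    map_add' := fun _ _ => rfl
    map_smul' := fun _ _ => rfl
    left_inv := fun _ => rfl
    right_inv := fun _ => rfl }

/-- The direct image of a finite locally free module along a finite locally free morphism is
finite locally free. -/
theorem isFinLocFree_pushforward {X Y : Scheme.{u}} (f : X ⟶ Y) (hf : Mor2.IsFinLocFree f)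
    {E : X.Modules} (hE : FlatMod.IsFinLocFree E) :
    FlatMod.IsFinLocFree ((Scheme.Modules.pushforward f).obj E) := by
  obtain ⟨hfin, hflat, hfp⟩ := hf
  haveI := hfin
  haveI := hflat
  haveI := hfp
  haveI : E.IsQuasicoherent := (Groth.Agent.H90.QH.isCoh_of_isFinLocFree hE).1
  haveI : ((Scheme.Modules.pushforward f).obj E).IsQuasicoherent :=
    Groth.Agent.H8.isQuasicoherent_pushforward f _
  apply Groth.Agent.H8.isFinLocFree_of_projective_sections
  intro x
  obtain ⟨V, hV, hxV, -⟩ := exists_isAffineOpen_mem_and_subset (x := x)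
    (U := (⊤ : Y.Opens)) trivial
  refine ⟨V, hV, hxV, ?_⟩
  letI := (f.app V).hom.toAlgebra
  haveI : Module.Finite Γ(Y, V) Γ(X, f ⁻¹ᵁ V) := Scheme.Hom.finite_app f V hV
  haveI : Module.Flat Γ(Y, V) Γ(X, f ⁻¹ᵁ V) := by
    have := Scheme.Hom.flat_appLE f hV (hV.preimage f) le_rfl
    rwa [← Scheme.Hom.app_eq_appLE] at this
  haveI : Algebra.FinitePresentation Γ(Y, V) Γ(X, f ⁻¹ᵁ V) := by
    have := Scheme.Hom.finitePresentation_appLE f hV (hV.preimage f) le_rfl
    rwa [← Scheme.Hom.app_eq_appLE] at this
  haveI : Module.FinitePresentation Γ(Y, V) Γ(X, f ⁻¹ᵁ V) :=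
    Module.FinitePresentation.of_finite_of_finitePresentation _ _
  haveI : Module.Projective Γ(Y, V) Γ(X, f ⁻¹ᵁ V) :=
    Module.Flat.projective_of_finitePresentation
  obtain ⟨hfpE, hprojE⟩ :=
    Groth.Agent.H8.finitePresentation_projective_sections_of_isFinLocFree E hE (hV.preimage f)
  haveI := hfpE
  haveI := hprojE
  letI : Module Γ(Y, V) Γ(E, f ⁻¹ᵁ V) := Module.compHom _ (f.app V).hom
  haveI : IsScalarTower Γ(Y, V) Γ(X, f ⁻¹ᵁ V) Γ(E, f ⁻¹ᵁ V) := ⟨fun a b m => by
    show (a • b) • m = (f.app V).hom a • (b • m)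
    rw [Algebra.smul_def, mul_smul]
    rfl⟩
  haveI : Module.Finite Γ(X, f ⁻¹ᵁ V) Γ(E, f ⁻¹ᵁ V) := inferInstance
  haveI : Module.Finite Γ(Y, V) Γ(E, f ⁻¹ᵁ V) := Module.Finite.trans Γ(X, f ⁻¹ᵁ V) _
  haveI : Module.Projective Γ(Y, V) Γ(E, f ⁻¹ᵁ V) :=
    projective_trans Γ(Y, V) Γ(X, f ⁻¹ᵁ V) _
  exact ⟨Module.Finite.equiv (pushEquiv f E V).symm,
    Module.Projective.of_equiv (pushEquiv f E V).symm⟩

end Push

end Groth.Agent.H58.PushFLF
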