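import Mathlib

/-! Skeleton for S6063 (schematic density mod a nilpotent ideal with free graded pieces).
Pieces (ALG), (A), (C1), (C2) are squad requests; `flat_appLE_top` and the assembly are helper58's. -/

set_option autoImplicit false
universe u
open CategoryTheory CategoryTheory.Limits AlgebraicGeometry TensorProduct

namespace Groth.Agent.H58.SDSkel

/-- (ALG) pure commutative algebra. -/
theorem alg_dense (A : Type u) [CommRing A] (J : Ideal A) (hJ : IsNilpotent J)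
    (hfree : ∀ k : ℕ, Module.Free (A ⧸ J) ((A ⧸ J) ⊗[A] ↥(J ^ k)))
    (B : Type u) [CommRing B] (φ : A →+* B)
    {α : Type u} (C : α → Type u) [∀ a, CommRing (C a)] (ψ : ∀ a, A →+* C a)
    (hflat : ∀ a, (ψ a).Flat)
    (g : ∀ a, B →+* C a) (hg : ∀ a, (g a).comp φ = ψ a)
    (hred : ∀ b : B, (∀ a, g a b ∈ J.map (ψ a)) → b ∈ J.map φ)
    (b : B) (hb : ∀ a, g a b = 0) : b = 0 := by
  sorry

/-- (A) reduce to affine opens. -/
theorem eq_zero_of_affine {X : Scheme.{u}} {ι : Type u} (Z : ι → Scheme.{u}) (v : ∀ i, Z i ⟶ X)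
    (h : ∀ (V : X.Opens), IsAffineOpen V → ∀ t : Γ(X, V), (∀ i, (v i).app V t = 0) → t = 0) :
    ∀ (V : X.Opens) (t : Γ(X, V)), (∀ i, (v i).app V t = 0) → t = 0 := by
  sorry

/-- (C1) sections of `X` whose pullbacks to `Z` lie in `J·O_Z` affine-locally die on `Z ×_A A/J`. -/
theorem map_app_fst_eq_zero {X : Scheme.{u}} (A : CommRingCat.{u}) (p : X ⟶ Spec A) (J : Ideal ↑A)
    {Z : Scheme.{u}} (v : Z ⟶ X) (V : X.Opens) (b : Γ(X, V))
    (hb : ∀ (W : Z.Opens) (_ : IsAffineOpen W) (hWV : W ≤ v ⁻¹ᵁ V),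
      (v.appLE V W hWV).hom b ∈
        J.map ((Scheme.ΓSpecIso A).inv ≫ (v ≫ p).appLE ⊤ W le_top).hom) :
    (pullback.map (v ≫ p) (Spec.map (CommRingCat.ofHom (Ideal.Quotient.mk J))) p
        (Spec.map (CommRingCat.ofHom (Ideal.Quotient.mk J))) v (𝟙 _) (𝟙 _)
        (Category.comp_id _) ((Category.comp_id _).trans (Category.id_comp _).symm)).app
      (pullback.fst p (Spec.map (CommRingCat.ofHom (Ideal.Quotient.mk J))) ⁻¹ᵁ V)
      ((pullback.fst p (Spec.map (CommRingCat.ofHom (Ideal.Quotient.mk J)))).app V b) = 0 := by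
  sorry

/-- (C2) on an affine open, the kernel of restriction to `X ×_A A/J` is `J·O_X`. -/
theorem mem_map_of_fst_app_eq_zero {X : Scheme.{u}} (A : CommRingCat.{u}) (p : X ⟶ Spec A)
    (J : Ideal ↑A) (V : X.Opens) (hV : IsAffineOpen V) (b : Γ(X, V))
    (hb : (pullback.fst p (Spec.map (CommRingCat.ofHom (Ideal.Quotient.mk J)))).app V b = 0) :
    b ∈ J.map ((Scheme.ΓSpecIso A).inv ≫ p.appLE ⊤ V le_top).hom := by
  sorry

/-- (B) flatness of the coordinate rings. -/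
theorem flat_appLE_top {Z : Scheme.{u}} (A : CommRingCat.{u}) (r : Z ⟶ Spec A) [Flat r]
    (W : Z.Opens) (hW : IsAffineOpen W) :
    ((Scheme.ΓSpecIso A).inv ≫ r.appLE ⊤ W le_top).hom.Flat := by
  have h1 : (r.appLE ⊤ W le_top).hom.Flat :=
    HasRingHomProperty.appLE (P := @Flat) r inferInstance ⟨⊤, isAffineOpen_top _⟩ ⟨W, hW⟩ le_top
  rw [CommRingCat.hom_comp]
  exact RingHom.Flat.comp
    (RingHom.Flat.of_bijective (ConcreteCategory.bijective_of_isIso (Scheme.ΓSpecIso A).inv)) h1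

theorem main {X : Scheme.{u}} (A : CommRingCat.{u}) (p : X ⟶ Spec A) [Flat p]
    (J : Ideal ↑A) (hJ : IsNilpotent J) (hfree : ∀ k : ℕ, Module.Free (↑A ⧸ J) ((↑A ⧸ J) ⊗[↑A] ↥(J ^ k)))
    {ι : Type u} (Z : ι → Scheme.{u}) (v : ∀ i, Z i ⟶ X) [∀ i, IsImmersion (v i)] [∀ i, Flat (v i ≫ p)]
    (h0 : ∀ (V : (pullback p (Spec.map (CommRingCat.ofHom (Ideal.Quotient.mk J)))).Opens) (t : Γ(pullback p (Spec.map (CommRingCat.ofHom (Ideal.Quotient.mk J))), V)),
      (∀ i, (pullback.map (v i ≫ p) (Spec.map (CommRingCat.ofHom (Ideal.Quotient.mk J))) p (Spec.map (CommRingCat.ofHom (Ideal.Quotient.mk J))) (v i) (𝟙 _) (𝟙 _)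
        (Category.comp_id _) ((Category.comp_id _).trans (Category.id_comp _).symm)).app V t = 0) → t = 0) :
    ∀ (V : X.Opens) (t : Γ(X, V)), (∀ i, (v i).app V t = 0) → t = 0 := by
  apply eq_zero_of_affine Z v
  intro V hV t ht
  refine alg_dense (↑A) J hJ hfree Γ(X, V) ((Scheme.ΓSpecIso A).inv ≫ p.appLE ⊤ V le_top).hom
    (α := Σ i : ι, {W : (Z i).Opens // IsAffineOpen W ∧ W ≤ v i ⁻¹ᵁ V})
    (fun a => Γ(Z a.1, a.2.1))
    (fun a => ((Scheme.ΓSpecIso A).inv ≫ (v a.1 ≫ p).appLE ⊤ a.2.1 le_top).hom)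
    (fun a => flat_appLE_top A (v a.1 ≫ p) a.2.1 a.2.2.1)
    (fun a => ((v a.1).appLE V a.2.1 a.2.2.2).hom) ?_ ?_ t ?_
  · rintro ⟨i, W, hW, hWV⟩
    have h := Scheme.Hom.appLE_comp_appLE (v i) p ⊤ V W le_top hWV
    change (((Scheme.ΓSpecIso A).inv ≫ p.appLE ⊤ V le_top) ≫ (v i).appLE V W hWV).hom = _
    rw [Category.assoc, h]
  · intro b hb
    apply mem_map_of_fst_app_eq_zero A p J V hV b
    apply h0
    intro i
    exact map_app_fst_eq_zero A p J (v i) V b (fun W hW hWV => hb ⟨i, W, hW, hWV⟩)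
  · rintro ⟨i, W, hW, hWV⟩
    change ((Z i).presheaf.map (homOfLE hWV).op).hom (((v i).app V).hom t) = 0
    rw [show ((v i).app V).hom t = 0 from ht i, map_zero]

end Groth.Agent.H58.SDSkel
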