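import Mathlib

/-! (A) for S6063: schematic density may be tested on affine opens. -/

set_option autoImplicit false
universe u
open CategoryTheory CategoryTheory.Limits AlgebraicGeometry TensorProduct

namespace Groth.Agent.H58.SD_A

lemma eq_zero_of_forall_res {X : Scheme.{u}} {V : X.Opens} (t : Γ(X, V)) (P : X.Opens → Prop)
    (hcov : ∀ x ∈ V, ∃ W : X.Opens, x ∈ W ∧ W ≤ V ∧ P W)
    (h : ∀ (W : X.Opens) (hW : W ≤ V), P W → X.presheaf.map (homOfLE hW).op t = 0) : t = 0 := by
  fapply X.sheaf.eq_of_locally_eq' (fun i : {W : X.Opens // W ≤ V ∧ P W} => i.1) V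
    (fun i => homOfLE i.2.1)
  · intro x hx
    obtain ⟨W, hxW, hWV, hPW⟩ := hcov x hx
    exact TopologicalSpace.Opens.mem_iSup.mpr ⟨⟨W, hWV, hPW⟩, hxW⟩
  · intro i
    change X.presheaf.map _ t = X.presheaf.map _ 0
    rw [map_zero]
    exact h i.1 i.2.1 i.2.2

theorem eq_zero_of_affine {X : Scheme.{u}} {ι : Type u} (Z : ι → Scheme.{u}) (v : ∀ i, Z i ⟶ X)
    (h : ∀ (V : X.Opens), IsAffineOpen V → ∀ t : Γ(X, V), (∀ i, (v i).app V t = 0) → t = 0) :
    ∀ (V : X.Opens) (t : Γ(X, V)), (∀ i, (v i).app V t = 0) → t = 0 := by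
  intro V t ht
  refine eq_zero_of_forall_res t IsAffineOpen ?_ ?_
  · intro x hx
    obtain ⟨W, hW, hxW, hWV⟩ :=
      TopologicalSpace.Opens.isBasis_iff_nbhd.mp X.isBasis_affineOpens hx
    exact ⟨W, hxW, hWV, hW⟩
  · intro W hWV hW
    apply h W hW
    intro i
    have hnat := Scheme.Hom.naturality (v i) (homOfLE hWV).op
    have h2 := congrArg (fun φ => (CommRingCat.Hom.hom φ) t) hnat
    change ((v i).app W).hom ((X.presheaf.map (homOfLE hWV).op).hom t) = _ at h2
    change ((v i).app W).hom ((X.presheaf.map (homOfLE hWV).op).hom t) = 0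
    rw [h2]
    change ((Z i).presheaf.map _).hom (((v i).app V).hom t) = 0
    rw [show ((v i).app V).hom t = 0 from ht i, map_zero]

end Groth.Agent.H58.SD_A
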