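import Mathlib

/-!
# S10938 squad (CV): cotangent-space rank condition ⇒ elementwise
-/

set_option autoImplicit false
universe u
open IsLocalRing AlgebraicGeometry

namespace Groth.Agent.H58.SardCV

theorem exists_elementwise_of_cotangent {R₁ R₂ : Type u} [CommRing R₁] [CommRing R₂]
    [IsLocalRing R₁] [IsLocalRing R₂] (α : R₁ →+* R₂)
    (h : maximalIdeal R₁ ≤ (maximalIdeal R₂).comap α.toIntAlgHom) (r : ℕ)
    (H : ∃ S : Finset (CotangentSpace R₂), S.card ≤ r ∧
      (LinearMap.range (Ideal.mapCotangent (maximalIdeal R₁) (maximalIdeal R₂) α.toIntAlgHom h) :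
        Set (CotangentSpace R₂)) ⊆
        (Submodule.span (ResidueField R₂) (S : Set (CotangentSpace R₂)) : Set (CotangentSpace R₂))) :
    ∃ s : Fin r → R₂, (∀ i, s i ∈ maximalIdeal R₂) ∧
      ∀ a ∈ maximalIdeal R₁, α a ∈ Ideal.span (Set.range s) ⊔ (maximalIdeal R₂) ^ 2 := by
  classical
  obtain ⟨S, hcard, HS⟩ := H
  -- lifts of the cotangent vectors
  choose l hl using (Ideal.toCotangent_surjective (maximalIdeal R₂))
  -- an injection of `S` into `Fin r`
  have hc : Fintype.card ↥S ≤ Fintype.card (Fin r) := by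
    rw [Fintype.card_coe, Fintype.card_fin]; exact hcard
  obtain ⟨emb⟩ := Function.Embedding.nonempty_of_card_le hc
  let s : Fin r → R₂ := fun i =>
    if hi : ∃ v : ↥S, emb v = i then ((l hi.choose.1 : maximalIdeal R₂) : R₂) else 0
  have hs_emb : ∀ v : ↥S, s (emb v) = ((l v.1 : maximalIdeal R₂) : R₂) := by
    intro v
    have hi : ∃ v' : ↥S, emb v' = emb v := ⟨v, rfl⟩
    have hv : hi.choose = v := emb.injective hi.choose_spec
    show (if hi : ∃ v' : ↥S, emb v' = emb v then ((l hi.choose.1 : maximalIdeal R₂) : R₂) else 0) = _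
    rw [dif_pos hi, hv]
  have hs_mem : ∀ i, s i ∈ maximalIdeal R₂ := by
    intro i
    show (if hi : ∃ v : ↥S, emb v = i then ((l hi.choose.1 : maximalIdeal R₂) : R₂) else 0) ∈ _
    split_ifs with hi
    · exact (l hi.choose.1).2
    · exact Ideal.zero_mem _
  refine ⟨s, hs_mem, ?_⟩
  -- every element of the span lifts to an element of `span (range s)` inside the maximal ideal
  have key : ∀ w ∈ Submodule.span (ResidueField R₂) (S : Set (CotangentSpace R₂)),
      ∃ y : maximalIdeal R₂, (maximalIdeal R₂).toCotangent y = w ∧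
        (y : R₂) ∈ Ideal.span (Set.range s) := by
    intro w hw
    induction hw using Submodule.span_induction with
    | mem v hv =>
      refine ⟨l v, hl v, ?_⟩
      apply Ideal.subset_span
      exact ⟨emb ⟨v, hv⟩, hs_emb ⟨v, hv⟩⟩
    | zero => exact ⟨0, map_zero _, Ideal.zero_mem _⟩
    | add w₁ w₂ _ _ h₁ h₂ =>
      obtain ⟨y₁, hy₁, hy₁'⟩ := h₁
      obtain ⟨y₂, hy₂, hy₂'⟩ := h₂
      exact ⟨y₁ + y₂, by rw [map_add, hy₁, hy₂], Ideal.add_mem _ hy₁' hy₂'⟩
    | smul c w _ h₁ =>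
      obtain ⟨y, hy, hy'⟩ := h₁
      obtain ⟨c', rfl⟩ := residue_surjective c
      refine ⟨c' • y, ?_, ?_⟩
      · rw [map_smul, hy]
        exact (algebraMap_smul (ResidueField R₂) c' w).symm
      · exact Ideal.mul_mem_left _ c' hy'
  intro a ha
  have hmem : (maximalIdeal R₂).toCotangent ⟨α a, h ha⟩ ∈
      Submodule.span (ResidueField R₂) (S : Set (CotangentSpace R₂)) := by
    apply HS
    refine ⟨(maximalIdeal R₁).toCotangent ⟨a, ha⟩, ?_⟩
    rw [Ideal.mapCotangent_toCotangent]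
    rfl
  obtain ⟨y, hy, hy'⟩ := key _ hmem
  have h2 : ((⟨α a, h ha⟩ : maximalIdeal R₂) - y : R₂) ∈ maximalIdeal R₂ ^ 2 :=
    (Ideal.toCotangent_eq _).1 hy.symm
  have h3 : α a = (y : R₂) + (α a - y) := by ring
  rw [h3]
  exact Ideal.add_mem _ (Ideal.mem_sup_left hy') (Ideal.mem_sup_right h2)

end Groth.Agent.H58.SardCV
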