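import Mathlib

/-!
# S10938 squad (FSL): formal smoothness of the local homomorphism
-/

set_option autoImplicit false
universe u
open IsLocalRing AlgebraicGeometry

namespace Groth.Agent.H58.SardFSL

theorem formallySmooth_localRingHom {A B : Type u} [CommRing A] [CommRing B] (ψ : A →+* B) (b : B)
    (hsm : ((algebraMap B (Localization.Away b)).comp ψ).Smooth) (M : Ideal B) [M.IsPrime]
    (hb : b ∉ M) (N : Ideal A) [N.IsPrime] (hN : N = M.comap ψ) :
    (Localization.localRingHom N M ψ hN).FormallySmooth := by
  have h1 : ((algebraMap B (Localization.Away b)).comp ψ).FormallySmooth := hsm.formallySmooth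
  have hunit : IsUnit (algebraMap B (Localization.AtPrime M) b) :=
    IsLocalization.map_units (Localization.AtPrime M) (⟨b, hb⟩ : M.primeCompl)
  let ρ : Localization.Away b →+* Localization.AtPrime M := IsLocalization.Away.lift b hunit
  have hρ : ρ.comp (algebraMap B (Localization.Away b)) = algebraMap B (Localization.AtPrime M) :=
    IsLocalization.Away.lift_comp b hunit
  have h2 : ρ.FormallySmooth := by
    letI : Algebra (Localization.Away b) (Localization.AtPrime M) := ρ.toAlgebra
    haveI : IsScalarTower B (Localization.Away b) (Localization.AtPrime M) :=
      IsScalarTower.of_algebraMap_eq' hρ.symm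
    have hle : Submonoid.powers b ≤ M.primeCompl := by
      rintro _ ⟨n, rfl⟩
      exact M.primeCompl.pow_mem hb n
    haveI : IsLocalization (M.primeCompl.map (algebraMap B (Localization.Away b)))
        (Localization.AtPrime M) :=
      IsLocalization.isLocalization_of_submonoid_le (Localization.Away b)
        (Localization.AtPrime M) (Submonoid.powers b) M.primeCompl hle
    exact Algebra.FormallySmooth.of_isLocalization
      (M.primeCompl.map (algebraMap B (Localization.Away b)))
  have h3 : ((algebraMap B (Localization.AtPrime M)).comp ψ).FormallySmooth := by
    have h4 := h1.comp h2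
    rwa [← RingHom.comp_assoc, hρ] at h4
  letI : Algebra A (Localization.AtPrime M) :=
    ((algebraMap B (Localization.AtPrime M)).comp ψ).toAlgebra
  letI : Algebra (Localization.AtPrime N) (Localization.AtPrime M) :=
    (Localization.localRingHom N M ψ hN).toAlgebra
  haveI : IsScalarTower A (Localization.AtPrime N) (Localization.AtPrime M) :=
    IsScalarTower.of_algebraMap_eq' (RingHom.ext fun x =>
      (Localization.localRingHom_to_map N M ψ hN x).symm)
  haveI : Algebra.FormallySmooth A (Localization.AtPrime M) := h3
  exact Algebra.FormallySmooth.localization_base (R := A) (Rₘ := Localization.AtPrime N)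
    (Sₘ := Localization.AtPrime M) N.primeCompl

end Groth.Agent.H58.SardFSL
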