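import Mathlib

/-!
# S10938 squad (PUSH)
-/

set_option autoImplicit false
universe u
open IsLocalRing AlgebraicGeometry

namespace Groth.Agent.H58.SardPUSH

theorem push_elementwise {R₁ R₂ S₁ S₂ : Type u} [CommRing R₁] [CommRing R₂] [CommRing S₁]
    [CommRing S₂] [IsLocalRing R₁] [IsLocalRing R₂] [IsLocalRing S₁] [IsLocalRing S₂]
    (α : R₁ →+* R₂) (β : S₁ →+* S₂) (π₁ : R₁ →+* S₁) (π₂ : R₂ →+* S₂) [IsLocalHom π₂]
    (hπ₁ : Function.Surjective π₁) (hcomm : β.comp π₁ = π₂.comp α) (r : ℕ)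
    (H : ∃ s : Fin r → R₂, (∀ i, s i ∈ maximalIdeal R₂) ∧
      ∀ a ∈ maximalIdeal R₁, α a ∈ Ideal.span (Set.range s) ⊔ (maximalIdeal R₂) ^ 2) :
    ∃ s' : Fin r → S₂, (∀ i, s' i ∈ maximalIdeal S₂) ∧
      ∀ a ∈ maximalIdeal S₁, β a ∈ Ideal.span (Set.range s') ⊔ (maximalIdeal S₂) ^ 2 := by
  obtain ⟨s, hs, H⟩ := H
  have hmax : ∀ x ∈ maximalIdeal R₂, π₂ x ∈ maximalIdeal S₂ := by
    intro x hx
    rw [mem_maximalIdeal, mem_nonunits_iff] at hx ⊢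
    exact fun hu => hx (isUnit_of_map_unit π₂ x hu)
  have hmap : Ideal.map π₂ (maximalIdeal R₂) ≤ maximalIdeal S₂ := by
    rw [Ideal.map_le_iff_le_comap]
    exact fun x hx => hmax x hx
  refine ⟨fun i => π₂ (s i), fun i => hmax _ (hs i), ?_⟩
  intro a' ha'
  obtain ⟨a, rfl⟩ := hπ₁ a'
  have ha : a ∈ maximalIdeal R₁ := by
    rw [mem_maximalIdeal, mem_nonunits_iff] at ha' ⊢
    exact fun hu => ha' (hu.map π₁)
  have h1 : β (π₁ a) = π₂ (α a) := RingHom.congr_fun hcomm a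
  rw [h1]
  have h2 : π₂ (α a) ∈ Ideal.map π₂ (Ideal.span (Set.range s) ⊔ maximalIdeal R₂ ^ 2) :=
    Ideal.mem_map_of_mem _ (H a ha)
  have h3 : Ideal.map π₂ (Ideal.span (Set.range s) ⊔ maximalIdeal R₂ ^ 2) ≤
      Ideal.span (Set.range fun i => π₂ (s i)) ⊔ maximalIdeal S₂ ^ 2 := by
    rw [Ideal.map_sup, Ideal.map_pow, Ideal.map_span]
    apply sup_le_sup
    · apply Ideal.span_mono
      rintro _ ⟨_, ⟨i, rfl⟩, rfl⟩
      exact ⟨i, rfl⟩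
    · exact Ideal.pow_right_mono hmap 2
  exact h3 h2

end Groth.Agent.H58.SardPUSH
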