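import Mathlib

/-!
# S10938 squad (RC): a formally smooth local map with trivial residue extension whose cotangent
image is spanned by `r` elements has source of dimension `≤ r`
-/

set_option autoImplicit false
universe u
open IsLocalRing AlgebraicGeometry

namespace Groth.Agent.H58.SardRC

theorem ringKrullDim_le_of_formallySmooth_of_elementwise {R T : Type u} [CommRing R] [CommRing T]
    [IsLocalRing R] [IsLocalRing T] [IsNoetherianRing R] (α : R →+* T) [IsLocalHom α]
    (hsm : α.FormallySmooth) (hres : Function.Surjective (IsLocalRing.ResidueField.map α))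
    (r : ℕ) (s : Fin r → T) (hs : ∀ i, s i ∈ maximalIdeal T)
    (H : ∀ a ∈ maximalIdeal R, α a ∈ Ideal.span (Set.range s) ⊔ (maximalIdeal T) ^ 2) :
    ringKrullDim R ≤ r := by
  letI : Algebra R T := α.toAlgebra
  haveI : Algebra.FormallySmooth R T := hsm
  set n := maximalIdeal R with hn
  have hbij : Function.Bijective (IsLocalRing.ResidueField.map α) :=
    ⟨(IsLocalRing.ResidueField.map α).injective, hres⟩
  let e : ResidueField R ≃+* ResidueField T := RingEquiv.ofBijective _ hbij
  have he : ∀ x, e x = IsLocalRing.ResidueField.map α x := fun _ => rfl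
  -- the residue map of `T` as an `R`-algebra map to the residue field of `R`
  let f : T →ₐ[R] ResidueField R :=
    { toRingHom := (e.symm : ResidueField T →+* ResidueField R).comp (residue T)
      commutes' := fun a => by
        show e.symm (residue T (α a)) = residue R a
        rw [RingEquiv.symm_apply_eq, he, IsLocalRing.ResidueField.map_residue] }
  have hf : ∀ x, f x = e.symm (residue T x) := fun _ => rfl
  -- the square-zero thickening
  let g : (R ⧸ n ^ 2) →ₐ[R] ResidueField R :=
    Ideal.Quotient.liftₐ (n ^ 2) (IsScalarTower.toAlgHom R R (ResidueField R)) (fun a ha => by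
      show residue R a = 0
      rw [residue_eq_zero_iff]
      exact Ideal.pow_le_self two_ne_zero ha)
  have hgmk : ∀ a : R, g (Ideal.Quotient.mk (n ^ 2) a) = residue R a := fun _ => rfl
  have hg : Function.Surjective g := by
    intro y
    obtain ⟨a, rfl⟩ := residue_surjective y
    exact ⟨Ideal.Quotient.mk (n ^ 2) a, hgmk a⟩
  have hKle : RingHom.ker (g : (R ⧸ n ^ 2) →+* ResidueField R) ≤
      Ideal.map (Ideal.Quotient.mk (n ^ 2)) n := by
    intro x hx
    obtain ⟨a, rfl⟩ := Ideal.Quotient.mk_surjective x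
    rw [RingHom.mem_ker] at hx
    have hx' : residue R a = 0 := hx
    rw [residue_eq_zero_iff] at hx'
    exact Ideal.mem_map_of_mem _ hx'
  have hK2 : RingHom.ker (g : (R ⧸ n ^ 2) →+* ResidueField R) ^ 2 = ⊥ := by
    rw [eq_bot_iff]
    calc RingHom.ker (g : (R ⧸ n ^ 2) →+* ResidueField R) ^ 2
        ≤ Ideal.map (Ideal.Quotient.mk (n ^ 2)) n ^ 2 := Ideal.pow_right_mono hKle 2
      _ = Ideal.map (Ideal.Quotient.mk (n ^ 2)) (n ^ 2) := (Ideal.map_pow _ _ _).symm
      _ = ⊥ := Ideal.map_quotient_self _
  have hg' : IsNilpotent (RingHom.ker (g : (R ⧸ n ^ 2) →+* ResidueField R)) := ⟨2, hK2⟩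
  let σ : T →ₐ[R] (R ⧸ n ^ 2) := Algebra.FormallySmooth.liftOfSurjective f g hg hg'
  have hσ : ∀ x, g (σ x) = f x := Algebra.FormallySmooth.liftOfSurjective_apply f g hg hg'
  let σr : T →+* (R ⧸ n ^ 2) := σ
  have hmK : Ideal.map σr (maximalIdeal T) ≤
      RingHom.ker (g : (R ⧸ n ^ 2) →+* ResidueField R) := by
    rw [Ideal.map_le_iff_le_comap]
    intro x hx
    rw [Ideal.mem_comap, RingHom.mem_ker]
    show g (σ x) = 0
    rw [hσ, hf, (residue_eq_zero_iff x).2 hx, map_zero]
  choose t ht using fun i => Ideal.Quotient.mk_surjective (I := n ^ 2) (σ (s i))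
  have htn : ∀ i, t i ∈ n := by
    intro i
    have h1 : σr (s i) ∈ RingHom.ker (g : (R ⧸ n ^ 2) →+* ResidueField R) :=
      hmK (Ideal.mem_map_of_mem _ (hs i))
    rw [RingHom.mem_ker] at h1
    have h2 : g (Ideal.Quotient.mk (n ^ 2) (t i)) = 0 := by
      rw [ht i]; exact h1
    rw [hgmk, residue_eq_zero_iff] at h2
    exact h2
  have hle : n ≤ Ideal.span (Set.range t) ⊔ n ^ 2 := by
    intro a ha
    have h1 : σr (α a) ∈ Ideal.map σr (Ideal.span (Set.range s) ⊔ maximalIdeal T ^ 2) :=
      Ideal.mem_map_of_mem _ (H a ha)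
    have h2 : Ideal.map σr (Ideal.span (Set.range s) ⊔ maximalIdeal T ^ 2) ≤
        Ideal.map (Ideal.Quotient.mk (n ^ 2)) (Ideal.span (Set.range t)) := by
      rw [Ideal.map_sup, Ideal.map_pow, Ideal.map_span, Ideal.map_span]
      apply sup_le
      · apply Ideal.span_mono
        rintro _ ⟨_, ⟨i, rfl⟩, rfl⟩
        exact ⟨t i, ⟨i, rfl⟩, ht i⟩
      · calc Ideal.map σr (maximalIdeal T) ^ 2
            ≤ RingHom.ker (g : (R ⧸ n ^ 2) →+* ResidueField R) ^ 2 := Ideal.pow_right_mono hmK 2
          _ = ⊥ := hK2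
          _ ≤ _ := bot_le
    have h3 : σr (α a) = Ideal.Quotient.mk (n ^ 2) a := σ.commutes a
    have h4 := h2 h1
    rw [h3] at h4
    have h5 : a ∈ Ideal.comap (Ideal.Quotient.mk (n ^ 2))
        (Ideal.map (Ideal.Quotient.mk (n ^ 2)) (Ideal.span (Set.range t))) := h4
    rw [Ideal.comap_map_of_surjective _ Ideal.Quotient.mk_surjective, ← RingHom.ker_eq_comap_bot,
      Ideal.mk_ker] at h5
    exact h5
  have hfg : n.FG := IsNoetherian.noetherian n
  have hnle : n ≤ Ideal.span (Set.range t) := by
    apply Submodule.le_of_le_smul_of_le_jacobson_bot hfg (IsLocalRing.maximalIdeal_le_jacobson ⊥)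
    rw [smul_eq_mul, ← pow_two]
    exact hle
  classical
  have hneq : n = Ideal.span ((Finset.univ.image t : Finset R) : Set R) := by
    rw [Finset.coe_image, Finset.coe_univ, Set.image_univ]
    refine le_antisymm hnle ?_
    rw [Ideal.span_le]
    rintro _ ⟨i, rfl⟩
    exact htn i
  have hmin : n ∈ (Ideal.span ((Finset.univ.image t : Finset R) : Set R)).minimalPrimes := by
    rw [← hneq, Ideal.minimalPrimes_eq_subsingleton_self]
    exact Set.mem_singleton n
  have hht : n.height ≤ (Finset.univ.image t : Finset R).card :=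
    Ideal.height_le_card_of_mem_minimalPrimes_span_finset hmin
  have hcard : (Finset.univ.image t : Finset R).card ≤ r := by
    calc (Finset.univ.image t : Finset R).card ≤ (Finset.univ : Finset (Fin r)).card :=
          Finset.card_image_le
      _ = r := by rw [Finset.card_univ, Fintype.card_fin]
  rw [← IsLocalRing.maximalIdeal_height_eq_ringKrullDim]
  have h6 : n.height ≤ (r : ℕ∞) := hht.trans (by exact_mod_cast hcard)
  exact_mod_cast h6

end Groth.Agent.H58.SardRC
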