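import Mathlib

/-!
# S10938 squad (RES): residue fields at closed points of finite type algebras over an
algebraically closed field
-/

set_option autoImplicit false
universe u
open IsLocalRing AlgebraicGeometry

namespace Groth.Agent.H58.SardRES

theorem residue_surjective_localRingHom {k A B : Type u} [Field k] [IsAlgClosed k] [CommRing A]
    [CommRing B] [Algebra k A] [Algebra.FiniteType k A] (ψ : A →+* B) (hψ : ψ.FiniteType)
    (M : Ideal B) [M.IsMaximal] (N : Ideal A) [N.IsPrime] (hN : N = M.comap ψ) :
    N.IsMaximal ∧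
      Function.Surjective (IsLocalRing.ResidueField.map (Localization.localRingHom N M ψ hN)) := by
  -- `k → B ⧸ M` is surjective
  have hsurj : ∀ x : B, ∃ c : k, x - ψ (algebraMap k A c) ∈ M := by
    let φ : k →+* B ⧸ M := (Ideal.Quotient.mk M).comp (ψ.comp (algebraMap k A))
    have hφ : φ.FiniteType :=
      (RingHom.FiniteType.of_surjective _ Ideal.Quotient.mk_surjective).comp
        (hψ.comp (RingHom.finiteType_algebraMap.2 inferInstance))
    letI : Field (B ⧸ M) := Ideal.Quotient.field M
    letI : Algebra k (B ⧸ M) := φ.toAlgebra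
    haveI : Algebra.FiniteType k (B ⧸ M) := hφ
    haveI : Module.Finite k (B ⧸ M) := finite_of_finite_type_of_isJacobsonRing k (B ⧸ M)
    have hbij : Function.Bijective (algebraMap k (B ⧸ M)) :=
      IsAlgClosed.algebraMap_bijective_of_isIntegral
    intro x
    obtain ⟨c, hc⟩ := hbij.2 (Ideal.Quotient.mk M x)
    refine ⟨c, ?_⟩
    rw [← Ideal.Quotient.eq]
    exact hc.symm
  have hsurjA : ∀ a : A, ∃ c : k, a - algebraMap k A c ∈ N := by
    intro a
    obtain ⟨c, hc⟩ := hsurj (ψ a)
    refine ⟨c, ?_⟩
    rw [hN, Ideal.mem_comap, map_sub]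
    exact hc
  refine ⟨?_, ?_⟩
  · rw [Ideal.isMaximal_iff]
    refine ⟨fun h1 => (Ideal.IsPrime.ne_top inferInstance) ((Ideal.eq_top_iff_one N).2 h1), ?_⟩
    intro J x hNJ hxN hxJ
    obtain ⟨c, hc⟩ := hsurjA x
    have hc0 : c ≠ 0 := by
      rintro rfl
      rw [map_zero, sub_zero] at hc
      exact hxN hc
    have h1 : algebraMap k A c ∈ J := by
      have h2 : algebraMap k A c = x - (x - algebraMap k A c) := by ring
      rw [h2]
      exact J.sub_mem hxJ (hNJ hc)
    have h3 : algebraMap k A c⁻¹ * algebraMap k A c = 1 := by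
      rw [← map_mul, inv_mul_cancel₀ hc0, map_one]
    rw [← h3]
    exact J.mul_mem_left _ h1
  · intro y
    obtain ⟨x, rfl⟩ := Ideal.algebraMap_residueField_surjective M y
    obtain ⟨c, hc⟩ := hsurj x
    refine ⟨residue _ (algebraMap A (Localization.AtPrime N) (algebraMap k A c)), ?_⟩
    rw [IsLocalRing.ResidueField.map_residue, Localization.localRingHom_to_map]
    show residue _ (algebraMap B (Localization.AtPrime M) (ψ (algebraMap k A c))) =
      residue _ (algebraMap B (Localization.AtPrime M) x)
    rw [← sub_eq_zero, ← map_sub, ← map_sub, residue_eq_zero_iff]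
    have h4 : ψ (algebraMap k A c) - x ∈ M := by
      have := M.neg_mem hc
      rwa [neg_sub] at this
    exact (IsLocalization.AtPrime.to_map_mem_maximal_iff (Localization.AtPrime M) M _).2 h4

end Groth.Agent.H58.SardRES
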