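import Mathlib

/-!
# S10938 squad (SURJ)
-/

set_option autoImplicit false
universe u
open IsLocalRing AlgebraicGeometry

namespace Groth.Agent.H58.SardSURJ

theorem localRingHom_surjective {A B : Type u} [CommRing A] [CommRing B] (π : A →+* B)
    (hπ : Function.Surjective π) (M : Ideal B) [M.IsPrime] (N : Ideal A) [N.IsPrime]
    (hN : N = M.comap π) : Function.Surjective (Localization.localRingHom N M π hN) := by
  intro y
  obtain ⟨b, s, rfl⟩ := IsLocalization.exists_mk'_eq M.primeCompl y
  obtain ⟨a, rfl⟩ := hπ b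
  obtain ⟨u, hu⟩ := hπ s.1
  have huN : u ∈ N.primeCompl := by
    intro hmem
    have hmem' : u ∈ Ideal.comap π M := hN ▸ hmem
    rw [Ideal.mem_comap, hu] at hmem'
    exact s.2 hmem'
  refine ⟨IsLocalization.mk' _ a (⟨u, huN⟩ : N.primeCompl), ?_⟩
  rw [Localization.localRingHom_mk']
  congr 1
  exact Subtype.ext hu

end Groth.Agent.H58.SardSURJ
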