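import Mathlib

/-!
# S10938 squad (T1): generic points of the pieces of `A` dominating a point of `closure (f '' A)`
-/

set_option autoImplicit false
universe u
open IsLocalRing AlgebraicGeometry

namespace Groth.Agent.H58.SardT1

open TopologicalSpace

theorem exists_generic_dense {X Y : Type*} [TopologicalSpace X] [TopologicalSpace Y]
    [TopologicalSpace.NoetherianSpace X] [QuasiSober X] (f : X → Y) (hf : Continuous f)
    (A : Set X) (y : Y) (hy : y ∈ closure (f '' A)) :
    ∃ ξ : X, ξ ∈ closure (A ∩ closure {ξ}) ∧ y ∈ closure ({f ξ} : Set Y) := by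
  have L : ∀ (Z : Set X), IsClosed Z → ∀ A' : Set X, A' ⊆ Z → y ∈ closure (f '' A') →
      ∃ V : Set X, IsClosed V ∧ IsIrreducible V ∧ V ⊆ Z ∧ y ∈ closure (f '' (A' ∩ V)) := by
    intro Z hZ A' hA' hy'
    obtain ⟨S, hSf, hSc, hSi, rfl⟩ := NoetherianSpace.exists_finite_set_isClosed_irreducible hZ
    have h1 : f '' A' = ⋃ t ∈ S, f '' (A' ∩ t) := by
      ext z
      simp only [Set.mem_image, Set.mem_iUnion, Set.mem_inter_iff, exists_prop]
      constructor
      · rintro ⟨x, hx, rfl⟩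
        obtain ⟨t, ht, hxt⟩ := hA' hx
        exact ⟨t, ht, x, ⟨hx, hxt⟩, rfl⟩
      · rintro ⟨t, ht, x, ⟨hx, hxt⟩, rfl⟩
        exact ⟨x, hx, rfl⟩
    rw [h1, hSf.closure_biUnion] at hy'
    simp only [Set.mem_iUnion, exists_prop] at hy'
    obtain ⟨t, ht, hyt⟩ := hy'
    exact ⟨t, hSc t ht, hSi t ht, Set.subset_sUnion_of_mem ht, hyt⟩
  obtain ⟨V₀, hV₀c, hV₀i, -, hyV₀⟩ := L (closure A) isClosed_closure A subset_closure hy
  let P : Set (Closeds X) :=
    {V | IsIrreducible (V : Set X) ∧ y ∈ closure (f '' (A ∩ (V : Set X)))}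
  have hPne : P.Nonempty := ⟨⟨V₀, hV₀c⟩, hV₀i, hyV₀⟩
  obtain ⟨V, hVP, hVmin⟩ := (wellFounded_lt (α := Closeds X)).has_min P hPne
  obtain ⟨ξ, hξ⟩ := QuasiSober.sober hVP.1 V.isClosed
  have hξ' : closure {ξ} = (V : Set X) := hξ
  obtain ⟨V', hV'c, hV'i, hV'sub, hyV'⟩ :=
    L (closure (A ∩ (V : Set X))) isClosed_closure (A ∩ (V : Set X)) subset_closure hVP.2
  have hsubV : closure (A ∩ (V : Set X)) ⊆ (V : Set X) :=
    closure_minimal Set.inter_subset_right V.isClosed
  have hV'P : (⟨V', hV'c⟩ : Closeds X) ∈ P :=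
    ⟨hV'i, closure_mono (Set.image_mono
      (Set.inter_subset_inter_left _ Set.inter_subset_left)) hyV'⟩
  have hle : (⟨V', hV'c⟩ : Closeds X) ≤ V := fun x hx => hsubV (hV'sub hx)
  have heq : (⟨V', hV'c⟩ : Closeds X) = V := by
    by_contra hne
    exact hVmin _ hV'P (lt_of_le_of_ne hle hne)
  have hVsub : (V : Set X) ⊆ closure (A ∩ (V : Set X)) := by
    have h2 : V' = (V : Set X) := congrArg (fun W : Closeds X => (W : Set X)) heq
    intro x hx
    have hx' : x ∈ V' := by rw [h2]; exact hx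
    exact hV'sub hx'
  refine ⟨ξ, ?_, ?_⟩
  · rw [hξ']
    apply hVsub
    rw [← hξ']
    exact subset_closure (Set.mem_singleton ξ)
  · have h1 : f '' (A ∩ (V : Set X)) ⊆ closure {f ξ} := by
      rintro _ ⟨x, hx, rfl⟩
      have hxV : x ∈ closure ({ξ} : Set X) := by
        rw [hξ']
        exact hx.2
      have h3 := image_closure_subset_closure_image hf (Set.mem_image_of_mem f hxV)
      rwa [Set.image_singleton] at h3
    exact closure_minimal h1 isClosed_closure hVP.2

end Groth.Agent.H58.SardT1
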