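import Groth.Agent.H98.GrCat
import Groth.Prelude.Def_CAlg
import Groth.Prelude.Def_GrSeg
import Groth.Prelude.Def_Wider
import Groth.Agent.S0318
import Groth.Agent.S5152
import Groth.Agent.H29.CM
import Groth.Agent.H29.CM2
import Groth.Agent.H29.DepthFinite

/-!
# S18663 squad (CM2): local Cohen–Macaulayness from vanishing of local cohomology
-/

set_option autoImplicit false
universe u

namespace Groth.Agent.H58.SegCM_CM2

theorem cmLocal_of_vanishing {T : Type u} [CommRing T] [IsNoetherianRing T] (m : Ideal T)
    [hm : m.IsMaximal] (d : ℕ) (hd : m.height = d)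
    (hvan : ∀ i, i < d → Subsingleton (LocCoh.H m i T)) :
    LocCoh.IsCohenMacaulayLocalRing (Localization.AtPrime m) := by
  have hIM : m • (⊤ : Submodule T T) ≠ ⊤ := by
    rw [smul_eq_mul, Ideal.mul_top]
    exact hm.ne_top
  -- step 1: d ≤ idealDepth m T
  have h1 : (d : ℕ∞) ≤ LocCoh.idealDepth m T := by
    by_contra hlt
    rw [not_le] at hlt
    have hne : LocCoh.idealDepth m T ≠ ⊤ := ne_top_of_lt hlt
    obtain ⟨n, hn⟩ := ENat.ne_top_iff_exists.1 hne
    have hnd : n < d := by
      rw [← hn] at hlt
      exact_mod_cast hlt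
    have h := (Groth.Agent.S0318.result T m T hIM n).1 hn.symm
    haveI := hvan n hnd
    haveI := h.2
    exact false_of_nontrivial_of_subsingleton (LocCoh.H m n T)
  -- step 2: idealDepth m T ≤ depth of the localization
  have h2 : LocCoh.idealDepth m T ≤
      LocCoh.depth (Localization.AtPrime m) (LocalizedModule m.primeCompl T) := by
    rw [Groth.Agent.S5152.result T m T]
    exact iInf₂_le (⟨m, inferInstance⟩ : PrimeSpectrum T) (le_refl m)
  -- step 3: transfer to the ring
  have h3 : LocCoh.depth (Localization.AtPrime m) (LocalizedModule m.primeCompl T) =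
      LocCoh.depth (Localization.AtPrime m) (Localization.AtPrime m) :=
    Groth.Agent.H29.CM.idealDepth_congr (Groth.Agent.H29.DepthFinite.selfEquiv m.primeCompl)
  -- step 4: dimension
  have h4 : Module.supportDim (Localization.AtPrime m) (Localization.AtPrime m) =
      ((d : ℕ∞) : WithBot ℕ∞) := by
    rw [Module.supportDim_self_eq_ringKrullDim,
      IsLocalization.AtPrime.ringKrullDim_eq_height m (Localization.AtPrime m), hd]
  refine ⟨le_antisymm ?_ Groth.Agent.H29.CM.depth_le_supportDim⟩
  rw [h4]
  exact WithBot.coe_le_coe.2 (h1.trans (h2.trans h3.le))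

end Groth.Agent.H58.SegCM_CM2
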