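import Groth.Agent.H33.CoprodSectTop
import Groth.Agent.H18.Serre.Generation
import Groth.Agent.H95.QCohColim
import Groth.Agent.H8.QCohPush
import Mathlib

/-!
Pushforward along an affine morphism and (infinite) coproducts of quasi-coherent modules:
the canonical map `∐ f_* E_k ⟶ f_* (∐ E_k)` is an epimorphism.
(Lemma (e) requested by helper53 for S13542.)
Also: sections of a coproduct of modules over a quasi-compact open are finite sums of sections of
the summands (scheme-level form of `H33.CoprodSectTop.sections_coproduct`).
-/

set_option autoImplicit false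
universe u
open CategoryTheory CategoryTheory.Limits AlgebraicGeometry TopologicalSpace Opposite

namespace Groth.Agent.H58.SigmaPush

set_option backward.isDefEq.respectTransparency false in
/-- Over a quasi-compact open, every section of a coproduct of `O_X`-modules is a finite sum of
images of sections of the summands. -/
theorem exists_finset_sum_sections {X : Scheme.{u}} {κ : Type u} (E : κ → X.Modules)
    (W : X.Opens) (hW : IsCompact (W : Set X)) (s : Γ(∐ E, W)) :
    ∃ (S : Finset κ) (t : ∀ i, Γ(E i, W)), s = ∑ i ∈ S, (Sigma.ι E i).app W (t i) := by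
  have h := (Groth.Agent.H33.CoprodSectTop.sections_coproduct (X.ringCatSheaf) E W
    (Groth.Agent.H33.CoprodSectTop.hfin_of_isCompact X.ringCatSheaf W hW)).1 s
  exact h

set_option backward.isDefEq.respectTransparency false in
/-- For an affine morphism `f` and quasi-coherent modules `E k`, the canonical map
`∐ f_* E_k ⟶ f_* (∐ E_k)` is an epimorphism. -/
theorem epi_sigma_pushforward {X Y : Scheme.{u}} (f : X ⟶ Y) [IsAffineHom f] {κ : Type u}
    (E : κ → X.Modules) (hE : ∀ k, (E k).IsQuasicoherent) :
    Epi (Limits.Sigma.desc (fun k => (Scheme.Modules.pushforward f).map (Limits.Sigma.ι E k)) :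
      (∐ fun k => (Scheme.Modules.pushforward f).obj (E k)) ⟶
        (Scheme.Modules.pushforward f).obj (∐ E)) := by
  haveI hq : (∐ E).IsQuasicoherent :=
    Groth.Agent.H95.QCohColim.isQuasicoherent_of_isColimit _
      (colimit.isColimit (Discrete.functor E)) (fun j => hE j.as)
  haveI : ((Scheme.Modules.pushforward f).obj (∐ E)).IsQuasicoherent :=
    Groth.Agent.H8.isQuasicoherent_pushforward f _
  refine Groth.Agent.H18.Serre.epi_of_surjective_affine_cover _
    (fun V : Y.affineOpens => (V : Y.Opens)) (iSup_affineOpens_eq_top Y) (fun V => V.2) ?_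
  intro V s
  have hW : IsCompact ((f ⁻¹ᵁ (V : Y.Opens) : X.Opens) : Set X) :=
    (V.2.preimage f).isCompact
  obtain ⟨S, t, hs⟩ := exists_finset_sum_sections E (f ⁻¹ᵁ (V : Y.Opens)) hW s
  subst hs
  refine ⟨∑ i ∈ S, (Sigma.ι (fun k => (Scheme.Modules.pushforward f).obj (E k)) i).app
    (V : Y.Opens) (t i), ?_⟩
  rw [map_sum]
  refine Finset.sum_congr rfl (fun i _ => ?_)
  have h1 : Sigma.ι (fun k => (Scheme.Modules.pushforward f).obj (E k)) i ≫
      Sigma.desc (fun k => (Scheme.Modules.pushforward f).map (Sigma.ι E k)) =
      (Scheme.Modules.pushforward f).map (Sigma.ι E i) := Sigma.ι_desc _ _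
  have h2 := congrArg (fun ψ => ψ.app (V : Y.Opens) (t i)) h1
  exact h2

end Groth.Agent.H58.SigmaPush
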