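import Mathlib
import Groth.Agent.H71.CMFormal2
import Groth.Agent.H15.FibreCM
import Groth.Agent.H15.FibQuot
import Groth.Agent.H15.SkAt
import Groth.Agent.H15.FamCyc
import Groth.Agent.H15.DepthSpread2
import Groth.Agent.H29.SkNoEmb
import Groth.Agent.H24.CatenaryOrder
import Groth.Agent.H58.KollarS1
import Groth.Agent.S0602
import Groth.Agent.S2659
import Groth.Agent.S2636
import Groth.Agent.S2642
import Groth.Agent.S9126

/-!
# Formal fibres satisfying `(S_n)`: permanence

* `skFib_comp`, `skFib_of_comp`, `skFib_square`: composition and descent of `(S_n)` fibre local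
  rings.
* `hasSk_of_isCMRing`, `hasSk_of_isLocalization`, `hasSk_tensor_of_essFiniteType`.
* `hasSnFormalFibres_of_flat_local`, `hasSnFormalFibres_of_essFiniteType`.
* `hasSnFormalFibres_one_of_strict`: a formally strictly catenary local ring has `(S_1)` formal
  fibres.
-/

set_option autoImplicit false
set_option linter.style.haveILetI false
set_option maxHeartbeats 400000

universe u

open IsLocalRing TensorProduct
open Groth.Agent.H15.FibreSk

namespace Groth.Agent.H58.SnFormal

attribute [local instance] Groth.Agent.H15.FlatLoc.isLocalRing_fibLocRing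

section Comp

variable (A B C : Type u) [CommRing A] [CommRing B] [CommRing C] [Algebra A B] [Algebra B C]
  [Algebra A C] [IsScalarTower A B C] [IsNoetherianRing B] [IsNoetherianRing C] [Module.Flat B C]

/-- Composition: `(S_n)` fibre local rings of `A → B` and `B → C` give `(S_n)` fibre local rings of
`A → C`. -/
theorem skFib_comp (n : ℕ) (r : Ideal C) [r.IsPrime]
    (h1 : SkFib A B n (r.comap (algebraMap B C))) (h2 : SkFib B C n r) : SkFib A C n r := by
  obtain ⟨hht, hdp⟩ := fib_comp A B C r
  unfold SkFib at h1 h2 ⊢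
  rw [hht, hdp]
  exact le_trans (Groth.Agent.H15.FlatLoc.min_add_le _ _ _) (add_le_add h1 h2)

/-- Descent: if the closed fibre of `B_q → C_r` has dimension zero, `(S_n)` descends. -/
theorem skFib_of_comp (n : ℕ) (r : Ideal C) [r.IsPrime]
    (hzero : (maximalIdeal (EGA4.FibLocRing B C r)).height = 0)
    (h : SkFib A C n r) : SkFib A B n (r.comap (algebraMap B C)) := by
  obtain ⟨hht, hdp⟩ := fib_comp A B C r
  have hdepth0 : LocCoh.depth (EGA4.FibLocRing B C r) (EGA4.FibLocRing B C r) = 0 := by
    have h1 := Groth.Agent.H29.CM.depth_le_supportDim (A := EGA4.FibLocRing B C r)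
      (M := EGA4.FibLocRing B C r)
    rw [Module.supportDim_self_eq_ringKrullDim,
      ← IsLocalRing.maximalIdeal_height_eq_ringKrullDim, hzero] at h1
    have h2 : LocCoh.depth (EGA4.FibLocRing B C r) (EGA4.FibLocRing B C r) ≤ 0 := by
      exact_mod_cast h1
    exact le_antisymm h2 (by simp)
  unfold SkFib at h ⊢
  rw [hht, hdp, hzero, hdepth0, add_zero, add_zero] at h
  exact h

end Comp

/-- The square lemma: `A → A' → C` and `A → B → C` with `B → C` faithfully flat. -/
theorem skFib_square (A A' B C : Type u) [CommRing A] [CommRing A'] [CommRing B] [CommRing C]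
    [IsNoetherianRing A'] [IsNoetherianRing B] [IsNoetherianRing C]
    [Algebra A A'] [Algebra A' C] [Algebra A B] [Algebra B C] [Algebra A C]
    [IsScalarTower A A' C] [IsScalarTower A B C]
    [Module.Flat A' C] [Module.FaithfullyFlat B C] (n : ℕ)
    (h1 : ∀ (r : Ideal A') [r.IsPrime], SkFib A A' n r)
    (h2 : ∀ (r : Ideal C) [r.IsPrime], SkFib A' C n r) :
    ∀ (q : Ideal B) [q.IsPrime], SkFib A B n q := by
  intro q _
  obtain ⟨r, hr, hrq, hzero⟩ := Groth.Agent.H15.FibreCM.exists_prime_fibre_dim_zero B C q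
  subst hrq
  exact skFib_of_comp A B C n r hzero (skFib_comp A A' C n r (h1 _) (h2 r))

/-- A Cohen–Macaulay ring satisfies `(S_n)` for every `n`. -/
theorem hasSk_of_isCMRing (R : Type u) [CommRing R] (hR : LocCoh.IsCohenMacaulayRing R) (n : ℕ) :
    LocCoh.HasSk n R R := by
  haveI := hR
  rw [Groth.Agent.H15.SkAt.hasSk_self_iff']
  intro p _
  have h := hR.isCohenMacaulayLocalRing_localization p
  have h1 := (Groth.Agent.H15.FibreCM.isCM_iff_height_eq_depth (Localization.AtPrime p)).1 h
  have h2 : (maximalIdeal (Localization.AtPrime p)).height = p.height := by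
    have e1 : (((maximalIdeal (Localization.AtPrime p)).height : ℕ∞) : WithBot ℕ∞) =
        ((p.height : ℕ∞) : WithBot ℕ∞) := by
      rw [IsLocalRing.maximalIdeal_height_eq_ringKrullDim,
        IsLocalization.AtPrime.ringKrullDim_eq_height p (Localization.AtPrime p)]
    exact WithBot.coe_injective e1
  rw [← h1, h2]
  exact min_le_right _ _

/-- `(S_n)` passes to localizations of the ring. -/
theorem hasSk_of_isLocalization {R S : Type u} [CommRing R] [CommRing S] [Algebra R S]
    [IsNoetherianRing R] (M : Submonoid R) [IsLocalization M S] (n : ℕ)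
    (h : LocCoh.HasSk n R R) : LocCoh.HasSk n S S := by
  have h1 := Groth.Agent.H29.SkNoEmb.hasSk_localization M R n h
  have h2 : LocCoh.HasSk n (Localization M) (Localization M) :=
    Groth.Agent.H15.SkAt.hasSk_congr (Groth.Agent.S0602.locSelfEquiv M) n h1
  exact Groth.Agent.H15.SkAt.hasSk_self_of_ringEquiv
    (IsLocalization.algEquiv M (Localization M) S).toRingEquiv n h2

/-- `(S_n)` fibre local rings pass to localizations of the target. -/
theorem skFib_of_isLocalization (A B B' : Type u) [CommRing A] [CommRing B] [CommRing B']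
    [Algebra A B] [Algebra B B'] [Algebra A B'] [IsScalarTower A B B']
    (M : Submonoid B) [IsLocalization M B'] (n : ℕ) (r' : Ideal B') [r'.IsPrime]
    (h1 : SkFib A B n (r'.comap (algebraMap B B'))) : SkFib A B' n r' := by
  haveI : (r'.comap (algebraMap B B')).IsPrime := Ideal.comap_isPrime _ r'
  have hcc : (r'.comap (algebraMap B B')).comap (algebraMap A B) =
      r'.comap (algebraMap A B') := by
    rw [Ideal.comap_comap, ← IsScalarTower.algebraMap_eq]
  haveI : IsScalarTower A B (Localization.AtPrime r') :=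
    IsScalarTower.of_algebraMap_eq (fun x => by
      rw [IsScalarTower.algebraMap_apply A B' (Localization.AtPrime r'),
        IsScalarTower.algebraMap_apply A B B',
        ← IsScalarTower.algebraMap_apply B B' (Localization.AtPrime r')])
  haveI : IsLocalization.AtPrime (Localization.AtPrime r') (r'.comap (algebraMap B B')) :=
    IsLocalization.isLocalization_isLocalization_atPrime_isLocalization M
      (Localization.AtPrime r') r'
  let e : Localization.AtPrime (r'.comap (algebraMap B B')) ≃ₐ[B] Localization.AtPrime r' :=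
    IsLocalization.algEquiv (r'.comap (algebraMap B B')).primeCompl _ _
  have hJ : (r'.comap (algebraMap A B')).map (algebraMap A (Localization.AtPrime r')) =
      (((r'.comap (algebraMap B B')).comap (algebraMap A B)).map
        (algebraMap A (Localization.AtPrime (r'.comap (algebraMap B B'))))).map
        (e.toRingEquiv : Localization.AtPrime (r'.comap (algebraMap B B')) →+*
          Localization.AtPrime r') := by
    rw [Ideal.map_map, hcc]
    congr 1
    ext x
    simp only [RingHom.coe_comp, Function.comp_apply]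
    rw [IsScalarTower.algebraMap_apply A B (Localization.AtPrime r'),
      IsScalarTower.algebraMap_apply A B (Localization.AtPrime (r'.comap (algebraMap B B')))]
    exact (e.commutes _).symm
  unfold SkFib at h1
  exact skFib_of_equiv (Ideal.quotientEquiv _ _ e.toRingEquiv hJ) h1

/-- Base change of an `(S_n)` algebra over a field along a finitely generated field extension is
`(S_n)`. -/
theorem hasSk_tensor_of_essFiniteType (k K F : Type u) [Field k] [Field K] [Algebra k K]
    [Algebra.EssFiniteType k K] [CommRing F] [Algebra k F] [IsNoetherianRing F] (n : ℕ)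
    (hF : LocCoh.HasSk n F F) : LocCoh.HasSk n (K ⊗[k] F) (K ⊗[k] F) := by
  haveI : IsNoetherianRing (F ⊗[k] K) := Algebra.EssFiniteType.isNoetherianRing F _
  have hfib : ∀ (r : Ideal (F ⊗[k] K)) [r.IsPrime], SkFib F (F ⊗[k] K) n r := by
    intro r _
    refine (hasSk_fiber_iff F (F ⊗[k] K) n (r.comap (algebraMap F (F ⊗[k] K)))).1 ?_ r rfl
    have h1 : LocCoh.IsCohenMacaulayRing
        (K ⊗[k] (r.comap (algebraMap F (F ⊗[k] K))).ResidueField) :=
      Groth.Agent.H71.CMField.isCMRing_tensor_of_essFiniteType k K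
        (r.comap (algebraMap F (F ⊗[k] K))).ResidueField
        (Groth.Agent.H71.CMField.isCMRing_of_field _)
    have h2 := hasSk_of_isCMRing _ h1 n
    let e1 := Algebra.TensorProduct.cancelBaseChange k F F
      (r.comap (algebraMap F (F ⊗[k] K))).ResidueField K
    let e2 := Algebra.TensorProduct.comm k K (r.comap (algebraMap F (F ⊗[k] K))).ResidueField
    exact Groth.Agent.H15.SkAt.hasSk_self_of_ringEquiv
      (e2.toRingEquiv.trans e1.symm.toRingEquiv) n h2
  have h3 := hasSk_of_flat F (F ⊗[k] K) n hF hfib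
  exact Groth.Agent.H15.SkAt.hasSk_self_of_ringEquiv
    (Algebra.TensorProduct.comm k F K).toRingEquiv n h3

/-- Descent of `(S_n)` formal fibres along a flat local homomorphism with `(S_n)` fibres. -/
theorem hasSnFormalFibres_of_flat_local (n : ℕ) (A A' : Type u) [CommRing A] [CommRing A']
    [IsNoetherianRing A] [IsNoetherianRing A'] [IsLocalRing A] [IsLocalRing A'] [Algebra A A']
    [IsLocalHom (algebraMap A A')] [Module.Flat A A']
    (hf : ∀ (r : Ideal A') [r.IsPrime], SkFib A A' n r)
    (hA' : EGA4.HasSnFormalFibres n A') : EGA4.HasSnFormalFibres n A := by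
  have hle : (maximalIdeal A).map (algebraMap A A') ≤ maximalIdeal A' :=
    IsLocalRing.map_maximalIdeal_le (algebraMap A A')
  haveI : IsNoetherianRing (EGA4.Cpl A) :=
    Groth.Agent.Lead.isNoetherianRing_adicCompletion (maximalIdeal A)
      (maximalIdeal A).fg_of_isNoetherianRing
  haveI : IsNoetherianRing (EGA4.Cpl A') :=
    Groth.Agent.Lead.isNoetherianRing_adicCompletion (maximalIdeal A')
      (maximalIdeal A').fg_of_isNoetherianRing
  have hg : ∀ a : A, FSch.complMap (maximalIdeal A) (maximalIdeal A') (algebraMap A A') hle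
      (algebraMap A (EGA4.Cpl A) a) = algebraMap A' (EGA4.Cpl A') (algebraMap A A' a) :=
    fun a => Groth.Agent.H87.ComplFlat.complMap_algebraMap _ _ _ hle a
  have hgflat : (FSch.complMap (maximalIdeal A) (maximalIdeal A') (algebraMap A A') hle).Flat :=
    Groth.Agent.H87.ComplFlat.complMap_flat (maximalIdeal A) (maximalIdeal A') (algebraMap A A')
      (RingHom.flat_algebraMap_iff.mpr inferInstance) hle
  have hcomp : (FSch.complMap (maximalIdeal A) (maximalIdeal A') (algebraMap A A') hle).comp
      (algebraMap A (EGA4.Cpl A)) = (algebraMap A' (EGA4.Cpl A')).comp (algebraMap A A') :=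
    RingHom.ext hg
  haveI hloc : IsLocalHom
      (FSch.complMap (maximalIdeal A) (maximalIdeal A') (algebraMap A A') hle) := by
    apply ((IsLocalRing.local_hom_TFAE _).out 0 2 rfl rfl).mpr
    rw [AdicCompletion.maximalIdeal_eq_map (R := A), Ideal.map_map, hcomp, ← Ideal.map_map,
      AdicCompletion.maximalIdeal_eq_map (R := A')]
    exact Ideal.map_mono hle
  letI : Algebra (EGA4.Cpl A) (EGA4.Cpl A') :=
    (FSch.complMap (maximalIdeal A) (maximalIdeal A') (algebraMap A A') hle).toAlgebra
  haveI : IsScalarTower A A' (EGA4.Cpl A') := IsScalarTower.of_algebraMap_eq (fun _ => rfl)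
  haveI : IsScalarTower A (EGA4.Cpl A) (EGA4.Cpl A') :=
    IsScalarTower.of_algebraMap_eq (fun a => (hg a).symm)
  haveI : Module.Flat (EGA4.Cpl A) (EGA4.Cpl A') := hgflat
  haveI : IsLocalHom (algebraMap (EGA4.Cpl A) (EGA4.Cpl A')) := hloc
  haveI : Module.FaithfullyFlat (EGA4.Cpl A) (EGA4.Cpl A') :=
    Module.FaithfullyFlat.of_flat_of_isLocalHom
  haveI : Module.FaithfullyFlat A' (EGA4.Cpl A') :=
    Groth.Agent.H34.ComplQuot.faithfullyFlat_cpl A'
  intro p _
  show LocCoh.HasSk n (p.Fiber (EGA4.Cpl A)) (p.Fiber (EGA4.Cpl A))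
  rw [hasSk_fiber_iff A (EGA4.Cpl A) n p]
  intro q _ _
  exact skFib_square A A' (EGA4.Cpl A) (EGA4.Cpl A') n hf
    (fun r _ => (hasSk_fiber_iff A' (EGA4.Cpl A') n _).1 (hA' _) r rfl) q

/-- Cohen–Macaulay formal fibres are `(S_n)` formal fibres. -/
theorem hasSnFormalFibres_of_hasCMFormalFibres (n : ℕ) (A : Type u) [CommRing A] [IsLocalRing A]
    (h : EGA4.HasCMFormalFibres A) : EGA4.HasSnFormalFibres n A :=
  fun p _ => hasSk_of_isCMRing _ (h p) n

set_option maxHeartbeats 800000 in
/-- The fibres of `B → B ⊗[A] Â` are `(S_n)` when the formal fibres of `A` are. -/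
theorem hasSk_fiber_tensor_cpl (n : ℕ) (A : Type u) [CommRing A] [IsNoetherianRing A]
    [IsLocalRing A] (hA : EGA4.HasSnFormalFibres n A) (B : Type u) [CommRing B]
    [IsNoetherianRing B] [Algebra A B] [Algebra.EssFiniteType A B]
    (P : Ideal B) [P.IsPrime] :
    LocCoh.HasSk n (P.Fiber (B ⊗[A] EGA4.Cpl A)) (P.Fiber (B ⊗[A] EGA4.Cpl A)) := by
  haveI : IsNoetherianRing (EGA4.Cpl A) :=
    Groth.Agent.Lead.isNoetherianRing_adicCompletion (maximalIdeal A)
      (maximalIdeal A).fg_of_isNoetherianRing
  haveI hp : (P.comap (algebraMap A B)).IsPrime := Ideal.comap_isPrime _ P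
  letI : Algebra (P.comap (algebraMap A B)).ResidueField P.ResidueField :=
    (Ideal.ResidueField.map (P.comap (algebraMap A B)) P (algebraMap A B) rfl).toAlgebra
  haveI : IsScalarTower A (P.comap (algebraMap A B)).ResidueField P.ResidueField :=
    IsScalarTower.of_algebraMap_eq (fun a => by
      rw [IsScalarTower.algebraMap_apply A B P.ResidueField]
      exact (Ideal.ResidueField.map_algebraMap _ P (algebraMap A B) rfl a).symm)
  haveI : Algebra.EssFiniteType A P.ResidueField := Algebra.EssFiniteType.comp A B P.ResidueField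
  haveI : Algebra.EssFiniteType (P.comap (algebraMap A B)).ResidueField P.ResidueField :=
    Algebra.EssFiniteType.of_comp A _ _
  haveI : IsNoetherianRing ((P.comap (algebraMap A B)).Fiber (EGA4.Cpl A)) :=
    Groth.Agent.H15.FibreCM.isNoetherianRing_fiber A (EGA4.Cpl A) _
  have h1 := hasSk_tensor_of_essFiniteType
    (P.comap (algebraMap A B)).ResidueField P.ResidueField
    ((P.comap (algebraMap A B)).Fiber (EGA4.Cpl A)) n (hA _)
  let e2 := Algebra.TensorProduct.cancelBaseChange A (P.comap (algebraMap A B)).ResidueField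
    (P.comap (algebraMap A B)).ResidueField P.ResidueField (EGA4.Cpl A)
  let e1 := Algebra.TensorProduct.cancelBaseChange A B B P.ResidueField (EGA4.Cpl A)
  exact Groth.Agent.H15.SkAt.hasSk_self_of_ringEquiv
    (e2.toRingEquiv.trans e1.symm.toRingEquiv) n h1

/-- `(S_n)` fibres of `B → B ⊗[A] Â` give `(S_n)` fibres of `B → (B ⊗[A] Â)_M`. -/
theorem skFib_loc_tensor (n : ℕ) (A B : Type u) [CommRing A] [IsNoetherianRing A] [IsLocalRing A]
    [CommRing B] [Algebra A B] (M : Ideal (B ⊗[A] EGA4.Cpl A)) [M.IsPrime]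
    (hfibT : ∀ (r : Ideal (B ⊗[A] EGA4.Cpl A)) [r.IsPrime], SkFib B (B ⊗[A] EGA4.Cpl A) n r)
    (r' : Ideal (Localization.AtPrime M)) [r'.IsPrime] :
    SkFib B (Localization.AtPrime M) n r' := by
  haveI : (r'.comap (algebraMap (B ⊗[A] EGA4.Cpl A) (Localization.AtPrime M))).IsPrime :=
    Ideal.comap_isPrime _ r'
  have h0 := hfibT (r'.comap (algebraMap (B ⊗[A] EGA4.Cpl A) (Localization.AtPrime M)))
  have h1 := skFib_of_isLocalization B (B ⊗[A] EGA4.Cpl A) (Localization.AtPrime M) M.primeCompl
    n r'
  exact h1 h0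

set_option maxHeartbeats 800000 in
/-- `(S_n)` formal fibres ascend to local rings essentially of finite type. -/
theorem hasSnFormalFibres_of_essFiniteType (n : ℕ) (A : Type u) [CommRing A] [IsNoetherianRing A]
    [IsLocalRing A] (hA : EGA4.HasSnFormalFibres n A) (B : Type u) [CommRing B]
    [IsNoetherianRing B] [IsLocalRing B] [Algebra A B] [Algebra.EssFiniteType A B] :
    EGA4.HasSnFormalFibres n B := by
  classical
  haveI : IsNoetherianRing (EGA4.Cpl A) :=
    Groth.Agent.Lead.isNoetherianRing_adicCompletion (maximalIdeal A)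
      (maximalIdeal A).fg_of_isNoetherianRing
  haveI : Module.FaithfullyFlat A (EGA4.Cpl A) := Groth.Agent.H34.ComplQuot.faithfullyFlat_cpl A
  haveI : IsAdicComplete (maximalIdeal (EGA4.Cpl A)) (EGA4.Cpl A) := inferInstance
  haveI hTN : IsNoetherianRing (B ⊗[A] EGA4.Cpl A) := by
    haveI : IsNoetherianRing (EGA4.Cpl A ⊗[A] B) :=
      Algebra.EssFiniteType.isNoetherianRing (EGA4.Cpl A) _
    exact isNoetherianRing_of_ringEquiv _
      (Algebra.TensorProduct.comm A (EGA4.Cpl A) B).toRingEquiv
  obtain ⟨M, hM, hMo⟩ := Ideal.exists_isPrime_liesOver_of_faithfullyFlat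
    (B := B ⊗[A] EGA4.Cpl A) (maximalIdeal B)
  haveI := hM
  haveI : IsLocalHom (algebraMap B (Localization.AtPrime M)) := by
    apply ((IsLocalRing.local_hom_TFAE _).out 0 4).mpr
    have h5 : Ideal.comap (algebraMap (B ⊗[A] EGA4.Cpl A) (Localization.AtPrime M))
        (maximalIdeal (Localization.AtPrime M)) = M :=
      IsLocalization.AtPrime.under_maximalIdeal (Localization.AtPrime M) M
    rw [IsScalarTower.algebraMap_eq B (B ⊗[A] EGA4.Cpl A) (Localization.AtPrime M),
      ← Ideal.comap_comap, h5]
    exact hMo.over.symm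
  haveI : Module.Flat B (Localization.AtPrime M) :=
    Module.Flat.trans B (B ⊗[A] EGA4.Cpl A) (Localization.AtPrime M)
  -- fibres of `B → B ⊗[A] Â`
  have hfibT0 : ∀ (P : Ideal B) [P.IsPrime],
      LocCoh.HasSk n (P.Fiber (B ⊗[A] EGA4.Cpl A)) (P.Fiber (B ⊗[A] EGA4.Cpl A)) :=
    fun P _ => hasSk_fiber_tensor_cpl n A hA B P
  have hfibT : ∀ (r : Ideal (B ⊗[A] EGA4.Cpl A)) [r.IsPrime],
      SkFib B (B ⊗[A] EGA4.Cpl A) n r := fun r _ =>
    (hasSk_fiber_iff B (B ⊗[A] EGA4.Cpl A) n
      (r.comap (algebraMap B (B ⊗[A] EGA4.Cpl A)))).1 (hfibT0 _) r rfl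
  have hfibB' : ∀ (r' : Ideal (Localization.AtPrime M)) [r'.IsPrime],
      SkFib B (Localization.AtPrime M) n r' := fun r' _ => skFib_loc_tensor n A B M hfibT r'
  -- `B'` is a quotient of a regular local ring
  obtain ⟨P, _, hPreg, f, hf⟩ := Groth.Agent.H71.CMFormal.exists_regular_surjective (EGA4.Cpl A)
  haveI := hPreg
  haveI : IsRegularRing P := Groth.Agent.H71.CMFormal.isRegularRing_of_isRegularLocalRing P
  have h1 : (algebraMap (EGA4.Cpl A) (EGA4.Cpl A ⊗[A] B)).EssFiniteType :=
    RingHom.essFiniteType_algebraMap.mpr inferInstance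
  have h2 : ((Algebra.TensorProduct.comm A (EGA4.Cpl A) B).toRingEquiv.toRingHom).EssFiniteType :=
    (RingHom.FiniteType.of_surjective _
      (Algebra.TensorProduct.comm A (EGA4.Cpl A) B).toRingEquiv.surjective).essFiniteType
  have h3 : RingHom.EssFiniteType (R := B ⊗[A] EGA4.Cpl A) (S := Localization.AtPrime M)
      (algebraMap (B ⊗[A] EGA4.Cpl A) (Localization.AtPrime M)) := by
    rw [RingHom.essFiniteType_algebraMap]
    infer_instance
  have h4 : f.EssFiniteType := (RingHom.FiniteType.of_surjective f hf).essFiniteType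
  have hΦ := ((h4.comp h1).comp h2).comp h3
  obtain ⟨Q, _, hQ, g, hg⟩ :=
    Groth.Agent.H71.CMFormal2.exists_regular_surjective_of_essFiniteType _ hΦ
  haveI := hQ
  have hB' : EGA4.HasCMFormalFibres (Localization.AtPrime M) :=
    Groth.Agent.H71.CMFormal2.hasCMFormalFibres_of_surjective
      ⟨Groth.Agent.H72.RegLoc.isCM_of_isRegularLocalRing Q⟩ g hg
  exact hasSnFormalFibres_of_flat_local n B (Localization.AtPrime M) hfibB'
    (hasSnFormalFibres_of_hasCMFormalFibres n _ hB')

/-- A strictly equidimensional Noetherian local ring satisfies `(S_1)`. -/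
theorem hasSk_one_of_isStrictlyEquidim (R : Type u) [CommRing R] [IsNoetherianRing R]
    [IsLocalRing R] (h : EGA4.IsStrictlyEquidim R) : LocCoh.HasSk 1 R R := by
  rw [Groth.Agent.S2659.hasSk_self_iff]
  intro P _
  by_cases hd : LocCoh.depth (Localization.AtPrime P) (LocalizedModule P.primeCompl R) = 0
  · have hass := Groth.Agent.H15.DepthSpread.mem_associatedPrimes_of_depth_eq_zero P R hd
    have hdim := h P hass
    have h1 := Groth.Agent.H24.height_add_ringKrullDim_quotient_le (⟨P, inferInstance⟩ :
      PrimeSpectrum R)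
    obtain ⟨d, hd'⟩ := Groth.Agent.H15.FlatQuot.exists_nat_ringKrullDim R
    rw [show (⟨P, inferInstance⟩ : PrimeSpectrum R).asIdeal = P from rfl, hdim, hd'] at h1
    have h2 : ((P.height : ℕ∞) : WithBot ℕ∞) ≤ 0 :=
      Groth.Agent.H29.SkNoEmb.le_zero_of_add_le (r := d) (by exact_mod_cast h1)
    have h3 : P.height = 0 := by
      have : P.height ≤ 0 := by exact_mod_cast h2
      exact le_antisymm this (by simp)
    rw [h3]
    simp
  · exact le_trans (min_le_left _ _) (by exact_mod_cast Order.one_le_iff_ne_zero.2 hd)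

/-- Strict equidimensionality from `(S_1)` and equidimensionality. -/
theorem isStrictlyEquidim_of_hasSk_one (R : Type u) [CommRing R] [IsNoetherianRing R]
    (hS1 : LocCoh.HasSk 1 R R) (heq : EGA4.IsEquidim R) : EGA4.IsStrictlyEquidim R := by
  intro P hP
  have hNE := Groth.Agent.H15.FamCyc.NE_bot hS1
  obtain ⟨hPp, x, hx⟩ := (isAssociatedPrime_iff (R := R)).1 hP
  have hmin : P ∈ minimalPrimes R := by
    apply hNE x P hPp
    intro s
    constructor
    · intro hs
      rw [hx, Submodule.mem_colon_singleton] at hs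
      exact hs
    · intro hs
      rw [hx, Submodule.mem_colon_singleton]
      exact hs
  exact heq P hmin

/-- Equidimensionality from strict equidimensionality. -/
theorem isEquidim_of_isStrictlyEquidim (R : Type u) [CommRing R] [IsNoetherianRing R]
    (h : EGA4.IsStrictlyEquidim R) : EGA4.IsEquidim R := by
  intro P hP
  apply h P
  apply Module.associatedPrimes.minimalPrimes_annihilator_subset_associatedPrimes R R
  rw [Module.annihilator_eq_bot.2 inferInstance]
  exact hP

/-- The fibre local ring of `A → B` at `r` over `p` is `(S_n)` when `B ⧸ pB` is `(S_n)`. -/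
theorem skFib_of_hasSk_quot (A B : Type u) [CommRing A] [CommRing B] [Algebra A B]
    [IsNoetherianRing B] (n : ℕ) (p : Ideal A) [p.IsPrime] (r : Ideal B) [r.IsPrime]
    (hr : r.comap (algebraMap A B) = p)
    (hS' : LocCoh.HasSk n (B ⧸ p.map (algebraMap A B)) (B ⧸ p.map (algebraMap A B))) :
    SkFib A B n r := by
  have hle : p.map (algebraMap A B) ≤ r := by
    rw [Ideal.map_le_iff_le_comap, hr]
  haveI hQ : (r.map (Ideal.Quotient.mk (p.map (algebraMap A B)))).IsPrime :=
    Ideal.map_isPrime_of_surjective Ideal.Quotient.mk_surjective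
      (by rw [Ideal.mk_ker]; exact hle)
  have hQr : (r.map (Ideal.Quotient.mk (p.map (algebraMap A B)))).comap
      (Ideal.Quotient.mk (p.map (algebraMap A B))) = r := by
    rw [Ideal.comap_map_of_surjective _ Ideal.Quotient.mk_surjective, ← RingHom.ker_eq_comap_bot,
      Ideal.mk_ker, sup_eq_left.2 hle]
  have hbot : (r.map (Ideal.Quotient.mk (p.map (algebraMap A B)))).comap
      (algebraMap (A ⧸ p) (B ⧸ p.map (algebraMap A B))) = ⊥ := by
    rw [eq_bot_iff]
    intro x hx
    obtain ⟨a, rfl⟩ := Ideal.Quotient.mk_surjective x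
    have h2 : algebraMap A B a ∈ (r.map (Ideal.Quotient.mk (p.map (algebraMap A B)))).comap
        (Ideal.Quotient.mk (p.map (algebraMap A B))) := hx
    rw [hQr] at h2
    have h3 : a ∈ r.comap (algebraMap A B) := h2
    rw [hr] at h3
    rw [Ideal.mem_bot]
    exact Ideal.Quotient.eq_zero_iff_mem.2 h3
  have hmapbot : ((r.map (Ideal.Quotient.mk (p.map (algebraMap A B)))).comap
      (algebraMap (A ⧸ p) (B ⧸ p.map (algebraMap A B)))).map
      (algebraMap (A ⧸ p) (Localization.AtPrime
        (r.map (Ideal.Quotient.mk (p.map (algebraMap A B)))))) = ⊥ := by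
    rw [hbot, Ideal.map_bot]
  let e0 : Localization.AtPrime (r.map (Ideal.Quotient.mk (p.map (algebraMap A B)))) ≃+*
      EGA4.FibLocRing (A ⧸ p) (B ⧸ p.map (algebraMap A B))
        (r.map (Ideal.Quotient.mk (p.map (algebraMap A B)))) :=
    (RingEquiv.quotientBot _).symm.trans (Ideal.quotEquivOfEq hmapbot.symm)
  have hSk : SkFib (A ⧸ p) (B ⧸ p.map (algebraMap A B)) n
      (r.map (Ideal.Quotient.mk (p.map (algebraMap A B)))) := by
    apply skFib_of_equiv e0
    have h4 := (Groth.Agent.H15.SkAt.hasSk_self_iff' _ n).1 hS'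
      (r.map (Ideal.Quotient.mk (p.map (algebraMap A B))))
    have h5 : (maximalIdeal (Localization.AtPrime
        (r.map (Ideal.Quotient.mk (p.map (algebraMap A B)))))).height =
        (r.map (Ideal.Quotient.mk (p.map (algebraMap A B)))).height := by
      have e1 : (((maximalIdeal (Localization.AtPrime
          (r.map (Ideal.Quotient.mk (p.map (algebraMap A B)))))).height : ℕ∞) : WithBot ℕ∞) =
          (((r.map (Ideal.Quotient.mk (p.map (algebraMap A B)))).height : ℕ∞) : WithBot ℕ∞) := by
        rw [IsLocalRing.maximalIdeal_height_eq_ringKrullDim,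
          IsLocalization.AtPrime.ringKrullDim_eq_height
            (r.map (Ideal.Quotient.mk (p.map (algebraMap A B)))) (Localization.AtPrime _)]
      exact WithBot.coe_injective e1
    rw [h5]
    exact h4
  have h6 : SkFib A B n ((r.map (Ideal.Quotient.mk (p.map (algebraMap A B)))).comap
      (Ideal.Quotient.mk (p.map (algebraMap A B)))) := by
    unfold SkFib at hSk
    exact skFib_of_equiv (Groth.Agent.H15.FibQuot.fibEquiv A B p
      (r.map (Ideal.Quotient.mk (p.map (algebraMap A B))))) hSk
  exact h6.congr A B hQr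

/-- A formally strictly catenary Noetherian local ring has `(S_1)` formal fibres. -/
theorem hasSnFormalFibres_one_of_strict (A : Type u) [CommRing A] [IsNoetherianRing A]
    [IsLocalRing A] (hA : EGA4.IsFormallyStrictlyCatenary A) : EGA4.HasSnFormalFibres 1 A := by
  intro p _
  show LocCoh.HasSk 1 (p.Fiber (EGA4.Cpl A)) (p.Fiber (EGA4.Cpl A))
  rw [hasSk_fiber_iff A (EGA4.Cpl A) 1 p]
  intro r _ hr
  have hS' : LocCoh.HasSk 1 (EGA4.Cpl A ⧸ p.map (algebraMap A (EGA4.Cpl A)))
      (EGA4.Cpl A ⧸ p.map (algebraMap A (EGA4.Cpl A))) := by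
    have h1 := hasSk_one_of_isStrictlyEquidim _ (hA p)
    exact Groth.Agent.H15.SkAt.hasSk_self_of_ringEquiv
      (Groth.Agent.H34.ComplQuot.cplQuotEquiv A p).toRingEquiv 1 h1
  exact skFib_of_hasSk_quot A (EGA4.Cpl A) 1 p r hr hS'

/-- **Ascent of strict formal catenarity** to local rings essentially of finite type. -/
theorem isFormallyStrictlyCatenary_of_essFiniteType (A : Type u) [CommRing A]
    [IsNoetherianRing A] [IsLocalRing A] (hA : EGA4.IsFormallyStrictlyCatenary A) (B : Type u)
    [CommRing B] [IsNoetherianRing B] [IsLocalRing B] [Algebra A B] [Algebra.EssFiniteType A B] :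
    EGA4.IsFormallyStrictlyCatenary B := by
  have hFC : EGA4.IsFormallyCatenary A := fun p _ =>
    isEquidim_of_isStrictlyEquidim _ (hA p)
  have hUC := Groth.Agent.S2636.result A hFC
  have hS1 := hasSnFormalFibres_one_of_strict A hA
  have hS1B := hasSnFormalFibres_of_essFiniteType 1 A hS1 B
  have hUCB := Groth.Agent.S9126.result A B hUC
  intro q _
  have h1 := Groth.Agent.H58.KollarFin.hasSk_one_cpl_quot B hS1B q
  have h2 := Groth.Agent.H58.Ratliff.isEquidim_cpl (B ⧸ q)
    (Groth.Agent.H58.Ratliff.isUniversallyCatenary_quotient' B hUCB q)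
  exact isStrictlyEquidim_of_hasSk_one _ h1 h2

end Groth.Agent.H58.SnFormal
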