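import Groth.Agent.H8.TensorStalk
import Groth.Agent.H8.ZeroStalk
import Groth.Agent.H17.KerLocFree
import Mathlib

/-!
Tensoring with a finite locally free module with nowhere vanishing stalks is faithful on objects:
`T ⊗ A = 0 ⇒ T = 0`.  (Lemma (d) requested by helper53 for S1063.)
-/

set_option autoImplicit false
universe u
open CategoryTheory CategoryTheory.Limits AlgebraicGeometry TensorProduct

namespace Groth.Agent.H58.TensorFaithful

/-- If `A` is finite locally free with all stalks nontrivial and `T ⊗ A` is zero, then `T` is zero. -/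
theorem isZero_of_isZero_tensorMod {Y : Scheme.{u}} (T A : Y.Modules) (hA : FlatMod.IsFinLocFree A)
    (hne : ∀ y : Y, Nontrivial (A.presheaf.stalk y)) (h : Limits.IsZero (CohB1.tensorMod T A)) :
    Limits.IsZero T := by
  apply Groth.Agent.H8.isZero_of_subsingleton_stalk
  intro y
  obtain ⟨e⟩ := Groth.Agent.H8.nonempty_stalk_tensorMod_equiv T A y
  haveI := Groth.Agent.H8.subsingleton_stalk_of_isZero _ h y
  haveI hs : Subsingleton ((T.presheaf.stalk y) ⊗[Y.presheaf.stalk y] (A.presheaf.stalk y)) :=
    e.symm.toEquiv.subsingleton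
  haveI := Groth.Agent.H17.KerLocFree.free_stalk_of_isFinLocFree hA y
  haveI := hne y
  haveI : Module.FaithfullyFlat (Y.presheaf.stalk y) (A.presheaf.stalk y) := inferInstance
  exact (Module.FaithfullyFlat.subsingleton_tensorProduct_iff_left (Y.presheaf.stalk y)
    (T.presheaf.stalk y) (N := A.presheaf.stalk y)).mp hs

/-- Variant with the faithful factor on the left. -/
theorem isZero_of_isZero_tensorMod' {Y : Scheme.{u}} (T A : Y.Modules) (hA : FlatMod.IsFinLocFree A)
    (hne : ∀ y : Y, Nontrivial (A.presheaf.stalk y)) (h : Limits.IsZero (CohB1.tensorMod A T)) :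
    Limits.IsZero T := by
  apply Groth.Agent.H8.isZero_of_subsingleton_stalk
  intro y
  obtain ⟨e⟩ := Groth.Agent.H8.nonempty_stalk_tensorMod_equiv A T y
  haveI := Groth.Agent.H8.subsingleton_stalk_of_isZero _ h y
  haveI hs : Subsingleton ((A.presheaf.stalk y) ⊗[Y.presheaf.stalk y] (T.presheaf.stalk y)) :=
    e.symm.toEquiv.subsingleton
  haveI := Groth.Agent.H17.KerLocFree.free_stalk_of_isFinLocFree hA y
  haveI := hne y
  haveI : Module.FaithfullyFlat (Y.presheaf.stalk y) (A.presheaf.stalk y) := inferInstance
  exact (Module.FaithfullyFlat.subsingleton_tensorProduct_iff_right (Y.presheaf.stalk y)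
    (A.presheaf.stalk y) (N := T.presheaf.stalk y)).mp hs

end Groth.Agent.H58.TensorFaithful
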