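import Mathlib
import Groth.Agent.H58.TildeSec
import Groth.Agent.H46.TorsInj

/-!
# `I~` is flasque on `Spec A` for an injective module `I` over a Noetherian ring `A`
-/

set_option autoImplicit false
set_option linter.style.haveILetI false
universe u
open AlgebraicGeometry CategoryTheory Opposite TopologicalSpace
open Groth.Agent.H58

namespace Groth.Agent.H58.TildeFlasque

variable {R : Type u} [CommRing R] [IsNoetherianRing R] (M : Type u) [AddCommGroup M] [Module R M]

lemma ker_toSec_eq (a : Ideal R) :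
    LinearMap.ker (TS.toSec M (LocCoh.puncturedOpen R a)) = DRing.torsionSub a M := by
  rw [TS.ker_toSec M a (IsNoetherian.noetherian a)]
  have hmono : Monotone (fun n : ℕ => LocCoh.torsionBy (a ^ n) M) := by
    intro n k hnk
    exact Submodule.torsionBySet_le_torsionBySet_of_subset (Ideal.pow_le_pow_right hnk)
  ext m
  rw [Submodule.mem_iSup_of_directed _ hmono.directed_le]
  constructor
  · rintro ⟨n, hn⟩
    rw [Submodule.mem_torsionBySet_iff] at hn
    exact ⟨n, fun r hr => hn ⟨r, hr⟩⟩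
  · intro hm
    obtain ⟨n, hn⟩ : ∃ n : ℕ, ∀ r ∈ a ^ n, r • m = 0 := hm
    refine ⟨n, ?_⟩
    rw [Submodule.mem_torsionBySet_iff]
    rintro ⟨r, hr⟩
    exact hn r hr

theorem toSec_surjective [Module.Injective R M] (a : Ideal R) :
    Function.Surjective (TS.toSec M (LocCoh.puncturedOpen R a)) := by
  set U := LocCoh.puncturedOpen R a with hU
  set ε := TS.toSec M U with hε
  set K := LinearMap.ker ε with hK
  intro σ
  haveI : Module.Injective R ↥K := by
    rw [hK, hε, hU, ker_toSec_eq]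
    exact Groth.Agent.H46.TorsInj.injective_torsionSub a M
  obtain ⟨ρ, hρ⟩ := Module.Injective.out (Q := ↥K) K.subtype K.injective_subtype LinearMap.id
  let π' : M →ₗ[R] M := LinearMap.id - K.subtype ∘ₗ ρ
  have hπ'K : K ≤ LinearMap.ker π' := by
    intro k hk
    rw [LinearMap.mem_ker]
    have h1 := hρ ⟨k, hk⟩
    simp only [Submodule.subtype_apply, LinearMap.id_apply] at h1
    simp only [π', LinearMap.sub_apply, LinearMap.id_apply, LinearMap.comp_apply,
      Submodule.subtype_apply, h1, sub_self]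
  have hεπ' : ∀ m, ε (π' m) = ε m := by
    intro m
    have h1 : ε (ρ m : M) = 0 := (ρ m).2
    simp only [π', LinearMap.sub_apply, LinearMap.id_apply, LinearMap.comp_apply,
      Submodule.subtype_apply, map_sub, h1, sub_zero]
  let π'bar : (M ⧸ K) →ₗ[R] M := K.liftQ π' hπ'K
  let e := ε.quotKerEquivRange
  have hkey : ∀ y : ↥(LinearMap.range ε), ε (π'bar (e.symm y)) = (y : TS.sec M U) := by
    intro y
    obtain ⟨m₀, hm₀⟩ := Submodule.Quotient.mk_surjective K (e.symm y)
    rw [← hm₀]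
    have h1 : π'bar (Submodule.Quotient.mk m₀) = π' m₀ := Submodule.liftQ_apply K π' m₀
    rw [h1, hεπ']
    have h2 : e (Submodule.Quotient.mk m₀) = y := by rw [hm₀, LinearEquiv.apply_symm_apply]
    rw [← h2]
    exact (LinearMap.quotKerEquivRange_apply_mk ε m₀).symm
  obtain ⟨n, hn⟩ := TS.exists_pow_smul_mem_range M a σ
  let μ : ↥(a ^ n) →ₗ[R] TS.sec M U := (LinearMap.toSpanSingleton R _ σ) ∘ₗ (a ^ n).subtype
  have hμ : ∀ r : ↥(a ^ n), μ r = (r : R) • σ := fun r => rfl
  let μ' : ↥(a ^ n) →ₗ[R] ↥(LinearMap.range ε) :=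
    μ.codRestrict _ (fun r => by rw [hμ]; exact hn r r.2)
  let ψ : ↥(a ^ n) →ₗ[R] M := π'bar ∘ₗ e.symm.toLinearMap ∘ₗ μ'
  have hψ : ∀ r : ↥(a ^ n), ε (ψ r) = (r : R) • σ := by
    intro r
    show ε (π'bar (e.symm (μ' r))) = _
    rw [hkey]
    exact hμ r
  obtain ⟨h, hh⟩ := Module.Injective.out (Q := M) (a ^ n).subtype (a ^ n).injective_subtype ψ
  refine ⟨h 1, ?_⟩
  have h3 : ∀ r ∈ a ^ n, r • (ε (h 1) - σ) = 0 := by
    intro r hr
    have h4 : r • h 1 = ψ ⟨r, hr⟩ := by
      have h5 := hh ⟨r, hr⟩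
      rw [← h5, ← map_smul]
      congr 1
      simp
    rw [smul_sub, ← map_smul, h4, hψ, sub_self]
  have h5 : ε (h 1) - σ ∈ (⨆ k : ℕ, LocCoh.torsionBy (a ^ k) (TS.sec M U)) := by
    apply Submodule.mem_iSup_of_mem n
    rw [Submodule.mem_torsionBySet_iff]
    rintro ⟨r, hr⟩
    exact h3 r hr
  rw [TS.torsion_sec_eq_bot, Submodule.mem_bot, sub_eq_zero] at h5
  exact h5

omit [IsNoetherianRing R] in
theorem exists_punctured' (W : TopologicalSpace.Opens (PrimeSpectrum R)) :
    ∃ a : Ideal R, (PrimeSpectrum.zeroLocus (a : Set R))ᶜ = (W : Set (PrimeSpectrum R)) := by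
  have hcl : IsClosed ((W : Set (PrimeSpectrum R))ᶜ) := W.2.isClosed_compl
  obtain ⟨b, hb⟩ := (PrimeSpectrum.isClosed_iff_zeroLocus_ideal _).1 hcl
  exact ⟨b, by rw [← hb, compl_compl]⟩

omit [IsNoetherianRing R] in
theorem exists_punctured (W : (Spec (CommRingCat.of R)).Opens) :
    ∃ a : Ideal R, LocCoh.puncturedOpen R a = W := by
  obtain ⟨a, ha⟩ := exists_punctured' (R := R) W
  exact ⟨a, TopologicalSpace.Opens.ext ha⟩

theorem res_surjective [Module.Injective R M] {U V : (Spec (CommRingCat.of R)).Opens}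
    (hUV : U ≤ V) : Function.Surjective (TS.res M hUV) := by
  intro σ
  obtain ⟨a, rfl⟩ := exists_punctured (R := R) U
  obtain ⟨m, rfl⟩ := toSec_surjective M a σ
  exact ⟨TS.toSec M V m, TS.res_toSec M hUV m⟩

end Groth.Agent.H58.TildeFlasque
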