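import Groth.Statements.S17988
import Mathlib
import Groth.Agent.H60.InjLoc
import Groth.Agent.H54.IntegralDim

/-!
# Torsionless and reflexive modules over finite free reduced algebras over a PID (helper58)
-/

set_option autoImplicit false
universe u
open CategoryTheory

namespace Groth.Agent.H58.Torsionless

section Semisimple

variable {Λ : Type u} [CommRing Λ] [IsDomain Λ]
  {S : Type u} [CommRing S] [Algebra Λ S] [Module.Finite Λ S] [Module.Free Λ S] [IsReduced S]
  {M : Type u} [AddCommGroup M] [Module S M] [Module Λ M] [IsScalarTower Λ S M] [Module.Finite S M]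

/-- A `Λ`-torsion-free finite `S`-module has enough `S`-linear functionals. -/
theorem exists_dual_ne_zero [Module.IsTorsionFree Λ M] (x : M) (hx : x ≠ 0) :
    ∃ f : M →ₗ[S] S, f x ≠ 0 := by
  classical
  let T : Submonoid S := Algebra.algebraMapSubmonoid S (nonZeroDivisors Λ)
  let S' := Localization T
  let M' := LocalizedModule T M
  let K := FractionRing Λ
  haveI : Module.Finite K S' := Module.Finite.of_isLocalization Λ S (nonZeroDivisors Λ)
  haveI : IsArtinianRing S' := IsArtinianRing.of_finite K S'
  haveI : IsReduced S' := isReduced_localizationPreserves T S' inferInstance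
  haveI : IsSemisimpleRing S' := IsArtinianRing.isSemisimpleRing_of_isReduced S'
  haveI : Module.Projective S' M' := Module.projective_of_isSemisimpleRing S' M'
  haveI : Module.IsTorsionFree Λ S := inferInstance
  let ι : M →ₗ[S] M' := LocalizedModule.mkLinearMap T M
  have hy : ι x ≠ 0 := by
    intro h0
    obtain ⟨⟨_, r, hr, rfl⟩, hs⟩ := (IsLocalizedModule.eq_zero_iff T ι).1 h0
    have : r • x = 0 := by rw [← algebraMap_smul S r x]; exact hs
    exact hx ((smul_eq_zero.1 this).resolve_left (nonZeroDivisors.ne_zero hr))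
  obtain ⟨s, hs⟩ := (Module.projective_def' (R := S') (P := M')).1 inferInstance
  have hsy : s (ι x) ≠ 0 := by
    intro h0
    apply hy
    have := LinearMap.congr_fun hs (ι x)
    simp only [LinearMap.comp_apply, h0, map_zero, LinearMap.id_apply] at this
    exact this.symm
  obtain ⟨n, hn⟩ : ∃ n, (s (ι x)) n ≠ 0 := by
    by_contra hcon
    push Not at hcon
    exact hsy (Finsupp.ext hcon)
  let g : M' →ₗ[S'] S' := (Finsupp.lapply n) ∘ₗ s
  have hg : g (ι x) ≠ 0 := hn
  let g₀ : M →ₗ[S] S' := (g.restrictScalars S) ∘ₗ ι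
  obtain ⟨G, hG⟩ := (Module.finite_def.1 ‹Module.Finite S M›)
  obtain ⟨b, hb⟩ := IsLocalization.exist_integer_multiples_of_finset T (G.image g₀)
  let R₀ : Submodule S S' := LinearMap.range (Algebra.linearMap S S')
  have hmem : ∀ m : M, ((b : S) • g₀) m ∈ R₀ := by
    intro m
    have hm : m ∈ Submodule.span S (G : Set M) := by rw [hG]; trivial
    rw [LinearMap.smul_apply]
    induction hm using Submodule.span_induction with
    | mem z hz =>
      obtain ⟨a, ha⟩ := hb (g₀ z) (Finset.mem_image_of_mem _ hz)
      exact ⟨a, ha⟩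
    | zero => rw [map_zero, smul_zero]; exact R₀.zero_mem
    | add z w _ _ hz hw => rw [map_add, smul_add]; exact R₀.add_mem hz hw
    | smul c z _ hz => rw [map_smul, smul_comm]; exact R₀.smul_mem c hz
  have hinj : Function.Injective (Algebra.linearMap S S') := by
    rw [← LinearMap.ker_eq_bot, LinearMap.ker_eq_bot']
    intro a ha
    rw [Algebra.linearMap_apply] at ha
    obtain ⟨⟨_, r, hr, rfl⟩, hm⟩ := (IsLocalization.map_eq_zero_iff T S' a).1 ha
    have : r • a = 0 := by rw [Algebra.smul_def]; exact hm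
    exact (smul_eq_zero.1 this).resolve_left (nonZeroDivisors.ne_zero hr)
  let e := LinearEquiv.ofInjective (Algebra.linearMap S S') hinj
  let f : M →ₗ[S] S := e.symm.toLinearMap ∘ₗ (LinearMap.codRestrict R₀ ((b : S) • g₀) hmem)
  refine ⟨f, ?_⟩
  intro hfx
  have h1 : Algebra.linearMap S S' (f x) = (b : S) • g₀ x := by
    have := e.apply_symm_apply (LinearMap.codRestrict R₀ ((b : S) • g₀) hmem x)
    exact congrArg Subtype.val this
  rw [hfx, map_zero] at h1
  have hbu : IsUnit (algebraMap S S' b) := IsLocalization.map_units S' b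
  have h2 : algebraMap S S' b * g (ι x) = 0 := by rw [← Algebra.smul_def]; exact h1.symm
  exact hg ((hbu.mul_right_eq_zero).1 h2)

/-- (i): torsionless iff `Λ`-free. -/
theorem eval_injective_iff_free [IsPrincipalIdealRing Λ] :
    Function.Injective (Module.Dual.eval S M) ↔ Module.Free Λ M := by
  haveI : Module.Finite Λ M := Module.Finite.trans S M
  haveI : Module.IsTorsionFree Λ S := inferInstance
  constructor
  · intro h
    haveI : Module.IsTorsionFree Λ M := by
      rw [Module.isTorsionFree_iff_smul_eq_zero]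
      intro r m hrm
      by_cases hr : r = 0
      · exact Or.inl hr
      · right
        apply h
        rw [map_zero]
        ext f
        have h1 : r • f m = 0 := by rw [← LinearMap.map_smul_of_tower, hrm, map_zero]
        have h2 := (smul_eq_zero.1 h1).resolve_left hr
        simpa using h2
    infer_instance
  · intro hfree
    haveI : Module.IsTorsionFree Λ M := inferInstance
    rw [injective_iff_map_eq_zero]
    intro x hx
    by_contra hx0
    obtain ⟨f, hf⟩ := exists_dual_ne_zero (Λ := Λ) (S := S) x hx0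
    exact hf (by simpa using LinearMap.congr_fun hx f)

end Semisimple

section Reflexive

variable {S : Type u} [CommRing S]

/-- If `X ↪ P` with `P` projective and `id_S S ≤ 1`, then `Ext¹(X, S) = 0`. -/
theorem ext_one_eq_zero_of_injective_to_projective
    (hinj : HasInjectiveDimensionLT (ModuleCat.of S S) 2)
    {X P : Type u} [AddCommGroup X] [Module S X] [AddCommGroup P] [Module S P]
    [Module.Projective S P] (φ : X →ₗ[S] P) (hφ : Function.Injective φ)
    (e : Abelian.Ext (ModuleCat.of S X) (ModuleCat.of S S) 1) : e = 0 := by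
  let T : ShortComplex (ModuleCat.{u} S) :=
    ModuleCat.shortComplexOfCompEqZero φ (LinearMap.range φ).mkQ
      φ.exact_map_mkQ_range.linearMap_comp_eq_zero
  have hT : T.ShortExact := ModuleCat.shortComplex_shortExact T φ.exact_map_mkQ_range hφ
    (Submodule.mkQ_surjective _)
  have keyP : ∀ e : Abelian.Ext (ModuleCat.of S P) (ModuleCat.of S S) 1, e = 0 := by
    have : Projective (ModuleCat.of S P) :=
      (IsProjective.iff_projective (R := S) P).mp inferInstance
    exact fun e => Abelian.Ext.eq_zero_of_projective e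
  have h2 : hT.extClass.comp e (show 1 + 1 = 2 by rfl) = 0 :=
    Abelian.Ext.eq_zero_of_hasInjectiveDimensionLT _ 2 le_rfl
  obtain ⟨x₂, hx₂⟩ := Abelian.Ext.contravariant_sequence_exact₁ hT (ModuleCat.of S S) e
    (show 1 + 1 = 2 by rfl) h2
  rw [← hx₂, keyP x₂, Abelian.Ext.comp_zero]

/-- If `Ext¹(coker φ, S) = 0` for an injective `φ`, functionals extend along `φ`. -/
theorem exists_extension_of_ext_one_eq_zero
    {X₁ X₂ : Type u} [AddCommGroup X₁] [Module S X₁] [AddCommGroup X₂] [Module S X₂]
    (φ : X₁ →ₗ[S] X₂) (hφ : Function.Injective φ)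
    (hE : ∀ e : Abelian.Ext (ModuleCat.of S (X₂ ⧸ LinearMap.range φ)) (ModuleCat.of S S) 1,
      e = 0)
    (ξ : X₁ →ₗ[S] S) : ∃ Ξ : X₂ →ₗ[S] S, Ξ ∘ₗ φ = ξ := by
  let T : ShortComplex (ModuleCat.{u} S) :=
    ModuleCat.shortComplexOfCompEqZero φ (LinearMap.range φ).mkQ
      φ.exact_map_mkQ_range.linearMap_comp_eq_zero
  have hT : T.ShortExact := ModuleCat.shortComplex_shortExact T φ.exact_map_mkQ_range hφ
    (Submodule.mkQ_surjective _)
  obtain ⟨x₂, hx₂⟩ := Abelian.Ext.contravariant_sequence_exact₁ hT (ModuleCat.of S S)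
    (Abelian.Ext.mk₀ (ModuleCat.ofHom ξ)) (show 1 + 0 = 1 by rfl) (hE _)
  obtain ⟨g, rfl⟩ := (Abelian.Ext.mk₀_bijective _ _).2 x₂
  rw [Abelian.Ext.mk₀_comp_mk₀] at hx₂
  have h3 := (Abelian.Ext.mk₀_bijective _ _).1 hx₂
  refine ⟨g.hom, ?_⟩
  have h4 := congrArg ModuleCat.Hom.hom h3
  exact h4

/-- Over a Noetherian ring with `id_S S ≤ 1`, the biduality map of every finite module is
surjective. -/
theorem eval_surjective_of_injDim [IsNoetherianRing S]
    (hinj : HasInjectiveDimensionLT (ModuleCat.of S S) 2)
    (M : Type u) [AddCommGroup M] [Module S M] [Module.Finite S M] :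
    Function.Surjective (Module.Dual.eval S M) := by
  classical
  obtain ⟨k, q, hq⟩ := Module.Finite.exists_fin' S M
  let N : Submodule S (Fin k → S) := LinearMap.ker q
  haveI : Module.Finite S N := inferInstance
  obtain ⟨j, p, hp⟩ := Module.Finite.exists_fin' S N
  let φ : Module.Dual S M →ₗ[S] Module.Dual S (Fin k → S) := q.dualMap
  have hφ : Function.Injective φ := LinearMap.dualMap_injective_of_surjective hq
  let ρ : Module.Dual S (Fin k → S) →ₗ[S] Module.Dual S (Fin j → S) :=
    p.dualMap ∘ₗ N.subtype.dualMap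
  have hρ : ∀ (f : Module.Dual S (Fin k → S)) (y : Fin j → S), ρ f y = f ((p y : N) : Fin k → S) :=
    fun f y => rfl
  have hker : LinearMap.ker ρ = LinearMap.range φ := by
    ext f
    constructor
    · intro hf
      have hfN : ∀ x ∈ N, f x = 0 := by
        intro x hx
        obtain ⟨y, hy⟩ := hp ⟨x, hx⟩
        have h1 := LinearMap.congr_fun (LinearMap.mem_ker.1 hf) y
        rw [hρ, hy] at h1
        exact h1
      have hle : N ≤ LinearMap.ker f := fun x hx => LinearMap.mem_ker.2 (hfN x hx)
      let fbar : M →ₗ[S] S :=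
        (Submodule.liftQ N f hle) ∘ₗ
          (q.quotKerEquivOfSurjective hq).symm.toLinearMap
      refine ⟨fbar, ?_⟩
      apply LinearMap.ext
      intro x
      have h1 : (q.quotKerEquivOfSurjective hq).symm (q x) = Submodule.Quotient.mk x := by
        rw [LinearEquiv.symm_apply_eq]
        exact (LinearMap.quotKerEquivOfSurjective_apply_mk q hq x).symm
      change fbar (q x) = f x
      change (Submodule.liftQ N f hle) ((q.quotKerEquivOfSurjective hq).symm (q x)) = f x
      rw [h1]
      exact Submodule.liftQ_apply _ _ _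
    · rintro ⟨g, rfl⟩
      rw [LinearMap.mem_ker]
      apply LinearMap.ext
      intro y
      rw [hρ]
      change g (q ((p y : N) : Fin k → S)) = 0
      have h1 : q ((p y : N) : Fin k → S) = 0 := LinearMap.mem_ker.1 (p y).2
      rw [h1, map_zero]
  let ρbar : (Module.Dual S (Fin k → S) ⧸ LinearMap.range φ) →ₗ[S] Module.Dual S (Fin j → S) :=
    Submodule.liftQ _ ρ (le_of_eq hker.symm)
  have hρbar : Function.Injective ρbar := by
    rw [← LinearMap.ker_eq_bot]
    exact Submodule.ker_liftQ_eq_bot _ _ _ (le_of_eq hker)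
  have hE : ∀ e : Abelian.Ext
      (ModuleCat.of S (Module.Dual S (Fin k → S) ⧸ LinearMap.range φ)) (ModuleCat.of S S) 1,
      e = 0 :=
    fun e => ext_one_eq_zero_of_injective_to_projective hinj ρbar hρbar e
  intro ξ
  obtain ⟨Ξ, hΞ⟩ := exists_extension_of_ext_one_eq_zero φ hφ hE ξ
  obtain ⟨v, hv⟩ := (Module.bijective_dual_eval S (Fin k → S)).2 Ξ
  refine ⟨q v, ?_⟩
  apply LinearMap.ext
  intro g
  have h1 : Ξ (φ g) = ξ g := LinearMap.congr_fun hΞ g
  rw [← h1, ← hv]
  rfl

end Reflexive

end Groth.Agent.H58.Torsionless
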