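import Mathlib

/-!
# Unmixed height-one ideals in a local unique factorization domain are principal
-/

universe u

namespace Groth.Agent.H58.UFDPrin

open IsLocalRing

theorem isPrincipal_of_unmixed (A : Type u) [CommRing A] [IsDomain A] [IsNoetherianRing A]
    [IsLocalRing A] [UniqueFactorizationMonoid A] (I : Ideal A) (hI0 : I ≠ ⊥)
    (hI : ∀ q ∈ associatedPrimes A (A ⧸ I), q.height = 1) :
    ∃ g : A, g ≠ 0 ∧ I = Ideal.span {g} := by
  let S : Set (Ideal A) := {J | ∃ g : A, g ≠ 0 ∧ I = Ideal.span {g} * J}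
  have hSne : S.Nonempty :=
    ⟨I, 1, one_ne_zero, by rw [Ideal.span_singleton_one, Ideal.top_mul]⟩
  obtain ⟨J, ⟨g, hg, hIJ⟩, hmax⟩ :=
    set_has_maximal_iff_noetherian.2 (inferInstance : IsNoetherian A A) S hSne
  by_cases hJ : J = ⊤
  · exact ⟨g, hg, by rw [hIJ, hJ, Ideal.mul_top]⟩
  · exfalso
    haveI : Nontrivial (A ⧸ J) := Ideal.Quotient.nontrivial_iff.2 hJ
    obtain ⟨Q, hQ⟩ := associatedPrimes.nonempty A (A ⧸ J)
    obtain ⟨hQp, ybar, hy⟩ := isAssociatedPrime_iff.1 hQ
    haveI := hQp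
    obtain ⟨y, rfl⟩ := Ideal.Quotient.mk_surjective ybar
    have hQmem : ∀ a : A, a ∈ Q ↔ a * y ∈ J := by
      intro a
      rw [hy, Submodule.mem_colon_singleton, Submodule.mem_bot, ← Ideal.Quotient.eq_zero_iff_mem]
      rfl
    have hQI : Q ∈ associatedPrimes A (A ⧸ I) := by
      show IsAssociatedPrime Q (A ⧸ I)
      rw [isAssociatedPrime_iff]
      refine ⟨hQp, Ideal.Quotient.mk I (g * y), ?_⟩
      ext a
      rw [Submodule.mem_colon_singleton, Submodule.mem_bot, hQmem]
      have h1 : a • (Ideal.Quotient.mk I (g * y)) = Ideal.Quotient.mk I (a * (g * y)) := rfl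
      rw [h1, Ideal.Quotient.eq_zero_iff_mem, hIJ]
      constructor
      · intro h
        have h2 : a * (g * y) = g * (a * y) := by ring
        rw [h2]
        exact Ideal.mul_mem_mul (Ideal.mem_span_singleton_self g) h
      · intro h
        rw [Ideal.mem_span_singleton_mul] at h
        obtain ⟨z, hz, hzx⟩ := h
        have h2 : g * z = g * (a * y) := by rw [hzx]; ring
        rw [← mul_left_cancel₀ hg h2]
        exact hz
    have hQht := hI Q hQI
    have hJQ : J ≤ Q := fun j hj => (hQmem j).2 (Ideal.mul_mem_right y J hj)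
    have hQ0 : Q ≠ ⊥ := by
      intro h
      rw [h, Ideal.height_bot] at hQht
      exact zero_ne_one hQht
    obtain ⟨π, hπQ, hπ⟩ := Ideal.IsPrime.exists_mem_prime_of_ne_bot hQp hQ0
    have hQeq : Q = Ideal.span {π} := by
      have hle : Ideal.span {π} ≤ Q := (Ideal.span_singleton_le_iff_mem _).2 hπQ
      haveI : (Ideal.span {π}).IsPrime := (Ideal.span_singleton_prime hπ.ne_zero).2 hπ
      by_contra hne
      have hlt : Ideal.span {π} < Q := lt_of_le_of_ne hle (Ne.symm hne)
      have h1 : 1 ≤ (Ideal.span {π}).height := by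
        rw [Order.one_le_iff_ne_zero]
        intro h0
        exact hπ.ne_zero (Ideal.span_singleton_eq_bot.1 (Ideal.height_eq_zero_iff_eq_bot.1 h0))
      have h2 : (Ideal.span {π}).height < Q.height := Ideal.height_strict_mono_of_isPrime hlt
      rw [hQht] at h2
      exact absurd h1 (not_le.2 h2)
    let J'' : Ideal A := Submodule.comap (LinearMap.mul A A π) J
    have hJ''mem : ∀ z, z ∈ J'' ↔ π * z ∈ J := fun z => Iff.rfl
    have hJeq : J = Ideal.span {π} * J'' := by
      ext j
      rw [Ideal.mem_span_singleton_mul]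
      constructor
      · intro hj
        have hjQ : j ∈ Ideal.span {π} := hQeq ▸ hJQ hj
        obtain ⟨z, rfl⟩ := Ideal.mem_span_singleton'.1 hjQ
        exact ⟨z, by rw [hJ''mem, mul_comm]; exact hj, mul_comm _ _⟩
      · rintro ⟨z, hz, rfl⟩
        exact hz
    have hJ''S : J'' ∈ S := by
      refine ⟨g * π, mul_ne_zero hg hπ.ne_zero, ?_⟩
      rw [← Ideal.span_singleton_mul_span_singleton, mul_assoc, ← hJeq]
      exact hIJ
    have hJJ'' : J ≤ J'' := fun j hj => Ideal.mul_mem_left J π hj
    have hEq : J = J'' := by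
      by_contra hne
      exact hmax J'' hJ''S (lt_of_le_of_ne hJJ'' hne)
    have hJbot : J = ⊥ := by
      apply Submodule.eq_bot_of_le_smul_of_le_jacobson_bot (Ideal.span {π}) J
        (IsNoetherian.noetherian J)
      · rw [smul_eq_mul]
        conv_lhs => rw [hJeq, ← hEq]
      · rw [IsLocalRing.jacobson_eq_maximalIdeal ⊥ bot_ne_top, Ideal.span_singleton_le_iff_mem]
        exact IsLocalRing.le_maximalIdeal hQp.ne_top hπQ
    rw [hJbot, Ideal.mul_bot] at hIJ
    exact hI0 hIJ

end Groth.Agent.H58.UFDPrin
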