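import Mathlib
import Groth.Prelude.Def_PBC
import Groth.Prelude.Def_ProEtS
import Groth.Agent.H23.WCDefs
import Groth.Agent.S7178

/-!
# S0715 squad (L1): sections of weakly étale surjections onto an affine scheme with
w-contractible ring
-/

set_option autoImplicit false
set_option backward.isDefEq.respectTransparency.types false
universe u v
open CategoryTheory CategoryTheory.Limits AlgebraicGeometry Opposite
open Groth.Agent.H23.WCDefs

namespace Groth.Agent.H58.WC_L1

theorem exists_section_of_isWContractible {U Y : Scheme.{u}} [IsAffine U] [IsAffine Y]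
    (q : Y ⟶ U) [WeaklyEtale q] [Surjective q] (h : EtPBC.IsWContractible ↥(Γ(U, ⊤))) :
    ∃ σ : U ⟶ Y, σ ≫ q = 𝟙 U := by
  have hq : Spec.map q.appTop = Y.isoSpec.inv ≫ q ≫ U.isoSpec.hom := by
    rw [← Scheme.isoSpec_hom_naturality, Iso.inv_hom_id_assoc]
  have hwe : WeaklyEtale (Spec.map q.appTop) := by
    rw [hq]; infer_instance
  have hsurj : Surjective (Spec.map q.appTop) := by
    rw [hq]; infer_instance
  have hflat : Flat (Spec.map q.appTop) := inferInstance
  have hff : q.appTop.hom.FaithfullyFlat :=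
    (flat_and_surjective_SpecMap_iff _).1 ⟨hflat, hsurj⟩
  have hW := (Groth.Agent.S7178.weaklyEtale_SpecMap_iff q.appTop).1 hwe
  letI := q.appTop.hom.toAlgebra
  obtain ⟨r⟩ := h Γ(Y, ⊤) hff hW
  have hr : q.appTop ≫ CommRingCat.ofHom r.toRingHom = 𝟙 _ := by
    ext x
    exact r.commutes x
  refine ⟨U.isoSpec.hom ≫ Spec.map (CommRingCat.ofHom r.toRingHom) ≫ Y.isoSpec.inv, ?_⟩
  rw [Category.assoc, Category.assoc, ← Scheme.isoSpec_inv_naturality, ← Spec.map_comp_assoc, hr,
    Spec.map_id, Category.id_comp, Iso.hom_inv_id]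

end Groth.Agent.H58.WC_L1
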