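import Mathlib
import Groth.Prelude.Def_PBC
import Groth.Prelude.Def_ProEtS
import Groth.Agent.H23.WCDefs
import Groth.Agent.H23.WCover

/-!
# S0715 squad (L2): an affine scheme over which all affine weakly étale surjections split has a
w-contractible ring
-/

set_option autoImplicit false
set_option backward.isDefEq.respectTransparency.types false
universe u v
open CategoryTheory CategoryTheory.Limits AlgebraicGeometry Opposite
open Groth.Agent.H23.WCDefs

namespace Groth.Agent.H58.WC_L2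

theorem isWContractible_of_sections {U : Scheme.{u}} [IsAffine U]
    (h : ∀ (Y : Scheme.{u}) (_ : IsAffine Y) (q : Y ⟶ U) (_ : WeaklyEtale q) (_ : Surjective q),
      ∃ σ : U ⟶ Y, σ ≫ q = 𝟙 U) : EtPBC.IsWContractible ↥(Γ(U, ⊤)) := by
  intro B _ _ hff hwe
  haveI := hff
  haveI := hwe
  have hwe' := Groth.Agent.H23.WCover.weaklyEtale_SpecMap Γ(U, ⊤) B
  have hs' := Groth.Agent.H23.WCover.surjective_SpecMap Γ(U, ⊤) B
  set φ : Γ(U, ⊤) ⟶ CommRingCat.of B := CommRingCat.ofHom (algebraMap Γ(U, ⊤) B) with hφdef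
  obtain ⟨σ, hσ⟩ := h (Spec (CommRingCat.of B)) inferInstance (Spec.map φ ≫ U.isoSpec.inv)
    inferInstance inferInstance
  let ρ : CommRingCat.of B ⟶ Γ(U, ⊤) := Spec.preimage (U.isoSpec.inv ≫ σ)
  have hρ : Spec.map ρ = U.isoSpec.inv ≫ σ := Spec.map_preimage _
  have h1 : Spec.map (φ ≫ ρ) = Spec.map (𝟙 _) := by
    rw [Spec.map_comp, hρ, Spec.map_id, Category.assoc]
    have h2 : σ ≫ Spec.map φ = U.isoSpec.hom := by
      have := congrArg (· ≫ U.isoSpec.hom) hσ
      simpa using this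
    rw [h2, Iso.inv_hom_id]
  have h3 : φ ≫ ρ = 𝟙 _ := Spec.map_injective h1
  refine ⟨{ toRingHom := ρ.hom, commutes' := fun a => ?_ }⟩
  have := congrArg (fun f => f.hom a) h3
  exact this

end Groth.Agent.H58.WC_L2
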