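import Mathlib
import Groth.Agent.S17984
import Groth.Agent.H59.Goren1
import Groth.Agent.H54.IntegralDim

/-!
# The minimal central order of a family of Weil numbers (helper58)

* `exists_h`: existence of the symmetric polynomial `h` with `F^D h ≡ P_w(F)` mod `FV - q`.
* `aeval_div_eq_zero`: if all complex roots of a monic integer polynomial `P` have absolute value
  `√q`, then `q / x` is a root of `P` whenever `x ≠ 0` is.
* `gorenstein_range`: the image of `ℤ[F, V] → A` with kernel `(g, h)`, `g, h` regular, is Gorenstein.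
* `order_props`: freeness, rank and dimension of `ℤ[F, V] ⊆ A`.
-/

set_option autoImplicit false
universe u
open MvPolynomial

namespace Groth.Agent.H58.WeilOrder

abbrev BB := MvPolynomial (Fin 2) ℤ

section ExistsH

theorem term_ge (c : ℤ) (D m : ℕ) :
    (X 0 : BB) ^ D * (C c * X 0 ^ m) - c • (X 0 : BB) ^ (D + m) = 0 := by
  rw [MvPolynomial.smul_eq_C_mul, pow_add]
  ring

theorem term_lt (q c dk : ℤ) (k m : ℕ) (hc : c = q ^ m * dk) :
    (X 0 : BB) ^ (k + m) * (C dk * X 1 ^ m) - c • (X 0 : BB) ^ k ∈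
      Ideal.span ({X 0 * X 1 - C q} : Set BB) := by
  have e : (X 0 : BB) ^ (k + m) * (C dk * X 1 ^ m) - c • (X 0 : BB) ^ k =
      (C dk * X 0 ^ k) * ((X 0 * X 1) ^ m - (C q) ^ m) := by
    rw [MvPolynomial.smul_eq_C_mul, hc, pow_add, map_mul, map_pow, mul_pow]
    ring
  rw [e]
  exact Ideal.mul_mem_left _ _ (Ideal.mem_span_singleton.2 (sub_dvd_pow_sub_pow _ _ m))

theorem exists_h (q : ℤ) (D : ℕ) (Pw : Polynomial ℤ) (hdeg : Pw.natDegree = 2 * D)
    (hP : ∀ k, q ^ (D - k) ∣ Pw.coeff k) :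
    ∃ h : BB, X 0 ^ D * h - Polynomial.aeval (X 0 : BB) Pw ∈
      Ideal.span ({X 0 * X 1 - C q} : Set BB) := by
  choose d hd using hP
  refine ⟨∑ k ∈ Finset.range (2 * D + 1),
    (if D ≤ k then C (Pw.coeff k) * X 0 ^ (k - D) else C (d k) * X 1 ^ (D - k)), ?_⟩
  rw [Polynomial.aeval_eq_sum_range, hdeg, Finset.mul_sum, ← Finset.sum_sub_distrib]
  refine Ideal.sum_mem _ (fun k _ => ?_)
  by_cases hk : D ≤ k
  · rw [if_pos hk]
    have hk' : D + (k - D) = k := by omega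
    have h1 := term_ge (Pw.coeff k) D (k - D)
    rw [hk'] at h1
    rw [h1]
    exact Ideal.zero_mem _
  · rw [if_neg hk]
    have hk' : k + (D - k) = D := by omega
    have h1 := term_lt q (Pw.coeff k) (d k) k (D - k) (hd k)
    rw [hk'] at h1
    exact h1

end ExistsH

section RootDiv

theorem aeval_div_eq_zero (P : Polynomial ℤ) (hP : P.Monic) (q : ℤ) (hq : 0 < q)
    (hweil : ∀ z ∈ P.aroots ℂ, ‖z‖ = Real.sqrt ((q : ℤ) : ℝ))
    {K : Type*} [Field K] [CharZero K] (x : K) (hx0 : x ≠ 0) (hx : Polynomial.aeval x P = 0) :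
    Polynomial.aeval ((q : K) / x) P = 0 := by
  have H := Groth.Agent.H65.WeilCoef.weil_coef P hP ((q : ℤ) : ℝ) (by exact_mod_cast hq) hweil
  obtain ⟨n, hn⟩ : ∃ n, n = P.natDegree := ⟨_, rfl⟩
  rw [← hn] at H
  have hI : ∀ k ≤ n, P.coeff (n - k) * q ^ (n - k) = P.coeff 0 * P.coeff k := by
    intro k hk
    have h1 := H k hk
    exact_mod_cast h1
  have key : x ^ n * Polynomial.aeval ((q : K) / x) P =
      (P.coeff 0 : K) * Polynomial.aeval x P := by
    rw [Polynomial.aeval_eq_sum_range, Polynomial.aeval_eq_sum_range, ← hn, Finset.mul_sum,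
      Finset.mul_sum]
    rw [← Finset.sum_range_reflect (fun k => x ^ n * (P.coeff k • ((q : K) / x) ^ k)) (n + 1)]
    refine Finset.sum_congr rfl (fun j hj => ?_)
    have hj' : j ≤ n := by rw [Finset.mem_range] at hj; omega
    have e1 : n + 1 - 1 - j = n - j := by omega
    rw [e1]
    have h2 := hI j hj'
    have h3 : x ^ n = x ^ j * x ^ (n - j) := by rw [← pow_add]; congr 1; omega
    have hxn : x ^ (n - j) ≠ 0 := pow_ne_zero _ hx0
    have h4 : ((P.coeff (n - j) : ℤ) : K) * (q : K) ^ (n - j) =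
        ((P.coeff 0 : ℤ) : K) * ((P.coeff j : ℤ) : K) := by
      exact_mod_cast congrArg (Int.cast : ℤ → K) h2
    rw [zsmul_eq_mul, zsmul_eq_mul, h3, div_pow]
    calc x ^ j * x ^ (n - j) * (((P.coeff (n - j) : ℤ) : K) * ((q : K) ^ (n - j) / x ^ (n - j)))
        = x ^ j * (((P.coeff (n - j) : ℤ) : K) * (q : K) ^ (n - j)) *
            (x ^ (n - j) / x ^ (n - j)) := by ring
      _ = x ^ j * (((P.coeff (n - j) : ℤ) : K) * (q : K) ^ (n - j)) := by
          rw [div_self hxn, mul_one]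
      _ = ((P.coeff 0 : ℤ) : K) * (((P.coeff j : ℤ) : K) * x ^ j) := by rw [h4]; ring
  rw [hx, mul_zero] at key
  exact (mul_eq_zero.1 key).resolve_left (pow_ne_zero _ hx0)

end RootDiv

section Gor

variable {A : Type u} [CommRing A]

theorem gor_transfer {C C' : Type u} [CommRing C] [CommRing C']
    (hC : LocCoh.IsGorensteinRing C) (e : C ≃+* C') : LocCoh.IsGorensteinRing C' :=
  Groth.Agent.H59.Goren1.gorRing_of_ringEquiv e

theorem gorenstein_range (φ : BB →ₐ[ℤ] A) (g h : BB)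
    (hker : RingHom.ker φ = Ideal.span {g, h})
    (hg : IsSMulRegular BB g)
    (hcancel : ∀ c : BB, h * c ∈ Ideal.span ({g} : Set BB) → c ∈ Ideal.span ({g} : Set BB)) :
    LocCoh.IsGorensteinRing φ.range := by
  let ε : MvPolynomial (ULift.{u} (Fin 2)) ℤ ≃ₐ[ℤ] BB := MvPolynomial.renameEquiv ℤ Equiv.ulift
  let φ' : MvPolynomial (ULift.{u} (Fin 2)) ℤ →ₐ[ℤ] A :=
    φ.comp (ε : MvPolynomial (ULift.{u} (Fin 2)) ℤ →ₐ[ℤ] BB)
  obtain ⟨g', hg'⟩ : ∃ g' : MvPolynomial (ULift.{u} (Fin 2)) ℤ, g' = ε.symm g := ⟨_, rfl⟩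
  obtain ⟨h', hh'⟩ : ∃ h' : MvPolynomial (ULift.{u} (Fin 2)) ℤ, h' = ε.symm h := ⟨_, rfl⟩
  have hεg : ε g' = g := by rw [hg']; exact ε.apply_symm_apply g
  have hεh : ε h' = h := by rw [hh']; exact ε.apply_symm_apply h
  have hmem : ∀ x : MvPolynomial (ULift.{u} (Fin 2)) ℤ,
      x ∈ Ideal.span ({g'} : Set (MvPolynomial (ULift.{u} (Fin 2)) ℤ)) ↔
        ε x ∈ Ideal.span ({g} : Set BB) := by
    intro x
    rw [Ideal.mem_span_singleton, Ideal.mem_span_singleton]
    constructor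
    · rintro ⟨c, rfl⟩
      exact ⟨ε c, by rw [map_mul, hεg]⟩
    · rintro ⟨c, hc⟩
      refine ⟨ε.symm c, ?_⟩
      apply ε.injective
      rw [map_mul, hεg, ε.apply_symm_apply, hc]
  haveI : IsRegularRing (MvPolynomial (ULift.{u} (Fin 2)) ℤ) := inferInstance
  haveI hGB : LocCoh.IsGorensteinRing (MvPolynomial (ULift.{u} (Fin 2)) ℤ) :=
    Groth.Agent.H59.Goren1.gorRing_of_isRegularRing _
  have hg'reg : IsSMulRegular (MvPolynomial (ULift.{u} (Fin 2)) ℤ) g' := by
    intro x y hxy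
    apply ε.injective
    apply hg
    have h1 : g' * x = g' * y := hxy
    have h2 := congrArg ε h1
    rw [map_mul, map_mul, hεg] at h2
    exact h2
  haveI hG1 : LocCoh.IsGorensteinRing (MvPolynomial (ULift.{u} (Fin 2)) ℤ ⧸
      Ideal.span ({g'} : Set (MvPolynomial (ULift.{u} (Fin 2)) ℤ))) :=
    Groth.Agent.H59.Goren1.gorRing_quotient_of_regular g' hg'reg
  have hh'reg : IsSMulRegular (MvPolynomial (ULift.{u} (Fin 2)) ℤ ⧸
      Ideal.span ({g'} : Set (MvPolynomial (ULift.{u} (Fin 2)) ℤ)))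
      (Ideal.Quotient.mk (Ideal.span ({g'} : Set (MvPolynomial (ULift.{u} (Fin 2)) ℤ))) h') := by
    intro x y hxy
    obtain ⟨a, rfl⟩ := Ideal.Quotient.mk_surjective x
    obtain ⟨b, rfl⟩ := Ideal.Quotient.mk_surjective y
    have h1 : Ideal.Quotient.mk (Ideal.span ({g'} : Set (MvPolynomial (ULift.{u} (Fin 2)) ℤ)))
        (h' * a) = Ideal.Quotient.mk _ (h' * b) := by
      rw [map_mul, map_mul]; exact hxy
    rw [Ideal.Quotient.eq, hmem] at h1
    rw [Ideal.Quotient.eq, hmem]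
    apply hcancel
    have e : h * ε (a - b) = ε (h' * a - h' * b) := by
      rw [map_sub, map_sub, map_mul, map_mul, hεh]; ring
    rw [e]; exact h1
  haveI hG2 : LocCoh.IsGorensteinRing ((MvPolynomial (ULift.{u} (Fin 2)) ℤ ⧸
      Ideal.span ({g'} : Set (MvPolynomial (ULift.{u} (Fin 2)) ℤ))) ⧸
      Ideal.span ({Ideal.Quotient.mk
        (Ideal.span ({g'} : Set (MvPolynomial (ULift.{u} (Fin 2)) ℤ))) h'} : Set _)) :=
    Groth.Agent.H59.Goren1.gorRing_quotient_of_regular _ hh'reg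
  have hker' : RingHom.ker φ' = Ideal.span {g', h'} := by
    ext x
    have h1 : x ∈ RingHom.ker φ' ↔ ε x ∈ Ideal.span {g, h} := by
      rw [← hker, RingHom.mem_ker, RingHom.mem_ker]; rfl
    rw [h1, Ideal.mem_span_pair, Ideal.mem_span_pair]
    constructor
    · rintro ⟨a, b, hab⟩
      refine ⟨ε.symm a, ε.symm b, ?_⟩
      apply ε.injective
      rw [map_add, map_mul, map_mul, hεg, hεh, ε.apply_symm_apply, ε.apply_symm_apply, hab]
    · rintro ⟨a, b, hab⟩
      refine ⟨ε a, ε b, ?_⟩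
      rw [← hab, map_add, map_mul, map_mul, hεg, hεh]
  have hrange : φ'.range = φ.range := by
    ext x
    constructor
    · rintro ⟨b', rfl⟩
      exact ⟨ε b', rfl⟩
    · rintro ⟨b, rfl⟩
      refine ⟨ε.symm b, ?_⟩
      change φ (ε (ε.symm b)) = φ b
      rw [ε.apply_symm_apply]
  have hJ : (Ideal.span ({h'} : Set (MvPolynomial (ULift.{u} (Fin 2)) ℤ))).map
      (Ideal.Quotient.mk (Ideal.span ({g'} : Set (MvPolynomial (ULift.{u} (Fin 2)) ℤ)))) =
      Ideal.span {Ideal.Quotient.mk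
        (Ideal.span ({g'} : Set (MvPolynomial (ULift.{u} (Fin 2)) ℤ))) h'} := by
    rw [Ideal.map_span, Set.image_singleton]
  have hsup : Ideal.span ({g'} : Set (MvPolynomial (ULift.{u} (Fin 2)) ℤ)) ⊔
      Ideal.span ({h'} : Set (MvPolynomial (ULift.{u} (Fin 2)) ℤ)) = RingHom.ker φ' := by
    rw [hker', Ideal.span_insert]
  have e : ((MvPolynomial (ULift.{u} (Fin 2)) ℤ ⧸
      Ideal.span ({g'} : Set (MvPolynomial (ULift.{u} (Fin 2)) ℤ))) ⧸
      Ideal.span ({Ideal.Quotient.mk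
        (Ideal.span ({g'} : Set (MvPolynomial (ULift.{u} (Fin 2)) ℤ))) h'} : Set _)) ≃+*
      φ.range :=
    (Ideal.quotEquivOfEq hJ.symm).trans
      ((DoubleQuot.quotQuotEquivQuotSup _ _).trans
        ((Ideal.quotEquivOfEq hsup).trans
          ((Ideal.quotientKerEquivRange φ').toRingEquiv.trans
            (Subalgebra.equivOfEq _ _ hrange).toRingEquiv)))
  exact gor_transfer hG2 e

end Gor

section Rank

theorem order_props {A : Type u} [CommRing A] [Module.IsTorsionFree ℤ A]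
    (F V : A) (q : ℤ) (Pw : Polynomial ℤ) (hmonic : Pw.Monic)
    (hc0 : Pw.coeff 0 ≠ 0)
    (hFV : F * V = algebraMap ℤ A q)
    (hF : Polynomial.aeval F Pw = 0) (hV : IsIntegral ℤ V)
    (hZ : ∀ U : Polynomial ℤ, Polynomial.aeval F U = 0 → Pw ∣ U)
    (hinj : Function.Injective (algebraMap ℤ A)) :
    Module.Free ℤ (MvPolynomial.aeval ![F, V] : BB →ₐ[ℤ] A).range ∧
    Module.finrank ℤ (MvPolynomial.aeval ![F, V] : BB →ₐ[ℤ] A).range = Pw.natDegree ∧
    ringKrullDim (MvPolynomial.aeval ![F, V] : BB →ₐ[ℤ] A).range = 1 := by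
  classical
  obtain ⟨φ, hφ⟩ : ∃ φ : BB →ₐ[ℤ] A, φ = MvPolynomial.aeval ![F, V] := ⟨_, rfl⟩
  rw [← hφ]
  have hφ0 : φ (X 0) = F := by rw [hφ]; simp
  have hφ1 : φ (X 1) = V := by rw [hφ]; simp
  have hFint : IsIntegral ℤ F := ⟨Pw, hmonic, by rw [← Polynomial.aeval_def]; exact hF⟩
  have hRadj : φ.range = Algebra.adjoin ℤ (Set.range ![F, V]) := by
    rw [hφ]; exact (Algebra.adjoin_range_eq_range_aeval ℤ ![F, V]).symm
  have hfg : (Subalgebra.toSubmodule φ.range).FG := by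
    rw [hRadj]
    refine fg_adjoin_of_finite (Set.finite_range _) ?_
    rintro x ⟨j, rfl⟩
    fin_cases j
    · exact hFint
    · exact hV
  haveI : Module.Finite ℤ (Subalgebra.toSubmodule φ.range) := Module.Finite.iff_fg.2 hfg
  haveI hfin : Module.Finite ℤ φ.range :=
    Module.Finite.equiv (Subalgebra.toSubmoduleEquiv φ.range)
  haveI hfree : Module.Free ℤ φ.range := inferInstance
  haveI : Algebra.IsIntegral ℤ φ.range := Algebra.IsIntegral.of_finite ℤ φ.range
  have hinjR : Function.Injective (algebraMap ℤ φ.range) := by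
    intro a b hab
    apply hinj
    have := congrArg (fun y : φ.range => (y : A)) hab
    simpa using this
  have hdim : ringKrullDim φ.range = 1 := by
    rw [Groth.Agent.H54.ringKrullDim_eq_of_isIntegral_of_injective hinjR]
    exact IsPrincipalIdealRing.ringKrullDim_eq_one ℤ Int.not_isField
  refine ⟨hfree, ?_, hdim⟩
  -- the rank
  obtain ⟨Fr, hFr⟩ : ∃ Fr : φ.range, (Fr : A) = F := ⟨⟨F, (AlgHom.mem_range φ).2 ⟨X 0, hφ0⟩⟩, rfl⟩
  obtain ⟨Vr, hVr⟩ : ∃ Vr : φ.range, (Vr : A) = V := ⟨⟨V, (AlgHom.mem_range φ).2 ⟨X 1, hφ1⟩⟩, rfl⟩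
  have hFVr : Fr * Vr = algebraMap ℤ φ.range q := by
    apply Subtype.ext
    rw [Subalgebra.coe_mul, hFr, hVr, hFV]
    rfl
  have hval : ∀ U : Polynomial ℤ,
      ((Polynomial.aeval Fr U : φ.range) : A) = Polynomial.aeval F U := by
    intro U
    have := Polynomial.aeval_algHom_apply φ.range.val Fr U
    rw [Subalgebra.coe_val, hFr] at this
    exact this.symm
  have hker : ∀ U : Polynomial ℤ, Polynomial.aeval Fr U = 0 ↔ Pw ∣ U := by
    intro U
    constructor
    · intro h0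
      apply hZ
      rw [← hval, h0]; rfl
    · rintro ⟨W, rfl⟩
      have h1 : Polynomial.aeval Fr Pw = 0 := Subtype.ext (by rw [hval, hF]; rfl)
      rw [map_mul, h1, zero_mul]
  have hev : Polynomial.eval₂ ((Algebra.ofId ℤ φ.range : ℤ →ₐ[ℤ] φ.range) : ℤ →+* φ.range)
      Fr Pw = 0 := by
    have h1 := (hker Pw).2 dvd_rfl
    rw [Polynomial.aeval_def] at h1
    exact h1
  obtain ⟨Ψ, hΨ⟩ : ∃ Ψ : AdjoinRoot Pw →ₐ[ℤ] φ.range,
      Ψ = AdjoinRoot.liftAlgHom Pw (Algebra.ofId ℤ φ.range) Fr hev := ⟨_, rfl⟩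
  have hΨmk : ∀ U : Polynomial ℤ, Ψ (AdjoinRoot.mk Pw U) = Polynomial.aeval Fr U := by
    intro U
    rw [Polynomial.aeval_def, hΨ]
    exact AdjoinRoot.liftAlgHom_mk Pw (Algebra.ofId ℤ φ.range) Fr hev U
  have hΨinj : Function.Injective Ψ := by
    rw [injective_iff_map_eq_zero]
    intro z hz
    obtain ⟨U, rfl⟩ := AdjoinRoot.mk_surjective z
    rw [hΨmk] at hz
    exact AdjoinRoot.mk_eq_zero.2 ((hker U).1 hz)
  have hFrmem : Fr ∈ Ψ.range :=
    ⟨AdjoinRoot.root Pw, by rw [hΨ]; exact AdjoinRoot.liftAlgHom_root Pw _ Fr hev⟩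
  have haeval_mem : ∀ U : Polynomial ℤ, Polynomial.aeval Fr U ∈ Ψ.range :=
    fun U => ⟨AdjoinRoot.mk Pw U, hΨmk U⟩
  have hcV : algebraMap ℤ φ.range (Pw.coeff 0) * Vr ∈ Ψ.range := by
    have e1 : Pw.divX * Polynomial.X + Polynomial.C (Pw.coeff 0) = Pw :=
      Polynomial.divX_mul_X_add Pw
    have h1 : Polynomial.aeval Fr Pw.divX * Fr + algebraMap ℤ φ.range (Pw.coeff 0) = 0 := by
      have h2 := (hker Pw).2 dvd_rfl
      rw [← e1, map_add, map_mul, Polynomial.aeval_X, Polynomial.aeval_C] at h2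
      exact h2
    have h3 : algebraMap ℤ φ.range (Pw.coeff 0) * Vr =
        - (algebraMap ℤ φ.range q * Polynomial.aeval Fr Pw.divX) := by
      have h4 : (Polynomial.aeval Fr Pw.divX * Fr + algebraMap ℤ φ.range (Pw.coeff 0)) * Vr
          = 0 := by rw [h1, zero_mul]
      rw [add_mul, mul_assoc, hFVr] at h4
      linear_combination h4
    rw [h3]
    exact Ψ.range.neg_mem (Ψ.range.mul_mem (Ψ.range.algebraMap_mem q) (haeval_mem _))
  have key : ∀ b : BB, ∃ a : ℤ, a ≠ 0 ∧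
      algebraMap ℤ φ.range a * φ.rangeRestrict b ∈ Ψ.range := by
    intro b
    induction b using MvPolynomial.induction_on with
    | C c =>
      refine ⟨1, one_ne_zero, ?_⟩
      rw [map_one, one_mul]
      have h1 : φ.rangeRestrict (C c) = algebraMap ℤ φ.range c := by
        rw [← MvPolynomial.algebraMap_eq]; exact AlgHom.commutes _ c
      rw [h1]; exact Ψ.range.algebraMap_mem c
    | add b₁ b₂ h₁ h₂ =>
      obtain ⟨a₁, ha₁, m₁⟩ := h₁
      obtain ⟨a₂, ha₂, m₂⟩ := h₂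
      refine ⟨a₁ * a₂, mul_ne_zero ha₁ ha₂, ?_⟩
      have e : algebraMap ℤ φ.range (a₁ * a₂) * φ.rangeRestrict (b₁ + b₂) =
          algebraMap ℤ φ.range a₂ * (algebraMap ℤ φ.range a₁ * φ.rangeRestrict b₁) +
          algebraMap ℤ φ.range a₁ * (algebraMap ℤ φ.range a₂ * φ.rangeRestrict b₂) := by
        rw [map_mul, map_add]; ring
      rw [e]
      exact Ψ.range.add_mem (Ψ.range.mul_mem (Ψ.range.algebraMap_mem _) m₁)
        (Ψ.range.mul_mem (Ψ.range.algebraMap_mem _) m₂)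
    | mul_X b j hb =>
      obtain ⟨a, ha, m⟩ := hb
      have hj : j = 0 ∨ j = 1 := by fin_cases j <;> simp
      rcases hj with rfl | rfl
      · refine ⟨a, ha, ?_⟩
        have h1 : φ.rangeRestrict (X 0) = Fr := Subtype.ext (by rw [hFr]; exact hφ0)
        have e : algebraMap ℤ φ.range a * φ.rangeRestrict (b * X 0) =
            (algebraMap ℤ φ.range a * φ.rangeRestrict b) * Fr := by
          rw [map_mul, h1, mul_assoc]
        rw [e]
        exact Ψ.range.mul_mem m hFrmem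
      · refine ⟨a * Pw.coeff 0, mul_ne_zero ha hc0, ?_⟩
        have h1 : φ.rangeRestrict (X 1) = Vr := Subtype.ext (by rw [hVr]; exact hφ1)
        have e : algebraMap ℤ φ.range (a * Pw.coeff 0) * φ.rangeRestrict (b * X 1) =
            (algebraMap ℤ φ.range a * φ.rangeRestrict b) *
              (algebraMap ℤ φ.range (Pw.coeff 0) * Vr) := by
          rw [map_mul, map_mul, h1]; ring
        rw [e]
        exact Ψ.range.mul_mem m hcV
  have hrank0 : Module.rank ℤ (φ.range ⧸ Subalgebra.toSubmodule Ψ.range) = 0 := by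
    rw [rank_eq_zero_iff]
    intro x
    obtain ⟨r, rfl⟩ := Submodule.Quotient.mk_surjective _ x
    obtain ⟨b, rfl⟩ := φ.rangeRestrict_surjective r
    obtain ⟨a, ha, m⟩ := key b
    refine ⟨a, ha, ?_⟩
    rw [← Submodule.Quotient.mk_smul, Submodule.Quotient.mk_eq_zero, Algebra.smul_def]
    exact m
  have hsum := rank_quotient_add_rank_of_isDomain (Subalgebra.toSubmodule Ψ.range)
  rw [hrank0, zero_add] at hsum
  have h1 : Module.finrank ℤ φ.range = Module.finrank ℤ (Subalgebra.toSubmodule Ψ.range) :=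
    congrArg Cardinal.toNat hsum.symm
  have e1 : AdjoinRoot Pw ≃ₗ[ℤ] Subalgebra.toSubmodule Ψ.range :=
    (AlgEquiv.ofInjective Ψ hΨinj).toLinearEquiv.trans (Subalgebra.toSubmoduleEquiv Ψ.range).symm
  rw [h1, ← e1.finrank_eq, (AdjoinRoot.powerBasis' hmonic).finrank, AdjoinRoot.powerBasis'_dim]

end Rank

end Groth.Agent.H58.WeilOrder
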